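import Cfsg.Prelude.Def_OddOrder
import Cfsg.Agent.Lib.Local.ElemAb
import Cfsg.Agent.S0016
import Cfsg.Agent.S0201

/-!
Consequences of the nonexistence of minimal simple groups of odd order.
-/

set_option autoImplicit false

open Cfsg

namespace Cfsg.Agent.OddFT

universe u

theorem odd_solvable_of_no_min
    (hno : ∀ (G : Type u) [Group G] [Finite G], IsMinSimpleOddOrder G → False) {G : Type u} [Group G]
    [Finite G] (hG : Odd (Nat.card G)) : Group.IsSolvable G := by
  induction hn : Nat.card G using Nat.strong_induction_on generalizing G with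
  | _ n ih =>
    subst hn
    have hsub : ∀ H : Subgroup G, H ≠ ⊤ → Group.IsSolvable H := fun H hH =>
      ih _ (lt_of_le_of_ne H.card_le_card_group fun e => hH (H.eq_top_of_card_eq e))
        (hG.of_dvd_nat H.card_subgroup_dvd_card) rfl
    rcases subsingleton_or_nontrivial G with h | h
    · exact Group.isSolvable_of_comm fun a b => Subsingleton.elim _ _
    by_cases hN : ∃ N : Subgroup G, N.Normal ∧ N ≠ ⊥ ∧ N ≠ ⊤
    · obtain ⟨N, hNn, hb, ht⟩ := hN
      haveI := hsub N ht
      have hidx := Subgroup.index_mul_card N
      have hN1 : 1 < Nat.card N := (Subgroup.one_lt_card_iff_ne_bot N).2 hb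
      have hq : Nat.card (G ⧸ N) < Nat.card G := by
        have hpos : 0 < N.index := Nat.pos_of_ne_zero Subgroup.index_ne_zero_of_finite
        show N.index < Nat.card G
        nlinarith
      haveI : Group.IsSolvable (G ⧸ N) :=
        ih _ hq (hG.of_dvd_nat N.index_dvd_card) rfl
      exact (Group.isSolvable_iff_subgroup_quotient N).2 ⟨inferInstance, inferInstance⟩
    · push Not at hN
      haveI : IsSimpleGroup G :=
        { eq_bot_or_eq_top_of_normal := fun H hH => or_iff_not_imp_left.2 (hN H hH) }
      by_cases hc : IsMulCommutative G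
      · exact Group.isSolvable_of_comm fun a b => hc.is_comm.comm a b
      · exact (hno G ⟨hG, inferInstance, hc, hsub⟩).elim

/-- A noncyclic simple group contains a Klein four-group, given the odd order theorem. -/
theorem exists_klein_of_no_min
    (hno : ∀ (G : Type u) [Group G] [Finite G], IsMinSimpleOddOrder G → False) {G : Type u} [Group G]
    [Finite G] [IsSimpleGroup G] (hG : ¬ IsCyclic G) : ∃ E : Subgroup G, IsKleinFour E := by
  classical
  have hnc : ¬ IsMulCommutative G := fun h => hG (by
    letI : CommGroup G := { (inferInstance : Group G) with mul_comm := h.is_comm.comm }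
    infer_instance)
  have hnsol : ¬ Group.IsSolvable G := fun h =>
    hnc ⟨⟨IsSimpleGroup.comm_iff_isSolvable.2 h⟩⟩
  have heven : 2 ∣ Nat.card G := by
    by_contra hh
    exact hnsol (odd_solvable_of_no_min hno
      (Nat.not_even_iff_odd.1 fun e => hh (even_iff_two_dvd.1 e)))
  haveI : Fact (Nat.Prime 2) := ⟨Nat.prime_two⟩
  obtain ⟨S⟩ : Nonempty (Sylow 2 G) := inferInstance
  have hS1 : (S : Subgroup G) ≠ ⊥ := S.ne_bot_of_dvd_card heven
  haveI : Nontrivial (S : Subgroup G) := (Subgroup.nontrivial_iff_ne_bot _).2 hS1
  by_cases hu : ∀ H K : Subgroup (S : Subgroup G), Nat.card H = 2 → Nat.card K = 2 → H = K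
  · exfalso
    have hnotcyc : ¬ IsCyclic (S : Subgroup G) := by
      intro hc
      have hmin : (Nat.card G).minFac = 2 :=
        (Nat.minFac_eq_two_iff _).2 heven
      have hcomp := IsCyclic.isComplement' (P := S) hmin hc
      rcases (MonoidHom.normal_ker (MonoidHom.transferSylow S
        (IsCyclic.normalizer_le_centralizer (P := S) hmin hc))).eq_bot_or_eq_top with hk | hk
      · rw [hk] at hcomp
        have hcard := hcomp.card_mul
        rw [Subgroup.card_bot, one_mul] at hcard
        have htop : (S : Subgroup G) = ⊤ := Subgroup.eq_top_of_card_eq _ hcard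
        exact hG (Subgroup.topEquiv.isCyclic.1 (htop ▸ hc))
      · rw [hk] at hcomp
        exact hS1 (Subgroup.isComplement'_top_left.1 hcomp)
    rcases Cfsg.Agent.S0016.result 2 S.isPGroup' hu with hc | ⟨-, n, ⟨e⟩⟩
    · exact hnotcyc hc
    · cases n with
      | zero =>
        haveI : IsCyclic (QuaternionGroup (2 ^ 0)) := QuaternionGroup.quaternionGroup_one_isCyclic
        exact hnotcyc (e.isCyclic.2 this)
      | succ n =>
        have h2 := Cfsg.Agent.S0201.result S n e fun N hN hodd =>
          hN.eq_bot_or_eq_top.resolve_right fun h => by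
            subst h
            rw [Subgroup.card_top] at hodd
            exact Nat.not_even_iff_odd.2 hodd (even_iff_two_dvd.2 heven)
        rcases (inferInstance : (Subgroup.center G).Normal).eq_bot_or_eq_top with hz | hz
        · rw [hz, Subgroup.card_bot] at h2
          omega
        · exact hnc ⟨⟨fun a b => (Subgroup.mem_center_iff.1 (hz ▸ Subgroup.mem_top b) a)⟩⟩
  · push Not at hu
    obtain ⟨H, K, hH, hK, hHK⟩ := hu
    haveI := S.isPGroup'.center_nontrivial
    obtain ⟨z, hz⟩ := exists_prime_orderOf_dvd_card' (G := Subgroup.center (S : Subgroup G)) 2 (by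
      obtain ⟨m, hm⟩ := (S.isPGroup'.to_subgroup (Subgroup.center (S : Subgroup G))).exists_card_eq
      have : 1 < Nat.card (Subgroup.center (S : Subgroup G)) := Finite.one_lt_card
      rw [hm] at this ⊢
      exact dvd_pow_self 2 (by rintro rfl; simp at this))
    have ne : ∃ t : (S : Subgroup G), orderOf t = 2 ∧ t ≠ (z : (S : Subgroup G)) := by
      by_contra hcon
      push Not at hcon
      have : ∀ L : Subgroup (S : Subgroup G), Nat.card L = 2 →
          L = Subgroup.zpowers (z : (S : Subgroup G)) := by
        intro L hL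
        obtain ⟨t, ht⟩ := exists_prime_orderOf_dvd_card' (G := L) 2 (by rw [hL])
        refine (Subgroup.eq_of_le_of_card_ge (Subgroup.zpowers_le.2 ?_) ?_).symm
        · rw [← hcon t (by rw [Subgroup.orderOf_coe, ht])]
          exact t.2
        · rw [Nat.card_zpowers, Subgroup.orderOf_coe, hz, hL]
      exact hHK ((this H hH).trans (this K hK).symm)
    obtain ⟨t, ht, htz⟩ := ne
    set a : G := ((z : (S : Subgroup G)) : G) with ha
    set b : G := (t : G) with hb
    have hoa : orderOf a = 2 := by rw [ha, Subgroup.orderOf_coe, Subgroup.orderOf_coe, hz]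
    have hob : orderOf b = 2 := by rw [hb, Subgroup.orderOf_coe, ht]
    have hab : a * b = b * a := congrArg Subtype.val ((Subgroup.mem_center_iff.1 z.2 t).symm)
    have hne : a ≠ b := fun e => htz (Subtype.ext e.symm)
    have ha2 : a * a = 1 := by rw [← sq, ← hoa, pow_orderOf_eq_one]
    have hb2 : b * b = 1 := by rw [← sq, ← hob, pow_orderOf_eq_one]
    have ha1 : a ≠ 1 := fun e => by rw [e, orderOf_one] at hoa; omega
    have hb1 : b ≠ 1 := fun e => by rw [e, orderOf_one] at hob; omega
    let E : Subgroup G :=
      { carrier := {1, a, b, a * b}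
        one_mem' := by simp
        mul_mem' := by
          have h1 : a * (a * b) = b := by rw [← mul_assoc, ha2, one_mul]
          have h2 : b * (a * b) = a := by rw [hab, ← mul_assoc, hb2, one_mul]
          have h3 : a * b * a = b := by rw [hab, mul_assoc, ha2, mul_one]
          have h4 : a * b * b = a := by rw [mul_assoc, hb2, mul_one]
          have h5 : a * b * (a * b) = 1 := by rw [← mul_assoc, h3, hb2]
          intro x y hx hy
          simp only [Set.mem_insert_iff, Set.mem_singleton_iff] at hx hy ⊢
          rcases hx with rfl | rfl | rfl | rfl <;> rcases hy with rfl | rfl | rfl | rfl <;>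
            simp only [one_mul, mul_one, ha2, hb2, h1, h2, h3, h4, h5, ← hab] <;> tauto
        inv_mem' := by
          have h : (a * b)⁻¹ = a * b := by
            rw [mul_inv_rev, inv_eq_of_mul_eq_one_right ha2, inv_eq_of_mul_eq_one_right hb2, hab]
          intro x hx
          simp only [Set.mem_insert_iff, Set.mem_singleton_iff] at hx ⊢
          rcases hx with rfl | rfl | rfl | rfl <;>
            simp [inv_eq_of_mul_eq_one_right ha2, inv_eq_of_mul_eq_one_right hb2, h] }
    have n1 : a * b ≠ 1 := fun e => hne (by
      rw [← mul_one a, ← hb2, ← mul_assoc, e, one_mul])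
    have n2 : a ≠ a * b := fun e => hb1 (mul_left_cancel (a := a) (by rw [mul_one]; exact e.symm))
    have n3 : b ≠ a * b := fun e => ha1 (mul_right_cancel (b := b) (by rw [one_mul]; exact e.symm))
    refine ⟨E, ?_, ?_⟩
    · rw [← SetLike.coe_sort_coe, Nat.card_coe_set_eq]
      show ({1, a, b, a * b} : Set G).ncard = 4
      rw [Set.ncard_insert_of_notMem (by simp [Ne.symm ha1, Ne.symm hb1, Ne.symm n1]),
        Set.ncard_insert_of_notMem (by simp [hne, n2]), Set.ncard_pair n3]
    · have hsq : ∀ x : E, x ^ 2 = 1 := by
        rintro ⟨x, hx⟩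
        refine Subtype.ext ?_
        show x ^ 2 = 1
        rw [sq]
        rcases hx with rfl | rfl | rfl | rfl
        · simp
        · exact ha2
        · exact hb2
        · rw [mul_assoc, ← mul_assoc b, ← hab, mul_assoc, hb2, mul_one, ha2]
      rcases (Nat.dvd_prime Nat.prime_two).1
        (Monoid.exponent_dvd_of_forall_pow_eq_one hsq) with h | h
      · haveI := Monoid.exp_eq_one_iff.1 h
        exact absurd (congrArg Subtype.val
          (Subsingleton.elim (⟨a, by show a ∈ ({1, a, b, a * b} : Set G); simp⟩ : E) 1)) ha1
      · exact h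

end Cfsg.Agent.OddFT
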