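import Cfsg.Agent.Lib.OddChar.FT.EndBase

/-!
Sides of the final configuration from the data of a pair or of the tail.
-/

set_option autoImplicit false
set_option linter.unusedSectionVars false
set_option linter.unusedVariables false
set_option linter.style.haveILetI false

open Cfsg Cfsg.Agent.Char Cfsg.Agent.OddChar Cfsg.Agent.OddLocal
open scoped ComplexConjugate Classical

namespace Cfsg.Agent.OddFT

universe u

variable {G : Type u} [Group G] [Fintype G] {S K Z P U T Q D : Subgroup G}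

theorem exists_bottom_layer (h : Side S K Z P U) (hZ : (Nat.card Z).Prime) :
    IsLayer S K Z P U ⊥ (Nat.card Z) ∧ IsElementaryAbelian (Nat.card Z) P := by
  obtain ⟨N, hN, -, hbot⟩ := exists_layer h hZ dvd_rfl
  obtain rfl := hbot rfl
  refine ⟨hN, ⟨⟨fun (a b : P) => ?_⟩⟩, fun a ha => ?_⟩
  · have h1 := Subgroup.mem_bot.1 (hN.comm a a.2 b b.2)
    refine Subtype.ext ?_
    calc (a : G) * b = ((a : G) * b * (a : G)⁻¹ * (b : G)⁻¹) * ((b : G) * a) := by group
      _ = b * a := by rw [h1, one_mul]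
  · exact Subgroup.mem_bot.1 (hN.pow a ha)

/-- The side of a pair with `|Z|` prime. -/
theorem endSide_of_duo (d : Kappa.Duo S K U T)
    (hZ : (Nat.card ↥(sigmaCore S ⊓ Subgroup.centralizer (K : Set G))).Prime) :
    EndSide S K (sigmaCore S ⊓ Subgroup.centralizer (K : Set G)) (sigmaCore S) U := by
  have hs := side_of_duo d
  obtain ⟨hl, he⟩ := exists_bottom_layer hs hZ
  exact ⟨hs, hZ, he, hl, free_kernel d hl⟩

/-- The side of the tail in the exceptional case. -/
theorem endSide_of_faithful (hs : Side T Z K Q D) (hK : (Nat.card K).Prime)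
    (hD : D ⊓ Subgroup.centralizer (Q : Set G) = ⊥) : EndSide T Z K Q D := by
  obtain ⟨hl, he⟩ := exists_bottom_layer hs hK
  refine ⟨hs, hK, he, hl, eq_bot_iff.2 fun x hx => ?_⟩
  rw [← hD]
  refine ⟨(hl.mem_C.1 hx).1, Subgroup.mem_centralizer_iff.2 fun p hp => ?_⟩
  have h1 := Subgroup.mem_bot.1 ((hl.mem_C.1 hx).2 p hp)
  calc p * x = (p * x * p⁻¹ * x⁻¹) * (x * p) := by group
    _ = x * p := by rw [h1, one_mul]

/-- The characters of the tail bound `D` by `U`. -/
theorem tail_count (h : EndSide S K Z P U) (W : Grid K Z) {H : Subgroup G}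
    (hHZ : (Nat.card Z).Coprime (Nat.card H)) (hHP : (Nat.card P).Coprime (Nat.card H))
    {m : ℕ} (Ψ : Fin m → G → ℂ) (hs : ∀ a, IsSigned G (Ψ a))
    (ho : ∀ a b, a ≠ b → classInner (Ψ a) (Ψ b) = 0) (he : ∀ a i j, classInner (Ψ a) (W.eta i j) = 0)
    (hpar : ∀ Γ : G → ℂ, IsGeneralizedCharacter G Γ → cj Γ = Γ → classInner Γ (fun _ => 1) = 0 →
      ∀ j : ↥Z →* ℂˣ, j ≠ 1 →
        (∀ g ∈ conjSet ((H : Set G) \ {1}), Γ g = W.eta 1 j g - 1) → ∀ a, classInner Γ (Ψ a) ≠ 0) :
    Nat.card K * m ≤ Nat.card U - 1 := by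
  obtain ⟨j, hj⟩ := h.layer.exists_layerJ
  choose z hz using fun a => gen_inner_int (h.layer.gamma_gen W j) (hs a).gen
  have hne := hpar _ (h.layer.gamma_gen W j) (h.layer.cj_gamma W hj) (h.layer.gamma_inner_one W hj) j hj.1
    fun g hg => by
      have hP : g ∉ regP P := fun hgP => regP_disjoint hHP hgP hg
      have hh : g ∉ hatG K Z := fun hgh =>
        regP_disjoint_hat W.swap hHZ h.primeZ hg (by rwa [W.hatG_comm])
      rw [h.eta_eq W hj.1 hP hh]
      ring
  obtain ⟨hle, -⟩ := h.layer.gamma_bessel W hj (Finset.univ : Finset (Fin m)) Ψ (fun a _ => hs a)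
    (fun a _ b _ hab => ho a b hab) (fun a _ i j => he a i j) z fun a _ => hz a
  have hm : (m : ℝ) ≤ ∑ a : Fin m, (z a : ℝ) ^ 2 := by
    refine (le_of_eq (by simp)).trans (Finset.sum_le_sum (s := Finset.univ) (f := fun _ : Fin m => (1 : ℝ))
      fun a _ => ?_)
    have h0 : z a ≠ 0 := fun e => hne a (by rw [hz, e, Int.cast_zero])
    have h1 : (1 : ℤ) ≤ z a ^ 2 := by nlinarith [mul_self_pos.2 h0]
    exact_mod_cast h1
  unfold IsLayer.nu at hle
  rw [h.card_C, Nat.cast_one, div_one] at hle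
  have hK : (0 : ℝ) < Nat.card K := Nat.cast_pos.2 Nat.card_pos
  have h2 := hm.trans hle
  rw [le_div_iff₀ hK] at h2
  have h3 : ((Nat.card K * m + 1 : ℕ) : ℝ) ≤ (Nat.card U : ℝ) := by push_cast; linarith
  have h4 : Nat.card K * m + 1 ≤ Nat.card U := by exact_mod_cast h3
  omega

end Cfsg.Agent.OddFT
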