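import Cfsg.Agent.Lib.OddChar.FT.Defs
import Cfsg.Agent.Lib.OddChar.TypeOne
import Cfsg.Agent.Lib.OddLocal.KappaSupport
import Cfsg.Agent.Lib.OddLocal.KappaNeighbour

/-!
The maximal subgroup over the normalizer of `U`.
-/

set_option autoImplicit false
set_option linter.unusedSectionVars false
set_option linter.style.haveILetI false

namespace Cfsg.Agent.OddFT

open Cfsg
open Cfsg.Agent.Fusion (SylIn cj_eq_self exists_sylIn)
open Cfsg.Agent.OddLocal Cfsg.Agent.OddLocal.Kappa Cfsg.Agent.OddLocal.Sig Cfsg.Agent.OddLocal.Uniq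
open Cfsg.Agent.OddLocal.Prime (isCoatom_cj)

universe u

variable {G : Type u} [Group G] [Finite G] {S K U T : Subgroup G}

/-- A neighbour over the normalizer of `U` exists. -/
theorem exists_nbr (d : Duo S K U T) : ∃ L H E : Subgroup G, Nbr S K U T L H E := by
  have hG := d.minSimple
  have hF := frame_of_decomp hG d.coatom d.decomp d.K_ne
  obtain ⟨r, hr, hrd⟩ := Nat.exists_prime_and_dvd fun h => d.U_ne (Subgroup.card_eq_one.1 h)
  haveI := Fact.mk hr
  obtain ⟨R, hR⟩ := exists_sylIn (p := r) U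
  have hR1 : R ≠ ⊥ := fun h => hR.not_dvd (by rw [h, Subgroup.relIndex_bot_left]; exact hrd)
  obtain ⟨L, hL, hNR⟩ := exists_coatom _ (normalizer_pgroup_ne_top hG hR.isPGroup hR1)
  obtain ⟨hκ, hUσ, hmeet, hnle, hKF, hE⟩ := d.neighbour hR hR1 hL hNR
  have hNU : Subgroup.normalizer (U : Set G) ≤ L := fun x hx => by
    refine hNR (Fusion.mem_normalizer_of_cj_le ?_)
    obtain ⟨v, hv, hvR⟩ := hR.conj_eq (hR.cj' hx)
    have hcent : U ≤ Subgroup.centralizer (R : Set G) := fun u hu => Subgroup.mem_centralizer_iff.2 fun w hw =>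
      congrArg Subtype.val (hF.abelian.is_comm.comm (⟨w, hR.le hw⟩ : U) ⟨u, hu⟩)
    rw [← hvR, cj_eq_self (Subgroup.centralizer_le_normalizer _ (hcent hv))]
  have hκ' : ∀ {X : Subgroup G}, IsCoatom X → (kappa X).Nonempty → ∀ g : G, ∀ t : ℕ, t.Prime → t ∈ sigma L →
      t ∉ sigma (Fusion.cj X g) := by
    intro X hX hXκ g t ht htL htX
    haveI := Fact.mk ht
    obtain ⟨x, hx⟩ := OddLocal.Disjoint.conjugate_of_sigma hG (isCoatom_cj hX g) hL htX htL
    obtain ⟨q, hq⟩ := hXκ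
    exact Set.eq_empty_iff_forall_notMem.1 hκ q (hx ▸ kappa_cj hG (isCoatom_cj hX g) (kappa_cj hG hX hq))
  have hκS : (kappa S).Nonempty := ⟨_, d.decomp.hall.2.1 _ d.prime dvd_rfl⟩
  have hκT : (kappa T).Nonempty := by
    obtain ⟨q, hq, hqd⟩ := Nat.exists_prime_and_dvd fun h => d.star_ne (Subgroup.card_eq_one.1 h)
    exact ⟨q, d.hallN.2.1 q hq hqd⟩
  exact ⟨L, sigmaCore L, L ⊓ T, hG, hL, hκ, rfl, hUσ, hNU, hmeet, hE,
    hKF.trans (Subgroup.map_subtype_le _), inf_le_right, fun h => hnle (inf_le_left.trans h),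
    compl_free hG hL hκ hE, core_nilpotent hG hL hκ, hκ' d.coatom hκS, hκ' d.coatomN hκT⟩

end Cfsg.Agent.OddFT
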