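import Cfsg.Agent.Lib.OddChar.FT.NbrAvg
import Mathlib.Data.ZMod.Units

/-!
The Dade image of `Ind 1 - ζ` on the neighbour: its coordinates on the coherent family and on the grid,
their symmetries, and the resulting energy bound.
-/

set_option autoImplicit false
set_option linter.unusedSectionVars false
set_option linter.unusedVariables false
set_option linter.style.haveILetI false

open Cfsg Cfsg.Agent.Char Cfsg.Agent.OddChar Cfsg.Agent.OddLocal
open scoped ComplexConjugate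

namespace Cfsg.Agent.OddFT

universe u

variable {G : Type u} [Group G] [Fintype G]

/-- A residue prime to a divisor lifts to a residue prime to the modulus. -/
theorem exists_coprime_lift {q n m : ℕ} (h : q ∣ n) (hn : n ≠ 0) (hm : m.Coprime q) :
    ∃ k : ℕ, k.Coprime n ∧ k ≡ m [MOD q] := by
  haveI : NeZero n := ⟨hn⟩
  obtain ⟨v, hv⟩ := ZMod.unitsMap_surjective h (ZMod.unitOfCoprime m hm)
  refine ⟨(v : ZMod n).val, ZMod.val_coe_unit_coprime v, ?_⟩
  rw [← ZMod.natCast_eq_natCast_iff, ZMod.natCast_val]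
  have h' := congrArg (fun u : (ZMod q)ˣ => (u : ZMod q)) hv
  simp only [ZMod.unitsMap_val, ZMod.coe_unitOfCoprime] at h'
  exact h'

/-- In a group of prime order the nonidentity elements are conjugate under powers prime to a multiple of
the order. -/
theorem exists_coprime_pow_eq {A : Type*} [Group A] {n : ℕ} (hp : (Nat.card A).Prime) (hd : Nat.card A ∣ n)
    (hn : n ≠ 0) {i i' : A} (hi : i ≠ 1) (hi' : i' ≠ 1) : ∃ k : ℕ, k.Coprime n ∧ i ^ k = i' := by
  haveI := Fact.mk hp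
  obtain ⟨m, hm⟩ := mem_powers_of_prime_card rfl hi (g' := i')
  replace hm : i ^ m = i' := hm
  have hord : orderOf i = Nat.card A := orderOf_eq_prime pow_card_eq_one' hi
  have hmc : m.Coprime (Nat.card A) := (hp.coprime_iff_not_dvd.2 fun h => hi' (by
    rw [← hm, ← orderOf_dvd_iff_pow_eq_one, hord]; exact h)).symm
  obtain ⟨k, hk, hkm⟩ := exists_coprime_lift hd hn hmc
  refine ⟨k, hk, ?_⟩
  rw [← hm, pow_eq_pow_iff_modEq, hord]
  exact hkm

/-- In a group of linear characters of prime order the nontrivial ones are conjugate under powers prime to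
the order of the ambient group. -/
theorem exists_coprime_pow {X : Subgroup G} (hp : (Nat.card X).Prime)
    (hc : Nat.card (↥X →* ℂˣ) = Nat.card X) {i i' : ↥X →* ℂˣ} (hi : i ≠ 1) (hi' : i' ≠ 1) :
    ∃ k : ℕ, k.Coprime (Nat.card G) ∧ i ^ k = i' :=
  exists_coprime_pow_eq (hc ▸ hp) (hc ▸ Subgroup.card_subgroup_dvd_card X)
    (Nat.card_pos (α := G)).ne' hi hi'

/-- The finite set of characters induced from the nonprincipal irreducible characters of `H`. -/
noncomputable abbrev famFin (L H : Subgroup G) [Fintype L] : Finset (L → ℂ) :=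
  chFin (H.subgroupOf L) ⊥

/-- Powers prime to the order permute a set closed under such powers. -/
theorem pow_mem_iff_of_closed {s : Set G} {k : ℕ} (hk : k.Coprime (Nat.card G))
    (hs : ∀ g ∈ s, g ^ k ∈ s) (g : G) : g ^ k ∈ s ↔ g ∈ s := by
  refine ⟨fun h => ?_, hs g⟩
  let f : s → s := fun x => ⟨(x : G) ^ k, hs x x.2⟩
  obtain ⟨y, hy⟩ := (Finite.injective_iff_surjective (f := f)).1 (fun a b e =>
    Subtype.ext ((powCoprime_bijective hk).injective (congrArg Subtype.val e))) ⟨g ^ k, h⟩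
  rw [← show (y : G) = g from (powCoprime_bijective hk).injective (congrArg Subtype.val hy)]
  exact y.2

/-- The coordinates of the Dade image of `Ind 1 - ζ`. -/
structure BetaData {K Z : Subgroup G} (L H E : Subgroup G) [Fintype L] (W : Grid K Z)
    (φ : (L → ℂ) → G → ℂ) (ζ : L → ℂ) (c : ℤ) (z : (↥K →* ℂˣ) → (↥Z →* ℂˣ) → ℤ) : Prop where
  fam : ∀ x ∈ famF L H, ∀ [Decidable (x = ζ)],
    classInner (tauL L (betaL L H ζ)) (φ x) = ((c : ℂ) - if x = ζ then 1 else 0) * (x 1 / Nat.card E)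
  eta : ∀ i j, classInner (tauL L (betaL L H ζ)) (W.eta i j) = z i j
  corner : z 1 1 = 1
  add : ∀ i j, z i j = z i 1 + z 1 j - 1
  galois : ∀ i j (k : ℕ), k.Coprime (Nat.card G) → z (i ^ k) (j ^ k) = z i j
  left_const : (Nat.card K).Prime → ∀ i i', i ≠ 1 → i' ≠ 1 → z i 1 = z i' 1
  right_const : (Nat.card Z).Prime → ∀ j j', j ≠ 1 → j' ≠ 1 → z 1 j = z 1 j'
  energy : (∑ i, ∑ j, (z i j : ℝ) ^ 2) - 1 + ((Nat.card H : ℝ) - 1) / Nat.card E * (c : ℝ) ^ 2 - 2 * c ≤
    (Nat.card E : ℝ) - 1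
  split : ∃ R : G → ℂ, IsGeneralizedCharacter G R ∧
    tauL L (betaL L H ζ) = (∑ i, ∑ j, (z i j : ℂ) • W.eta i j) +
      (∑ x ∈ famFin L H, classInner (tauL L (betaL L H ζ)) (φ x) • φ x) + R ∧
    (∀ i j, classInner R (W.eta i j) = 0) ∧ (∀ x ∈ famF L H, classInner R (φ x) = 0) ∧
    (classInner R R).re = (Nat.card E : ℝ) - 1 -
      ((∑ i, ∑ j, (z i j : ℝ) ^ 2) - 1 + ((Nat.card H : ℝ) - 1) / Nat.card E * (c : ℝ) ^ 2 - 2 * c)

namespace Nbr

variable {S K U T L H E Z : Subgroup G} (hN : Nbr S K U T L H E)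
include hN

theorem tilde_pow {k : ℕ} (hk : k.Coprime (Nat.card G)) {g : G} (hg : g ∈ tildeL L) :
    ∃ a ∈ typeA L, ∃ v ∈ supportR L a, ∃ x : G, x * g * x⁻¹ = a * v ∧ a ^ k ∈ typeA L ∧
      v ^ k ∈ supportR L (a ^ k) ∧ x * g ^ k * x⁻¹ = a ^ k * v ^ k := by
  obtain ⟨a, ha, v, hv, x, e⟩ := hg
  obtain ⟨haH, ha1⟩ := hN.mem_typeA.1 ha
  refine ⟨a, ha, v, hv, x, e, hN.mem_typeA.2 ⟨H.pow_mem haH k, fun h => ha1 ?_⟩, ?_, ?_⟩
  · exact (powCoprime_bijective hk).injective (h.trans (one_pow k).symm)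
  · rw [supportR_congr (centralizer_pow_eq (hk.coprime_dvd_right (orderOf_dvd_natCard a)))]
    exact Subgroup.pow_mem _ hv k
  · rw [← conj_pow, e, (dade_commute hN.dade ha hv).mul_pow]

theorem tilde_pow_mem {k : ℕ} (hk : k.Coprime (Nat.card G)) {g : G} : g ^ k ∈ tildeL L ↔ g ∈ tildeL L :=
  pow_mem_iff_of_closed hk (fun g hg => by
    obtain ⟨a, -, v, -, x, -, ha, hv, e⟩ := hN.tilde_pow hk hg
    exact ⟨a ^ k, ha, v ^ k, hv, x, e⟩) g

variable [Fintype L]

theorem mem_famFin {x : L → ℂ} : x ∈ famFin L H ↔ x ∈ famF L H := by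
  rw [mem_chFin, hN.fam_eq_chSet]

/-- The Dade map commutes with powers prime to the order. -/
theorem tauL_pow {α : L → ℂ} (hα : IsClassFunction L α) {k : ℕ} (hk : k.Coprime (Nat.card G)) (g : G) :
    tauL L α (g ^ k) = tauL L (fun x => α (x ^ k)) g := by
  have hα' : IsClassFunction L fun x => α (x ^ k) := fun x y => by simp only [conj_pow, hα _ y]
  by_cases hg : g ∈ tildeL L
  · obtain ⟨a, ha, v, hv, x, e, ha', hv', e'⟩ := hN.tilde_pow hk hg
    rw [tauL, dadeIsometry_apply hN.dade hα ha' hv' e', dadeIsometry_apply hN.dade hα' ha hv e]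
    rfl
  · rw [tauL, dadeIsometry_eq_zero hN.dade hg,
      dadeIsometry_eq_zero hN.dade fun h => hg ((hN.tilde_pow_mem hk).1 h)]

theorem fam_pow {a : L → ℂ} (ha : a ∈ famF L H) {k : ℕ} (hk : k.Coprime (Nat.card G)) :
    (fun x => a (x ^ k)) ∈ famF L H := by
  rw [hN.fam_eq_chSet] at ha ⊢
  obtain ⟨hi, ⟨h, hh, hne⟩, -⟩ := ha
  have hkL : k.Coprime (Nat.card L) := hk.coprime_dvd_right (Subgroup.card_subgroup_dvd_card L)
  refine ⟨isIrrCharacter_pow hi hkL, ?_, fun d hd => by rw [Subgroup.mem_bot.1 hd]⟩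
  obtain ⟨h', hh'⟩ := (powCoprime_bijective
    (hkL.coprime_dvd_right (Subgroup.card_subgroup_dvd_card (H.subgroupOf L)))).2 ⟨h, hh⟩
  refine ⟨h', h'.2, fun e => hne ?_⟩
  have e' : (h' : L) ^ k = h := congrArg Subtype.val hh'
  rw [← e']
  simpa using e

section Beta

variable {ζ : L → ℂ} (hζ : ζ ∈ famF L H) (hζ1 : ζ 1 = (Nat.card E : ℂ))
include hζ hζ1

theorem tau_beta_gen : IsGeneralizedCharacter G (tauL L (betaL L H ζ)) :=
  isGenChar_dadeIsometry hN.dade (hN.beta_gen hζ hζ1) fun x hx => hN.beta_support hζ hζ1 hx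

theorem tau_beta_class : IsClassFunction G (tauL L (betaL L H ζ)) :=
  isClassFunction_dadeIsometry hN.dade (hN.beta_class hζ hζ1)

theorem tau_beta_one : classInner (tauL L (betaL L H ζ)) (fun _ => 1) = 1 := by
  rw [classInner_dade_one hN.dade (hN.beta_class hζ hζ1) fun x hx => hN.beta_support hζ hζ1 hx,
    hN.inner_beta_one hζ hζ1]

theorem tau_beta_norm :
    classInner (tauL L (betaL L H ζ)) (tauL L (betaL L H ζ)) = (Nat.card E : ℂ) + 1 := by
  classical
  haveI : Fintype (H.subgroupOf L) := Fintype.ofFinite _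
  rw [classInner_dade_dade hN.dade (hN.beta_class hζ hζ1) (fun x hx => hN.beta_support hζ hζ1 hx)
    (hN.beta_class hζ hζ1)]
  have h1 : classInner (indFun (H.subgroupOf L) fun _ => (1 : ℂ)) (indFun (H.subgroupOf L) fun _ => 1) =
      (Nat.card E : ℂ) := by
    rw [Char.frobenius _ _ (isClassFunction_indFun _ _),
      show (fun h : H.subgroupOf L => indFun (H.subgroupOf L) (fun _ => (1 : ℂ)) (h : L)) =
        (Nat.card E : ℂ) • fun _ => (1 : ℂ) from funext fun h => by
          rw [hN.indOne_apply, if_pos (Subgroup.mem_subgroupOf.1 h.2)]; simp,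
      classInner_smul_right, irr_self isIrrCharacter_one, Complex.conj_natCast, mul_one]
  simp only [betaL]
  rw [classInner_sub_left, classInner_sub_right, classInner_sub_right, h1, hN.inner_fam_indOne hζ,
    ← classInner_symm ζ, hN.inner_fam_indOne hζ, map_zero, irr_self (hN.fam_irr hζ)]
  ring

/-- The image vanishes outside the support. -/
theorem tau_beta_zero {g : G} (hg : g ∉ tildeL L) : tauL L (betaL L H ζ) g = 0 :=
  dadeIsometry_eq_zero hN.dade hg

theorem tau_beta_hat (hZ : Z ≤ sigmaCore S) (W : Grid K Z) {g : G} (hg : g ∈ hatG K Z) :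
    tauL L (betaL L H ζ) g = 0 :=
  hN.tau_beta_zero hζ hζ1 fun h => hN.tilde_not_hat hZ (fun a ha b hb => W.comm ha hb) h hg

theorem sum_fam_sq : ∑ x ∈ famFin L H, (x 1 / (Nat.card E : ℂ)) ^ 2 =
    ((Nat.card H : ℂ) - 1) / Nat.card E := by
  classical
  haveI := hN.normal
  haveI : Fintype (H.subgroupOf L) := Fintype.ofFinite _
  obtain ⟨k, hk, hs⟩ := chFin_sum_sq (H.subgroupOf L) hN.frob ⊥ bot_le
  rw [Subgroup.relIndex_bot_left, Solv.card_subgroupOf hN.H_le, hN.index_eq] at hk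
  rw [hN.index_eq] at hs
  have hs' : (∑ x ∈ famFin L H, (deg x : ℂ) ^ 2) = (Nat.card E : ℂ) ^ 2 * k := by exact_mod_cast hs
  rw [Finset.sum_congr rfl fun x hx => by rw [div_pow, (hN.fam_one (hN.mem_famFin.1 hx)).1],
    ← Finset.sum_div, hs', hk]
  have := hN.E_card_ne
  push_cast
  field_simp
  ring

variable {φ : (L → ℂ) → G → ℂ} (hφ : Fam (tauL L) (famF L H) φ)
include hφ

theorem exists_fam_coeff : ∃ c : ℤ, ∀ x ∈ famF L H, ∀ [Decidable (x = ζ)],
    classInner (tauL L (betaL L H ζ)) (φ x) = ((c : ℂ) - if x = ζ then 1 else 0) * (x 1 / Nat.card E) := by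
  classical
  obtain ⟨m, hm⟩ := gen_inner_int (hN.tau_beta_gen hζ hζ1) (hφ.signed ζ hζ).gen
  refine ⟨m + 1, fun x hx => ?_⟩
  intro _
  have hne := hN.E_card_ne
  split_ifs with hxζ
  · rw [hxζ, hm, hζ1, div_self hne]
    push_cast
    ring
  have h : classInner (tauL L (betaL L H ζ)) (tauL L (ζ 1 • x - x 1 • ζ)) =
      classInner (betaL L H ζ) (ζ 1 • x - x 1 • ζ) :=
    classInner_dade_dade hN.dade (hN.beta_class hζ hζ1) (fun y hy => hN.beta_support hζ hζ1 hy)
      (hN.diff_class hx hζ)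
  rw [hφ.diff x hx ζ hζ, classInner_sub_right, classInner_smul_right, classInner_smul_right, hm,
    classInner_sub_right, classInner_smul_right, classInner_smul_right, hN.inner_beta_fam hζ hζ1 hx,
    hN.inner_beta_fam hζ hζ1 hζ, if_neg hxζ, if_pos rfl, hζ1, Complex.conj_natCast,
    conj_char_one (irr_isCharacter (hN.fam_irr hx))] at h
  field_simp
  push_cast
  linear_combination h

/-- Adding the distinguished member gives a real character. -/
theorem tau_beta_real :
    cj (tauL L (betaL L H ζ) + φ ζ) = tauL L (betaL L H ζ) + φ ζ := by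
  classical
  have hb := (hN.fam_conj hζ).1
  have hcj : cj (betaL L H ζ) = betaL L H ζ + (ζ - conjFun ζ) := funext fun x => by
    simp only [cj_apply, betaL, Pi.sub_apply, Pi.add_apply, map_sub, hN.indOne_apply, conjFun]
    split_ifs <;> simp <;> ring
  have h1 := hφ.diff ζ hζ _ hb
  rw [hN.conjFun_one hζ, ← smul_sub, ← smul_sub, tauL, dade_smul] at h1
  replace h1 := smul_right_injective _ (hN.fam_one hζ).2 h1
  rw [cj_add, hN.fam_cj hφ hζ, tauL, ← dade_cj, hcj, dade_add, h1]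
  abel

/-- The coordinates exist. -/
theorem exists_betaData (hZ : Z ≤ sigmaCore S) (W : Grid K Z) :
    ∃ c z, BetaData L H E W φ ζ c z := by
  classical
  have hgen := hN.tau_beta_gen hζ hζ1
  obtain ⟨c, hc⟩ := hN.exists_fam_coeff hζ hζ1 hφ
  obtain ⟨z, hz, -, hr⟩ := W.exists_coords hgen
  have z11 : z 1 1 = 1 := by
    have h := hz 1 1
    rw [W.one, hN.tau_beta_one hζ hζ1] at h
    exact_mod_cast h.symm
  have hadd : ∀ i j, z i j = z i 1 + z 1 j - 1 := fun i j => by
    have := hr (fun a ha b hb ha1 hb1 => hN.tau_beta_hat hζ hζ1 hZ W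
      ⟨1, a, ha, b, hb, ha1, hb1, by group⟩) i j
    omega
  have hgal : ∀ i j (k : ℕ), k.Coprime (Nat.card G) → z (i ^ k) (j ^ k) = z i j := by
    intro i j k hk
    set ζk : L → ℂ := fun x => ζ (x ^ k) with hζk
    have hmem : ζk ∈ famF L H := hN.fam_pow hζ hk
    have hk1 : ζk 1 = ζ 1 := by simp [hζk]
    have hH : ∀ x : L, ((x ^ k : L) : G) ∈ H ↔ (x : G) ∈ H := fun x => by
      refine ⟨fun h => ?_, fun h => by simpa using H.pow_mem h k⟩
      obtain ⟨m, hm⟩ := exists_pow_eq_self_of_coprime (hk.coprime_dvd_right (orderOf_dvd_natCard (x : G)))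
      rw [← hm]
      exact H.pow_mem (by simpa using h) m
    have hβk : (fun x => betaL L H ζ (x ^ k)) = betaL L H ζ + (ζ - ζk) := funext fun x => by
      simp only [betaL, Pi.sub_apply, Pi.add_apply, hN.indOne_apply, hH, hζk]
      ring
    have hT : ∀ g, tauL L (betaL L H ζ) (g ^ k) = (tauL L (betaL L H ζ) + (φ ζ - φ ζk)) g := fun g => by
      have h1 := hφ.diff ζ hζ ζk hmem
      rw [hk1, ← smul_sub, ← smul_sub, tauL, dade_smul] at h1
      rw [hN.tauL_pow (hN.beta_class hζ hζ1) hk, hβk, tauL, dade_add,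
        smul_right_injective _ (hN.fam_one hζ).2 h1]
    have h : classInner (fun g => tauL L (betaL L H ζ) (g ^ k)) (fun g => W.eta i j (g ^ k)) = z i j := by
      rw [← hz]
      simp only [classInner]
      congr 1
      exact (powCoprime_bijective hk).sum_comp
        (fun g => tauL L (betaL L H ζ) g * conj (W.eta i j g))
    rw [show (fun g => W.eta i j (g ^ k)) = W.eta (i ^ k) (j ^ k) from funext (W.power i j k hk),
      show (fun g => tauL L (betaL L H ζ) (g ^ k)) = tauL L (betaL L H ζ) + (φ ζ - φ ζk) from funext hT,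
      classInner_add_left, classInner_sub_left, hN.fam_orth_eta hφ hZ W hζ, hN.fam_orth_eta hφ hZ W hmem,
      sub_self, add_zero, hz] at h
    exact_mod_cast h
  have hone : ∀ {X : Subgroup G} (k : ℕ), (1 : ↥X →* ℂˣ) ^ k = 1 := fun k => MonoidHom.ext fun _ => by simp
  have hleft : (Nat.card K).Prime → ∀ i i', i ≠ 1 → i' ≠ 1 → z i 1 = z i' 1 := fun hp i i' hi hi' => by
    obtain ⟨k, hk, e⟩ := exists_coprime_pow hp (by rw [Nat.card_eq_fintype_card, W.card_left]) hi hi'
    have := hgal i 1 k hk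
    rw [e, hone] at this
    exact this.symm
  have hright : (Nat.card Z).Prime → ∀ j j', j ≠ 1 → j' ≠ 1 → z 1 j = z 1 j' := fun hp j j' hj hj' => by
    obtain ⟨k, hk, e⟩ := exists_coprime_pow hp (by rw [Nat.card_eq_fintype_card, W.card_right]) hj hj'
    have := hgal 1 j k hk
    rw [e, hone] at this
    exact this.symm
  -- the orthogonal decomposition
  set T0 := tauL L (betaL L H ζ) with hT0
  choose co hco using fun x : {x // x ∈ famFin L H} =>
    gen_inner_int hgen (hφ.signed x (hN.mem_famFin.1 x.2)).gen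
  set f : ((↥K →* ℂˣ) × (↥Z →* ℂˣ)) ⊕ {x // x ∈ famFin L H} → G → ℂ :=
    Sum.elim (fun p => W.eta p.1 p.2) (fun x => φ x) with hf
  set w : ((↥K →* ℂˣ) × (↥Z →* ℂˣ)) ⊕ {x // x ∈ famFin L H} → ℤ :=
    Sum.elim (fun p => z p.1 p.2) co with hw
  obtain ⟨hR, horth, hnorm⟩ := signed_split Finset.univ f (fun p _ => by
    rcases p with p | x
    · exact W.signed _ _
    · exact hφ.signed x (hN.mem_famFin.1 x.2)) (fun p _ r _ hne => by
    rcases p with p | x <;> rcases r with r | y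
    · exact W.orth _ _ _ _ (not_and_or.1 fun e => hne (congrArg Sum.inl (Prod.ext e.1 e.2)))
    · show classInner (W.eta p.1 p.2) (φ y) = 0
      rw [← classInner_symm, hN.fam_orth_eta hφ hZ W (hN.mem_famFin.1 y.2), map_zero]
    · exact hN.fam_orth_eta hφ hZ W (hN.mem_famFin.1 x.2) _ _
    · exact hφ.orth x (hN.mem_famFin.1 x.2) y (hN.mem_famFin.1 y.2)
        fun e => hne (congrArg Sum.inr (Subtype.ext e))) hgen w (fun p _ => by
    rcases p with p | x
    · exact hz _ _
    · exact hco x)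
  set R := T0 - ∑ p, (w p : ℂ) • f p with hRdef
  have hsum : ∑ p, (w p : ℂ) • f p = (∑ i, ∑ j, (z i j : ℂ) • W.eta i j) +
      ∑ x ∈ famFin L H, classInner T0 (φ x) • φ x := by
    rw [Fintype.sum_sum_type, Fintype.sum_prod_type, ← Finset.sum_attach (famFin L H)]
    congr 1
    exact Finset.sum_congr rfl fun x _ => by rw [hco]; rfl
  have hsq : ∑ p, (w p : ℂ) ^ 2 = (∑ i, ∑ j, (z i j : ℂ) ^ 2) +
      (((Nat.card H : ℂ) - 1) / Nat.card E * (c : ℂ) ^ 2 - 2 * c + 1) := by
    rw [Fintype.sum_sum_type, Fintype.sum_prod_type]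
    congr 1
    rw [Finset.sum_congr rfl fun x _ => show (w (Sum.inr x) : ℂ) ^ 2 =
        (fun y => (((c : ℂ) - if y = ζ then 1 else 0) * (y 1 / Nat.card E)) ^ 2) x.1 by
      show (co x : ℂ) ^ 2 = _
      rw [← hco, hc _ (hN.mem_famFin.1 x.2)]]
    rw [Finset.univ_eq_attach, Finset.sum_attach (famFin L H)
      (fun y => (((c : ℂ) - if y = ζ then 1 else 0) * (y 1 / Nat.card E)) ^ 2)]
    have e : ∀ y : L → ℂ, (((c : ℂ) - if y = ζ then 1 else 0) * (y 1 / Nat.card E)) ^ 2 =
        (c : ℂ) ^ 2 * (y 1 / Nat.card E) ^ 2 + if y = ζ then (1 - 2 * (c : ℂ)) else 0 := fun y => by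
      split_ifs with h
      · rw [h, hζ1, div_self hN.E_card_ne]; ring
      · ring
    rw [Finset.sum_congr rfl fun y _ => e y, Finset.sum_add_distrib, ← Finset.mul_sum,
      hN.sum_fam_sq hζ hζ1, Finset.sum_ite_eq' (famFin L H) ζ, if_pos (hN.mem_famFin.2 hζ)]
    ring
  rw [hsq, hN.tau_beta_norm hζ hζ1] at hnorm
  have hre : (classInner R R).re = (Nat.card E : ℝ) - 1 -
      ((∑ i, ∑ j, (z i j : ℝ) ^ 2) - 1 + ((Nat.card H : ℝ) - 1) / Nat.card E * (c : ℝ) ^ 2 - 2 * c) := by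
    have h : classInner R R = (((Nat.card E : ℝ) - 1 - ((∑ i, ∑ j, (z i j : ℝ) ^ 2) - 1 +
        ((Nat.card H : ℝ) - 1) / Nat.card E * (c : ℝ) ^ 2 - 2 * c) : ℝ) : ℂ) := by
      rw [hnorm]
      push_cast
      ring
    rw [h, Complex.ofReal_re]
  refine ⟨c, z, hc, hz, z11, hadd, hgal, hleft, hright, ?_, R, hR, ?_, fun i j => horth (Sum.inl (i, j))
    (Finset.mem_univ _), fun x hx => horth (Sum.inr ⟨x, hN.mem_famFin.2 hx⟩) (Finset.mem_univ _), hre⟩
  · have := classInner_self_re_nonneg R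
    linarith
  · rw [← hsum, hRdef]
    abel

/-- With two members only the family may be replaced so that the coefficient `c` becomes `1 - c`. -/
theorem exists_swap (htwo : ∀ x ∈ famF L H, x = ζ ∨ x = conjFun ζ) :
    ∃ φ' : (L → ℂ) → G → ℂ, Fam (tauL L) (famF L H) φ' ∧ (∀ x, φ' x = -φ (conjFun x)) ∧
      ∀ c : ℤ, classInner (tauL L (betaL L H ζ)) (φ ζ) = (c : ℂ) - 1 →
        classInner (tauL L (betaL L H ζ)) (φ' ζ) = ((1 - c : ℤ) : ℂ) - 1 := by
  classical
  obtain ⟨hb, hne⟩ := hN.fam_conj hζ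
  refine ⟨fun x => -φ (conjFun x), ⟨hφ.irr, fun a ha => (hφ.signed _ (hN.fam_conj ha).1).neg,
    fun a ha b hb' hab => ?_, fun a ha b hb' => ?_⟩, fun _ => rfl, fun c hc => ?_⟩
  · rw [classInner_neg_left, classInner_neg_right, neg_neg]
    refine hφ.orth _ (hN.fam_conj ha).1 _ (hN.fam_conj hb').1 fun e => hab ?_
    rw [← conjFun_conjFun a, e, conjFun_conjFun]
  · have h1 := hφ.diff ζ hζ _ hb
    have h2 := hφ.diff _ hb ζ hζ
    rw [hN.conjFun_one hζ] at h1 h2
    rcases htwo a ha with rfl | rfl <;> rcases htwo b hb' with rfl | rfl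
    · rw [sub_self, sub_self, tauL, show (0 : L → ℂ) = (0 : ℂ) • b by simp, dade_smul, zero_smul]
    · rw [hN.conjFun_one hζ, h1, conjFun_conjFun, smul_neg, smul_neg]
      abel
    · rw [hN.conjFun_one hζ, h2, conjFun_conjFun, smul_neg, smul_neg]
      abel
    · rw [sub_self, sub_self, tauL, show (0 : L → ℂ) = (0 : ℂ) • ζ by simp, dade_smul, zero_smul]
  · rw [classInner_neg_right]
    obtain ⟨d, hd⟩ := hN.exists_fam_coeff hζ hζ1 hφ
    have e1 := hd ζ hζ
    rw [if_pos rfl, hζ1, div_self hN.E_card_ne, mul_one, hc] at e1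
    rw [hd _ hb, if_neg hne, hN.conjFun_one hζ, hζ1, div_self hN.E_card_ne]
    push_cast
    linear_combination e1

variable {c : ℤ} {W : Grid K Z} {z : (↥K →* ℂˣ) → (↥Z →* ℂˣ) → ℤ}

/-- In the extreme case there are no further constituents. -/
theorem tau_beta_tight (hd : BetaData L H E W φ ζ c z)
    (h : (Nat.card E : ℝ) - 1 ≤ (∑ i, ∑ j, (z i j : ℝ) ^ 2) - 1 +
      ((Nat.card H : ℝ) - 1) / Nat.card E * (c : ℝ) ^ 2 - 2 * c) :
    tauL L (betaL L H ζ) = (∑ i, ∑ j, (z i j : ℂ) • W.eta i j) +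
      ∑ x ∈ famFin L H, classInner (tauL L (betaL L H ζ)) (φ x) • φ x := by
  obtain ⟨R, -, e, -, -, hre⟩ := hd.split
  have h0 := classInner_self_re_nonneg R
  rw [eq_zero_of_re_zero (show (classInner R R).re = 0 by linarith), add_zero] at e
  exact e

/-- The averages of the grid are its coordinates. -/
theorem avg_eta_eq (hd : BetaData L H E W φ ζ c z) (hZ : Z ≤ sigmaCore S) (i : ↥K →* ℂˣ) (j : ↥Z →* ℂˣ)
    {x : G} (hx : x ∈ typeA L) : dadeAvg (supportR L) (W.eta i j) x = z i j := by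
  rw [hN.avg_eta hζ hζ1 hφ hZ W i j hx, ← classInner_symm, hd.eta, map_intCast]

/-- The averages of the distinguished member are `ζ + c`. -/
theorem avg_zeta_eq (hd : BetaData L H E W φ ζ c z) {x : L} (hx : (x : G) ∈ typeA L) :
    dadeAvg (supportR L) (φ ζ) x = ζ x + c := by
  classical
  rw [hN.avg_fam hζ hζ1 hφ hζ hx, ← classInner_symm, hd.fam ζ hζ, if_pos rfl, hζ1,
    div_self hN.E_card_ne]
  simp

/-- The mean square of a grid character on the support. -/
theorem dens_eta_ge (hd : BetaData L H E W φ ζ c z) (hZ : Z ≤ sigmaCore S) (i : ↥K →* ℂˣ)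
    (j : ↥Z →* ℂˣ) :
    ((Nat.card H : ℝ) - 1) / Nat.card L * (z i j : ℝ) ^ 2 ≤ dens (tildeL L) (W.eta i j) := by
  classical
  refine le_trans (le_of_eq ?_) (hN.dens_tilde (isClassFunction_genChar (W.eta_gen i j)))
  rw [Finset.sum_congr rfl (g := fun _ => (z i j : ℝ) ^ 2) fun a ha => by
    rw [hN.avg_eta_eq hζ hζ1 hφ hd hZ i j (Finset.mem_filter.1 ha).2, Complex.norm_intCast, sq_abs],
    Finset.sum_const, nsmul_eq_mul]
  have e : ((Finset.univ.filter fun a : G => a ∈ typeA L).card : ℝ) = (Nat.card H : ℝ) - 1 := by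
    have h1 : (Finset.univ.filter fun a : G => a ∈ typeA L) =
        (Finset.univ.filter fun a : G => a ∈ H).erase 1 := by
      ext a
      simp [hN.mem_typeA, and_comm]
    rw [h1, Finset.card_erase_of_mem (by simp), Nat.cast_sub (Finset.card_pos.2 ⟨1, by simp⟩),
      ← Fintype.card_subtype, ← Nat.card_eq_fintype_card, Nat.cast_one]
  rw [e]
  ring

/-- The mean square of the distinguished member on the support. -/
theorem dens_zeta_ge (hd : BetaData L H E W φ ζ c z) :
    (Nat.card L : ℝ)⁻¹ * ((Nat.card L : ℝ) - (Nat.card E : ℝ) ^ 2 - 2 * c * Nat.card E +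
      (c : ℝ) ^ 2 * ((Nat.card H : ℝ) - 1)) ≤ dens (tildeL L) (φ ζ) := by
  classical
  refine le_trans (le_of_eq ?_) (hN.dens_tilde (isClassFunction_genChar (hφ.signed ζ hζ).gen))
  rw [← hN.sum_sq_zeta_add hζ hζ1 (c : ℝ)]
  congr 1
  refine Finset.sum_bij (fun (a : L) _ => (a : G)) (fun a ha => by simpa using ha)
    (fun a _ b _ e => Subtype.ext e) (fun a ha => ⟨⟨a, hN.dade.subset (Finset.mem_filter.1 ha).2⟩,
      by simpa using (Finset.mem_filter.1 ha).2, rfl⟩) fun a ha => ?_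
  rw [hN.avg_zeta_eq hζ hζ1 hφ hd (by simpa using ha)]
  simp

end Beta

end Nbr

end Cfsg.Agent.OddFT
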