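import Cfsg.Agent.Lib.OddChar.FT.LayerMass

/-!
The measures of the regions: conjugates of sets with controlled fusion and the hat.
-/

set_option autoImplicit false
set_option linter.unusedSectionVars false
set_option linter.unusedVariables false
set_option linter.style.haveILetI false

open Cfsg Cfsg.Agent.Char Cfsg.Agent.OddChar
open scoped ComplexConjugate Classical

namespace Cfsg.Agent.OddFT

universe u

variable {G : Type u} [Group G] [Fintype G]

/-- The proportion of the group lying in `s`. -/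
noncomputable def meas (s : Set G) : ℝ := (s.ncard : ℝ) / Nat.card G

theorem meas_nonneg (s : Set G) : 0 ≤ meas s := div_nonneg (Nat.cast_nonneg _) (Nat.cast_nonneg _)

theorem dens_one (s : Set G) : dens s (fun _ => (1 : ℂ)) = meas s := by
  rw [dens_const, meas]; simp

theorem meas_union_le (s t : Set G) : meas (s ∪ t) ≤ meas s + meas t := by
  rw [meas, meas, meas, ← add_div]
  gcongr
  exact_mod_cast Set.ncard_union_le s t

theorem meas_compl (s : Set G) : meas s + meas sᶜ = 1 := by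
  have h := dens_compl s (fun _ => (1 : ℂ))
  rw [dens_one, dens_one, irr_self isIrrCharacter_one, Complex.one_re] at h
  exact h

/-- Stability under powers prime to the group order. -/
def PowStable (s : Set G) : Prop := ∀ k : ℕ, k.Coprime (Nat.card G) → ∀ g ∈ s, g ^ k ∈ s

theorem PowStable.compl {s : Set G} (h : PowStable s) : PowStable sᶜ := fun k hk g hg hgk => by
  obtain ⟨m, hm⟩ := exists_pow_eq_self_of_coprime (hk.coprime_dvd_right (orderOf_dvd_natCard g))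
  by_cases h1 : g = 1
  · subst h1
    simp at hgk
    exact hg hgk
  refine hg ?_
  rw [← hm]
  obtain ⟨m', hm', hmk⟩ : ∃ m' : ℕ, m'.Coprime (Nat.card G) ∧ (g ^ k) ^ m' = g := by
    by_cases hn : Nat.card G = 1
    · haveI := (Nat.card_eq_one_iff_unique.1 hn).1
      exact ⟨1, by rw [hn]; exact Nat.coprime_one_right 1, Subsingleton.elim _ _⟩
    obtain ⟨m', -, hm'⟩ := Nat.exists_mul_mod_eq_of_coprime 1 hk (Nat.card_pos (α := G)).ne'
    have hmod : k * m' ≡ 1 [MOD Nat.card G] := hm'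
    refine ⟨m', Nat.coprime_of_mul_modEq_one k (by rwa [mul_comm] at hmod), ?_⟩
    rw [← pow_mul]
    conv_rhs => rw [← pow_one g]
    exact pow_eq_pow_iff_modEq.2 (hmod.of_dvd (orderOf_dvd_natCard g))
  rw [hm, ← hmk]
  exact h m' hm' _ hgk

theorem PowStable.union {s t : Set G} (hs : PowStable s) (ht : PowStable t) : PowStable (s ∪ t) :=
  fun k hk g hg => hg.imp (hs k hk g) (ht k hk g)

theorem PowStable.inter {s t : Set G} (hs : PowStable s) (ht : PowStable t) : PowStable (s ∩ t) :=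
  fun k hk g hg => ⟨hs k hk g hg.1, ht k hk g hg.2⟩

theorem PowStable.conjSet {X : Set G} (h : PowStable X) : PowStable (conjSet X) := by
  rintro k hk g ⟨x, hx⟩
  exact ⟨x, by rw [← conj_pow]; exact h k hk _ hx⟩

theorem powStable_punctured (H : Subgroup G) : PowStable ((H : Set G) \ {1}) := fun k hk g hg => by
  refine ⟨H.pow_mem hg.1 k, fun h1 => hg.2 ?_⟩
  rw [Set.mem_singleton_iff] at h1 ⊢
  exact orderOf_eq_one_iff.1 (Nat.eq_one_of_dvd_coprimes hk (orderOf_dvd_of_pow_eq_one h1) (orderOf_dvd_natCard g))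

theorem powStable_sigmaSet (M : Subgroup G) : PowStable (sigmaSet M) := fun _ hk _ hg => sigmaSet_pow hg hk

/-- The measure of the conjugates of a set with controlled fusion. -/
theorem IsTI.meas_conjSet {M : Subgroup G} {X : Set G} (hT : IsTI M X) :
    meas (OddFT.conjSet X) = (X.ncard : ℝ) / Nat.card M := by
  have h := hT.dens_conjSet (f := fun _ => (1 : ℂ)) fun _ _ => rfl
  rw [dens_one] at h
  rw [h]
  simp only [norm_one, one_pow, Finset.sum_const, nsmul_eq_mul, mul_one]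
  rw [inv_mul_eq_div]
  congr 2
  rw [← Fintype.card_subtype, ← Nat.card_eq_fintype_card, ← Nat.card_coe_set_eq]
  exact Nat.card_congr
    { toFun := fun x => ⟨x.1, x.2⟩, invFun := fun x => ⟨⟨x, hT.subset _ x.2⟩, x.2⟩,
      left_inv := fun _ => rfl, right_inv := fun _ => rfl }

theorem ncard_punctured (H : Subgroup G) : (((H : Set G) \ {1}).ncard : ℝ) = (Nat.card H : ℝ) - 1 := by
  have e : ((H : Set G) \ {1}).ncard + 1 = Nat.card H :=
    Set.ncard_diff_singleton_add_one (H.one_mem) (Set.toFinite _)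
  have e' := congrArg (Nat.cast (R := ℝ)) e
  push_cast at e'
  linarith

namespace Grid

variable {W₁ W₂ : Subgroup G} (E : Grid W₁ W₂)
include E

theorem mem_tiV {x : G} : x ∈ tiV W₁ W₂ ↔ ∃ a ∈ W₁, ∃ b ∈ W₂, a ≠ 1 ∧ b ≠ 1 ∧ x = a * b := by
  constructor
  · rintro ⟨hx, hn⟩
    obtain ⟨a, ha, b, hb, rfl⟩ := ti_exists_mul E.sn.2.2.2.1 hx
    exact ⟨a, ha, b, hb, fun e => hn (Or.inr (by rw [e, one_mul]; exact hb)),
      fun e => hn (Or.inl (by rw [e, mul_one]; exact ha)), rfl⟩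
  · rintro ⟨a, ha, b, hb, ha1, hb1, rfl⟩
    obtain ⟨n1, n2⟩ := notMem_factor E.sn.2.2.1 ha hb ha1 hb1
    exact ⟨Subgroup.mul_mem_sup ha hb, fun h => h.elim n1 n2⟩

theorem tiV_isTI : IsTI (W₁ ⊔ W₂) (tiV W₁ W₂) := by
  refine ⟨fun a ha => ha.1, fun h => h.2 (Or.inl W₁.one_mem), fun x hx a ha => ?_, fun g a ha hga => ?_⟩
  · rw [← tiV_normalizer E.sn] at hx
    exact (hx a).1 ha
  · by_contra hg
    exact tiV_ti E.sn (by rwa [tiV_normalizer E.sn]) ha hga

theorem hatG_eq : hatG W₁ W₂ = conjSet (tiV W₁ W₂) := by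
  ext g
  constructor
  · rintro ⟨x, a, ha, b, hb, ha1, hb1, rfl⟩
    exact ⟨x⁻¹, E.mem_tiV.2 ⟨a, ha, b, hb, ha1, hb1, by group⟩⟩
  · rintro ⟨x, hx⟩
    obtain ⟨a, ha, b, hb, ha1, hb1, e⟩ := E.mem_tiV.1 hx
    exact ⟨x⁻¹, a, ha, b, hb, ha1, hb1, by rw [← e]; group⟩

theorem powStable_hat : PowStable (hatG W₁ W₂) := by
  rintro k hk g ⟨x, a, ha, b, hb, ha1, hb1, rfl⟩
  refine ⟨x, a ^ k, W₁.pow_mem ha k, b ^ k, W₂.pow_mem hb k,
    fun e => (powStable_punctured W₁ k hk a ⟨ha, ha1⟩).2 e,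
    fun e => (powStable_punctured W₂ k hk b ⟨hb, hb1⟩).2 e, ?_⟩
  rw [conj_pow, (show Commute a b from E.comm ha hb).mul_pow]

/-- The measure of the hat. -/
theorem meas_hat : meas (hatG W₁ W₂) =
    ((Nat.card W₁ : ℝ) - 1) * ((Nat.card W₂ : ℝ) - 1) / (Nat.card W₁ * Nat.card W₂) := by
  rw [E.hatG_eq, E.tiV_isTI.meas_conjSet]
  have hW : Nat.card ↥(W₁ ⊔ W₂) = Nat.card W₁ * Nat.card W₂ := by
    have h := Solv.card_sup_mul_card_inf' W₁ W₂ fun x hx => Subgroup.mem_normalizer_iff.2 fun y =>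
      ⟨fun hy => by rwa [← E.comm hy hx, mul_inv_cancel_right], fun hy => by
        have e : x * y * x⁻¹ = y := by
          have := E.comm hy hx
          calc x * y * x⁻¹ = x⁻¹ * ((x * y * x⁻¹) * x) * (x * x⁻¹) := by rw [this]; group
            _ = y := by group
        rwa [e] at hy⟩
    rwa [E.sn.2.2.1, Subgroup.card_bot, mul_one] at h
  have hV : (tiV W₁ W₂).ncard = (Nat.card W₁ - 1) * (Nat.card W₂ - 1) := by
    have e1 : ∀ H : Subgroup G, Nat.card {a : H // (a : G) ≠ 1} = Nat.card H - 1 := fun H => by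
      rw [Nat.card_eq_fintype_card, Fintype.card_subtype_compl, Nat.card_eq_fintype_card]
      simp
    rw [← e1 W₁, ← e1 W₂, ← Nat.card_prod, ← Nat.card_coe_set_eq]
    refine (Nat.card_congr (Equiv.ofBijective
      (fun p : {a : W₁ // (a : G) ≠ 1} × {b : W₂ // (b : G) ≠ 1} =>
        (⟨(p.1.1 : G) * p.2.1, E.mem_tiV.2 ⟨_, p.1.1.2, _, p.2.1.2, p.1.2, p.2.2, rfl⟩⟩ : tiV W₁ W₂))
      ⟨fun p p' e => ?_, fun x => ?_⟩)).symm
    · have e' : (p.1.1 : G) * p.2.1 = p'.1.1 * p'.2.1 := congrArg Subtype.val e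
      have h1 : (p'.1.1 : G)⁻¹ * p.1.1 = p'.2.1 * (p.2.1 : G)⁻¹ := by
        calc (p'.1.1 : G)⁻¹ * p.1.1 = (p'.1.1 : G)⁻¹ * ((p.1.1 : G) * p.2.1) * (p.2.1 : G)⁻¹ := by group
          _ = _ := by rw [e']; group
      have h2 : (p'.1.1 : G)⁻¹ * p.1.1 = 1 := by
        rw [← Subgroup.mem_bot, ← E.sn.2.2.1]
        exact ⟨W₁.mul_mem (W₁.inv_mem p'.1.1.2) p.1.1.2, h1 ▸ W₂.mul_mem p'.2.1.2 (W₂.inv_mem p.2.1.2)⟩
      rw [h2] at h1
      exact Prod.ext (Subtype.ext (Subtype.ext (inv_mul_eq_one.1 h2).symm))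
        (Subtype.ext (Subtype.ext (mul_inv_eq_one.1 h1.symm).symm))
    · obtain ⟨a, ha, b, hb, ha1, hb1, e⟩ := E.mem_tiV.1 x.2
      exact ⟨(⟨⟨a, ha⟩, ha1⟩, ⟨⟨b, hb⟩, hb1⟩), Subtype.ext e.symm⟩
  rw [hV, hW, Nat.cast_mul, Nat.cast_mul, Nat.cast_sub Nat.card_pos, Nat.cast_sub Nat.card_pos, Nat.cast_one]

end Grid

end Cfsg.Agent.OddFT
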