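import Cfsg.Agent.Lib.OddChar.FT.FreeCoord
import Cfsg.Agent.Lib.OddChar.FT.Regions
import Cfsg.Agent.Lib.OddChar.FT.NbrBeta
import Cfsg.Agent.Lib.OddChar.FT.Nbr

/-!
A layer has trivial `C`.
-/

set_option autoImplicit false
set_option linter.unusedSectionVars false
set_option linter.unusedVariables false
set_option linter.style.haveILetI false

open Cfsg Cfsg.Agent.Char Cfsg.Agent.OddChar Cfsg.Agent.OddLocal
open scoped ComplexConjugate Classical

namespace Cfsg.Agent.OddFT

universe u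

variable {G : Type u} [Group G] [Fintype G]

theorem free_arith_one {h c u : ℝ} (S : ℤ) (hc : 3 ≤ c) (hcu : c ≤ u) (hhu : 3 * u ≤ h)
    (hf : (S : ℝ) ^ 2 * (h - 1) + 2 * S * (h / c - 1) + (h / c ^ 2 - 1) - (u / c ^ 2 - 1) ≤ 0) : False := by
  have hc0 : 0 < c := by linarith
  have hu0 : 0 < u := by linarith
  have key : h * (c * S + 1) ^ 2 - c ^ 2 * (S ^ 2 + 2 * S) - u ≤ 0 := by
    have e : h * (c * S + 1) ^ 2 - c ^ 2 * (S ^ 2 + 2 * S) - u =
        c ^ 2 * ((S : ℝ) ^ 2 * (h - 1) + 2 * S * (h / c - 1) + (h / c ^ 2 - 1) - (u / c ^ 2 - 1)) := by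
      field_simp
      ring
    rw [e]
    exact mul_nonpos_of_nonneg_of_nonpos (by positivity) hf
  rcases eq_or_ne S 0 with rfl | hS
  · simp at key
    linarith
  · have hS2 : (1 : ℝ) ≤ (S : ℝ) ^ 2 := by
      have : (1 : ℤ) ≤ S ^ 2 := by nlinarith [mul_self_pos.2 hS]
      exact_mod_cast this
    have h1 : 4 / 9 * (c * S) ^ 2 ≤ (c * S + 1) ^ 2 := by
      rcases lt_or_gt_of_ne hS with hneg | hpos
      · have : (S : ℝ) ≤ -1 := by exact_mod_cast Int.le_sub_one_of_lt hneg
        have hx : c * (S : ℝ) + 3 ≤ 0 := by nlinarith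
        nlinarith [mul_nonneg_of_nonpos_of_nonpos hx (show 5 * (c * (S : ℝ)) + 3 ≤ 0 by linarith)]
      · have : (1 : ℝ) ≤ S := by exact_mod_cast hpos
        nlinarith
    have h2 : 9 ≤ (c * S) ^ 2 := by nlinarith
    have h3 : (S : ℝ) ^ 2 + 2 * S ≤ 3 * (S : ℝ) ^ 2 := by
      have : S ≤ S ^ 2 := Int.le_self_sq S
      have : (S : ℝ) ≤ (S : ℝ) ^ 2 := by exact_mod_cast this
      linarith
    have h4 : 3 * u * (c * S + 1) ^ 2 ≤ h * (c * S + 1) ^ 2 := mul_le_mul_of_nonneg_right hhu (sq_nonneg _)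
    have h5 : 3 * (3 * (c * S + 1) ^ 2 - 1) ≤ u * (3 * (c * S + 1) ^ 2 - 1) :=
      mul_le_mul_of_nonneg_right (by linarith) (by nlinarith)
    nlinarith [mul_le_mul_of_nonneg_left h3 (sq_nonneg c)]

theorem free_arith_big {h c u g : ℝ} (S : ℤ) (hc : 5 ≤ c) (hg : 3 ≤ g) (hgc : 2 * g ≤ c + 1) (hch : c ^ 2 ≤ h)
    (huh : u ≤ h)
    (hf : (S : ℝ) ^ 2 * ((h - 1) / g) + 2 * S * (h / c - 1) + g * (h / c ^ 2 - 1) - (u / c ^ 2 - 1) ≤ 0) :
    h = c ^ 2 ∧ u = h ∧
      (S : ℝ) ^ 2 * ((h - 1) / g) + 2 * S * (h / c - 1) + g * (h / c ^ 2 - 1) - (u / c ^ 2 - 1) = 0 := by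
  have hc0 : 0 < c := by linarith
  set m := h / c ^ 2 with hm
  have hm1 : 1 ≤ m := (one_le_div (by positivity)).2 hch
  have hmu : u / c ^ 2 ≤ m := div_le_div_of_nonneg_right huh (by positivity)
  have hhm : h = m * c ^ 2 := by rw [hm]; field_simp
  have hhc : h / c = m * c := by rw [hm]; field_simp
  rw [hhc] at hf ⊢
  set f := (S : ℝ) ^ 2 * ((h - 1) / g) + 2 * S * (m * c - 1) + g * (m - 1) - (u / c ^ 2 - 1) with hfdef
  set f0 := (S : ℝ) ^ 2 * ((h - 1) / g) + 2 * S * (m * c - 1) with hf0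
  have hpos : (0 : ℝ) ≤ (h - 1) / g := div_nonneg (by nlinarith) (by linarith)
  have hlow : 0 ≤ f0 + (g - 1) * (m - 1) ∧ (f0 + (g - 1) * (m - 1) = 0 → m = 1) := by
    rcases le_or_gt 1 S with hS | hS
    · have hS' : (1 : ℝ) ≤ S := by exact_mod_cast hS
      have : 0 < f0 := by
        have h1 : 0 ≤ (S : ℝ) ^ 2 * ((h - 1) / g) := mul_nonneg (sq_nonneg _) hpos
        have h2 : 0 < 2 * (S : ℝ) * (m * c - 1) := mul_pos (by linarith) (by nlinarith)
        linarith
      exact ⟨by nlinarith, fun e => by nlinarith⟩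
    rcases eq_or_ne S 0 with rfl | hS0
    · simp only [hf0, Int.cast_zero]
      exact ⟨by nlinarith, fun e => by nlinarith⟩
    rcases eq_or_ne S (-1) with rfl | hS1
    · simp only [hf0, Int.cast_neg, Int.cast_one]
      have e : (-1 : ℝ) ^ 2 * ((h - 1) / g) + 2 * -1 * (m * c - 1) + (g - 1) * (m - 1) =
          (m - 1) * (((c - g) ^ 2 - g) / g) + (c - 1) * ((c + 1 - 2 * g) / g) := by
        rw [hhm]
        field_simp
        ring
      have hd : 0 < ((c - g) ^ 2 - g) / g := by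
        refine div_pos ?_ (by linarith)
        nlinarith [mul_le_mul (show g - 1 ≤ c - g by linarith) (show g - 1 ≤ c - g by linarith) (by linarith)
          (show (0 : ℝ) ≤ c - g by linarith)]
      have he : 0 ≤ (c + 1 - 2 * g) / g := div_nonneg (by linarith) (by linarith)
      rw [e]
      exact ⟨add_nonneg (mul_nonneg (by linarith) hd.le) (mul_nonneg (by linarith) he), fun e0 => by
        have h1 : 0 ≤ (m - 1) * (((c - g) ^ 2 - g) / g) := mul_nonneg (by linarith) hd.le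
        have h2 : 0 ≤ (c - 1) * ((c + 1 - 2 * g) / g) := mul_nonneg (by linarith) he
        have h3 : (m - 1) * (((c - g) ^ 2 - g) / g) = 0 := by linarith
        linarith [(mul_eq_zero.1 h3).resolve_right hd.ne']⟩
    · have hS' : (S : ℝ) ≤ -2 := by exact_mod_cast (show S ≤ -2 by omega)
      have h1 : m * c - 1 < (h - 1) / g := by
        rw [lt_div_iff₀ (by linarith)]
        have : g * (m * c - 1) ≤ (c + 1) / 2 * (m * c - 1) := mul_le_mul_of_nonneg_right (by linarith) (by nlinarith)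
        rw [hhm]
        nlinarith
      have : 0 < f0 := by
        have e : f0 = -(S : ℝ) * (-(S : ℝ) * ((h - 1) / g) - 2 * (m * c - 1)) := by rw [hf0]; ring
        rw [e]
        exact mul_pos (by linarith) (by nlinarith [mul_le_mul_of_nonneg_right (show 2 ≤ -(S : ℝ) by linarith) hpos])
      exact ⟨by nlinarith, fun e => by nlinarith⟩
  have hf' : f = f0 + (g - 1) * (m - 1) + (m - u / c ^ 2) := by rw [hfdef, hf0]; ring
  have h0 : f0 + (g - 1) * (m - 1) = 0 := by linarith [hlow.1]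
  have hm' := hlow.2 h0
  have hu' : u / c ^ 2 = 1 := by linarith
  rw [div_eq_one_iff_eq (by positivity)] at hu'
  refine ⟨by rw [hhm, hm', one_mul], by rw [hu', hhm, hm', one_mul], ?_⟩
  linarith [hlow.1]

variable {S K U T L H E Z P N : Subgroup G} {r : ℕ}

theorem Nbr.card_E_dvd (hN : Nbr S K U T L H E) : Nat.card E ∣ Nat.card H - 1 :=
  Solv.CITGroups.dvd_pred_of_free hN.le_normalizer fun e he he1 => eq_bot_iff.2 fun v hv =>
    Subgroup.mem_bot.2 (hN.fpf e he he1 v hv.1 (Subgroup.mem_centralizer_singleton_iff.1 hv.2).symm)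

theorem IsLayer.card_K_dvd (hl : IsLayer S K Z P U N r) :
    Nat.card K ∣ Nat.card ↥(layerC P U N) - 1 :=
  Solv.CITGroups.dvd_pred_of_free hl.K_norm_C fun k hk hk1 => eq_bot_iff.2 fun v hv =>
    Subgroup.mem_bot.2 (hl.side.fpf k hk hk1 v (hl.C_le hv.1) (Subgroup.mem_centralizer_singleton_iff.1 hv.2).symm)

theorem exists_even_div {n e : ℕ} (hn : Odd n) (he : Odd e) (hd : e ∣ n - 1) :
    ∃ a : ℕ, Even a ∧ (n : ℂ) - 1 = e * a := by
  obtain ⟨a, ha⟩ := hd
  obtain ⟨k, hk⟩ := hn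
  refine ⟨a, ?_, ?_⟩
  · have : Even (e * a) := ⟨k, by omega⟩
    exact (Nat.even_mul.1 this).resolve_left (Nat.not_even_iff_odd.2 he)
  · rw [← Nat.cast_mul, ← ha, Nat.cast_sub (by omega), Nat.cast_one]

theorem IsLayer.orbit_bound (hl : IsLayer S K Z P U N r) :
    ((r : ℝ) - 1) * ((Nat.card U : ℝ) / Nat.card ↥(layerC P U N)) ≤ (r : ℝ) ^ Nat.card K := by
  set J := Finset.univ.filter fun j => j ∈ layerJ Z N with hJ
  have hd : Set.PairwiseDisjoint (↑J : Set (↥Z →* ℂˣ)) hl.orbit := fun i hi j hj hij =>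
    hl.orbit_disjoint (Finset.mem_filter.1 hi).2 (Finset.mem_filter.1 hj).2 hij
  have h := Finset.card_le_univ (J.biUnion hl.orbit)
  rw [Finset.card_biUnion hd, ← Nat.card_eq_fintype_card, hl.card_layerDual] at h
  have h' : (∑ j ∈ J, ((hl.orbit j).card : ℝ)) ≤ (r : ℝ) ^ Nat.card K := by exact_mod_cast h
  refine le_trans (le_of_eq ?_) h'
  have hJc : (J.card : ℝ) = (r : ℝ) - 1 := by
    have e : ((J.card + 1 : ℕ) : ℝ) = (r : ℝ) := congrArg (Nat.cast (R := ℝ)) hl.card_layerJ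
    push_cast at e
    linarith
  rw [← hJc, ← nsmul_eq_mul, ← Finset.sum_const]
  refine Finset.sum_congr rfl fun j hj => ?_
  rw [div_eq_iff (Nat.cast_ne_zero.2 Nat.card_pos.ne'), ← Nat.cast_mul, hl.card_orbit (Finset.mem_filter.1 hj).2]

theorem IsLayer.meas_layerX (hl : IsLayer S K Z P U N r) :
    meas (conjSet (layerX P U N)) ≤
      (Nat.card ↥(layerC P U N) : ℝ) / ((Nat.card U : ℝ) * Nat.card K) := by
  rw [hl.layerX_isTI.meas_conjSet]
  have h1 : (layerX P U N).ncard ≤ Nat.card P * Nat.card ↥(layerC P U N) := by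
    rw [← hl.card_PC, ← Nat.card_coe_set_eq]
    exact Nat.card_le_card_of_injective
      (fun x : layerX P U N => (⟨x.1, hl.mem_PC.2 (by
        obtain ⟨p, hp, c, hc, -, e⟩ := x.2
        exact ⟨p, hp, c, hc, e⟩)⟩ : ↥(P ⊔ layerC P U N)))
      fun a b e => Subtype.ext (congrArg (fun y : ↥(P ⊔ layerC P U N) => (y : G)) e)
  have h1' : ((layerX P U N).ncard : ℝ) ≤ (Nat.card P : ℝ) * Nat.card ↥(layerC P U N) := by exact_mod_cast h1
  rw [hl.side.card_eq]
  push_cast
  refine (div_le_div_of_nonneg_right h1' (by positivity)).trans (le_of_eq ?_)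
  have : (Nat.card P : ℝ) ≠ 0 := Nat.cast_ne_zero.2 Nat.card_pos.ne'
  field_simp

theorem Nbr.meas_tilde (hN : Nbr S K U T L H E) : meas (tildeL L) ≤ 1 / (Nat.card E : ℝ) := by
  rw [← dens_one, dens_dadeSet hN.dade (f := fun _ => (1 : ℂ)) fun _ _ => rfl]
  have e : ∀ a : G, avgSq (supportR L) (fun _ => (1 : ℂ)) a = 1 := fun a => by
    rw [avgSq]
    simp only [norm_one, one_pow, Finset.sum_const, nsmul_eq_mul, mul_one]
    rw [← Fintype.card_subtype, ← Nat.card_eq_fintype_card]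
    exact inv_mul_cancel₀ (Nat.cast_ne_zero.2 Nat.card_pos.ne')
  rw [Finset.sum_congr rfl fun a _ => e a, Finset.sum_const, nsmul_eq_mul, mul_one, ← hN.card_mul]
  have h1 : (Finset.univ.filter fun a : G => a ∈ typeA L).card ≤ Nat.card H := by
    rw [Nat.card_eq_fintype_card, Fintype.card_subtype]
    exact Finset.card_le_card fun a ha => by simpa using (hN.mem_typeA.1 (Finset.mem_filter.1 ha).2).1
  have h1' : ((Finset.univ.filter fun a : G => a ∈ typeA L).card : ℝ) ≤ Nat.card H := by exact_mod_cast h1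
  have hH : (0 : ℝ) < Nat.card H := Nat.cast_pos.2 Nat.card_pos
  have hE : (0 : ℝ) < Nat.card E := Nat.cast_pos.2 Nat.card_pos
  push_cast
  refine (mul_le_mul_of_nonneg_left h1' (by positivity)).trans (le_of_eq ?_)
  field_simp

theorem free_numeric {g c r q ub : ℝ} (hg : 3 ≤ g) (hr : 3 ≤ r) (hcase : 5 ≤ r ∨ (5 ≤ q ∧ 11 ≤ c)) (hc : 5 ≤ c)
    (h : 1 ≤ 1 / g + 1 / c + ub) (hub : ub ≤ 1 / (r - 1)) : False := by
  have h1 : 1 / g ≤ 1 / 3 := one_div_le_one_div_of_le (by norm_num) hg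
  rcases hcase with h5 | ⟨-, h11⟩
  · have h2 : 1 / c ≤ 1 / 5 := one_div_le_one_div_of_le (by norm_num) hc
    have h3 : 1 / (r - 1) ≤ 1 / 4 := one_div_le_one_div_of_le (by norm_num) (by linarith)
    linarith
  · have h2 : 1 / c ≤ 1 / 11 := one_div_le_one_div_of_le (by norm_num) h11
    have h3 : 1 / (r - 1) ≤ 1 / 2 := one_div_le_one_div_of_le (by norm_num) (by linarith)
    linarith

theorem IsLayer.ind_beta_zero (hl : IsLayer S K Z P U N r) {l : ↥Z →* ℂˣ} (hj : l ∈ layerJ Z N) {g : G}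
    (hg : g ∉ conjSet (layerX P U N)) (hh : g ∉ hatG K Z) : indFun S (hl.beta l) g = 0 := by
  unfold indFun
  rw [Finset.sum_eq_zero, mul_zero]
  intro y _
  by_cases hy : y⁻¹ * g * y ∈ S
  · rw [extendByZero_mem S _ hy]
    by_contra hne
    rcases hl.beta_supp_cases hj.2 hne with ⟨u, hu, p, hp, c, hc, hpN, e⟩ | hhat
    · exact hg ⟨u * y⁻¹, p, hp, c, hc, hpN, by
        rw [← e]
        show u * y⁻¹ * g * (u * y⁻¹)⁻¹ = u * (y⁻¹ * g * y) * u⁻¹
        group⟩
    · obtain ⟨w, a, ha, b, hb, ha1, hb1, e⟩ := hhat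
      have e' : y⁻¹ * g * y = w * (a * b) * w⁻¹ := e
      refine hh ⟨y * w, a, ha, b, hb, ha1, hb1, ?_⟩
      calc g = y * (y⁻¹ * g * y) * y⁻¹ := by group
        _ = _ := by rw [e']; group
  · exact extendByZero_not_mem S _ hy

/-- The counting step when `Γ` is a multiple of one function off the support. -/
theorem free_count (hN : Nbr S K U T L H E) (hl : IsLayer S K Z P U N r) (W : Grid K Z) {ψ : G → ℂ}
    (hψ : IsGeneralizedCharacter G ψ) (M : ℤ)
    (hΓ : ∀ j ∈ layerJ Z N, ∀ g, g ∉ tildeL L → hl.gamma W j g = 2 * M * ψ g) :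
    1 ≤ (Nat.card K : ℝ) / Nat.card E + (Nat.card ↥(layerC P U N) : ℝ) / Nat.card U +
      (Nat.card U : ℝ) / Nat.card ↥(layerC P U N) / (r : ℝ) ^ Nat.card K := by
  set X := conjSet (layerX P U N) with hX
  set J := Finset.univ.filter fun j => j ∈ layerJ Z N with hJ
  have hXc : IsTI S (layerX P U N) := hl.layerX_isTI
  have hbound : ∀ l ∈ J, dens X (W.eta 1 l) ≤ meas (tildeL L) + meas X := by
    intro l hlJ
    have hj := (Finset.mem_filter.1 hlJ).2
    set R : Set G := (tildeL L ∪ X)ᶜ with hR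
    have hge : meas R ≤ dens R (W.eta 1 l) := by
      rw [← dens_one]
      refine mul_le_mul_of_nonneg_left (Finset.sum_le_sum fun g hg => ?_) (by positivity)
      have hgR : g ∉ tildeL L ∧ g ∉ X := by
        simp only [Finset.mem_filter] at hg
        simpa [hR] using hg.2
      rw [norm_one, one_pow]
      by_cases hh : g ∈ hatG K Z
      · obtain ⟨w, a, ha, b, hb, ha1, hb1, rfl⟩ := hh
        rw [isClassFunction_genChar (W.eta_gen 1 l) (a * b) w,
          show W.eta 1 l (a * b) = _ from W.onHat 1 l ⟨a, ha⟩ ⟨b, hb⟩ (fun e => ha1 (congrArg Subtype.val e))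
            (fun e => hb1 (congrArg Subtype.val e))]
        rw [MonoidHom.one_apply, Units.val_one, one_mul, Complex.norm_eq_one_of_pow_eq_one
          (n := Nat.card Z) ?_ Nat.card_pos.ne', one_pow]
        rw [← Units.val_pow_eq_pow_val, ← map_pow, pow_card_eq_one', map_one, Units.val_one]
      · have hval : ∀ m ∈ layerJ Z N, W.eta 1 m g = 1 + hl.gamma W m g := fun m hm => by
          simp only [IsLayer.gamma, Pi.add_apply, Pi.sub_apply, hl.ind_beta_zero hm hgR.2 hh]
          ring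
        obtain ⟨z, hz⟩ : ∃ z : ℤ, W.eta 1 l g = z := by
          refine gen_int_of_fixed (W.eta_gen 1 l) fun k hk => ?_
          have hjk := hl.pow_mem_layerJ hj hk
          rw [W.power 1 l k hk, show (1 : ↥K →* ℂˣ) ^ k = 1 from MonoidHom.ext fun _ => by simp, hval _ hjk,
            hval _ hj, hl.gamma_indep W hjk hj]
        have hz0 : z ≠ 0 := by
          rintro rfl
          have e := hval l hj
          rw [hz, hΓ l hj g hgR.1, Int.cast_zero] at e
          have h2 : ((M : ℂ) * ψ g) = ((-1 / 2 : ℚ) : ℂ) := by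
            push_cast
            linear_combination -(1 / 2 : ℂ) * e
          have hint : IsIntegral ℤ ((M : ℂ) * ψ g) := (isIntegral_algebraMap (R := ℤ) (A := ℂ) (x := M)).mul
            (gen_isIntegral hψ g)
          rw [h2, show ((-1 / 2 : ℚ) : ℂ) = algebraMap ℚ ℂ (-1 / 2) from (eq_ratCast _ _).symm,
            isIntegral_algebraMap_iff (algebraMap ℚ ℂ).injective] at hint
          obtain ⟨k, hk⟩ := IsIntegrallyClosed.isIntegral_iff.1 hint
          have hk' : (2 : ℚ) * k = -1 := by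
            rw [show (k : ℚ) = algebraMap ℤ ℚ k from rfl, hk]
            norm_num
          have hk'' : 2 * k = -1 := by exact_mod_cast hk'
          omega
        rw [hz, Complex.norm_intCast]
        have : (1 : ℝ) ≤ |(z : ℝ)| := by exact_mod_cast Int.one_le_abs hz0
        nlinarith
    have hu : dens X (W.eta 1 l) + dens R (W.eta 1 l) ≤ 1 := by
      rw [← dens_union (s := X) (t := R) (fun g hg hgR => hgR (Or.inr hg)) (W.eta 1 l)]
      refine (dens_mono (Set.subset_univ _) _).trans (le_of_eq ?_)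
      rw [dens_univ, (W.signed 1 l).self, Complex.one_re]
    have hm := meas_compl (tildeL L ∪ X)
    rw [← hR] at hm
    linarith [meas_union_le (tildeL L) X]
  have hJc : (J.card : ℝ) = (r : ℝ) - 1 := by
    have e : ((J.card + 1 : ℕ) : ℝ) = (r : ℝ) := congrArg (Nat.cast (R := ℝ)) hl.card_layerJ
    push_cast at e
    linarith
  have hr3 : 3 ≤ r := by
    rcases Nat.lt_or_ge r 3 with h | h
    · exfalso
      have h2 : r = 2 := by have := hl.prime.two_le; omega
      obtain ⟨k, hk⟩ := hl.side.odd_card Z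
      have := hl.index
      rw [h2] at this
      omega
    · exact h
  have hsb := hl.shift_bound W (Y := fun _ => 0) ⟨fun _ => 1, fun _ => 1, irr_isCharacter isIrrCharacter_one,
    irr_isCharacter isIrrCharacter_one, by funext; simp⟩ 1 (by omega)
  simp only [Nat.cast_one, one_smul, one_pow, one_mul] at hsb
  have hsum : ∑ j ∈ J, dens X (W.eta 1 j + fun _ => 0) ≤ ((r : ℝ) - 1) * (meas (tildeL L) + meas X) := by
    rw [← hJc, ← nsmul_eq_mul, ← Finset.sum_const]
    refine Finset.sum_le_sum fun j hj => ?_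
    rw [show W.eta 1 j + (fun _ => 0) = W.eta 1 j from add_zero _]
    exact hbound j hj
  have hq : (0 : ℝ) < Nat.card K := Nat.cast_pos.2 Nat.card_pos
  have hr1 : (0 : ℝ) < (r : ℝ) - 1 := by
    have : (3 : ℝ) ≤ r := by exact_mod_cast hr3
    linarith
  have hmain := le_of_mul_le_mul_left (hsb.trans hsum) hr1
  rw [div_le_iff₀ hq] at hmain
  have hmT := mul_le_mul_of_nonneg_right hN.meas_tilde hq.le
  have hmX := mul_le_mul_of_nonneg_right hl.meas_layerX hq.le
  have e1 : 1 / (Nat.card E : ℝ) * Nat.card K = (Nat.card K : ℝ) / Nat.card E := one_div_mul_eq_div _ _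
  have e2 : (Nat.card ↥(layerC P U N) : ℝ) / ((Nat.card U : ℝ) * Nat.card K) * Nat.card K =
      (Nat.card ↥(layerC P U N) : ℝ) / Nat.card U := by
    field_simp
  rw [e1] at hmT
  rw [e2] at hmX
  rw [add_mul] at hmain
  linarith

/-- A layer with the facts of `FreeHyp` has trivial `C`. -/
theorem free_false (hN : Nbr S K U T L H E) (hl : IsLayer S K Z P U N r) (hF : FreeHyp S K P U N L)
    (W : Grid K Z) (hC : layerC P U N ≠ ⊥)
    (hsq : Nat.card K < Nat.card E → Nat.card ↥(layerC P U N) ^ 2 ≤ Nat.card H)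
    (hidx : Nat.card K < Nat.card E → 2 * (Nat.card E / Nat.card K) ≤ Nat.card ↥(layerC P U N) + 1) : False := by
  haveI : Fintype L := Fintype.ofFinite _
  set C := layerC P U N with hCdef
  have hs := hl.side
  have hG := hN.minSimple
  have hodd : ∀ A : Subgroup G, Odd (Nat.card A) := hs.odd_card
  obtain ⟨ζ, hζ, hζ1⟩ := hN.exists_zeta
  have hZ : Z ≤ sigmaCore S := hs.Z_le.trans hs.P_le
  obtain ⟨φ, hφ, horth⟩ := hN.exists_fam hZ W
  obtain ⟨j, hj⟩ := hl.exists_layerJ
  obtain ⟨S0, c, hc, hsq', hlin⟩ := hF.coord_sums hN hl hζ hζ1 hφ W hj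
  obtain ⟨hle, heq⟩ := hl.gamma_bessel W hj (famFin L H) φ (fun a ha => hφ.signed a (hN.mem_famFin.1 ha))
    (fun a ha b hb hab => hφ.orth a (hN.mem_famFin.1 ha) b (hN.mem_famFin.1 hb) hab)
    (fun a ha => horth a (hN.mem_famFin.1 ha)) c hc
  rw [hsq'] at hle heq
  unfold IsLayer.nu at hle heq
  rw [← hCdef] at hle heq hlin
  obtain ⟨g, hg⟩ := Subgroup.card_dvd_of_le hN.K_le
  obtain ⟨k, hk⟩ : Nat.card U ∣ Nat.card H := Subgroup.card_dvd_of_le hN.U_le
  have hcU : Nat.card C ≤ Nat.card U := Subgroup.card_le_of_le hl.C_le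
  have hc3 : 3 ≤ Nat.card C := by
    obtain ⟨a, ha⟩ := hodd C
    have : Nat.card C ≠ 1 := fun h => hC (Subgroup.card_eq_one.1 h)
    omega
  have hgodd : Odd g := (hodd E).of_dvd_nat ⟨_, by rw [hg, mul_comm]⟩
  set q : ℝ := (Nat.card K : ℝ) with hq
  set cc : ℝ := (Nat.card C : ℝ) with hcc
  set hh : ℝ := (Nat.card H : ℝ) with hhh
  set uu : ℝ := (Nat.card U : ℝ) with huu
  have hq0 : 0 < q := Nat.cast_pos.2 Nat.card_pos
  have hcc0 : 0 < cc := Nat.cast_pos.2 Nat.card_pos
  have hg0 : (0 : ℝ) < g := Nat.cast_pos.2 hgodd.pos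
  have heR : (Nat.card E : ℝ) = q * g := by rw [hg, Nat.cast_mul]
  rw [heR] at hle heq
  set f : ℝ := (S0 : ℝ) ^ 2 * ((hh - 1) / g) + 2 * S0 * (hh / cc - 1) + g * (hh / cc ^ 2 - 1) - (uu / cc ^ 2 - 1)
    with hfdef
  have hdiff : (S0 : ℝ) ^ 2 * ((hh - 1) / (q * g)) + 2 * S0 * ((hh / cc - 1) / q) +
      (q * g * hh / cc ^ 2 + (cc - 1) * (uu * q) / cc ^ 2 - q * g) / q ^ 2 - (uu / cc - 1) / q = f / q := by
    rw [hfdef]
    field_simp
    ring
  have hf : f ≤ 0 := by
    have : f / q ≤ 0 := by linarith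
    rwa [div_le_iff₀ hq0, zero_mul] at this
  rcases eq_or_ne g 1 with rfl | hg1
  · have hk3 : 3 ≤ k := by
      obtain ⟨a, ha⟩ := hodd H
      rcases k with _ | _ | _ | k
      · omega
      · exfalso
        have hUH : U = H := Subgroup.eq_of_le_of_card_ge hN.U_le (by omega)
        have hEK : K = E := Subgroup.eq_of_le_of_card_ge hN.K_le (by omega)
        refine hN.not_le fun x hx => ?_
        obtain ⟨a', ha', b', hb', rfl⟩ := hN.compl.2.2.2 x hx
        rw [← hUH] at hb'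
        rw [← hEK] at ha'
        exact S.mul_mem (hs.K_le ha') (hs.U_le hb')
      · omega
      · omega
    refine free_arith_one (h := hh) (c := cc) (u := uu) S0 (by rw [hcc]; exact_mod_cast hc3)
      (by rw [hcc, huu]; exact_mod_cast hcU) ?_ ?_
    · rw [huu, hhh, hk]
      push_cast
      have : (3 : ℝ) ≤ k := by exact_mod_cast hk3
      nlinarith [show (0 : ℝ) ≤ (Nat.card U : ℝ) from Nat.cast_nonneg _]
    · refine le_trans (le_of_eq ?_) hf
      rw [hfdef, Nat.cast_one, one_mul, div_one]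
  have hKE : Nat.card K < Nat.card E := by
    rw [hg]
    refine lt_mul_of_one_lt_right Nat.card_pos ?_
    have := hgodd.pos
    omega
  have hg3 : 3 ≤ g := by
    obtain ⟨a, ha⟩ := hgodd
    omega
  have hidx' : 2 * g ≤ Nat.card C + 1 := by
    have h := hidx hKE
    rwa [hg, Nat.mul_div_cancel_left _ Nat.card_pos] at h
  obtain ⟨hh', hu', hf0⟩ := free_arith_big (h := hh) (c := cc) (u := uu) (g := (g : ℝ)) S0
    (by rw [hcc]; exact_mod_cast (show 5 ≤ Nat.card C by omega)) (by exact_mod_cast hg3)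
    (by rw [hcc]; exact_mod_cast hidx') (by rw [hcc, hhh]; exact_mod_cast hsq hKE)
    (by rw [huu, hhh]; exact_mod_cast Subgroup.card_le_of_le hN.U_le) hf
  obtain ⟨-, hΓ⟩ := heq (by
    have : f / q = 0 := by rw [show f = 0 from hf0, zero_div]
    linarith)
  have hhN : Nat.card H = Nat.card C ^ 2 := by
    rw [hhh, hcc] at hh'
    exact_mod_cast hh'
  obtain ⟨a, ha, hae⟩ := exists_even_div (hodd H) (hodd E) hN.card_E_dvd
  obtain ⟨b, hb, hbe⟩ := exists_even_div (hodd C) (hodd K) hl.card_K_dvd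
  obtain ⟨a', rfl⟩ := ha
  obtain ⟨b', rfl⟩ := hb
  have hlin' : ∑ x ∈ famFin L H, (c x : ℂ) * (x 1 / (Nat.card E : ℂ)) = 2 * ((S0 * a' + b' : ℤ) : ℂ) := by
    have hE0 := hN.E_card_ne
    have hK0 : (Nat.card K : ℂ) ≠ 0 := Nat.cast_ne_zero.2 Nat.card_pos.ne'
    have hC0 : (Nat.card C : ℂ) ≠ 0 := Nat.cast_ne_zero.2 Nat.card_pos.ne'
    rw [hlin, show (Nat.card H : ℂ) / Nat.card C = Nat.card C by rw [hhN]; push_cast; field_simp, hae, hbe,
      mul_div_cancel_left₀ _ hE0, mul_div_cancel_left₀ _ hK0]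
    push_cast
    ring
  have hcount := free_count hN hl W (hφ.signed ζ hζ).gen (S0 * a' + b') fun l hl' x hx => by
    rw [hl.gamma_indep W hl' hj, congrFun hΓ x, Finset.sum_apply, ← hlin', Finset.sum_mul]
    refine Finset.sum_congr rfl fun y hy => ?_
    have hout := hN.outside hφ (hN.mem_famFin.1 hy) hζ hx
    rw [hζ1] at hout
    have hE0 := hN.E_card_ne
    simp only [Pi.smul_apply, smul_eq_mul]
    field_simp
    linear_combination -(c y : ℂ) * hout
  rw [← hCdef] at hcount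
  have hucc : uu = cc ^ 2 := hu'.trans hh'
  have hr3 : 3 ≤ r := by
    rcases Nat.lt_or_ge r 3 with h | h
    · exfalso
      have h2 : r = 2 := by have := hl.prime.two_le; omega
      obtain ⟨k, hk⟩ := hodd Z
      have := hl.index
      rw [h2] at this
      omega
    · exact h
  have hcase : 5 ≤ (r : ℝ) ∨ (5 ≤ q ∧ 11 ≤ cc) := by
    by_cases h5 : 5 ≤ r
    · exact Or.inl (by exact_mod_cast h5)
    right
    have hr : r = 3 := by
      have := hl.prime
      rcases eq_or_ne r 4 with rfl | h4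
      · norm_num at this
      · omega
    have hq5 : 5 ≤ Nat.card K := by
      have h3 := hs.three_le_K
      rcases eq_or_ne (Nat.card K) 3 with h | h
      · exfalso
        have hd : r ∣ Nat.card P := (Dvd.intro_left _ hl.index).trans (Subgroup.card_dvd_of_le hs.Z_le)
        have := Nat.eq_one_of_dvd_coprimes hs.coKP (show 3 ∣ Nat.card K from h ▸ dvd_rfl) (hr ▸ hd)
        omega
      · obtain ⟨a, ha⟩ := hodd K
        omega
    refine ⟨by rw [hq]; exact_mod_cast hq5, ?_⟩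
    obtain ⟨t, ht⟩ := hl.card_K_dvd
    obtain ⟨a, ha⟩ := hodd C
    obtain ⟨b, hb⟩ := hodd K
    rw [hcc]
    have : 11 ≤ Nat.card C := by
      rw [← hCdef] at ht
      rcases t with _ | _ | t
      · omega
      · omega
      · have : 2 * Nat.card K ≤ Nat.card K * (t + 1 + 1) := by nlinarith
        omega
    exact_mod_cast this
  refine free_numeric (g := (g : ℝ)) (c := cc) (ub := cc / (r : ℝ) ^ Nat.card K) (by exact_mod_cast hg3)
    (by exact_mod_cast hr3) hcase (by rw [hcc]; exact_mod_cast (show 5 ≤ Nat.card C by omega)) ?_ ?_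
  · refine hcount.trans (le_of_eq ?_)
    rw [← hcc, ← huu, ← hq, heR, hucc]
    have : (g : ℝ) ≠ 0 := hg0.ne'
    field_simp
  · have hb' := hl.orbit_bound
    rw [← hCdef, ← hcc, ← huu, hucc, show cc ^ 2 / cc = cc by field_simp] at hb'
    have hr1 : (0 : ℝ) < (r : ℝ) - 1 := by
      have : (3 : ℝ) ≤ r := by exact_mod_cast hr3
      linarith
    rw [div_le_div_iff₀ (pow_pos (by linarith) _) hr1]
    linarith

/-- A layer of a pair has trivial `C`. -/
theorem free_kernel (d : Kappa.Duo S K U T) (hl : IsLayer S K Z P U N r) : layerC P U N = ⊥ := by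
  by_contra hC
  obtain ⟨L, H, E, hN⟩ := exists_nbr d
  obtain ⟨W⟩ := exists_grid_side hl.side
  refine free_false hN hl ⟨fun c hc hc1 p hp => ?_, fun c hc hc1 => (layer_over d hl hN hc hc1).1,
    fun x hx c hc hc1 h => layer_ti d hl hN hx hc hc1 h⟩ W hC (layer_sq d hl hN) (layer_index d hl hN hC)
  have hp' : p ∈ P ⊓ Subgroup.centralizer ({c} : Set G) ⊔ N := (layer_sup_singleton hl hc).ge hp
  rw [← SetLike.mem_coe, Subgroup.coe_mul_of_left_le_normalizer_right _ _
    ((inf_le_left.trans hl.side.P_le_S).trans hl.norm)] at hp'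
  obtain ⟨d', hd, n, hn, rfl⟩ := hp'
  exact ⟨d', hd.1, Subgroup.mem_centralizer_singleton_iff.1 hd.2, by simpa using hn⟩

end Cfsg.Agent.OddFT
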