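import Cfsg.Agent.Lib.OddChar.FT.Defs
import Cfsg.Agent.Lib.OddChar.KappaExists
import Cfsg.Agent.Lib.OddLocal.KappaTypeData
import Cfsg.Agent.Lib.OddLocal.KappaNeighbour

/-!
The pair of maximal subgroups at the start of the final argument, and the grid of one side.
-/

set_option autoImplicit false
set_option linter.unusedSectionVars false
set_option linter.style.haveILetI false

namespace Cfsg.Agent.OddFT

open scoped commutatorElement
open Cfsg
open Cfsg.Agent.OddLocal Cfsg.Agent.OddLocal.Kappa Cfsg.Agent.OddLocal.Sig Cfsg.Agent.OddLocal.Uniq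

universe u

variable {G : Type u} [Group G] [Finite G] {S K U T Z P : Subgroup G}

/-- The side given by a pair. -/
theorem side_of_duo (d : Duo S K U T) :
    Side S K (sigmaCore S ⊓ Subgroup.centralizer (K : Set G)) (sigmaCore S) U := by
  have hG := d.minSimple
  have hS := d.coatom
  have hF := frame_of_decomp hG hS d.decomp d.K_ne
  have hn : S ≤ Subgroup.normalizer (sigmaCore S : Set G) := le_normalizer_piCoreOf
  have hUK : Nat.card ↥(U ⊔ K) = Nat.card U * Nat.card K := by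
    have h := Solv.card_sup_mul_card_inf' U K d.decomp.normal
    rwa [hF.inf, Subgroup.card_bot, mul_one] at h
  have hkσ : ∀ q : ℕ, q.Prime → q ∣ Nat.card K → q ∉ sigma S := fun q hq hd =>
    (d.decomp.hall.2.1 q hq hd).2.2.1
  refine ⟨hG, hS, ?_, selfNormalizing hG hS d.decomp d.K_ne, d.prime, le_rfl,
    core_nilpotent_of_U hG hS d.decomp d.U_ne, hn, Decomp.U_le d.decomp, Decomp.K_le d.decomp, d.decomp.normal,
    ?_, ?_, hF.abelian, d.U_ne, fun k hk hk1 u hu h => decomp_fpf hG hS d.decomp k hk hk1 u hu h.symm, rfl,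
    factor_fixed hG hS hF d.U_ne, ?_, ?_, ?_, ?_⟩
  · exact fun h => Set.eq_empty_iff_forall_notMem.1 h _ (d.decomp.hall.2.1 _ d.prime dvd_rfl)
  · intro s hs
    obtain ⟨e, he, c, hc, rfl⟩ := (Decomp.compl hG hS d.decomp).2.2.2 s hs
    obtain ⟨u, hu, k, hk, rfl⟩ := hF.mul e he
    have huk : u * k ∈ S := S.mul_mem (Decomp.U_le d.decomp hu) (Decomp.K_le d.decomp hk)
    exact ⟨u * k * c * (u * k)⁻¹, (Subgroup.mem_normalizer_iff.1 (hn huk) c).1 hc, u, hu, k, hk, by group⟩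
  · rw [← (compl_card (Decomp.compl hG hS d.decomp)).2, hUK]
    ring
  · have key := Solv.FrobFix.formula (sigmaCore S) U K
      (Solv.isSolvable_of_le (Subgroup.map_subtype_le _) (hG.2.2.2 S hS.1))
      ((sup_le (Decomp.U_le d.decomp) (Decomp.K_le d.decomp)).trans hn) d.decomp.normal
      (fun e he he1 u hu h => hF.fpf e he he1 u hu h.symm)
      (Nat.coprime_of_dvd fun q hq h1 h2 => compl_pi hG hS (Decomp.compl hG hS d.decomp) hq h2
        ((sigmaCore_hall hG hS).1.2.1 q hq h1))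
    have h1 : sigmaCore S ⊓ Subgroup.centralizer ((U ⊔ K : Subgroup G) : Set G) = ⊥ :=
      le_bot_iff.1 ((inf_le_inf_left _ (centralizer_le_of_le le_sup_left)).trans
        (factor_fixed hG hS hF d.U_ne).le)
    rw [h1, factor_fixed hG hS hF d.U_ne, Subgroup.card_bot] at key
    simpa using key
  · exact Nat.coprime_of_dvd fun q hq h1 h2 =>
      (Decomp.U_pi hG hS d.decomp hq h1).1 ((sigmaCore_hall hG hS).1.2.1 q hq h2)
  · exact Nat.coprime_of_dvd fun q hq h1 h2 => hkσ q hq h1 ((sigmaCore_hall hG hS).1.2.1 q hq h2)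
  · exact Nat.coprime_of_dvd fun q hq h1 h2 =>
      (Decomp.U_pi hG hS d.decomp hq h2).2 (d.decomp.hall.2.1 q hq h1)

/-- A pair exists, together with the factorisation of the partner. -/
theorem exists_duo_pair (hG : IsMinSimpleOddOrder G) :
    ∃ S K U T : Subgroup G, Duo S K U T ∧ ∃ UT : Subgroup G,
      IsSigmaDecomposition T (sigmaCore S ⊓ Subgroup.centralizer (K : Set G)) UT ∧
      (UT ≠ ⊥ → Duo T (sigmaCore S ⊓ Subgroup.centralizer (K : Set G)) UT S) := by
  obtain ⟨S, K, U, T, d⟩ : ∃ S K U T : Subgroup G, Duo S K U T := by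
    obtain ⟨M, hM, hκ⟩ := OddChar.exists_kappa hG
    obtain ⟨K, U, hKU⟩ := exists_full_decomp hG hM
    have hK1 := K_ne_bot_of_kappa hKU (Set.nonempty_iff_ne_empty.2 hκ)
    by_cases hU : U = ⊥
    · have hF := frame_of_decomp hG hM hKU hK1
      subst hU
      obtain ⟨A, KA, EA, UA, hA, hKA, hKA1, hFA, hUA, -⟩ := exists_partner_factor hG hM hKU.hall hF hK1
      obtain ⟨U', hU'⟩ := exists_decomp hG hA hKA (hall_cyclic hG hA hKA)
      refine ⟨A, KA, U', exists_duo hG hA hU' hKA1 fun h => ?_⟩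
      obtain ⟨q, hq, hqd⟩ := Nat.exists_prime_and_dvd fun h1 => hUA (Subgroup.card_eq_one.1 h1)
      obtain ⟨-, hqκ, hqσ⟩ := hFA.hall.2.1 q hq hqd
      have h1 := (compl_card (Decomp.compl hG hA hU')).2
      rw [h, bot_sup_eq] at h1
      rcases hq.dvd_mul.1 (h1 ▸ hqd.trans (Subgroup.card_dvd_of_le hFA.hall.1)) with h2 | h2
      · exact hqκ (hKA.2.1 q hq h2)
      · exact hqσ ((sigmaCore_hall hG hA).1.2.1 q hq h2)
    · exact ⟨M, K, U, exists_duo hG hM hKU hK1 hU⟩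
  obtain ⟨UT, hUT⟩ := exists_decomp hG d.coatomN d.hallN (hall_cyclic hG d.coatomN d.hallN)
  refine ⟨S, K, U, T, d, UT, hUT, fun h => ⟨hG, d.coatomN, hUT, d.star_ne, h, d.coatom, ?_, ?_⟩⟩
  · rw [coe_meet, ← d.K_eq']
  · rw [← d.K_eq']
    exact d.decomp.hall

/-- Each side carries a grid. -/
theorem exists_grid_side [Fintype G] (h : Side S K Z P U) : Nonempty (Grid K Z) :=
  exists_grid h.sn (odd_subgroup h.minSimple _)

/-- A finite nilpotent group has a normal subgroup of index `r` for each prime `r` dividing its order. -/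
theorem exists_index_of_nilpotent {Y : Type u} [Group Y] [Finite Y] [Group.IsNilpotent Y] {r : ℕ} (hr : r.Prime)
    (hrd : r ∣ Nat.card Y) : ∃ M : Subgroup Y, M.Normal ∧ M.index = r := by
  haveI := Fact.mk hr
  obtain ⟨R⟩ : Nonempty (Sylow r Y) := inferInstance
  haveI : (R : Subgroup Y).Normal := R.normal_of_normalizerCondition Group.normalizerCondition_of_isNilpotent
  obtain ⟨W, hW⟩ := Subgroup.exists_right_complement'_of_coprime R.card_coprime_index
  have hWi : W.index = Nat.card (R : Subgroup Y) := hW.index_eq_card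
  have hW1 : W ≠ ⊤ := fun h => by
    rw [h, Subgroup.index_top] at hWi
    exact hr.ne_one (Nat.dvd_one.1 (hWi ▸ R.dvd_card_of_dvd_card hrd))
  obtain ⟨M, hM, hWM⟩ := (eq_top_or_exists_le_coatom W).resolve_left hW1
  haveI : M.Normal := Subgroup.NormalizerCondition.normal_of_coatom M Group.normalizerCondition_of_isNilpotent hM
  obtain ⟨j, hj⟩ := IsPGroup.iff_card.1 R.isPGroup'
  obtain ⟨i, -, hi⟩ := (Nat.dvd_prime_pow hr).1 (hj ▸ hWi ▸ Subgroup.index_dvd_of_le hWM)
  have hi0 : i ≠ 0 := fun h => hM.1 (Subgroup.index_eq_one.1 (by rw [hi, h, pow_zero]))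
  obtain ⟨x, hx⟩ := exists_prime_orderOf_dvd_card' (G := Y ⧸ M) r
    (by rw [← Subgroup.index_eq_card, hi]; exact dvd_pow_self r hi0)
  refine ⟨M, inferInstance, ?_⟩
  obtain h | h := hM.le_iff.1 (show M ≤ (Subgroup.zpowers x).comap (QuotientGroup.mk' M) from fun y hy => by
    simp [(QuotientGroup.eq_one_iff y).2 hy])
  · have h' : Subgroup.zpowers x = ⊤ := by
      rw [← Subgroup.map_comap_eq_self_of_surjective (QuotientGroup.mk'_surjective M) (Subgroup.zpowers x), h,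
        ← MonoidHom.range_eq_map, MonoidHom.range_eq_top.2 (QuotientGroup.mk'_surjective M)]
    rw [Subgroup.index_eq_card, ← Subgroup.card_top (G := Y ⧸ M), ← h', Nat.card_zpowers, hx]
  · have h' : Subgroup.zpowers x = ⊥ := by
      rw [← Subgroup.map_comap_eq_self_of_surjective (QuotientGroup.mk'_surjective M) (Subgroup.zpowers x), h,
        QuotientGroup.map_mk'_self]
    exact absurd (hx.symm.trans (orderOf_eq_one_iff.2 (Subgroup.zpowers_eq_bot.1 h'))) hr.ne_one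

theorem Side.P_le_S (h : Side S K Z P U) : P ≤ S := h.P_le.trans (Subgroup.map_subtype_le _)

theorem Side.Z_le (h : Side S K Z P U) : Z ≤ P := h.fix.ge.trans inf_le_left

/-- For each prime divisor of `|Z|` there is a layer. -/
theorem exists_layer (h : Side S K Z P U) {r : ℕ} (hr : r.Prime) (hrw : r ∣ Nat.card Z) :
    ∃ N : Subgroup G, IsLayer S K Z P U N r ∧ Nat.card P = Nat.card N * r ^ Nat.card K ∧
      (Nat.card Z = r → N = ⊥) := by
  set X : Set G := {x | (∃ a ∈ P, x = a ^ r) ∨ ∃ a ∈ P, ∃ b ∈ P, x = a * b * a⁻¹ * b⁻¹} with hX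
  obtain ⟨N, hN⟩ : ∃ N : Subgroup G, N = Subgroup.closure X := ⟨_, rfl⟩
  have hpow : ∀ a ∈ P, a ^ r ∈ N := fun a ha => hN ▸ Subgroup.subset_closure (Or.inl ⟨a, ha, rfl⟩)
  have hcomm : ∀ a ∈ P, ∀ b ∈ P, a * b * a⁻¹ * b⁻¹ ∈ N := fun a ha b hb =>
    hN ▸ Subgroup.subset_closure (Or.inr ⟨a, ha, b, hb, rfl⟩)
  have hle : N ≤ P := by
    rw [hN, Subgroup.closure_le]
    rintro x (⟨a, ha, rfl⟩ | ⟨a, ha, b, hb, rfl⟩)
    · exact P.pow_mem ha r
    · exact P.mul_mem (P.mul_mem (P.mul_mem ha hb) (P.inv_mem ha)) (P.inv_mem hb)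
  have hnorm : S ≤ Subgroup.normalizer (N : Set G) := fun s hs => by
    refine Fusion.mem_normalizer_of_cj_le ?_
    show N.map (MulAut.conj s).toMonoidHom ≤ N
    rw [hN, MonoidHom.map_closure]
    refine Subgroup.closure_mono ?_
    have hc : ∀ a ∈ P, s * a * s⁻¹ ∈ P := fun a ha => (Subgroup.mem_normalizer_iff.1 (h.P_norm hs) a).1 ha
    rintro _ ⟨x, (⟨a, ha, rfl⟩ | ⟨a, ha, b, hb, rfl⟩), rfl⟩
    · exact Or.inl ⟨_, hc a ha, map_pow (MulAut.conj s).toMonoidHom a r⟩
    · exact Or.inr ⟨_, hc a ha, _, hc b hb, by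
        show s * (a * b * a⁻¹ * b⁻¹) * s⁻¹ = _
        group⟩
  have hUK : U ⊔ K ≤ S := sup_le h.U_le h.K_le
  have key := Solv.FrobFix.formula N U K
    (Solv.isSolvable_of_le (hle.trans h.P_le_S) (h.minSimple.2.2.2 S h.coatom.1)) (hUK.trans hnorm) h.U_norm h.fpf
    (by
      have hd : Nat.card ↥(U ⊔ K) ∣ Nat.card U * Nat.card K :=
        ⟨_, (Solv.card_sup_mul_card_inf' U K h.U_norm).symm⟩
      exact ((Nat.Coprime.mul_left h.coUP h.coKP).coprime_dvd_left hd).symm.coprime_dvd_left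
        (Subgroup.card_dvd_of_le hle))
  have h1 : N ⊓ Subgroup.centralizer ((U ⊔ K : Subgroup G) : Set G) = ⊥ :=
    le_bot_iff.1 ((inf_le_inf hle (centralizer_le_of_le le_sup_left)).trans h.fixU.le)
  have h2 : N ⊓ Subgroup.centralizer (K : Set G) = Z ⊓ N := by
    rw [← h.fix, inf_right_comm, inf_eq_right.2 hle]
  have h3 : N ⊓ Subgroup.centralizer (U : Set G) = ⊥ :=
    le_bot_iff.1 ((inf_le_inf_right _ hle).trans h.fixU.le)
  rw [h1, h2, h3, Subgroup.card_bot, one_pow, one_mul, mul_one] at key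
  have hne : N ≠ P := fun he => by
    haveI := h.P_nil
    obtain ⟨M, hM, hMi⟩ := exists_index_of_nilpotent (Y := ↥P) hr
      (hrw.trans (Subgroup.card_dvd_of_le h.Z_le))
    haveI := Fact.mk hr
    have hQ : Nat.card (↥P ⧸ M) = r := by rw [← Subgroup.index_eq_card, hMi]
    have hc := (isCyclic_of_prime_card hQ)
    refine hr.ne_one (hMi.symm.trans (Subgroup.index_eq_one.2 (eq_top_iff.2 fun a _ => ?_)))
    suffices N ≤ M.map P.subtype by
      obtain ⟨b, hb, hba⟩ := this (he.ge a.2)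
      exact Subtype.ext hba ▸ hb
    rw [hN, Subgroup.closure_le]
    rintro x (⟨a, ha, rfl⟩ | ⟨a, ha, b, hb, rfl⟩)
    · refine ⟨⟨a, ha⟩ ^ r, (QuotientGroup.eq_one_iff _).1 ?_, rfl⟩
      rw [QuotientGroup.mk_pow, ← hQ, pow_card_eq_one']
    · refine ⟨⟨a, ha⟩ * ⟨b, hb⟩ * ⟨a, ha⟩⁻¹ * ⟨b, hb⟩⁻¹, (QuotientGroup.eq_one_iff _).1 ?_, rfl⟩
      letI := hc.commGroup
      rw [QuotientGroup.mk_mul, QuotientGroup.mk_mul, QuotientGroup.mk_mul, QuotientGroup.mk_inv, QuotientGroup.mk_inv]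
      rw [mul_comm (QuotientGroup.mk ⟨a, ha⟩ : ↥P ⧸ M) (QuotientGroup.mk ⟨b, hb⟩), mul_inv_cancel_right, mul_inv_cancel]
  have hZN : ¬ Z ≤ N := fun hle' => hne <| by
    rw [inf_eq_left.2 hle', ← h.card_P] at key
    exact Subgroup.eq_of_le_of_card_ge hle key.ge
  have hcyc : IsCyclic ↥Z := by
    haveI := h.sn.2.2.2.2.1
    exact isCyclic_of_injective (Subgroup.inclusion (le_sup_right : Z ≤ K ⊔ Z)) (Subgroup.inclusion_injective _)
  obtain ⟨⟨z, hz⟩, hgen⟩ := hcyc.exists_generator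
  have hZz : Z = Subgroup.zpowers z := le_antisymm (fun y hy => by
    obtain ⟨n, hn⟩ := hgen ⟨y, hy⟩
    exact ⟨n, congrArg Subtype.val hn⟩) (Subgroup.zpowers_le.2 hz)
  have hw : Nat.card Z = orderOf z := by rw [hZz, Nat.card_zpowers]
  obtain ⟨m, hm⟩ := hrw
  have hm0 : m ≠ 0 := fun h0 => (Nat.card_pos (α := Z)).ne' (by rw [hm, h0, mul_zero])
  have ho : orderOf (z ^ r) = m := by
    rw [orderOf_pow_of_dvd hr.ne_zero (hw ▸ hm ▸ dvd_mul_right r m), ← hw, hm,
      Nat.mul_div_cancel_left _ hr.pos]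
  have hd1 : m ∣ Nat.card ↥(Z ⊓ N) := by
    rw [← ho]
    exact Subgroup.orderOf_dvd_natCard _ ⟨Z.pow_mem hz r, hpow z (h.Z_le hz)⟩
  obtain ⟨j, hj⟩ := hd1
  have hd2 : m * j ∣ m * r := by
    rw [← hj, mul_comm m r, ← hm]
    exact Subgroup.card_dvd_of_le inf_le_left
  have hj1 : j = 1 := ((Nat.dvd_prime hr).1 (Nat.dvd_of_mul_dvd_mul_left (Nat.pos_of_ne_zero hm0) hd2)).resolve_right
    fun hjr => hZN (inf_eq_left.1 (Subgroup.eq_of_le_of_card_ge inf_le_left (by rw [hj, hjr, hm, mul_comm])))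
  rw [hj1, mul_one] at hj
  refine ⟨N, ⟨h, hr, hle, hnorm, by rw [hj, hm, mul_comm], hpow, hcomm⟩, ?_, fun he => ?_⟩
  · rw [h.card_P, key, hj, hm, mul_pow, mul_comm]
  · have : m = 1 := by
      rw [hm] at he
      exact (mul_right_eq_self₀.1 he).resolve_right hr.ne_zero
    rw [hj, this, one_pow] at key
    exact Subgroup.card_eq_one.1 key

end Cfsg.Agent.OddFT
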