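import Cfsg.Agent.Lib.OddChar.FT.TailExact
import Cfsg.Agent.Lib.Char.CoherenceDescent

/-!
The exact case: further vanishing of coefficients, and the conclusion drawn for `T`.
-/

set_option autoImplicit false
set_option linter.unusedSectionVars false
set_option linter.unusedVariables false
set_option linter.style.haveILetI false

open Cfsg Cfsg.Agent.Char Cfsg.Agent.OddChar
open scoped ComplexConjugate commutatorElement

namespace Cfsg.Agent.OddFT

universe u

open Classical in
/-- Summing a character over a normal subgroup. -/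
theorem sum_normal_subgroup {A : Type u} [Group A] [Fintype A] (J : Subgroup A) [J.Normal]
    (θ : IrrCharacter A) : ∑ x : A with x ∈ J, (θ : A → ℂ) x =
      if ∀ x ∈ J, (θ : A → ℂ) x = (θ : A → ℂ) 1 then (Nat.card J : ℂ) * (θ : A → ℂ) 1 else 0 := by
  haveI : Fintype J := Fintype.ofFinite J
  have hcard : (Finset.univ.filter fun x : A => x ∈ J).card = Nat.card J := by
    rw [Nat.card_eq_fintype_card, Fintype.card_subtype]
  split_ifs with h
  · rw [Finset.sum_congr rfl fun x hx => h x (Finset.mem_filter.1 hx).2, Finset.sum_const, nsmul_eq_mul, hcard]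
  obtain ⟨S, hS, hsum⟩ := sum_sq_kernel_contains J
  set f := indFun J (fun _ => (1 : ℂ)) with hf
  set g : A → ℂ := ∑ ξ ∈ S, (deg (ξ : A → ℂ) : ℂ) • (ξ : A → ℂ) with hg
  have hfin : ∀ ξ ∈ S, classInner f (ξ : A → ℂ) = deg (ξ : A → ℂ) := fun ξ hξ => by
    rw [hf, frobenius J _ (isClassFunction_character (irr_isCharacter ξ.2)), classInner,
      Finset.sum_congr rfl fun x _ => by rw [(hS ξ).1 hξ x x.2, char_one_eq_deg (irr_isCharacter ξ.2), one_mul,
        Complex.conj_natCast], Finset.sum_const, Finset.card_univ, nsmul_eq_mul, ← Nat.card_eq_fintype_card,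
      ← mul_assoc, inv_mul_cancel₀ (Nat.cast_ne_zero.2 Nat.card_pos.ne'), one_mul]
  have hff : classInner f f = (J.index : ℂ) := by
    rw [hf, norm_indFun_invariant J isIrrCharacter_one fun _ _ => rfl]
  have hfg : classInner f g = (J.index : ℂ) := by
    rw [hg, classInner_sum_right, ← hsum, Nat.cast_sum]
    exact Finset.sum_congr rfl fun ξ hξ => by
      rw [classInner_smul_right, Complex.conj_natCast, hfin ξ hξ]; push_cast; ring
  have hgξ : ∀ ξ : IrrCharacter A, classInner g (ξ : A → ℂ) = if ξ ∈ S then (deg (ξ : A → ℂ) : ℂ) else 0 := by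
    intro ξ
    rw [hg, classInner_sum_left, Finset.sum_congr rfl (g := fun η => if η = ξ then (deg (η : A → ℂ) : ℂ) else 0)
      fun η _ => by
        rw [classInner_smul_left, irrC_orth]
        split_ifs <;> ring, Finset.sum_ite_eq']
  have hgg : classInner g g = (J.index : ℂ) := by
    conv_lhs => arg 2; rw [hg]
    rw [classInner_sum_right, ← hsum, Nat.cast_sum]
    exact Finset.sum_congr rfl fun ξ hξ => by
      rw [classInner_smul_right, Complex.conj_natCast, hgξ, if_pos hξ]; push_cast; ring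
  have heq : f = g := sub_eq_zero.1 (classInner_self_eq_zero (by
    rw [classInner_sub_left, classInner_sub_right, classInner_sub_right, hff, hfg, hgg,
      ← classInner_symm f g, hfg, Complex.conj_natCast, sub_self]))
  have h0 : classInner f (θ : A → ℂ) = 0 := by
    rw [heq, hgξ, if_neg fun hθ => h ((hS θ).1 hθ)]
  rw [hf, frobenius J _ (isClassFunction_character (irr_isCharacter θ.2)), classInner,
    mul_eq_zero, inv_eq_zero] at h0
  have h1 := congrArg conj (h0.resolve_left (Nat.cast_ne_zero.2 Nat.card_pos.ne'))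
  rw [map_zero, map_sum] at h1
  simp only [one_mul, Complex.conj_conj] at h1
  rw [← h1, Finset.sum_subtype (p := fun x : A => x ∈ J) (Finset.univ.filter fun x : A => x ∈ J)
    (fun x => by simp) (θ : A → ℂ)]

variable {G : Type u} [Group G] [Fintype G] {T Z K H : Subgroup G} [Fintype T]
  [Fintype ↥(H.subgroupOf T)] [(H.subgroupOf T).Normal]

open Classical in
/-- The conclusion drawn from the subgroup `T`. -/
def TailConcl (E : Grid K Z) (H : Subgroup G) : Prop :=
  ∃ ψ : G → ℂ, IsSigned G ψ ∧ (∀ i j, classInner ψ (E.eta i j) = 0) ∧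
    (∀ g, g ∉ conjSet ((H : Set G) \ {1}) → ψ g = 1 + ∑ j ∈ Finset.univ.erase 1, E.eta 1 j g) ∧
    1 - (Nat.card Z : ℝ) / (Nat.card K * (2 * Nat.card Z + 1)) ≤ dens (conjSet ((H : Set G) \ {1})) ψ

namespace TData

variable (C : TData T Z K H)
include C

theorem kk_theta_zero (hc : C.c = 0) (hk : C.k = 0) {i : ↥K →* ℂˣ} (hi : i ≠ 1) :
    C.kk (C.M.theta C.tail i) = 0 := by
  have h := C.wk_eq hi
  rw [hc, hk] at h
  rcases C.M.sgn_cases C.i₀ with he | he <;> simp only [e, he] at h <;> linarith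

theorem g_hat (θ : IrrCharacter ↥(H.subgroupOf T)) :
    ∀ a ∈ K, ∀ b ∈ Z, a ≠ 1 → b ≠ 1 → indFun T (C.g θ) (a * b) = 0 := by
  intro a ha b hb ha1 hb1
  rw [show a * b = ((⟨a * b, T.mul_mem (C.tail.K_le ha) (C.tail.Z_le hb)⟩ : T) : G) from rfl,
    C.tail.isTI.ind_apply (C.g_class _) (C.g_supp _) (hat_sigma C.M C.E C.tail ha hb ha1),
    C.g_vanish _ (C.tail.hat_notMem ha hb hb1)]

theorem ind_theta_inner (i i' : ↥K →* ℂˣ) (j' : ↥Z →* ℂˣ) [Decidable (i = i')] :
    classInner (C.ind (C.M.theta C.tail i)) (C.M.mu i' j') = if i = i' then 1 else 0 := by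
  rw [ind, C.M.ind_theta C.tail, C.M.sum_mu_inner C.tail]

open Classical in
/-- The shape of `τ g` at an invariant character in the exact case. -/
theorem g_theta_exact (hc : C.c = 0) (hk : C.k = 0) {i : ↥K →* ℂˣ} (hi : i ≠ 1) :
    indFun T (C.g (C.M.theta C.tail i)) =
      (C.e : ℂ) • ∑ l, C.E.eta i l - (C.d : ℂ) • C.φ C.ζ := by
  set θ := C.M.theta C.tail i with hθ
  have hnl : C.NonLin θ := C.nonLin_theta i
  have hd : deg (θ : ↥(H.subgroupOf T) → ℂ) = C.d := C.deg_theta hi
  have hkθ : C.kk θ = 0 := C.kk_theta_zero hc hk hi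
  set X := indFun T (C.g θ) with hX
  have hXg : IsGeneralizedCharacter G X := C.tau_gen (C.g_gen θ)
  set z : (↥K →* ℂˣ) → (↥Z →* ℂˣ) → ℤ := fun k l => icoef X (C.E.eta k l) with hzdef
  have hz : ∀ k l, classInner X (C.E.eta k l) = (z k l : ℂ) := fun k l => icoef_spec hXg (C.E.eta_gen k l)
  have hphi : ∀ a ∈ linFam T H, classInner X (C.φ a) = ((if a = C.ζ then -(C.d : ℤ) else 0 : ℤ) : ℂ) :=
    fun a ha => by rw [hX, C.g_inner hnl ha, hkθ, hd]; split_ifs <;> simp
  have hX1 : classInner X (fun _ => 1) = 0 := by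
    rw [hX, IsTI.inner_one C.tail.isTI, g, classInner_sub_left, classInner_smul_left, ← C.M.mu_one_one C.tail,
      C.ind_theta_inner, if_neg hi, C.lin_mu C.mem, mul_zero, sub_zero]
  have h11 : z 1 1 = 0 := by
    have h := hz 1 1
    rw [C.E.one, hX1] at h
    exact_mod_cast h.symm
  have hcol : ∀ i', i' ≠ 1 → z i' 1 = C.e * if i = i' then 1 else 0 := by
    intro i' hi'
    have e1 : classInner X (indFun T (C.F i')) =
        -(C.e : ℂ) * (if i = i' then 1 else 0) - (C.d : ℂ) * C.cF := by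
      rw [hX, C.iso (C.g_supp θ) (C.F_class i') (C.F_supp hi')]
      have a1 : classInner (C.ind θ) (fun _ => (1 : ℂ)) = 0 := by
        rw [← C.M.mu_one_one C.tail, C.ind_theta_inner, if_neg hi]
      simp only [g, F, classInner_sub_left, classInner_smul_left, classInner_add_right, classInner_sub_right,
        classInner_smul_right, map_intCast, a1, hθ, C.ind_theta_inner, C.ind_lin_inner hnl C.mem,
        C.ind_lin_inner hnl C.conj_mem, C.lin_mu C.mem, C.lin_orth C.mem C.mem, C.lin_orth C.mem C.conj_mem,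
        if_neg C.conj_ne.symm,
        show classInner C.ζ (fun _ => (1 : ℂ)) = 0 by rw [← classInner_symm, C.one_lin C.mem, map_zero]]
      rw [← hθ, hd]
      simp only [a1, C.ind_lin_inner hnl C.mem, C.ind_lin_inner hnl C.conj_mem]
      simp
      split_ifs <;> ring
    rw [C.F_exact hk hi', classInner_add_right, classInner_sub_right, classInner_smul_right,
      classInner_add_right, hX1, hz, hphi _ C.mem, hphi _ C.conj_mem, if_pos rfl, if_neg C.conj_ne,
      map_intCast] at e1
    push_cast at e1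
    have : (z i' 1 : ℂ) = ((C.e * if i = i' then 1 else 0 : ℤ) : ℂ) := by
      push_cast; split_ifs at e1 ⊢ <;> push_cast <;> linear_combination -e1
    exact_mod_cast this
  have hadd : ∀ k l, z k l = z k 1 + z 1 l := by
    intro k l
    have h := C.E.rect X (isClassFunction_indFun T _) (C.g_hat θ) k l
    rw [hz, hz, hz, hz, h11] at h
    push_cast at h
    exact_mod_cast (by linear_combination h : (z k l : ℂ) = (z k 1 : ℂ) + z 1 l)
  have hsum : ∑ l ∈ Finset.univ.erase 1, z 1 l = 0 := by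
    have e1 : classInner X (indFun T (C.g C.one)) = (C.d : ℂ) := by
      rw [hX, C.g_g_inner hnl C.nonLin_one, hd, C.deg_one, ← C.theta_one_eq]
      conv_lhs => arg 1; arg 2; rw [ind, C.M.ind_theta C.tail 1]
      rw [classInner_sum_right, Finset.sum_eq_zero fun j _ => by rw [C.ind_theta_inner, if_neg hi]]
      simp
    rw [(C.beta_exact hc hk).2, classInner_add_right, classInner_sub_right, classInner_sum_right, hX1,
      hphi _ C.mem, if_pos rfl, Finset.sum_congr rfl fun l _ => hz 1 l] at e1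
    push_cast at e1
    have : ((∑ l ∈ Finset.univ.erase 1, z 1 l : ℤ) : ℂ) = 0 := by push_cast; linear_combination e1
    exact_mod_cast this
  have hsumall : ∑ l, z 1 l = 0 := by
    rw [← Finset.add_sum_erase _ _ (Finset.mem_univ (1 : ↥Z →* ℂˣ)), h11, hsum, add_zero]
  have hN : classInner X X = (((Nat.card Z : ℤ) + (C.d : ℤ) ^ 2 : ℤ) : ℂ) := by
    rw [hX, C.g_g_inner hnl hnl, hd]
    have : classInner (C.ind θ) (C.ind θ) = (Nat.card Z : ℂ) := by
      conv_lhs => arg 2; rw [ind, hθ, C.M.ind_theta C.tail]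
      rw [classInner_sum_right, Finset.sum_congr rfl fun j _ => by rw [hθ, C.ind_theta_inner, if_pos rfl]]
      simp [C.E.card_right]
    rw [this]; push_cast; ring
  have hb := grid_bessel C.E (linFam T H) C.φ C.fam.signed C.fam.orth C.fam.eta hXg hz _ hphi hN
  have hzz : ∑ k, ∑ l, z k l ^ 2 = (Nat.card Z : ℤ) + (Nat.card K : ℤ) * ∑ l, z 1 l ^ 2 := by
    rw [Finset.sum_comm, Finset.sum_congr rfl (g := fun l => (C.e + z 1 l) ^ 2 + ((Nat.card K : ℤ) - 1) * z 1 l ^ 2)
      fun l _ => ?_]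
    · rw [Finset.sum_add_distrib, Finset.sum_congr rfl (g := fun l => 1 + 2 * C.e * z 1 l + z 1 l ^ 2)
        (fun l _ => by rcases C.M.sgn_cases C.i₀ with he | he <;> simp only [e, he] <;> ring),
        Finset.sum_add_distrib, Finset.sum_add_distrib, ← Finset.mul_sum, ← Finset.mul_sum, hsumall,
        Finset.sum_const, nsmul_one, Finset.card_univ, C.E.card_right]
      ring
    · rw [Finset.sum_congr rfl (g := fun k => if k = i then (C.e + z 1 l) ^ 2 else z 1 l ^ 2) fun k _ => ?_,
        sum_col, C.E.card_left]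
      split_ifs with h
      · rw [hadd k l, hcol k (h ▸ hi), if_pos h.symm, mul_one]
      · by_cases h1 : k = 1
        · rw [h1]
        · rw [hadd k l, hcol k h1, if_neg (Ne.symm h), mul_zero, zero_add]
  have hsq : ∑ a ∈ linFam T H, (if a = C.ζ then -(C.d : ℤ) else 0) ^ 2 = (C.d : ℤ) ^ 2 := by
    rw [Finset.sum_congr rfl (g := fun a => if a = C.ζ then (C.d : ℤ) ^ 2 else 0) fun a _ => by
      split_ifs <;> ring, Finset.sum_ite_eq', if_pos C.mem]
  rw [hzz, hsq] at hb
  have hv0 : ∑ l, z 1 l ^ 2 = 0 := by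
    have h0 : (0 : ℤ) ≤ ∑ l, z 1 l ^ 2 := Finset.sum_nonneg fun l _ => sq_nonneg _
    have hq : (3 : ℤ) ≤ Nat.card K := by exact_mod_cast C.tail.three_le_card K C.tail.K_ne
    nlinarith [hb.1]
  have hv : ∀ l, z 1 l = 0 := fun l => sq_eq_zero_iff.1
    ((Finset.sum_eq_zero_iff_of_nonneg fun l _ => sq_nonneg _).1 hv0 l (Finset.mem_univ l))
  rw [hb.2 (by rw [hv0, mul_zero, add_zero]),
    Finset.sum_congr rfl (g := fun k => if k = i then (C.e : ℂ) • ∑ l, C.E.eta i l else 0) fun k _ => ?_,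
    Finset.sum_ite_eq', if_pos (Finset.mem_univ _),
    Finset.sum_congr rfl (g := fun a => if a = C.ζ then -((C.d : ℂ) • C.φ a) else 0) fun a _ => ?_,
    Finset.sum_ite_eq', if_pos C.mem, ← sub_eq_add_neg]
  · split_ifs <;> simp
  · split_ifs with h
    · subst h
      rw [Finset.smul_sum]
      exact Finset.sum_congr rfl fun l _ => by rw [hadd, hcol k hi, hv, if_pos rfl, mul_one, add_zero]
    · refine Finset.sum_eq_zero fun l _ => ?_
      by_cases h1 : k = 1
      · rw [h1, hv]; simp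
      · rw [hadd, hcol k h1, hv, if_neg (Ne.symm h)]; simp

/-- In the exact case the coefficients of moved characters of large degree vanish. -/
theorem kk_moved_zero (hc : C.c = 0) (hk : C.k = 0) {θ : IrrCharacter ↥(H.subgroupOf T)} (hθ : C.NonLin θ)
    (hm : IsIrrCharacter T (C.ind θ))
    (hbig : Nat.card Z * (2 * deg (θ : ↥(H.subgroupOf T) → ℂ) + 1) < (Nat.card K - 1) * C.d ^ 2) :
    C.kk θ = 0 := by
  classical
  by_contra hne
  set X := indFun T (C.g θ) with hX
  set z : (↥K →* ℂˣ) → (↥Z →* ℂˣ) → ℤ := fun k l => icoef X (C.E.eta k l)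
  have hz : ∀ k l, classInner X (C.E.eta k l) = (z k l : ℂ) := fun k l =>
    icoef_spec (C.tau_gen (C.g_gen θ)) (C.E.eta_gen k l)
  set D := (deg (θ : ↥(H.subgroupOf T) → ℂ) : ℤ) with hD
  have hN : classInner X X = ((1 + D ^ 2 : ℤ) : ℂ) := by
    rw [hX, C.g_g_inner hθ hθ, irr_self hm, hD]; push_cast; ring
  have hb := (grid_bessel C.E (linFam T H) C.φ C.fam.signed C.fam.orth C.fam.eta (C.tau_gen (C.g_gen θ)) hz _
    (fun a ha => C.g_inner hθ ha) hN).1
  rw [sum_sq_single (linFam T H) C.mem, ← hD] at hb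
  have hrow : ∀ i, i ≠ 1 → (C.kk θ * C.d) ^ 2 ≤ (Nat.card Z : ℤ) * ∑ l, z i l ^ 2 := by
    intro i hi
    have e1 : classInner X (indFun T (C.g (C.M.theta C.tail i))) = ((D * C.d : ℤ) : ℂ) := by
      rw [hX, C.g_g_inner hθ (C.nonLin_theta i), C.deg_theta hi, ind, ind, C.M.ind_theta C.tail,
        classInner_sum_right, Finset.sum_eq_zero fun j _ => ?_, hD]
      · push_cast; ring
      · rw [irr_orth hm (C.M.irr i j), if_neg]
        intro h
        obtain ⟨x, hx, -⟩ := Mu.exists_z C.tail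
        have h1 := C.M.val i j 1 x (Mu.hatT C.tail 1 x) hx rfl
        rw [← h, C.ind_vanish θ (C.tail.hat_notMem (one_mem K) x.2 fun e => hx (Subtype.ext e))] at h1
        simp [C.M.sgn_ne C.tail i] at h1
    rw [C.g_theta_exact hc hk hi, classInner_sub_right, classInner_smul_right, classInner_smul_right,
      classInner_sum_right, Finset.sum_congr rfl fun l _ => hz i l, hX, C.g_inner hθ C.mem, if_pos rfl,
      map_intCast, Complex.conj_natCast, ← hD] at e1
    have e2 : C.e * ∑ l, z i l = C.kk θ * C.d := by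
      have : ((C.e * ∑ l, z i l : ℤ) : ℂ) = ((C.kk θ * C.d : ℤ) : ℂ) := by
        push_cast at e1 ⊢; linear_combination e1
      exact_mod_cast this
    have e3 : (C.kk θ * C.d) ^ 2 = (∑ l, z i l) ^ 2 := by
      rw [← e2]
      rcases C.M.sgn_cases C.i₀ with he | he <;> simp only [e, he] <;> ring
    rw [e3]
    have := sq_sum_le_card_mul_sum_sq (s := (Finset.univ : Finset (↥Z →* ℂˣ))) (f := fun l => z i l)
    rwa [Finset.card_univ, C.E.card_right] at this
  have hall : ((Nat.card K : ℤ) - 1) * (C.kk θ * C.d) ^ 2 ≤ (Nat.card Z : ℤ) * ∑ k, ∑ l, z k l ^ 2 := by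
    have h := Finset.card_nsmul_le_sum (Finset.univ.erase (1 : ↥K →* ℂˣ)) _ _
      fun i hi => hrow i (Finset.mem_erase.1 hi).1
    rw [Finset.card_erase_of_mem (Finset.mem_univ _), Finset.card_univ, C.E.card_left, nsmul_eq_mul,
      Nat.cast_sub (Nat.one_le_iff_ne_zero.2 Nat.card_pos.ne'), Nat.cast_one, ← Finset.mul_sum] at h
    refine h.trans (mul_le_mul_of_nonneg_left ?_ (by positivity))
    exact Finset.sum_le_sum_of_subset_of_nonneg (Finset.erase_subset _ _)
      fun k _ _ => Finset.sum_nonneg fun l _ => sq_nonneg _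
  have hD0 : 0 ≤ D := by rw [hD]; positivity
  have hk1 : 1 ≤ |C.kk θ| := Int.one_le_abs hne
  have hk2 : |C.kk θ| ≤ C.kk θ ^ 2 := by nlinarith [sq_abs (C.kk θ)]
  have hbig' : (Nat.card Z : ℤ) * (2 * D + 1) < ((Nat.card K : ℤ) - 1) * (C.d : ℤ) ^ 2 := by
    have h := hbig
    have h1 : 1 ≤ Nat.card K := Nat.one_le_iff_ne_zero.2 Nat.card_pos.ne'
    zify [h1] at h
    rw [hD]; exact h
  have hle : ∑ k, ∑ l, z k l ^ 2 ≤ (2 * D + 1) * C.kk θ ^ 2 := by
    nlinarith [mul_le_mul_of_nonneg_left ((le_abs_self (C.kk θ)).trans hk2) hD0,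
      mul_nonneg (Nat.cast_nonneg (linFam T H).card : (0 : ℤ) ≤ _) (sq_nonneg (C.kk θ))]
  nlinarith [mul_lt_mul_of_pos_right hbig' (show (0 : ℤ) < C.kk θ ^ 2 by linarith),
    mul_le_mul_of_nonneg_left hle (show (0 : ℤ) ≤ Nat.card Z by positivity)]

/-- The restriction of `φ ζ` to `H`. -/
theorem res_apply (h : ↥(H.subgroupOf T)) : C.φ C.ζ ((h : T) : G) =
    ∑ θ : IrrCharacter ↥(H.subgroupOf T),
      ((C.kk θ : ℂ) + (deg (θ : ↥(H.subgroupOf T) → ℂ) : ℂ) * C.bb) * (θ : ↥(H.subgroupOf T) → ℂ) h := by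
  set R : T → ℂ := fun t => C.φ C.ζ (t : G)
  have hφ := isClassFunction_genChar (C.phi_gen C.mem)
  have hR : IsClassFunction T R := fun g k => hφ g k
  have hcl : IsClassFunction ↥(H.subgroupOf T) (fun x => R x) := fun g k => hR g k
  have hexp := congrFun (classFun_expansion hcl) h
  refine hexp.trans ?_
  rw [Finset.sum_apply]
  refine Finset.sum_congr rfl fun θ _ => ?_
  rw [Pi.smul_apply, smul_eq_mul]
  congr 1
  rw [← classInner_symm, ← frobenius (H.subgroupOf T) _ hR, ← frobenius T (C.ind θ) hφ]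
  have e : classInner (indFun T (C.ind θ)) (C.φ C.ζ) =
      (C.kk θ : ℂ) + (deg (θ : ↥(H.subgroupOf T) → ℂ) : ℂ) * C.bb := by
    have h1 := C.kk_spec θ
    rw [g, indFun_sub, indFun_smul, classInner_sub_left, classInner_smul_left,
      icoef_spec (C.tau_gen (gen_of_char (irr_isCharacter (linFam_irr C.M C.E C.tail C.mem)))) (C.phi_gen C.mem)]
      at h1
    rw [bb]
    push_cast
    linear_combination h1
  rw [e, map_add, map_mul, map_intCast, map_intCast, Complex.conj_natCast]

open Classical in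
theorem kk_lin {l : ↥(H.subgroupOf T) →* ℂˣ} (hl : l ≠ 1) :
    C.kk (linIrr l) = if C.ind (linIrr l) = C.ζ then 1 else 0 := by
  have ha : C.ind (linIrr l) ∈ linFam T H := mem_linFam.2 ⟨l, hl, rfl⟩
  have h : ((C.kk (linIrr l) : ℤ) : ℂ) = (((if C.ind (linIrr l) = C.ζ then 1 else 0 : ℤ)) : ℂ) := by
    have h1 := C.kk_spec (linIrr l)
    rw [g, linIrr_deg, Nat.cast_one, one_smul, C.fam.diff _ ha _ C.mem, classInner_sub_left,
      (C.fam.signed _ C.mem).self] at h1
    split_ifs with he
    · rw [he, (C.fam.signed _ C.mem).self] at h1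
      push_cast; linear_combination -h1
    · rw [C.fam.orth _ ha _ C.mem he] at h1
      push_cast; linear_combination -h1
  exact_mod_cast h

open Classical in
/-- When the family has two members it may be relabelled. -/
noncomputable def swap (hn : (linFam T H).card = 2) : TData T Z K H :=
  { C with
    φ := fun a => -C.φ (conjFun a)
    fam :=
      have hfam : linFam T H = {C.ζ, conjFun C.ζ} := by
        refine (Finset.eq_of_subset_of_card_le (fun a ha => ?_) ?_).symm
        · rcases Finset.mem_insert.1 ha with rfl | ha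
          · exact C.mem
          · rw [Finset.mem_singleton.1 ha]; exact C.conj_mem
        · rw [Finset.card_pair C.conj_ne.symm, hn]
      have hc : ∀ a ∈ linFam T H, conjFun a ∈ linFam T H := fun a ha => linFam_conj C.M C.E C.tail ha
      ⟨fun a ha => (C.fam.signed _ (hc a ha)).neg,
        fun a ha b hb hab => by
          rw [classInner_neg_left, classInner_neg_right, neg_neg, C.fam.orth _ (hc a ha) _ (hc b hb) fun h => hab ?_]
          rw [← conjFun_conjFun a, h, conjFun_conjFun],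
        fun a ha b hb => by
          rw [C.fam.diff a ha b hb]
          rw [hfam, Finset.mem_insert, Finset.mem_singleton] at ha hb
          rcases ha with rfl | rfl <;> rcases hb with rfl | rfl <;> (try rw [conjFun_conjFun]) <;> abel,
        fun a ha => by rw [cj_neg, C.fam.conj_eq _ (hc a ha)],
        fun a ha i j => by rw [classInner_neg_left, C.fam.eta _ (hc a ha), neg_zero]⟩ }

theorem kk_swap (hn : (linFam T H).card = 2) {θ : IrrCharacter ↥(H.subgroupOf T)} (hθ : C.NonLin θ) :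
    (C.swap hn).kk θ = deg (θ : ↥(H.subgroupOf T) → ℂ) - C.kk θ := by
  classical
  have h1 := (C.swap hn).kk_spec θ
  rw [show (C.swap hn).g θ = C.g θ from rfl,
    show (C.swap hn).φ (C.swap hn).ζ = -C.φ (conjFun C.ζ) from rfl, classInner_neg_right,
    C.g_inner hθ C.conj_mem, if_neg C.conj_ne, sub_zero] at h1
  have : ((((C.swap hn).kk θ : ℤ)) : ℂ) =
      (((deg (θ : ↥(H.subgroupOf T) → ℂ) : ℤ) - C.kk θ : ℤ) : ℂ) := by
    push_cast; linear_combination -h1
  exact_mod_cast this

theorem lin_eq_one_of_ind {l : ↥(H.subgroupOf T) →* ℂˣ} (hl : l ≠ 1) {x : ↥(H.subgroupOf T)}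
    (he : C.ind (linIrr l) = C.ζ) (hx : C.ζ (x : T) = C.ζ 1) :
    (linIrr l : ↥(H.subgroupOf T) → ℂ) x = (linIrr l : ↥(H.subgroupOf T) → ℂ) 1 := by
  have h1 : C.ind (linIrr l) (x : T) = (Nat.card Z : ℂ) := by
    rw [he, hx, linFam_deg C.M C.E C.tail C.mem]
  rw [ind, indFun_restrict_normal] at h1
  have hnorm : ∀ y : T, ‖(linIrr l : ↥(H.subgroupOf T) → ℂ) (MulAut.conjNormal y x)‖ ≤ 1 := fun y => by
    refine le_of_eq (Complex.norm_eq_one_of_pow_eq_one (n := Nat.card ↥(H.subgroupOf T)) ?_ Nat.card_pos.ne')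
    simp only [linIrr]
    rw [← Units.val_pow_eq_pow_val, ← map_pow, pow_card_eq_one', map_one, Units.val_one]
  have hcard : (Nat.card T : ℂ) = (Nat.card Z : ℂ) * Nat.card ↥(H.subgroupOf T) := by
    rw [← (H.subgroupOf T).index_mul_card, C.tail.index_H]; push_cast; rfl
  rw [inv_mul_eq_iff_eq_mul₀ (Nat.cast_ne_zero.2 Nat.card_pos.ne')] at h1
  have h2 : (∑ y : T, (1 - ((linIrr l : ↥(H.subgroupOf T) → ℂ) (MulAut.conjNormal y x)).re)) = 0 := by
    rw [Finset.sum_sub_distrib, ← Complex.re_sum, h1, Finset.sum_const, nsmul_one, Finset.card_univ,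
      ← Nat.card_eq_fintype_card, mul_comm, ← hcard, Complex.natCast_re, sub_self]
  have h3 := (Finset.sum_eq_zero_iff_of_nonneg fun y _ => by
    linarith [Complex.re_le_norm ((linIrr l : ↥(H.subgroupOf T) → ℂ) (MulAut.conjNormal y x)), hnorm y]).1 h2 1
    (Finset.mem_univ _)
  rw [map_one] at h3
  have h4 : ((linIrr l : ↥(H.subgroupOf T) → ℂ) x).re = 1 := by
    simp only [MulAut.one_apply] at h3; linarith
  have h5 := hnorm 1
  rw [map_one, MulAut.one_apply] at h5
  have h6 : ((linIrr l : ↥(H.subgroupOf T) → ℂ) x).im = 0 := by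
    have h7 := Complex.sq_norm ((linIrr l : ↥(H.subgroupOf T) → ℂ) x)
    rw [Complex.normSq_apply, h4] at h7
    nlinarith [norm_nonneg ((linIrr l : ↥(H.subgroupOf T) → ℂ) x),
      sq_nonneg ((linIrr l : ↥(H.subgroupOf T) → ℂ) x).im]
  rw [show (linIrr l : ↥(H.subgroupOf T) → ℂ) 1 = 1 by simp [linIrr]]
  exact Complex.ext h4 h6

open Classical in
/-- The conclusion from the exact case. -/
theorem concl (hc : C.c = 0) (hk : C.k = 0) (J : Subgroup ↥(H.subgroupOf T)) [J.Normal]
    (hζ : ∀ x ∈ J, C.ζ (x : T) = C.ζ 1)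
    (hkk : ∀ θ : IrrCharacter ↥(H.subgroupOf T),
      (∀ x ∈ J, (θ : ↥(H.subgroupOf T) → ℂ) x = (θ : ↥(H.subgroupOf T) → ℂ) 1) →
        deg (θ : ↥(H.subgroupOf T) → ℂ) ≠ 1 → C.kk θ = 0)
    (hsize : Nat.card K * (2 * Nat.card Z + 1) * Nat.card J ≤ Nat.card ↥(H.subgroupOf T)) :
    TailConcl C.E H := by
  set ψ := C.φ C.ζ with hψ
  set X : Set G := (H : Set G) \ {1} with hX
  have hXsub : X ⊆ sigmaSet T := fun x hx =>
    ⟨C.tail.H_le hx.1, 1, by rw [pow_one, ← C.tail.H_eq]; exact hx.1, by rw [pow_one]; simpa using hx.2⟩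
  have hTI : IsTI T X := C.tail.isTI.mono hXsub fun t ht a ha => ⟨C.tail.conj_mem ht ha.1, fun h => ha.2 (conj_eq_one_iff.1 (Set.mem_singleton_iff.1 h))⟩
  refine ⟨ψ, C.fam.signed _ C.mem, C.fam.eta _ C.mem, fun g hg => ?_, ?_⟩
  · have h0 : indFun T (C.g C.one) g = 0 := hTI.ind_eq_zero (fun x hx => by
      by_cases hxH : (x : G) ∈ H
      · have : x = 1 := Subtype.ext (by by_contra h; exact hx ⟨hxH, h⟩)
        rw [this, C.g_at_one]
      · exact C.g_vanish _ hxH) fun y hy => hg ⟨y, hy⟩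
    rw [(C.beta_exact hc hk).2] at h0
    simp only [Pi.add_apply, Pi.sub_apply, Finset.sum_apply] at h0
    linear_combination -h0
  · -- the mean square
    have hψc : IsClassFunction G ψ := isClassFunction_genChar (C.phi_gen C.mem)
    set α : T → ℂ := fun t => if (t : G) ∈ X then ((‖ψ t‖ ^ 2 : ℝ) : ℂ) else 0 with hα
    have hαc : IsClassFunction T α := fun g k => by
      simp only [hα, Subgroup.coe_mul, Subgroup.coe_inv, hψc (g : G) (k : G)]
      exact if_congr ⟨fun h => by simpa [mul_assoc] using hTI.conj_mem (k : G)⁻¹ (T.inv_mem k.2) _ h,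
        fun h => hTI.conj_mem k k.2 _ h⟩ rfl rfl
    have hαs : ∀ x : T, (x : G) ∉ X → α x = 0 := fun x hx => by simp [hα, hx]
    have hval : ∀ g, indFun T α g = if g ∈ conjSet X then ((‖ψ g‖ ^ 2 : ℝ) : ℂ) else 0 := by
      intro g
      split_ifs with hg
      · obtain ⟨y, hy⟩ := hg
        rw [← isClassFunction_indFun T α g y,
          show y * g * y⁻¹ = ((⟨_, hTI.subset _ hy⟩ : T) : G) from rfl, hTI.ind_apply hαc hαs hy]
        simp [hα, hy, hψc g y]
      · exact hTI.ind_eq_zero hαs fun y hy => hg ⟨y, hy⟩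
    have hdens : (dens (conjSet X) ψ : ℂ) = (Nat.card T : ℂ)⁻¹ * ∑ t : T, α t := by
      have h := frobenius T α (χ := fun _ : G => (1 : ℂ)) (fun _ _ => rfl)
      simp only [classInner, hval, map_one, mul_one] at h
      rw [← h, dens, Finset.sum_ite, Finset.sum_const_zero, add_zero]
      push_cast
      rfl
    set S : Finset ↥(H.subgroupOf T) := Finset.univ.filter fun x => x ∉ J with hS
    have hmono : ∑ x ∈ S, ‖ψ ((x : T) : G)‖ ^ 2 ≤ (∑ t : T, α t).re := by
      rw [Complex.re_sum]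
      have hre : ∀ t : T, (α t).re = if (t : G) ∈ X then ‖ψ t‖ ^ 2 else 0 := fun t => by
        simp only [hα]; split_ifs <;> simp [← Complex.ofReal_pow]
      simp only [hre]
      rw [← Finset.sum_filter]
      refine le_trans (le_of_eq (Finset.sum_map S ⟨_, Subtype.val_injective⟩ (fun t : T => ‖ψ t‖ ^ 2)).symm)
        (Finset.sum_le_sum_of_subset_of_nonneg (fun t ht => ?_) fun _ _ _ => sq_nonneg _)
      obtain ⟨x, hx, rfl⟩ := Finset.mem_map.1 ht
      refine Finset.mem_filter.2 ⟨Finset.mem_univ _, x.2, fun h => (Finset.mem_filter.1 hx).2 ?_⟩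
      have : x = 1 := Subtype.ext (Subtype.ext h)
      rw [this]
      exact one_mem J
    -- the inner products with `ζ`
    have hw0 : (Nat.card ↥(H.subgroupOf T) : ℂ) ≠ 0 := Nat.cast_ne_zero.2 Nat.card_pos.ne'
    have hζc : IsClassFunction T C.ζ := isClassFunction_character (irr_isCharacter (linFam_irr C.M C.E C.tail C.mem))
    have hζ1 : C.ζ 1 = (Nat.card Z : ℂ) := linFam_deg C.M C.E C.tail C.mem
    have hfull : ∀ f : T → ℂ, ∑ x : ↥(H.subgroupOf T), f x * conj (C.ζ x) = (Nat.card T : ℂ) * classInner f C.ζ := fun f => by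
      rw [classInner, ← mul_assoc, mul_inv_cancel₀ (Nat.cast_ne_zero.2 Nat.card_pos.ne'), one_mul,
        ← sum_extendByZero_mul (H.subgroupOf T) (fun x => f x) (fun t => conj (C.ζ t))]
      refine Finset.sum_congr rfl fun t _ => ?_
      by_cases ht : t ∈ (H.subgroupOf T)
      · rw [extendByZero_mem (H.subgroupOf T) _ ht]
      · rw [extendByZero_not_mem (H.subgroupOf T) _ ht, linFam_vanish C.M C.E C.tail C.mem ht]; simp
    have hTA : (Nat.card T : ℂ) = (Nat.card Z : ℂ) * Nat.card ↥(H.subgroupOf T) := by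
      rw [C.tail.card_T, Solv.card_subgroupOf C.tail.H_le]; push_cast; rfl
    have hψζ : classInner (fun t : T => ψ t) C.ζ = ((C.bb + 1 : ℤ) : ℂ) := by
      rw [← classInner_symm, ← frobenius T C.ζ hψc,
        icoef_spec (C.tau_gen (gen_of_char (irr_isCharacter (linFam_irr C.M C.E C.tail C.mem)))) (C.phi_gen C.mem),
        map_intCast, bb]
      push_cast; ring
    have hsplit : ∀ f : ↥(H.subgroupOf T) → ℂ, ∑ x ∈ S, f x = ∑ x, f x - ∑ x : ↥(H.subgroupOf T) with x ∈ J, f x := fun f => by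
      rw [hS, eq_sub_iff_add_eq, add_comm, Finset.sum_filter_add_sum_filter_not]
    have hJψ : ∑ x : ↥(H.subgroupOf T) with x ∈ J, ψ ((x : T) : G) =
        (C.bb : ℂ) * Nat.card ↥(H.subgroupOf T) + (Nat.card Z : ℂ) * Nat.card J := by
      obtain ⟨Sk, hSk, hsq⟩ := sum_sq_kernel_contains J
      rw [Finset.sum_congr rfl fun x _ => C.res_apply x, Finset.sum_comm,
        Finset.sum_congr rfl (g := fun θ => if θ ∈ Sk then (Nat.card J : ℂ) *
          ((deg (θ : ↥(H.subgroupOf T) → ℂ) : ℂ) * C.kk θ + (deg (θ : ↥(H.subgroupOf T) → ℂ) : ℂ) ^ 2 * C.bb) else 0) fun θ _ => by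
          rw [← Finset.mul_sum, sum_normal_subgroup J θ, char_one_eq_deg (irr_isCharacter θ.2)]
          simp only [← char_one_eq_deg (irr_isCharacter θ.2), ← hSk θ]
          rw [char_one_eq_deg (irr_isCharacter θ.2)]
          split_ifs <;> ring, Finset.sum_ite_mem, Finset.univ_inter, ← Finset.mul_sum, Finset.sum_add_distrib,
        ← Finset.sum_mul]
      have hkksum : ∑ θ ∈ Sk, (deg (θ : ↥(H.subgroupOf T) → ℂ) : ℂ) * C.kk θ = (Nat.card Z : ℂ) := by
        have hfib : ∀ θ : IrrCharacter ↥(H.subgroupOf T), (deg (θ : ↥(H.subgroupOf T) → ℂ) : ℂ) * C.kk θ * (if θ ∈ Sk then 1 else 0) =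
            classInner (fun x : ↥(H.subgroupOf T) => C.ζ x) (θ : ↥(H.subgroupOf T) → ℂ) := by
          intro θ
          rw [← classInner_symm, ← frobenius (H.subgroupOf T) _ hζc]
          by_cases hd1 : deg (θ : ↥(H.subgroupOf T) → ℂ) = 1
          · obtain ⟨l, rfl⟩ := eq_linIrr hd1
            rw [linIrr_deg]
            by_cases hl : l = 1
            · have h1 : linIrr l = C.one := Subtype.ext (funext fun x => by simp [linIrr, hl])
              rw [h1, show C.kk C.one = C.c from rfl, hc, show classInner (indFun (H.subgroupOf T) _) C.ζ = _ from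
                C.ind_lin_inner C.nonLin_one C.mem]
              simp
            · have ha : C.ind (linIrr l) ∈ linFam T H := mem_linFam.2 ⟨l, hl, rfl⟩
              rw [C.kk_lin hl, show classInner (indFun (H.subgroupOf T) (linIrr l : ↥(H.subgroupOf T) → ℂ)) C.ζ = _ from C.lin_orth ha C.mem]
              by_cases he : C.ind (linIrr l) = C.ζ
              · have hmem : linIrr l ∈ Sk := (hSk _).2 fun x hx => by
                  have hres : C.ζ (x : T) = C.ζ 1 := hζ x hx
                  exact C.lin_eq_one_of_ind hl he hres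
                simp [he, hmem]
              · simp [he]
          · rw [show classInner (indFun (H.subgroupOf T) (θ : ↥(H.subgroupOf T) → ℂ)) C.ζ = _ from C.ind_lin_inner (Or.inl hd1) C.mem]
            by_cases hθ : θ ∈ Sk
            · rw [hkk θ ((hSk θ).1 hθ) hd1]; simp
            · simp [hθ]
        calc ∑ θ ∈ Sk, (deg (θ : ↥(H.subgroupOf T) → ℂ) : ℂ) * C.kk θ
            = ∑ θ : IrrCharacter ↥(H.subgroupOf T), (deg (θ : ↥(H.subgroupOf T) → ℂ) : ℂ) * C.kk θ * (if θ ∈ Sk then 1 else 0) := by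
              simp [Finset.sum_ite_mem]
          _ = _ := by
              rw [Finset.sum_congr rfl fun θ _ => hfib θ]
              have hexp := congrFun (classFun_expansion (f := fun x : ↥(H.subgroupOf T) => C.ζ x) fun g k => hζc g k) 1
              simp only [OneMemClass.coe_one, hζ1, Finset.sum_apply, Pi.smul_apply, smul_eq_mul] at hexp
              rw [hexp]
              refine Finset.sum_congr rfl fun θ _ => ?_
              by_cases hd1 : deg (θ : ↥(H.subgroupOf T) → ℂ) = 1
              · rw [char_one_eq_deg (irr_isCharacter θ.2), hd1]; simp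
              · rw [← classInner_symm, ← frobenius (H.subgroupOf T) _ hζc,
                  show classInner (indFun (H.subgroupOf T) (θ : ↥(H.subgroupOf T) → ℂ)) C.ζ = _ from C.ind_lin_inner (Or.inl hd1) C.mem]
                simp
      rw [hkksum, show ∑ θ ∈ Sk, (deg (θ : ↥(H.subgroupOf T) → ℂ) : ℂ) ^ 2 = (J.index : ℂ) by exact_mod_cast hsq, ← J.index_mul_card]
      push_cast
      ring
    have hJζ : ∀ x : ↥(H.subgroupOf T), x ∈ J → conj (C.ζ x) = (Nat.card Z : ℂ) := fun x hx => by
      rw [hζ x hx, hζ1, Complex.conj_natCast]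
    have hcross : ∑ x ∈ S, ψ ((x : T) : G) * conj (C.ζ x) =
        (Nat.card Z : ℂ) * Nat.card ↥(H.subgroupOf T) - (Nat.card Z : ℂ) ^ 2 * Nat.card J := by
      rw [hsplit, hfull (fun t => ψ t), hψζ, hTA,
        Finset.sum_congr rfl fun x hx => by rw [hJζ x (Finset.mem_filter.1 hx).2], ← Finset.sum_mul, hJψ]
      push_cast; ring
    have hself : ∑ x ∈ S, C.ζ x * conj (C.ζ x) =
        (Nat.card Z : ℂ) * Nat.card ↥(H.subgroupOf T) - (Nat.card Z : ℂ) ^ 2 * Nat.card J := by
      rw [hsplit, hfull C.ζ, irr_self (linFam_irr C.M C.E C.tail C.mem), hTA,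
        Finset.sum_congr rfl (g := fun _ => (Nat.card Z : ℂ) ^ 2) fun x hx => by
          rw [hJζ x (Finset.mem_filter.1 hx).2, hζ x (Finset.mem_filter.1 hx).2, hζ1, sq],
        Finset.sum_const, nsmul_eq_mul, show (Finset.univ.filter fun x : ↥(H.subgroupOf T) => x ∈ J).card = Nat.card J by
          rw [Nat.card_eq_fintype_card, Fintype.card_subtype]]
      ring
    have hlow : (Nat.card Z : ℝ) * Nat.card ↥(H.subgroupOf T) - (Nat.card Z : ℝ) ^ 2 * Nat.card J ≤
        ∑ x ∈ S, ‖ψ ((x : T) : G)‖ ^ 2 := by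
      have h := Finset.sum_nonneg (s := S) fun x _ => sq_nonneg ‖ψ ((x : T) : G) - C.ζ x‖
      have he : ∀ x : ↥(H.subgroupOf T), ‖ψ ((x : T) : G) - C.ζ x‖ ^ 2 = ‖ψ ((x : T) : G)‖ ^ 2 -
          2 * (ψ ((x : T) : G) * conj (C.ζ x)).re + (C.ζ x * conj (C.ζ x)).re := fun x => by
        rw [Complex.sq_norm, Complex.normSq_sub, Complex.mul_conj, Complex.ofReal_re, Complex.sq_norm]
        ring
      rw [Finset.sum_congr rfl fun x _ => he x, Finset.sum_add_distrib, Finset.sum_sub_distrib,
        ← Finset.mul_sum, ← Complex.re_sum, ← Complex.re_sum, hcross, hself] at h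
      simp only [Complex.sub_re, Complex.mul_re, Complex.natCast_re, Complex.natCast_im, sq, mul_zero, sub_zero] at h
      simp only [sq] at *
      linarith
    have hd := congrArg Complex.re hdens
    rw [Complex.ofReal_re, Complex.mul_re, show ((Nat.card T : ℂ)⁻¹).im = 0 by simp, zero_mul, sub_zero,
      show ((Nat.card T : ℂ)⁻¹).re = (Nat.card T : ℝ)⁻¹ by simp] at hd
    rw [hd]
    have hwA : (Nat.card T : ℝ) = (Nat.card Z : ℝ) * Nat.card ↥(H.subgroupOf T) := by
      rw [C.tail.card_T, Solv.card_subgroupOf C.tail.H_le]; push_cast; rfl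
    have hpos : (0 : ℝ) < (Nat.card Z : ℝ) * Nat.card ↥(H.subgroupOf T) :=
      mul_pos (Nat.cast_pos.2 Nat.card_pos) (Nat.cast_pos.2 Nat.card_pos)
    have hqpos : (0 : ℝ) < (Nat.card K : ℝ) * (2 * Nat.card Z + 1) :=
      mul_pos (Nat.cast_pos.2 Nat.card_pos) (by positivity)
    have hsz : (Nat.card K : ℝ) * (2 * Nat.card Z + 1) * Nat.card J ≤ Nat.card ↥(H.subgroupOf T) := by exact_mod_cast hsize
    rw [hwA, inv_mul_eq_div, le_div_iff₀ hpos, sub_mul, one_mul, div_mul_eq_mul_div, sub_le_iff_le_add,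
      ← sub_le_iff_le_add', le_div_iff₀ hqpos]
    nlinarith [hlow.trans hmono, mul_le_mul_of_nonneg_left hsz (sq_nonneg (Nat.card Z : ℝ))]

end TData

end Cfsg.Agent.OddFT
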