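import Cfsg.Agent.Lib.OddChar.FT.Mass
import Cfsg.Agent.Lib.OddChar.FT.TailConcl
import Cfsg.Agent.Lib.OddChar.FT.Setup
import Cfsg.Agent.Lib.OddChar.FT.FreeKernel

/-!
A pair whose partner has no `U` does not exist.
-/

set_option autoImplicit false
set_option linter.unusedSectionVars false
set_option linter.style.haveILetI false

open Cfsg Cfsg.Agent.Char Cfsg.Agent.OddChar Cfsg.Agent.OddLocal
open Cfsg.Agent.OddLocal.Kappa Cfsg.Agent.OddLocal.Sig
open Cfsg.Agent.Fusion (SylIn cj_mono exists_sylIn exists_sylIn_ge)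
open scoped ComplexConjugate Classical

namespace Cfsg.Agent.OddFT

universe u

variable {G : Type u} [Group G] [Fintype G] {S K Z P U : Subgroup G}

/-- A cyclic `U` gives rank one at each of its primes. -/
theorem Side.prankLE_one (h : Side S K Z P U) [IsCyclic U] {q : ℕ} (hq : q.Prime) (hd : q ∣ Nat.card U) :
    PRankLE q 1 ↥S := by
  intro A _ hpow
  haveI := Fact.mk hq
  have hA : IsPGroup q ↥(A.map S.subtype) :=
    IsPGroup.map (fun a => ⟨1, Subtype.ext (by simp [hpow a a.2])⟩) _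
  obtain ⟨R, hR, hAR⟩ := exists_sylIn_ge hA (Subgroup.map_subtype_le _)
  obtain ⟨W, hW⟩ := exists_sylIn (p := q) U
  have hWS : SylIn q W S := ⟨hW.le.trans h.U_le, hW.isPGroup, fun hdiv => by
    rw [← Subgroup.relIndex_mul_relIndex W U S hW.le h.U_le] at hdiv
    have e : U.relIndex S = Nat.card P * Nat.card K := by
      have h2 := Subgroup.relIndex_mul_relIndex ⊥ U S bot_le h.U_le
      rw [Subgroup.relIndex_bot_left, Subgroup.relIndex_bot_left, h.card_eq] at h2
      exact Nat.eq_of_mul_eq_mul_left (Nat.card_pos (α := U)) (h2.trans (by ring))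
    rw [e] at hdiv
    rcases hq.dvd_mul.1 hdiv with h1 | h1
    · exact hW.not_dvd h1
    rcases hq.dvd_mul.1 h1 with h1 | h1
    · exact hq.ne_one (Nat.eq_one_of_dvd_coprimes h.coUP hd h1)
    · exact hq.ne_one (Nat.eq_one_of_dvd_coprimes h.coKU h1 hd)⟩
  obtain ⟨x, -, rfl⟩ := hWS.conj_eq hR
  haveI : IsCyclic ↥(Fusion.cj U x) := isCyclic_of_surjective
    (U.equivMapOfInjective (MulAut.conj x).toMonoidHom (MulAut.conj x).injective)
    (MulEquiv.surjective _)
  haveI : IsCyclic ↥(A.map S.subtype) := isCyclic_of_injective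
    (Subgroup.inclusion (hAR.trans (cj_mono hW.le x))) (Subgroup.inclusion_injective _)
  haveI : IsCyclic ↥A := isCyclic_of_surjective
    (A.equivMapOfInjective S.subtype S.subtype_injective).symm (MulEquiv.surjective _)
  obtain ⟨g, hg⟩ := IsCyclic.exists_ofOrder_eq_natCard (α := A)
  rw [pow_one, ← hg]
  exact Nat.le_of_dvd hq.pos (orderOf_dvd_of_pow_eq_one (Subtype.ext (by simpa using hpow g g.2)))

end Cfsg.Agent.OddFT

namespace Cfsg.Agent.OddFT

universe u2

/-- The weight of a pair contradicts the conclusion drawn from a partner without `U`. -/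
theorem tail_mass_false {G : Type u2} [Group G] [Fintype G] {S K U T : Subgroup G} (d : Kappa.Duo S K U T)
    (hdec : IsSigmaDecomposition T (sigmaCore S ⊓ Subgroup.centralizer (K : Set G)) ⊥)
    (E : Grid K (sigmaCore S ⊓ Subgroup.centralizer (K : Set G))) (hTC : TailConcl E (sigmaCore T)) : False := by
  obtain ⟨ψ, hψ, -, hid, hdens⟩ := hTC
  have hG := d.minSimple
  have h := side_of_duo d
  refine mass_false h E le_rfl (fun r N hl => free_kernel d hl) (fun hUc c hc hc1 p hp hcp => ?_)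
    (fun y hy hyd => ?_) (T := T) (H := sigmaCore T) ?_ ?_ (fun g hg hg' => ?_) hψ hid hdens
  · by_contra hp1
    obtain ⟨q, hq, hqc⟩ := Nat.exists_prime_and_dvd fun e => hc1 (orderOf_eq_one_iff.1 e)
    have hqU : q ∣ Nat.card U := hqc.trans (Subgroup.orderOf_dvd_natCard U hc)
    obtain ⟨hσ, hκ⟩ := Decomp.U_pi hG d.coatom d.decomp hq hqU
    exact hκ (Decomp.kappa_of_fixed hG d.coatom hq hσ (hqU.trans (Subgroup.card_dvd_of_le h.U_le))
      (h.prankLE_one hq hqU) (h.U_le hc) hqc hp hp1 hcp)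
  · haveI := Fact.mk hy
    have hσ : orderOf y ∈ sigma S := (sigmaCore_hall hG d.coatom).1.2.1 _ hy
      (hyd.trans (Subgroup.card_dvd_of_le inf_le_left))
    obtain ⟨R, hR⟩ := exists_sylIn (p := orderOf y) (sigmaCore S)
    have hRS : SylIn (orderOf y) R S := ⟨hR.le.trans (Subgroup.map_subtype_le _), hR.isPGroup, fun hdiv => by
      rw [← Subgroup.relIndex_mul_relIndex R (sigmaCore S) S hR.le (Subgroup.map_subtype_le _)] at hdiv
      exact (hy.dvd_mul.1 hdiv).elim hR.not_dvd ((sigmaCore_hall hG d.coatom).1.2.2 _ hy hσ)⟩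
    obtain ⟨R', hR', hyR⟩ := exists_sylIn_ge (p := orderOf y) (Q := Subgroup.zpowers y) (H := ⊤)
      (IsPGroup.of_card (n := 1) (by rw [Nat.card_zpowers, pow_one])) le_top
    obtain ⟨x, -, hx⟩ := hR'.conj_eq (sigma_sylow hσ hRS).1
    have hxy : x * y * x⁻¹ ∈ sigmaCore S :=
      hR.le (hx ▸ Subgroup.mem_map.2 ⟨y, hyR (Subgroup.mem_zpowers y), by simp⟩)
    refine ⟨x, Subgroup.map_subtype_le _ hxy, 1, by rwa [pow_one], ?_⟩
    rw [pow_one, ne_eq, conj_eq_one_iff]
    exact fun e => hy.ne_one (orderOf_eq_one_iff.2 e)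
  · have hκ : kappa T ≠ ∅ := fun e => by
      obtain ⟨r, hr, hrd⟩ := Nat.exists_prime_and_dvd fun e => d.star_ne (Subgroup.card_eq_one.1 e)
      exact Set.eq_empty_iff_forall_notMem.1 e r (d.hallN.2.1 r hr hrd)
    refine (sigmaSet_ti hG d.coatomN hκ).mono (fun a ha => ⟨Subgroup.map_subtype_le _ ha.1, 1,
      by simpa using ha.1, by simpa using ha.2⟩) fun x hx a ha => ⟨?_, ?_⟩
    · exact (Subgroup.mem_normalizer_iff.1 (le_normalizer_piCoreOf hx) _).1 ha.1
    · exact fun e => ha.2 (conj_eq_one_iff.1 (Set.mem_singleton_iff.1 e))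
  · rw [← (compl_card (Decomp.compl hG d.coatomN hdec)).2, bot_sup_eq]
    exact mul_comm _ _
  · obtain ⟨x, hx, hx1⟩ := hg
    obtain ⟨z, -, n, hn, hn1⟩ := hg'
    obtain ⟨r, hr, hrd⟩ := Nat.exists_prime_and_dvd fun e => hn1 (orderOf_eq_one_iff.1 e)
    haveI := Fact.mk hr
    have e : orderOf (z * g * z⁻¹) = orderOf (x * g * x⁻¹) := by
      rw [← MulAut.conj_apply, ← MulAut.conj_apply, MulEquiv.orderOf_eq, MulEquiv.orderOf_eq]
    have hrS : r ∈ sigma S := (sigmaCore_hall hG d.coatom).1.2.1 r hr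
      (hrd.trans (Subgroup.orderOf_dvd_natCard _ hn))
    have hrT : r ∈ sigma T := (sigmaCore_hall hG d.coatomN).1.2.1 r hr
      ((hrd.trans ((orderOf_pow_dvd n).trans e.dvd)).trans (Subgroup.orderOf_dvd_natCard _ hx))
    obtain ⟨g0, hg0⟩ := Disjoint.conjugate_of_sigma hG d.coatom d.coatomN hrS hrT
    haveI := Fact.mk d.prime
    exact (d.decomp.hall.2.1 _ d.prime dvd_rfl).2.2.1 (TauTwo.sigma_of_cj (g := g0) (hg0 ▸ d.prime_sigma))

end Cfsg.Agent.OddFT
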