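import Cfsg.Agent.Lib.OddChar.FT.TailNilpKappa

/-!
The conclusion for `T = H ⋊ Z` with `H` nilpotent.
-/

set_option autoImplicit false
set_option linter.unusedSectionVars false
set_option linter.unusedVariables false
set_option linter.style.haveILetI false

open Cfsg Cfsg.Agent.Char Cfsg.Agent.OddChar
open scoped ComplexConjugate commutatorElement

namespace Cfsg.Agent.OddFT

universe u

variable {G : Type u} [Group G] [Fintype G] {T Z K H R J : Subgroup G}

section Aux

variable [Fintype T] [Fintype ↥(H.subgroupOf T)] [(H.subgroupOf T).Normal]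

/-- A nontrivial linear character of `H` moved into `Z`-orbits: the induced character has a fibre of at
least `|Z|` characters. -/
theorem linFam_fiber (M : Mu T Z K) (E : Grid K Z) (d : Tail T Z K H)
    {l : ↥(H.subgroupOf T) →* ℂˣ} (hl : l ≠ 1) :
    ∃ m : Z → (↥(H.subgroupOf T) →* ℂˣ), Function.Injective m ∧ ∀ z : Z, m z ≠ 1 ∧
      indFun (H.subgroupOf T) (linIrr (m z) : ↥(H.subgroupOf T) → ℂ) =
        indFun (H.subgroupOf T) (linIrr l : ↥(H.subgroupOf T) → ℂ) ∧
      linIrr (m z) = conjT (⟨z, d.Z_le z.2⟩ : T) (linIrr l) := by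
  classical
  have hirr := lin_irr M E d hl
  choose m hm using fun z : Z => eq_linIrr (θ := conjT (⟨z, d.Z_le z.2⟩ : T) (linIrr l))
    (by rw [deg_conjT, linIrr_deg])
  refine ⟨m, fun z₁ z₂ e => ?_, fun z => ⟨fun h => hl ?_, by rw [← hm z, ind_conjT], (hm z).symm⟩⟩
  · have h1 : conjT (⟨z₁, d.Z_le z₁.2⟩ : T) (linIrr l) = conjT (⟨z₂, d.Z_le z₂.2⟩ : T) (linIrr l) := by
      rw [hm, hm, e]
    have h2 := congrArg (conjT (⟨z₂, d.Z_le z₂.2⟩ : T)⁻¹) h1
    rw [conjT_inv, ← conjT_mul] at h2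
    set t : T := (⟨z₁, d.Z_le z₁.2⟩ : T) * (⟨z₂, d.Z_le z₂.2⟩ : T)⁻¹ with ht
    have hin : (t : G) ∈ H := by
      have h := irr_self hirr
      rw [indFun_inner, inv_mul_eq_one₀ (Nat.cast_ne_zero.2 Nat.card_pos.ne')] at h
      have hc : Nat.card ↥(H.subgroupOf T) =
          (Finset.univ.filter fun g : T => conjT g (linIrr l) = linIrr l).card := by exact_mod_cast h
      have hsub : (Finset.univ.filter fun g : T => g ∈ H.subgroupOf T) ⊆
          Finset.univ.filter fun g : T => conjT g (linIrr l) = linIrr l := fun g hg => by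
        simp only [Finset.mem_filter, Finset.mem_univ, true_and] at hg ⊢
        exact irrComp_conjNormal_of_mem _ _ ⟨g, hg⟩
      have heq := Finset.eq_of_subset_of_card_le hsub (le_of_eq (by
        rw [← hc, Nat.card_eq_fintype_card, Fintype.card_subtype]))
      have : t ∈ Finset.univ.filter fun g : T => conjT g (linIrr l) = linIrr l :=
        Finset.mem_filter.2 ⟨Finset.mem_univ _, h2⟩
      rw [← heq] at this
      exact (Finset.mem_filter.1 this).2
    exact Subtype.ext (mul_inv_eq_one.1 (d.one_of_mem (Z.mul_mem z₁.2 (Z.inv_mem z₂.2)) hin))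
  · have h1 := hm z
    rw [h] at h1
    refine MonoidHom.ext fun x => Units.ext ?_
    obtain ⟨y, hy⟩ := (MulAut.conjNormal (⟨z, d.Z_le z.2⟩ : T) : MulAut ↥(H.subgroupOf T)).surjective x
    have := congrFun (congrArg Subtype.val h1) y
    rw [← hy]
    exact this

namespace NilpParts

variable (p : NilpParts T Z K H R J)
include p

theorem index_subH_J : (subH T H J).index = Nat.card R := by
  refine Nat.eq_of_mul_eq_mul_left (Nat.card_pos (α := J)) ?_
  conv_lhs => rw [← card_subH p.tail p.J_le]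
  rw [Subgroup.card_mul_index, Solv.card_subgroupOf p.tail.H_le, ← p.card, mul_comm]

/-- A nontrivial linear character trivial on `J`, and the size of `R`. -/
theorem exists_lin (M : Mu T Z K) (E : Grid K Z) :
    (∃ l : ↥(H.subgroupOf T) →* ℂˣ, l ≠ 1 ∧ ∀ x : ↥(H.subgroupOf T), ((x : T) : G) ∈ J → l x = 1) ∧
      Nat.card K * (2 * Nat.card Z + 1) ≤ Nat.card R := by
  classical
  have d := p.tail
  haveI := Fact.mk d.prime
  set N := subH T H J with hN
  haveI : N.Normal := normal_subH d p.J_norm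
  have hQ : Nat.card (↥(H.subgroupOf T) ⧸ N) = Nat.card R := p.index_subH_J
  have hKQ : Nat.card K ≤ Nat.card ↥(commutator (↥(H.subgroupOf T) ⧸ N)) := by
    have hmem : ∀ k : K, QuotientGroup.mk' N (⟨⟨k, d.K_le k.2⟩, d.K_le_H k.2⟩ : ↥(H.subgroupOf T)) ∈
        commutator (↥(H.subgroupOf T) ⧸ N) := by
      intro k
      have hle : ⁅H, H⁆ ≤ ((commutator ↥(H.subgroupOf T)).map (H.subgroupOf T).subtype).map T.subtype := by
        rw [commutator_def, Subgroup.map_commutator, Subgroup.map_commutator]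
        refine Subgroup.commutator_mono ?_ ?_ <;>
          exact fun y hy => ⟨⟨y, d.H_le hy⟩, ⟨⟨⟨y, d.H_le hy⟩, hy⟩, trivial, rfl⟩, rfl⟩
      obtain ⟨y, ⟨y', hy', rfl⟩, e⟩ := hle (d.K_le_derived k.2)
      have e' : (⟨⟨k, d.K_le k.2⟩, d.K_le_H k.2⟩ : ↥(H.subgroupOf T)) = y' := Subtype.ext (Subtype.ext e.symm)
      rw [e', ← Abelianization.ker_of, MonoidHom.mem_ker]
      exact Abelianization.commutator_subset_ker (Abelianization.of.comp (QuotientGroup.mk' N)) hy'
    refine Nat.card_le_card_of_injective (fun k => ⟨_, hmem k⟩) fun a b hab => ?_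
    have h1 := QuotientGroup.eq.1 (congrArg Subtype.val hab)
    have h2 : (a : G)⁻¹ * b ∈ R ⊓ J := ⟨p.K_le (K.mul_mem (K.inv_mem a.2) b.2), h1⟩
    rw [p.R_inf_J, Subgroup.mem_bot] at h2
    exact Subtype.ext (inv_mul_eq_one.1 h2)
  have hpQ : IsPGroup (Nat.card K) (↥(H.subgroupOf T) ⧸ N) := by
    obtain ⟨n, hn⟩ := IsPGroup.iff_card.1 p.pgroup
    exact IsPGroup.of_card (hQ.trans hn)
  haveI : Group.IsNilpotent (↥(H.subgroupOf T) ⧸ N) := hpQ.isNilpotent
  haveI := Fintype.ofFinite (↥(H.subgroupOf T) ⧸ N)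
  haveI : Nontrivial (↥(H.subgroupOf T) ⧸ N) := by
    rw [← Finite.one_lt_card_iff_nontrivial, hQ]
    exact lt_of_lt_of_le d.prime.one_lt (Subgroup.card_le_of_le p.K_le)
  have hlt := Group.IsSolvable.commutator_lt_top_of_nontrivial (G := ↥(H.subgroupOf T) ⧸ N)
  obtain ⟨g, hg⟩ : ∃ g : (↥(H.subgroupOf T) ⧸ N) →* ℂˣ, g ≠ 1 := by
    by_contra hc
    push Not at hc
    haveI : Subsingleton ((↥(H.subgroupOf T) ⧸ N) →* ℂˣ) := ⟨fun a b => (hc a).trans (hc b).symm⟩
    have h1 : Nat.card ((↥(H.subgroupOf T) ⧸ N) →* ℂˣ) = 1 := Nat.card_of_subsingleton 1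
    rw [card_hom_units, Subgroup.index_eq_one] at h1
    exact hlt.ne h1
  set l := g.comp (QuotientGroup.mk' N) with hldef
  have hl : l ≠ 1 := fun h => hg (MonoidHom.ext fun x => by
    obtain ⟨y, rfl⟩ := QuotientGroup.mk'_surjective N x
    exact DFunLike.congr_fun h y)
  have hlJ : ∀ x : ↥(H.subgroupOf T), ((x : T) : G) ∈ J → l x = 1 := fun x hx => by
    rw [hldef, MonoidHom.comp_apply, QuotientGroup.mk'_apply, (QuotientGroup.eq_one_iff x).2 hx, map_one]
  refine ⟨⟨l, hl, hlJ⟩, ?_⟩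
  -- the count
  set S : Finset (↥(H.subgroupOf T) →* ℂˣ) :=
    Finset.univ.filter fun l => ∀ x : ↥(H.subgroupOf T), x ∈ N → l x = 1 with hS
  have hli : l⁻¹ ≠ 1 := fun h1 => hl (MonoidHom.ext fun x =>
    inv_eq_one.1 (by simpa using DFunLike.congr_fun h1 x))
  obtain ⟨m, hm, hm'⟩ := linFam_fiber M E d hl
  obtain ⟨n, hn, hn'⟩ := linFam_fiber M E d hli
  have htr : ∀ (l' : ↥(H.subgroupOf T) →* ℂˣ), (∀ x : ↥(H.subgroupOf T), ((x : T) : G) ∈ J → l' x = 1) →
      ∀ (t : T) (m' : ↥(H.subgroupOf T) →* ℂˣ), linIrr m' = conjT t (linIrr l') → m' ∈ S := by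
    intro l' h' t m' hm''
    refine Finset.mem_filter.2 ⟨Finset.mem_univ _, fun x hx => Units.ext ?_⟩
    have h1 := congrFun (congrArg Subtype.val hm'') x
    rw [irrComp_apply] at h1
    refine h1.trans ?_
    show (l' _ : ℂ) = _
    rw [h' _]
    simpa [MulAut.conjNormal_apply] using Solv.conj_mem_of_mem_normalizer (p.J_norm t.2) hx
  have hlijJ : ∀ x : ↥(H.subgroupOf T), ((x : T) : G) ∈ J → l⁻¹ x = 1 := fun x hx => by
    rw [MonoidHom.inv_apply, hlJ x hx, inv_one]
  have hconj : indFun (H.subgroupOf T) (linIrr l⁻¹ : ↥(H.subgroupOf T) → ℂ) =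
      conjFun (indFun (H.subgroupOf T) (linIrr l : ↥(H.subgroupOf T) → ℂ)) := by
    rw [conjFun_indFun']
    congr 1
    funext h
    show ((l⁻¹ h : ℂˣ) : ℂ) = conj (l h : ℂ)
    rw [conj_hom_apply, MonoidHom.inv_apply, Units.val_inv_eq_inv_val]
  have hcount : 2 * Nat.card Z + 1 ≤ S.card := by
    have hsub : insert 1 (Finset.univ.image m ∪ Finset.univ.image n) ⊆ S := by
      intro a ha
      rcases Finset.mem_insert.1 ha with rfl | ha
      · exact Finset.mem_filter.2 ⟨Finset.mem_univ _, fun x _ => rfl⟩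
      rcases Finset.mem_union.1 ha with ha | ha <;> obtain ⟨z, -, rfl⟩ := Finset.mem_image.1 ha
      · exact htr l hlJ _ _ (hm' z).2.2
      · exact htr l⁻¹ hlijJ _ _ (hn' z).2.2
    refine le_trans (le_of_eq ?_) (Finset.card_le_card hsub)
    rw [Finset.card_insert_of_notMem, Finset.card_union_of_disjoint, Finset.card_image_of_injective _ hm,
      Finset.card_image_of_injective _ hn, Finset.card_univ, ← Nat.card_eq_fintype_card, two_mul]
    · rw [Finset.disjoint_left]
      intro a ha ha'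
      obtain ⟨z, -, rfl⟩ := Finset.mem_image.1 ha
      obtain ⟨z', -, e⟩ := Finset.mem_image.1 ha'
      have h1 := (hn' z').2.1
      rw [e, (hm' z).2.1, hconj] at h1
      exact linFam_conj_ne M E d (mem_linFam.2 ⟨l, hl, rfl⟩) h1.symm
    · intro h
      rcases Finset.mem_union.1 h with h | h <;> obtain ⟨z, -, e⟩ := Finset.mem_image.1 h
      · exact (hm' z).1 e
      · exact (hn' z).1 e
  haveI : Fintype ((↥(H.subgroupOf T) ⧸ N) →* ℂˣ) := Fintype.ofFinite _
  have hSle : S.card ≤ (commutator (↥(H.subgroupOf T) ⧸ N)).index := by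
    rw [← card_hom_units, Nat.card_eq_fintype_card, ← Finset.card_univ]
    refine le_trans (Finset.card_le_card (t := Finset.univ.image
      fun g : (↥(H.subgroupOf T) ⧸ N) →* ℂˣ => g.comp (QuotientGroup.mk' N)) fun a ha => ?_) Finset.card_image_le
    refine Finset.mem_image.2 ⟨QuotientGroup.lift N a fun x hx => (Finset.mem_filter.1 ha).2 x hx,
      Finset.mem_univ _, MonoidHom.ext fun x => rfl⟩
  calc Nat.card K * (2 * Nat.card Z + 1)
      ≤ Nat.card ↥(commutator (↥(H.subgroupOf T) ⧸ N)) * (commutator (↥(H.subgroupOf T) ⧸ N)).index :=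
        Nat.mul_le_mul hKQ (hcount.trans hSle)
    _ = Nat.card R := by rw [Subgroup.card_mul_index, hQ]

variable {V : Subgroup G}

/-- The end of the argument, once the total coefficient vanishes. -/
theorem finish (s : TailRed T H (Nat.card K) R J V) (C : TData T Z K H)
    (hsz : Nat.card K * (2 * Nat.card Z + 1) ≤ Nat.card R)
    (hζ : ∀ x : ↥(H.subgroupOf T), ((x : T) : G) ∈ V ⊔ J → C.ζ (x : T) = C.ζ 1)
    (htot : C.tot (redY T H J V) = 0) : TailConcl C.E H := by
  classical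
  have d := C.tail
  haveI : (subH T H J).Normal := normal_subH d p.J_norm
  have hV := d.three_le_card V s.V_ne
  have hw : 3 ≤ Nat.card Z := d.three_le_card Z d.Z_ne
  set N := TData.wt (redY T H J V) with hNdef
  have hwt := s.wt_eq d
  rw [← hNdef] at hwt
  have hN2 : 2 * Nat.card R ≤ N * Nat.card V := by
    rw [hwt, mul_comm 2]; exact Nat.mul_le_mul_left _ (by omega)
  have hbig : ∀ θ : IrrCharacter ↥(H.subgroupOf T), TrivOn J θ →
      2 * deg (θ : ↥(H.subgroupOf T) → ℂ) ^ 2 ≤ N := fun θ hθ => by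
    refine Nat.le_of_mul_le_mul_right (le_trans ?_ hN2) (Nat.card_pos (α := V))
    rw [mul_assoc]
    exact Nat.mul_le_mul_left 2 (s.deg_bound d hθ).1
  have hd2 : 2 * C.d ^ 2 ≤ N := by
    have := hbig _ (p.theta_trivJ C C.i₀)
    rwa [C.deg_theta C.i₀_ne] at this
  have hdw : 2 * (Nat.card Z : ℤ) - 1 ≤ (C.d : ℤ) := by
    have h1 := C.ed_cong
    have h2 : (2 : ℤ) ≤ C.d := by exact_mod_cast C.one_lt_d
    have hcF : C.cF ≠ 0 := fun h0 => by
      rw [h0, mul_zero] at h1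
      rcases C.M.sgn_cases C.i₀ with he | he <;> simp only [TData.e, he] at h1 <;> linarith
    have hw' : (0 : ℤ) ≤ Nat.card Z := by positivity
    rcases C.M.sgn_cases C.i₀ with he | he <;> simp only [TData.e, he] at h1 <;>
      rcases lt_or_gt_of_ne hcF with h | h <;> nlinarith
  have hzero : ∀ θ : IrrCharacter ↥(H.subgroupOf T), TrivOn J θ → C.NonLin θ → C.kk θ = 0 := by
    intro θ hθ hnl
    by_contra hne
    have hb := C.kk_bound (fun t θ hθ => s.redY_conj t hθ) (fun θ hθ => s.nonLin C hθ) htot (s.wt_pos d) hnl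
    rw [← hNdef] at hb
    have hD := hbig θ hθ
    have h1 : (1 : ℤ) ≤ |C.kk θ| := Int.one_le_abs hne
    rw [← sq_abs (C.kk θ)] at hb
    set D := (deg (θ : ↥(H.subgroupOf T) → ℂ) : ℤ) with hDdef
    set w := (Nat.card Z : ℤ) with hwdef
    have hD' : 2 * D ^ 2 ≤ (N : ℤ) := by rw [hDdef]; exact_mod_cast hD
    have hd' : 2 * (C.d : ℤ) ^ 2 ≤ (N : ℤ) := by exact_mod_cast hd2
    have hw3 : 3 ≤ w := by rw [hwdef]; exact_mod_cast hw
    have hD0 : 0 ≤ D := by rw [hDdef]; positivity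
    have hle : (N : ℤ) ≤ w ^ 2 + 2 * w * D := by
      have h2 : (N : ℤ) * |C.kk θ| ^ 2 ≤ (w ^ 2 + 2 * w * D) * |C.kk θ| := by
        nlinarith [mul_nonneg (sq_nonneg w) (sub_nonneg.2 h1)]
      have h3 : (N : ℤ) * |C.kk θ| ≤ w ^ 2 + 2 * w * D :=
        le_of_mul_le_mul_right (by rw [mul_assoc, ← sq]; exact h2) (by linarith)
      nlinarith [mul_le_mul_of_nonneg_left h1 (Nat.cast_nonneg N : (0 : ℤ) ≤ N)]
    obtain ⟨m, hmD, hmd, hm⟩ : ∃ m : ℤ, D ≤ m ∧ (C.d : ℤ) ≤ m ∧ 2 * m ^ 2 ≤ (N : ℤ) := by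
      rcases le_total D (C.d : ℤ) with h | h
      exacts [⟨_, h, le_rfl, hd'⟩, ⟨_, le_rfl, h, hD'⟩]
    nlinarith [mul_le_mul_of_nonneg_left hmD (by linarith : (0 : ℤ) ≤ 2 * w),
      mul_nonneg (by linarith : (0 : ℤ) ≤ m - (2 * w - 1)) (by linarith : (0 : ℤ) ≤ m)]
  have hc : C.c = 0 := hzero C.one (fun x _ => rfl) (Or.inr rfl)
  have hk : C.k = 0 := by
    have h := C.wk_eq C.i₀_ne
    rw [hc, hzero _ (p.theta_trivJ C C.i₀) (Or.inl (by rw [C.deg_theta C.i₀_ne]; exact C.one_lt_d.ne')),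
      mul_zero, sub_zero] at h
    exact (mul_eq_zero.1 h).resolve_left (by exact_mod_cast Nat.card_pos.ne')
  refine C.concl hc hk (subH T H J) (fun x hx => hζ x (Subgroup.mem_sup_right hx))
    (fun θ hθ hd => hzero θ (fun x hx => hθ x hx) (Or.inl hd)) ?_
  rw [card_subH d p.J_le, s.card_H d]
  exact Nat.mul_le_mul_right _ hsz

/-- The argument for a given reduction. -/
theorem main (s : TailRed T H (Nat.card K) R J V) (C : TData T Z K H)
    (hsz : Nat.card K * (2 * Nat.card Z + 1) ≤ Nat.card R)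
    (hζ : ∀ x : ↥(H.subgroupOf T), ((x : T) : G) ∈ V ⊔ J → C.ζ (x : T) = C.ζ 1)
    (hκ : ∃ κ : ℤ, C.tot (redY T H J V) = κ * (TData.wt (redY T H J V) : ℤ)) : TailConcl C.E H := by
  classical
  have d := C.tail
  obtain ⟨κ, hκ⟩ := hκ
  have hb := C.tot_bound (fun t θ hθ => s.redY_conj t hθ) (fun θ hθ => s.nonLin C hθ)
  have hV := d.three_le_card V s.V_ne
  have hK := d.three_le_card K d.K_ne
  set N := TData.wt (redY T H J V) with hNdef
  have hwN : Nat.card Z < N := by
    have hwt := s.wt_eq d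
    rw [← hNdef] at hwt
    have h1 : 3 * (2 * Nat.card Z + 1) ≤ Nat.card R := le_trans (Nat.mul_le_mul_right _ hK) hsz
    have h2 : Nat.card R * 2 ≤ N * Nat.card V := by
      rw [hwt]; exact Nat.mul_le_mul_left _ (by omega)
    by_contra hc
    have h3 : Nat.card R * (Nat.card V - 1) ≤ Nat.card Z * Nat.card V := by
      rw [← hwt]; exact Nat.mul_le_mul_right _ (not_lt.1 hc)
    have h4 : Nat.card Z * Nat.card V ≤ Nat.card Z * (2 * (Nat.card V - 1)) := Nat.mul_le_mul_left _ (by omega)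
    have h5 : Nat.card R ≤ Nat.card Z * 2 :=
      Nat.le_of_mul_le_mul_right (h3.trans (h4.trans (le_of_eq (mul_assoc _ _ _).symm))) (by omega)
    omega
  have hwN' : (Nat.card Z : ℤ) < N := by exact_mod_cast hwN
  have hn : (2 : ℤ) ≤ ((linFam T H).card : ℤ) := by exact_mod_cast C.two_le
  rw [hκ] at hb
  have hle : ((linFam T H).card : ℤ) * κ ^ 2 - 2 * κ ≤ 0 := by
    by_contra hc
    have h1 : (N : ℤ) * N * 1 ≤ (N : ℤ) * N * (((linFam T H).card : ℤ) * κ ^ 2 - 2 * κ) :=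
      mul_le_mul_of_nonneg_left (by omega) (by positivity)
    have h2 : (Nat.card Z : ℤ) * N < (N : ℤ) * N := mul_lt_mul_of_pos_right hwN' (by linarith)
    linarith
  by_cases h0 : κ = 0
  · exact p.finish s C hsz hζ (by rw [hκ, h0, zero_mul])
  have h1 : κ = 1 := by
    have hsq : κ * κ ≤ κ := by nlinarith [mul_le_mul_of_nonneg_right hn (sq_nonneg κ)]
    rcases lt_or_gt_of_ne h0 with h | h <;> nlinarith
  have hn2 : (linFam T H).card = 2 := by
    rw [h1] at hle
    omega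
  refine p.finish s (C.swap hn2) hsz hζ ?_
  simp only [TData.tot]
  rw [Finset.sum_congr rfl fun θ hθ => by
    rw [C.kk_swap hn2 (s.nonLin C hθ), mul_sub], Finset.sum_sub_distrib]
  have h2 : C.tot (redY T H J V) = (N : ℤ) := by rw [hκ, h1, one_mul]
  simp only [TData.tot] at h2
  rw [h2, hNdef]
  simp only [TData.wt]
  push_cast
  simp [sq]

end NilpParts

end Aux

/-- The conclusion from a maximal subgroup `T = H ⋊ Z` with `H` nilpotent. -/
theorem tail_nilpotent {G : Type u} [Group G] [Fintype G] {T Z K H : Subgroup G} (E : Grid K Z)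
    (d : Tail T Z K H) (hn : Group.IsNilpotent H) : TailConcl E H := by
  classical
  haveI : Fintype T := Fintype.ofFinite _
  haveI : Fintype ↥(H.subgroupOf T) := Fintype.ofFinite _
  haveI : (H.subgroupOf T).Normal := Subgroup.normal_subgroupOf_of_le_normalizer d.H_norm
  obtain ⟨R, J, p⟩ := d.exists_parts hn
  obtain ⟨C₀, hC₀⟩ := d.exists_data E
  subst hC₀
  obtain ⟨⟨l, hl, hlJ⟩, hsz⟩ := p.exists_lin C₀.M C₀.E
  let C : TData T Z K H := { C₀ with
    ζ := indFun (H.subgroupOf T) (linIrr l : ↥(H.subgroupOf T) → ℂ)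
    mem := mem_linFam.2 ⟨l, hl, rfl⟩ }
  have hζ : ∀ {V : Subgroup G}, TailRed T H (Nat.card K) R J V →
      ∀ x : ↥(H.subgroupOf T), ((x : T) : G) ∈ V ⊔ J → C.ζ (x : T) = C.ζ 1 := by
    intro V s x hx
    have hker : ∀ y : ↥(H.subgroupOf T), ((y : T) : G) ∈ V ⊔ J → l y = 1 := by
      intro y hy
      obtain ⟨v, hv, j, hj, e⟩ := (s.mem_sup d).1 hy
      obtain rfl : y = (⟨⟨v, d.H_le (s.V_core hv)⟩, s.V_core hv⟩ : ↥(H.subgroupOf T)) *
          ⟨⟨j, d.H_le (s.J_le hj)⟩, s.J_le hj⟩ := Subtype.ext (Subtype.ext e)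
      rw [map_mul, hlJ ⟨⟨j, d.H_le (s.J_le hj)⟩, s.J_le hj⟩ hj, mul_one]
      exact MonoidHom.mem_ker.1 (Abelianization.commutator_subset_ker l (s.derived_mem d (s.V_derived hv)))
    show indFun (H.subgroupOf T) (linIrr l : ↥(H.subgroupOf T) → ℂ) (x : T) = _
    rw [show C.ζ 1 = (Nat.card Z : ℂ) from linFam_deg C.M C.E d C.mem, indFun_restrict_normal,
      Finset.sum_congr rfl (g := fun _ => (1 : ℂ)) fun t _ => by
        show (l (MulAut.conjNormal t x) : ℂ) = 1
        rw [hker _ (conj_coe_mem s.sup_norm t hx), Units.val_one],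
      Finset.sum_const, nsmul_one, Finset.card_univ, ← Nat.card_eq_fintype_card,
      ← (H.subgroupOf T).index_mul_card, d.index_H]
    push_cast
    rw [mul_comm (Nat.card Z : ℂ), ← mul_assoc, inv_mul_cancel₀ (Nat.cast_ne_zero.2 Nat.card_pos.ne'), one_mul]
  by_cases hc : ∀ x ∈ H, ∀ k ∈ K, x * k = k * x
  · exact p.main (p.red_K hc) C hsz (hζ (p.red_K hc)) (p.kappa_K hc C (hζ (p.red_K hc)))
  · obtain ⟨V, s, hfree⟩ := p.red_V hc
    exact p.main s C hsz (hζ s) (p.kappa_V s hfree C (hζ s))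

end Cfsg.Agent.OddFT
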