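import Cfsg.Agent.Lib.OddChar.FT.Base
import Cfsg.Agent.Lib.OddChar.Supporting
import Cfsg.Agent.Lib.OddLocal.KappaHatConj

/-!
Induction from a maximal subgroup with a `κ`-prime on a set of elements having a nontrivial power in its
`σ`-core.
-/

set_option autoImplicit false
set_option linter.unusedSectionVars false
set_option linter.unusedVariables false
set_option linter.style.haveILetI false

open Cfsg Cfsg.Agent.Char Cfsg.Agent.OddChar
open scoped ComplexConjugate

namespace Cfsg.Agent.OddFT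

universe u

variable {G : Type u} [Group G] [Fintype G]

/-- A set of nonidentity elements of `M`, normalized by `M`, with fusion only inside `M`. -/
structure IsTI (M : Subgroup G) (X : Set G) : Prop where
  subset : ∀ a ∈ X, a ∈ M
  ne_one : (1 : G) ∉ X
  conj_mem : ∀ x ∈ M, ∀ a ∈ X, x * a * x⁻¹ ∈ X
  ti : ∀ g : G, ∀ a ∈ X, g * a * g⁻¹ ∈ X → g ∈ M

section Sigma

variable {M : Subgroup G}

/-- For nonempty `κ(M)` the centralizers of the nonidentity elements of `M_σ` lie in `M`. -/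
theorem centralizer_le_of_kappa (hG : IsMinSimpleOddOrder G) (hM : IsCoatom M) (hκ : kappa M ≠ ∅) {x : G}
    (hx : x ∈ sigmaCore M) (hx1 : x ≠ 1) : Subgroup.centralizer ({x} : Set G) ≤ M := by
  by_contra hxM
  obtain ⟨L, hL⟩ := OddLocal.Kappa.exists_over_facts hG hM hx hx1 hxM
  exact hκ hL.kappa

/-- For nonempty `κ(M)` a nonidentity element of `M_σ` lies in no other conjugate of `M`. -/
theorem mem_of_conj_mem (hG : IsMinSimpleOddOrder G) (hM : IsCoatom M) (hκ : kappa M ≠ ∅) {x : G}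
    (hx : x ∈ sigmaCore M) (hx1 : x ≠ 1) {g : G} (hg : g * x * g⁻¹ ∈ M) : g ∈ M := by
  have hxg : x ∈ Fusion.cj M g⁻¹ := Fusion.mem_cj.2 (by simpa using hg)
  obtain ⟨ρ, -, hρ, h | h⟩ := OddLocal.Support.transport hG hM hx hx1 hxg
  · rw [h, Fusion.cj_one] at hρ
    have h1 : g⁻¹ ∈ Subgroup.normalizer (M : Set G) := Fusion.mem_normalizer_iff_cj.2 hρ.symm
    rw [OddLocal.Sig.normalizer_coatom hG hM] at h1
    simpa using M.inv_mem h1
  · exact absurd (centralizer_le_of_kappa hG hM hκ hx hx1) h.1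

/-- The elements of `M` with a nontrivial power in `M_σ`. -/
def sigmaSet (M : Subgroup G) : Set G := {a | a ∈ M ∧ ∃ n : ℕ, a ^ n ∈ sigmaCore M ∧ a ^ n ≠ 1}

theorem sigmaSet_ti (hG : IsMinSimpleOddOrder G) (hM : IsCoatom M) (hκ : kappa M ≠ ∅) :
    IsTI M (sigmaSet M) := by
  refine ⟨fun a ha => ha.1, ?_, fun x hx a ha => ⟨M.mul_mem (M.mul_mem hx ha.1) (M.inv_mem hx), ?_⟩,
    fun g a ha hga => ?_⟩
  · rintro ⟨-, n, -, h⟩
    exact h (one_pow n)
  · obtain ⟨n, hn, hn1⟩ := ha.2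
    refine ⟨n, ?_, ?_⟩
    · rw [conj_pow]
      exact (Subgroup.mem_normalizer_iff.1 (OddLocal.Sig.le_normalizer_piCoreOf hx) _).1 hn
    · rw [conj_pow]
      exact fun h => hn1 (conj_eq_one_iff.1 h)
  · obtain ⟨n, hn, hn1⟩ := ha.2
    refine mem_of_conj_mem hG hM hκ hn hn1 ?_
    rw [← conj_pow]
    exact M.pow_mem hga.1 n

theorem sigmaSet_pow {a : G} (ha : a ∈ sigmaSet M) {k : ℕ} (hk : k.Coprime (Nat.card G)) :
    a ^ k ∈ sigmaSet M := by
  obtain ⟨haM, n, hn, hn1⟩ := ha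
  refine ⟨M.pow_mem haM k, n, ?_, ?_⟩
  · rw [← pow_mul, mul_comm, pow_mul]
    exact Subgroup.pow_mem _ hn k
  · rw [← pow_mul, mul_comm, pow_mul]
    intro h
    exact hn1 (orderOf_eq_one_iff.1 (Nat.eq_one_of_dvd_coprimes hk (orderOf_dvd_of_pow_eq_one h)
      (orderOf_dvd_natCard _)))

end Sigma

namespace IsTI

variable {M : Subgroup G} [Fintype M] {X : Set G} (hT : IsTI M X)
include hT

theorem mono {Y : Set G} (hY : Y ⊆ X) (hc : ∀ x ∈ M, ∀ a ∈ Y, x * a * x⁻¹ ∈ Y) : IsTI M Y :=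
  ⟨fun a ha => hT.subset a (hY ha), fun h => hT.ne_one (hY h), hc,
    fun g a ha hga => hT.ti g a (hY ha) (hY hga)⟩

theorem ind_apply {α : M → ℂ} (hα : IsClassFunction M α) (hs : ∀ x : M, (x : G) ∉ X → α x = 0) {a : M}
    (ha : (a : G) ∈ X) : indFun M α a = α a := by
  classical
  have : ∀ x : G, extendByZero M α (x⁻¹ * (a : G) * x) = if x ∈ M then α a else 0 := by
    intro x
    split_ifs with hx
    · have hm : x⁻¹ * (a : G) * x ∈ M := M.mul_mem (M.mul_mem (M.inv_mem hx) a.2) hx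
      rw [extendByZero_mem M α hm, ← hα a ⟨x⁻¹, M.inv_mem hx⟩]
      congr 1
      ext
      simp
    · by_cases hm : x⁻¹ * (a : G) * x ∈ M
      · rw [extendByZero_mem M α hm]
        refine hs _ fun hX => hx ?_
        simpa using M.inv_mem (hT.ti x⁻¹ a ha (by simpa using hX))
      · exact extendByZero_not_mem M α hm
  rw [indFun]
  simp only [this, Finset.sum_ite, Finset.sum_const_zero, add_zero, Finset.sum_const, nsmul_eq_mul]
  rw [← Fintype.card_subtype, ← Nat.card_eq_fintype_card, ← mul_assoc, inv_mul_cancel₀, one_mul]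
  exact Nat.cast_ne_zero.mpr Nat.card_pos.ne'

theorem ind_eq_zero {α : M → ℂ} (hs : ∀ x : M, (x : G) ∉ X → α x = 0) {g : G}
    (hg : ∀ y : G, y * g * y⁻¹ ∉ X) : indFun M α g = 0 := by
  rw [indFun, Finset.sum_eq_zero, mul_zero]
  intro x _
  by_cases hm : x⁻¹ * g * x ∈ M
  · rw [extendByZero_mem M α hm]
    exact hs _ (by simpa using hg x⁻¹)
  · exact extendByZero_not_mem M α hm

theorem inner {α β : M → ℂ} (hαs : ∀ x : M, (x : G) ∉ X → α x = 0) (hβ : IsClassFunction M β)
    (hβs : ∀ x : M, (x : G) ∉ X → β x = 0) :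
    classInner (indFun M α) (indFun M β) = classInner α β := by
  rw [frobenius M α (isClassFunction_indFun M β), classInner, classInner]
  congr 1
  refine Finset.sum_congr rfl fun x _ => ?_
  by_cases hx : (x : G) ∈ X
  · rw [hT.ind_apply hβ hβs hx]
  · rw [hαs x hx, zero_mul, zero_mul]

theorem inner_one (α : M → ℂ) : classInner (indFun M α) (fun _ => 1) = classInner α (fun _ => 1) :=
  frobenius M α (fun _ _ => rfl)

theorem ind_gen {α : M → ℂ} (hα : IsGeneralizedCharacter M α) : IsGeneralizedCharacter G (indFun M α) := by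
  obtain ⟨a, b, ha, hb, rfl⟩ := hα
  exact ⟨_, _, isCharacter_indFun M ha, isCharacter_indFun M hb, indFun_sub M a b⟩

end IsTI

end Cfsg.Agent.OddFT
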