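import Cfsg.Agent.Lib.OddChar.FT.Grid
import Cfsg.Agent.Lib.OddChar.FT.TISet
import Cfsg.Prelude.Def_OddOrderLocal

/-!
The data of the final argument: one side of the pair `(S, T)`, its layers, coherent families and the
neighbour over the normalizer of `U`.
-/

set_option autoImplicit false
set_option linter.unusedSectionVars false
set_option linter.unusedVariables false

open Cfsg Cfsg.Agent.Char Cfsg.Agent.OddChar
open scoped ComplexConjugate

namespace Cfsg.Agent.OddFT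

universe u

variable {G : Type u} [Group G]

/-- The elements conjugate into `X`. -/
def conjSet (X : Set G) : Set G := {g | ∃ x : G, x * g * x⁻¹ ∈ X}

/-- One side: `S = (P ⋊ U) ⋊ K` with `Z = C_P(K)`. The subgroup `P` need not be all of the `σ`-core. -/
structure Side (S K Z P U : Subgroup G) : Prop where
  minSimple : IsMinSimpleOddOrder G
  coatom : IsCoatom S
  kappa_ne : kappa S ≠ ∅
  sn : IsSelfNormalizingCyclic K Z
  prime : (Nat.card K).Prime
  P_le : P ≤ sigmaCore S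
  P_nil : Group.IsNilpotent P
  P_norm : S ≤ Subgroup.normalizer (P : Set G)
  U_le : U ≤ S
  K_le : K ≤ S
  U_norm : K ≤ Subgroup.normalizer (U : Set G)
  mul : ∀ s ∈ S, ∃ p ∈ P, ∃ u ∈ U, ∃ k ∈ K, s = p * u * k
  card_eq : Nat.card S = Nat.card P * Nat.card U * Nat.card K
  U_comm : IsMulCommutative U
  U_ne : U ≠ ⊥
  fpf : ∀ k ∈ K, k ≠ 1 → ∀ u ∈ U, k * u = u * k → u = 1
  fix : P ⊓ Subgroup.centralizer (K : Set G) = Z
  fixU : P ⊓ Subgroup.centralizer (U : Set G) = ⊥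
  card_P : Nat.card P = Nat.card Z ^ Nat.card K
  coUP : (Nat.card U).Coprime (Nat.card P)
  coKP : (Nat.card K).Coprime (Nat.card P)
  coKU : (Nat.card K).Coprime (Nat.card U)

/-- The part of `U` centralising `P / N`. -/
def layerC (P U N : Subgroup G) : Subgroup G :=
  U ⊓ ⨅ p : P,
    { carrier := {x : G | x ∈ Subgroup.normalizer (N : Set G) ∧ (p : G) * x * (p : G)⁻¹ * x⁻¹ ∈ N}
      one_mem' := ⟨one_mem _, by simp⟩
      mul_mem' := fun {a b} ha hb => ⟨mul_mem ha.1 hb.1, by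
        have h := (Subgroup.mem_normalizer_iff.1 ha.1 _).1 hb.2
        have e : (p : G) * (a * b) * (p : G)⁻¹ * (a * b)⁻¹ =
            ((p : G) * a * (p : G)⁻¹ * a⁻¹) * (a * ((p : G) * b * (p : G)⁻¹ * b⁻¹) * a⁻¹) := by group
        show (p : G) * (a * b) * (p : G)⁻¹ * (a * b)⁻¹ ∈ N
        rw [e]
        exact mul_mem ha.2 h⟩
      inv_mem' := fun {a} ha => ⟨inv_mem ha.1, by
        have h := (Subgroup.mem_normalizer_iff.1 (inv_mem ha.1) _).1 (inv_mem ha.2)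
        have e : (p : G) * a⁻¹ * (p : G)⁻¹ * a⁻¹⁻¹ =
            a⁻¹ * ((p : G) * a * (p : G)⁻¹ * a⁻¹)⁻¹ * a⁻¹⁻¹ := by group
        show (p : G) * a⁻¹ * (p : G)⁻¹ * a⁻¹⁻¹ ∈ N
        rw [e]
        exact h⟩ }

theorem mem_layerC {P U N : Subgroup G} (hN : U ≤ Subgroup.normalizer (N : Set G)) {x : G} :
    x ∈ layerC P U N ↔ x ∈ U ∧ ∀ p ∈ P, p * x * p⁻¹ * x⁻¹ ∈ N := by
  simp only [layerC, Subgroup.mem_inf, Subgroup.mem_iInf]
  exact ⟨fun h => ⟨h.1, fun p hp => (h.2 ⟨p, hp⟩).2⟩, fun h => ⟨h.1, fun p => ⟨hN h.1, h.2 p p.2⟩⟩⟩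

/-- A layer: `P / N` is elementary abelian of order `r ^ |K|`. -/
structure IsLayer (S K Z P U N : Subgroup G) (r : ℕ) : Prop where
  side : Side S K Z P U
  prime : r.Prime
  le : N ≤ P
  norm : S ≤ Subgroup.normalizer (N : Set G)
  index : Nat.card ↥(Z ⊓ N) * r = Nat.card Z
  pow : ∀ a ∈ P, a ^ r ∈ N
  comm : ∀ a ∈ P, ∀ b ∈ P, a * b * a⁻¹ * b⁻¹ ∈ N

/-- The nontrivial linear characters of `Z` trivial on `Z ⊓ N`. -/
def layerJ (Z N : Subgroup G) : Set (↥Z →* ℂˣ) := {j | j ≠ 1 ∧ ∀ z : Z, (z : G) ∈ N → j z = 1}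

section Families

variable [Fintype G]

/-- A coherent orthonormal family of signed characters for `τ` on the set `F`. -/
structure Fam {L : Subgroup G} [Fintype L] (τ : (L → ℂ) → G → ℂ) (F : Set (L → ℂ))
    (φ : (L → ℂ) → G → ℂ) : Prop where
  irr : ∀ a ∈ F, IsIrrCharacter L a
  signed : ∀ a ∈ F, IsSigned G (φ a)
  orth : ∀ a ∈ F, ∀ b ∈ F, a ≠ b → classInner (φ a) (φ b) = 0
  diff : ∀ a ∈ F, ∀ b ∈ F, τ (b 1 • a - a 1 • b) = b 1 • φ a - a 1 • φ b

end Families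

/-- A maximal subgroup `L` over `N(U)`, with complement `E` of its core inside `T`. -/
structure Nbr (S K U T L H E : Subgroup G) : Prop where
  minSimple : IsMinSimpleOddOrder G
  coatom : IsCoatom L
  kappa_eq : kappa L = ∅
  H_eq : H = sigmaCore L
  U_le : U ≤ H
  normalizer_le : Subgroup.normalizer (U : Set G) ≤ L
  meet : S ⊓ L = U ⊔ K
  compl : IsComplIn E H L
  K_le : K ≤ E
  E_le : E ≤ T
  not_le : ¬ L ≤ S
  fpf : ∀ e ∈ E, e ≠ 1 → ∀ h ∈ H, e * h = h * e → h = 1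
  nilpotent : Group.IsNilpotent H
  not_conj_S : ∀ g : G, ∀ t : ℕ, t.Prime → t ∈ sigma L → t ∉ sigma (Fusion.cj S g)
  not_conj_T : ∀ g : G, ∀ t : ℕ, t.Prime → t ∈ sigma L → t ∉ sigma (Fusion.cj T g)

end Cfsg.Agent.OddFT
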