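import Cfsg.Agent.Lib.OddChar.FT.SplitTail
import Cfsg.Agent.Lib.OddChar.FT.Defs
import Cfsg.Agent.Lib.Char.RelFixLayer

/-!
The tail with nonnilpotent `σ`-core: the coefficient of the principal part vanishes, except in one residual
configuration where `T = (Q D) Z` is a side with `|K| < |Z|`.
-/

set_option autoImplicit false
set_option linter.unusedSectionVars false
set_option linter.unusedVariables false
set_option linter.style.haveILetI false

open Cfsg Cfsg.Agent.Char Cfsg.Agent.OddChar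
open scoped ComplexConjugate commutatorElement
open Cfsg.Agent.OddLocal

namespace Cfsg.Agent.OddFT

universe u

variable {G : Type u} [Group G] [Fintype G] {T Z K H Q D H₁ : Subgroup G}

/-- The exponents prime to `|G|` are transitive on the nontrivial characters of a subgroup of prime order. -/
theorem exists_pow_of_prime {A : Subgroup G} (hp : (Nat.card A).Prime) {i i' : ↥A →* ℂˣ} (hi : i ≠ 1)
    (hi' : i' ≠ 1) : ∃ m : ℕ, m.Coprime (Nat.card G) ∧ i' = i ^ m := by
  haveI : Fact (Nat.card A).Prime := ⟨hp⟩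
  haveI : IsMulCommutative ↥A := by
    haveI := isCyclic_of_prime_card (α := ↥A) rfl
    letI := IsCyclic.commGroup (α := ↥A)
    exact ⟨⟨mul_comm⟩⟩
  haveI : Finite (↥A →* ℂˣ) := Finite.of_fintype _
  have hc : Nat.card (↥A →* ℂˣ) = Nat.card A := by
    rw [card_hom_units, (_root_.commutator_eq_bot_iff _).2 inferInstance]
    exact Subgroup.index_bot
  haveI : Fact (Nat.card (↥A →* ℂˣ)).Prime := ⟨hc ▸ hp⟩
  have hord : orderOf i = Nat.card A := orderOf_eq_prime (hom_pow_card i) hi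
  obtain ⟨n, rfl⟩ : ∃ n : ℕ, i' = i ^ n := by
    obtain ⟨m, hm⟩ := (Subgroup.mem_zpowers_iff).1 (mem_zpowers_of_prime_card (h := hc) (g' := i') hi)
    obtain ⟨n, hn⟩ := mem_powers_iff_mem_zpowers (x := i) (y := i').2 ⟨m, hm⟩
    exact ⟨n, hn.symm⟩
  have hn : n.Coprime (Nat.card A) := by
    rw [Nat.coprime_comm, hp.coprime_iff_not_dvd]
    rintro ⟨c, rfl⟩
    refine hi' (MonoidHom.ext fun x => ?_)
    rw [MonoidHom.pow_apply, pow_mul, ← map_pow, pow_card_eq_one', map_one, one_pow, MonoidHom.one_apply]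
  obtain ⟨k, hk, hkn⟩ := exists_coprime_modEq (Subgroup.card_subgroup_dvd_card A) Nat.card_pos.ne' hn
  exact ⟨k, hk, (pow_eq_pow_iff_modEq (x := i)).2 (hord.symm ▸ hkn.symm)⟩

variable [Fintype T] [Fintype ↥(H.subgroupOf T)] [(H.subgroupOf T).Normal]

/-- A normal subgroup `N < H` of `T` over `H'` lies in the kernel of some member of the family. -/
theorem exists_linFam_trivial (hHT : H ≤ T) {N : Subgroup G} (hN : T ≤ Subgroup.normalizer (N : Set G))
    (hd : ⁅H, H⁆ ≤ N) (hne : ¬ H ≤ N) :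
    ∃ a ∈ linFam T H, ∀ x : T, (x : G) ∈ H → (x : G) ∈ N → a x = a 1 := by
  classical
  set N' : Subgroup ↥(H.subgroupOf T) := (N.subgroupOf T).subgroupOf (H.subgroupOf T) with hN'
  haveI : (N.subgroupOf T).Normal := Subgroup.normal_subgroupOf_of_le_normalizer hN
  have hcN : commutator ↥(H.subgroupOf T) ≤ N' := by
    rw [commutator_def]
    exact Subgroup.commutator_le.2 fun a _ b _ =>
      hd (Subgroup.commutator_mem_commutator (show ((a : T) : G) ∈ H from a.2) (show ((b : T) : G) ∈ H from b.2))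
  have hbot : commutator (↥(H.subgroupOf T) ⧸ N') = ⊥ := by
    rw [commutator_def, ← Subgroup.map_top_of_surjective (QuotientGroup.mk' N') (QuotientGroup.mk'_surjective N'),
      ← Subgroup.map_commutator, Subgroup.map_eq_bot_iff, QuotientGroup.ker_mk', ← commutator_def]
    exact hcN
  have hidx : 1 < N'.index := by
    refine lt_of_le_of_ne (Nat.one_le_iff_ne_zero.2 Subgroup.index_ne_zero_of_finite) fun h => hne fun g hg => ?_
    have h1 : (⟨⟨g, hHT hg⟩, hg⟩ : ↥(H.subgroupOf T)) ∈ N' := by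
      rw [Subgroup.index_eq_one.1 h.symm]; exact Subgroup.mem_top _
    exact h1
  have hcard : 1 < Nat.card ((↥(H.subgroupOf T) ⧸ N') →* ℂˣ) := by
    rw [card_hom_units, hbot, Subgroup.index_bot]
    exact hidx
  haveI := Finite.one_lt_card_iff_nontrivial.1 hcard
  obtain ⟨l₀, hl₀⟩ := exists_ne (1 : (↥(H.subgroupOf T) ⧸ N') →* ℂˣ)
  set l := l₀.comp (QuotientGroup.mk' N') with hl
  have hl1 : l ≠ 1 := fun h => hl₀ (by
    refine MonoidHom.ext fun y => ?_
    obtain ⟨x, rfl⟩ := QuotientGroup.mk'_surjective N' y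
    exact DFunLike.congr_fun h x)
  have hlN : ∀ y ∈ N', l y = 1 := fun y hy => by
    rw [hl, MonoidHom.comp_apply, show QuotientGroup.mk' N' y = 1 from (QuotientGroup.eq_one_iff y).2 hy, map_one]
  refine ⟨_, mem_linFam.2 ⟨l, hl1, rfl⟩, fun x hxH hxN => ?_⟩
  rw [show x = ((⟨x, hxH⟩ : ↥(H.subgroupOf T)) : T) from rfl, indFun_restrict_normal, indFun_one]
  have hv : ∀ y : T, (linIrr l : ↥(H.subgroupOf T) → ℂ) (MulAut.conjNormal y ⟨x, hxH⟩) = 1 := fun y => by
    show ((l _ : ℂˣ) : ℂ) = 1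
    rw [hlN _ (show ((MulAut.conjNormal y (⟨x, hxH⟩ : ↥(H.subgroupOf T)) : T) : G) ∈ N by
      simpa using Solv.conj_mem_of_mem_normalizer (hN y.2) hxN), Units.val_one]
  rw [Finset.sum_congr rfl fun y _ => hv y, show (linIrr l : ↥(H.subgroupOf T) → ℂ) 1 = 1 by simp [linIrr],
    Finset.sum_const, nsmul_one, Finset.card_univ, ← Nat.card_eq_fintype_card, mul_one,
    ← (H.subgroupOf T).index_mul_card, Nat.cast_mul]
  have h0 : (Nat.card ↥(H.subgroupOf T) : ℂ) ≠ 0 := Nat.cast_ne_zero.2 Nat.card_pos.ne'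
  field_simp

namespace TData

variable (C : TData T Z K H)
include C

/-- Each column of `τβ'` costs at least one unless `a = 1`; then `a = 0`. -/
theorem a_zero (ha : C.a ≠ 1) :
    C.a = 0 ∧ ((linFam T H).card : ℤ) * C.c ^ 2 - 2 * C.c ≤ 0 := by
  classical
  have hq : (3 : ℤ) ≤ Nat.card K := by exact_mod_cast C.tail.three_le_card K C.tail.K_ne
  have hn : (2 : ℤ) ≤ (linFam T H).card := by exact_mod_cast C.two_le
  have hterm : ∀ j, (1 : ℤ) ≤ C.b j ^ 2 + ((Nat.card K : ℤ) - 1) * (C.a + C.b j - 1) ^ 2 := by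
    intro j
    by_cases hb : C.b j = 0
    · rw [hb, add_zero]
      have h1 : 0 < (C.a - 1) ^ 2 := by
        have : C.a - 1 ≠ 0 := sub_ne_zero.2 ha
        positivity
      nlinarith
    · have h1 : 0 < C.b j ^ 2 := by positivity
      nlinarith [sq_nonneg (C.a + C.b j - 1)]
  have hsum := Finset.sum_le_sum (s := Finset.univ.erase (1 : ↥Z →* ℂˣ)) fun j _ => hterm j
  rw [Finset.sum_const, nsmul_one, Finset.card_erase_of_mem (Finset.mem_univ _), Finset.card_univ,
    C.E.card_right, Nat.cast_sub C.w_pos, Nat.cast_one] at hsum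
  have hE := C.energy
  have h0 : (0 : ℤ) ≤ ((linFam T H).card : ℤ) * C.c ^ 2 - 2 * C.c := by
    rcases le_or_gt C.c 0 with h | h <;> nlinarith [sq_nonneg C.c]
  have ha2 : C.a ^ 2 = 0 := le_antisymm (by nlinarith [sq_nonneg C.a]) (sq_nonneg _)
  exact ⟨pow_eq_zero_iff two_ne_zero |>.1 ha2, by nlinarith [sq_nonneg C.a]⟩

/-- The possible values of `c` when the column inequality is tight. -/
theorem c_cases (h : ((linFam T H).card : ℤ) * C.c ^ 2 - 2 * C.c ≤ 0) :
    C.c = 0 ∨ (C.c = 1 ∧ (linFam T H).card = 2) := by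
  have hn : (2 : ℤ) ≤ (linFam T H).card := by exact_mod_cast C.two_le
  rcases eq_or_ne C.c 0 with h0 | h0
  · exact Or.inl h0
  have hc1 : C.c = 1 := by
    rcases lt_or_gt_of_ne h0 with h1 | h1 <;> nlinarith
  refine Or.inr ⟨hc1, ?_⟩
  rw [hc1] at h
  have : ((linFam T H).card : ℤ) = 2 := by linarith
  exact_mod_cast this

/-- If `|H : H'| ≥ 3 d` then `k = c = 0`. -/
theorem large (h3 : 3 * C.d ≤ (linFam T H).card * Nat.card Z + 1) : C.c = 0 ∧ C.k = 0 := by
  classical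
  have hw : 3 ≤ Nat.card Z := C.w_three
  have hd := C.two_w_le
  have habs : 2 * (Nat.card Z : ℤ) * |C.cF| ≤ (C.d : ℤ) + 1 := by
    rw [show 2 * (Nat.card Z : ℤ) * |C.cF| = |C.e * C.d - 1| by
      rw [C.ed_cong, abs_mul, abs_of_nonneg (show (0 : ℤ) ≤ 2 * (Nat.card Z : ℤ) by positivity)]]
    rcases C.M.sgn_cases C.i₀ with he | he <;> simp only [e, he] <;> rw [abs_le] <;> constructor <;> linarith
  have h3' : 3 * (C.d : ℤ) ≤ (linFam T H).card * (Nat.card Z : ℤ) + 1 := by exact_mod_cast h3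
  have hdZ : 2 * (Nat.card Z : ℤ) ≤ (C.d : ℤ) + 1 := by exact_mod_cast hd
  have hwZ : (3 : ℤ) ≤ Nat.card Z := by exact_mod_cast hw
  have hk : C.k = 0 := by
    by_contra hk
    have hb := C.k_bound
    have h1 : (1 : ℤ) ≤ |C.k| := Int.one_le_abs hk
    have h2 : -(|C.cF| * |C.k|) ≤ C.cF * C.k := by rw [← abs_mul]; exact neg_abs_le _
    have h4 : ((linFam T H).card : ℤ) * |C.k| ≤ 4 * |C.cF| :=
      le_of_mul_le_mul_right (by nlinarith [sq_abs C.k]) (lt_of_lt_of_le one_pos h1)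
    have h5 : ((linFam T H).card : ℤ) ≤ 4 * |C.cF| := le_trans (le_mul_of_one_le_right (by positivity) h1) h4
    have h6 := mul_le_mul_of_nonneg_left h5 (show (0 : ℤ) ≤ Nat.card Z by positivity)
    nlinarith
  refine ⟨?_, hk⟩
  have hn5 : 5 ≤ (linFam T H).card := by nlinarith
  obtain ⟨-, hc⟩ := C.a_zero (fun ha => by
    have := C.even_k_add_a
    rw [hk, ha] at this
    exact absurd this (by decide))
  rcases C.c_cases hc with h | ⟨-, h⟩
  · exact h
  · omega

/-- When `d = n w + 1` the sign is positive and `n = 2 cF`. -/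
theorem small_sign (hd : C.d = (linFam T H).card * Nat.card Z + 1) :
    C.e = 1 ∧ ((linFam T H).card : ℤ) = 2 * C.cF := by
  have h := C.ed_cong
  have hw : (3 : ℤ) ≤ Nat.card Z := by exact_mod_cast C.w_three
  have hdZ : (C.d : ℤ) = (linFam T H).card * (Nat.card Z : ℤ) + 1 := by exact_mod_cast hd
  obtain ⟨r, hr⟩ := C.n_even
  have hrZ : ((linFam T H).card : ℤ) = r + r := by exact_mod_cast hr
  rcases C.M.sgn_cases C.i₀ with he | he
  · refine ⟨he, mul_right_cancel₀ (show (Nat.card Z : ℤ) ≠ 0 by omega) ?_⟩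
    simp only [e, he] at h
    linear_combination h - hdZ
  · exfalso
    simp only [e, he] at h
    rw [hdZ, hrZ] at h
    have h2 : (Nat.card Z : ℤ) ∣ 1 := ⟨-C.cF - r, by linarith⟩
    have := Int.le_of_dvd one_pos h2
    omega

/-- When `n = 2 cF` the coefficient `k` is `0`, `-1` or `-2`. -/
theorem k_cases (hn : ((linFam T H).card : ℤ) = 2 * C.cF) : C.k = 0 ∨ C.k = -1 ∨ C.k = -2 := by
  have hb := C.k_bound
  rw [hn] at hb
  have h1 : 0 < C.cF := by
    have : (2 : ℤ) ≤ (linFam T H).card := by exact_mod_cast C.two_le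
    linarith
  have h2 : C.k * (C.k + 2) ≤ 0 := le_of_mul_le_mul_left (by nlinarith) h1
  have h3 : -2 ≤ C.k := by by_contra h; nlinarith
  have h4 : C.k ≤ 0 := by by_contra h; nlinarith
  omega

open Classical in
/-- The case `k = -2`, `c = 0` does not occur. -/
theorem not_minus_two (hd : C.d = (linFam T H).card * Nat.card Z + 1) (hc : C.c = 0) (hk : C.k = -2) : False := by
  obtain ⟨he, hn⟩ := C.small_sign hd
  set θ := C.M.theta C.tail C.i₀ with hθ
  have hnl : C.NonLin θ := C.nonLin_theta _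
  have hdeg : deg (θ : ↥(H.subgroupOf T) → ℂ) = C.d := C.deg_theta C.i₀_ne
  have hkθ : C.kk θ = 2 * (Nat.card Z : ℤ) := by
    have h := C.wk_eq C.i₀_ne
    rw [hk, hc, he] at h
    linarith
  set X := indFun T (C.g θ) with hX
  have hXg : IsGeneralizedCharacter G X := C.tau_gen (C.g_gen θ)
  set z : (↥K →* ℂˣ) → (↥Z →* ℂˣ) → ℤ := fun i l => icoef X (C.E.eta i l) with hzdef
  have hz : ∀ i l, classInner X (C.E.eta i l) = (z i l : ℂ) := fun i l => icoef_spec hXg (C.E.eta_gen i l)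
  have hphi : ∀ a ∈ linFam T H, classInner X (C.φ a) =
      ((2 * (Nat.card Z : ℤ) - if a = C.ζ then (C.d : ℤ) else 0 : ℤ) : ℂ) := fun a ha => by
    rw [hX, C.g_inner hnl ha, hkθ, hdeg]
  have hX1 : classInner X (fun _ => 1) = 0 := by
    rw [hX, IsTI.inner_one C.tail.isTI, g, classInner_sub_left, classInner_smul_left, ← C.M.mu_one_one C.tail,
      C.ind_theta_inner, if_neg C.i₀_ne, C.lin_mu C.mem, mul_zero, sub_zero]
  have h11 : z 1 1 = 0 := by
    have h := hz 1 1
    rw [C.E.one, hX1] at h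
    exact_mod_cast h.symm
  have hadd : ∀ i l, z i l = z i 1 + z 1 l := by
    intro i l
    have h := C.E.rect X (isClassFunction_indFun T _) (C.g_hat θ) i l
    rw [hz, hz, hz, hz, h11] at h
    push_cast at h
    exact_mod_cast (by linear_combination h : (z i l : ℂ) = (z i 1 : ℂ) + z 1 l)
  -- the shape of `τF`
  obtain ⟨h1, h2⟩ := C.F_bessel C.i₀_ne
  obtain ⟨h3, h4⟩ := C.xF_shape C.i₀_ne
  rw [hk] at h1 h2
  have hsh := h4 (by linarith [hn])
  have hFeq := h2 (le_antisymm h1 (by linarith [hn]))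
  have h3i : z C.i₀ 1 = 3 := by
    have e1 : classInner X (indFun T (C.F C.i₀)) = -1 - (C.d : ℂ) * C.cF := by
      rw [hX, C.iso (C.g_supp θ) (C.F_class _) (C.F_supp C.i₀_ne)]
      have a1 : classInner (C.ind θ) (fun _ => (1 : ℂ)) = 0 := by
        rw [← C.M.mu_one_one C.tail, C.ind_theta_inner, if_neg C.i₀_ne]
      simp only [g, F, classInner_sub_left, classInner_smul_left, classInner_add_right, classInner_sub_right,
        classInner_smul_right, map_intCast, a1, hθ, C.ind_theta_inner, C.ind_lin_inner hnl C.mem,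
        C.ind_lin_inner hnl C.conj_mem, C.lin_mu C.mem, C.lin_orth C.mem C.mem, C.lin_orth C.mem C.conj_mem,
        if_neg C.conj_ne.symm, if_true, C.sgn_eq C.i₀_ne,
        show classInner C.ζ (fun _ => (1 : ℂ)) = 0 by rw [← classInner_symm, C.one_lin C.mem, map_zero]]
      rw [← hθ, hdeg]
      simp only [a1, C.ind_lin_inner hnl C.mem, C.ind_lin_inner hnl C.conj_mem]
      simp [he]
      ring
    have e2 : ∀ i : ↥K →* ℂˣ, ∀ l : ↥Z →* ℂˣ,
        classInner X ((C.xF C.i₀ i l : ℂ) • C.E.eta i l) = ((C.xF C.i₀ i l * z i l : ℤ) : ℂ) := fun i l => by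
      rw [classInner_smul_right, map_intCast, hz]; push_cast; rfl
    have e3 : ∑ i, ∑ l, C.xF C.i₀ i l * z i l = -z C.i₀ 1 := by
      rw [Finset.sum_congr rfl (g := fun i => (if i = 1 then z 1 1 else 0) - if i = C.i₀ then z C.i₀ 1 else 0)
        fun i _ => ?_, Finset.sum_sub_distrib, Finset.sum_ite_eq', Finset.sum_ite_eq', if_pos (Finset.mem_univ _),
        if_pos (Finset.mem_univ _), h11, zero_sub]
      rw [Finset.sum_congr rfl (g := fun l => if l = 1 then
          ((if i = 1 then z 1 1 else 0) - if i = C.i₀ then z C.i₀ 1 else 0) else 0) fun l _ => ?_,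
        Finset.sum_ite_eq', if_pos (Finset.mem_univ _)]
      rw [hsh i l]
      by_cases hl : l = 1
      · subst hl
        by_cases hi : i = 1
        · subst hi; simp [C.i₀_ne.symm]
        · by_cases hi' : i = C.i₀
          · subst hi'; simp [hi]
          · simp [hi, hi']
      · simp [hl]
    have e4 : ∀ a ∈ linFam T H,
        classInner X ((((-2 : ℤ) + if a = C.ζ ∨ a = conjFun C.ζ then C.cF else 0 : ℤ) : ℂ) • C.φ a) =
          ((-4 * (Nat.card Z : ℤ) + ((if a = C.ζ then 2 * (Nat.card Z : ℤ) * C.cF + 2 * (C.d : ℤ) - C.cF * C.d else 0) +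
            if a = conjFun C.ζ then 2 * (Nat.card Z : ℤ) * C.cF else 0) : ℤ) : ℂ) := fun a ha => by
      rw [classInner_smul_right, map_intCast, hphi a ha, ← Int.cast_mul]
      congr 1
      by_cases h' : a = C.ζ
      · simp [h', C.conj_ne.symm]; ring
      · by_cases h'' : a = conjFun C.ζ
        · simp [h'', C.conj_ne]; ring
        · simp [h', h'']; ring
    rw [hFeq, classInner_add_right, classInner_sum_right, classInner_sum_right, Finset.sum_congr rfl fun i _ => by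
        rw [classInner_sum_right, Finset.sum_congr rfl fun l _ => e2 i l],
      Finset.sum_congr rfl e4] at e1
    simp only [← Int.cast_sum] at e1
    rw [e3, Finset.sum_add_distrib, Finset.sum_add_distrib, Finset.sum_const, nsmul_eq_mul, Finset.sum_ite_eq',
      Finset.sum_ite_eq', if_pos C.mem, if_pos C.conj_mem] at e1
    have e5 : -z C.i₀ 1 + (((linFam T H).card : ℤ) * (-4 * (Nat.card Z : ℤ)) +
        (2 * (Nat.card Z : ℤ) * C.cF + 2 * (C.d : ℤ) - C.cF * C.d + 2 * (Nat.card Z : ℤ) * C.cF)) =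
        -1 - (C.d : ℤ) * C.cF := by
      have : ((-z C.i₀ 1 + (((linFam T H).card : ℤ) * (-4 * (Nat.card Z : ℤ)) +
        (2 * (Nat.card Z : ℤ) * C.cF + 2 * (C.d : ℤ) - C.cF * C.d + 2 * (Nat.card Z : ℤ) * C.cF)) : ℤ) : ℂ) =
        ((-1 - (C.d : ℤ) * C.cF : ℤ) : ℂ) := by
        push_cast at e1 ⊢
        linear_combination e1
      exact_mod_cast this
    have hdZ : (C.d : ℤ) = (linFam T H).card * (Nat.card Z : ℤ) + 1 := by exact_mod_cast hd
    nlinarith [hdZ, hn]
  have hN : classInner X X = (((Nat.card Z : ℤ) + (C.d : ℤ) ^ 2 : ℤ) : ℂ) := by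
    rw [hX, C.g_g_inner hnl hnl, hdeg]
    have : classInner (C.ind θ) (C.ind θ) = (Nat.card Z : ℂ) := by
      conv_lhs => arg 2; rw [ind, hθ, C.M.ind_theta C.tail]
      rw [classInner_sum_right, Finset.sum_congr rfl fun j _ => by rw [hθ, C.ind_theta_inner, if_pos rfl]]
      simp [C.E.card_right]
    rw [this]; push_cast; ring
  have hb := (grid_bessel C.E (linFam T H) C.φ C.fam.signed C.fam.orth C.fam.eta hXg hz _ hphi hN).1
  rw [sum_sq_single (linFam T H) C.mem] at hb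
  have hpt : ∀ t : ℤ, 5 ≤ t ^ 2 + (3 + t) ^ 2 := fun t => by
    rcases le_or_gt t (-2) with h | h <;> nlinarith
  have hrow : ∀ l, z 1 l ^ 2 + z C.i₀ l ^ 2 ≤ ∑ i, z i l ^ 2 := fun l => by
    rw [← Finset.sum_pair (f := fun i => z i l ^ 2) (Ne.symm C.i₀_ne)]
    exact Finset.sum_le_sum_of_subset_of_nonneg (Finset.subset_univ _) fun i _ _ => sq_nonneg _
  have hlow : 9 + 5 * ((Nat.card Z : ℤ) - 1) ≤ ∑ l, ∑ i, z i l ^ 2 := by
    rw [← Finset.add_sum_erase _ _ (Finset.mem_univ (1 : ↥Z →* ℂˣ))]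
    refine add_le_add (le_trans (by rw [h11, h3i]; norm_num) (hrow 1)) ?_
    refine le_trans (le_of_eq ?_) (Finset.card_nsmul_le_sum _ _ 5 fun l _ => le_trans ?_ (hrow l))
    · rw [nsmul_eq_mul, Finset.card_erase_of_mem (Finset.mem_univ _), Finset.card_univ, C.E.card_right,
        Nat.cast_sub C.w_pos, Nat.cast_one, mul_comm]
    · rw [hadd C.i₀ l, h3i]; exact hpt _
  rw [Finset.sum_comm] at hlow
  have hdZ : (C.d : ℤ) = (linFam T H).card * (Nat.card Z : ℤ) + 1 := by exact_mod_cast hd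
  nlinarith [hb, hlow, hdZ]

/-- For `|Z|` prime the row coefficients are constant. -/
theorem b_const (hp : (Nat.card Z).Prime) {j j' : ↥Z →* ℂˣ} (hj : j ≠ 1) (hj' : j' ≠ 1) : C.b j' = C.b j := by
  obtain ⟨m, hm, rfl⟩ := exists_pow_of_prime hp hj hj'
  have hmT : m.Coprime (Nat.card T) := hm.coprime_dvd_right (Subgroup.card_subgroup_dvd_card T)
  set ζ' : T → ℂ := fun t => C.ζ (t ^ m) with hζ'
  have hmem : ζ' ∈ linFam T H := linFam_pow C.M C.E C.tail C.mem hm
  have hb : (fun t => C.g C.one (t ^ m)) = C.g C.one + (C.ζ - ζ') := by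
    have h1 : (fun t => C.ind C.one (t ^ m)) = C.ind C.one := by
      rw [ind, indFun_comp_pow (H.subgroupOf T) hmT]
    funext t
    have h2 := congrFun h1 t
    simp only [g, Pi.add_apply, Pi.sub_apply, Pi.smul_apply, smul_eq_mul, hζ', C.deg_one, Nat.cast_one, one_mul]
    rw [h2]
    ring
  have hpow : (fun g => C.E.eta 1 j (g ^ m)) = C.E.eta 1 (j ^ m) := by
    funext g
    rw [C.E.power _ _ m hm, show (1 : ↥K →* ℂˣ) ^ m = 1 from MonoidHom.ext fun _ => by simp]
  have h := classInner_powMap hm (indFun T (C.g C.one)) (C.E.eta 1 j)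
  rw [hpow, indFun_comp_pow T hm, hb, indFun_add, C.fam.diff _ C.mem _ hmem, classInner_add_left,
    classInner_sub_left, C.fam.eta _ C.mem, C.fam.eta _ hmem, sub_zero, add_zero, C.zb_spec,
    icoef_spec (C.tau_gen (C.g_gen _)) (C.E.eta_gen 1 j)] at h
  exact_mod_cast h

/-- In the residual case `|K| < |Z|` and the row coefficients vanish. -/
theorem residual (hp : (Nat.card Z).Prime) (hk : C.k = -1) :
    Nat.card K < Nat.card Z ∧ ∀ j ≠ 1, C.b j = 0 := by
  classical
  have hq : (3 : ℤ) ≤ Nat.card K := by exact_mod_cast C.tail.three_le_card K C.tail.K_ne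
  have hn : (2 : ℤ) ≤ (linFam T H).card := by exact_mod_cast C.two_le
  have ha : C.a = 1 := by
    by_contra h
    obtain ⟨h1, -⟩ := C.a_zero h
    have := C.even_k_add_a
    rw [hk, h1] at this
    exact absurd this (by decide)
  have hc : (0 : ℤ) ≤ ((linFam T H).card : ℤ) * C.c ^ 2 - 2 * C.c := by
    rcases le_or_gt C.c 0 with h | h <;> nlinarith [sq_nonneg C.c]
  have hE := C.energy
  have hsum : ∑ j ∈ Finset.univ.erase (1 : ↥Z →* ℂˣ), (C.b j ^ 2 + ((Nat.card K : ℤ) - 1) * (C.a + C.b j - 1) ^ 2) =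
      ∑ j ∈ Finset.univ.erase (1 : ↥Z →* ℂˣ), (Nat.card K : ℤ) * C.b j ^ 2 :=
    Finset.sum_congr rfl fun j _ => by rw [ha]; ring
  rw [hsum] at hE
  have hpos : ∀ j ∈ Finset.univ.erase (1 : ↥Z →* ℂˣ), (0 : ℤ) ≤ (Nat.card K : ℤ) * C.b j ^ 2 := fun j _ => by
    positivity
  have h0 := Finset.sum_nonneg hpos
  rw [ha] at hE
  have hle : (Nat.card K : ℤ) ≤ Nat.card Z := by nlinarith
  have hne : Nat.card K ≠ Nat.card Z := fun h => by
    have h1 := C.tail.coprime
    have h2 : Nat.card K ∣ Nat.card H := Subgroup.card_dvd_of_le C.tail.K_le_H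
    rw [← h] at h1
    exact C.tail.prime.ne_one (Nat.eq_one_of_dvd_coprimes h1 dvd_rfl h2)
  refine ⟨lt_of_le_of_ne (by exact_mod_cast hle) hne, fun j hj => ?_⟩
  by_contra hb
  have h1 : (1 : ℤ) ≤ C.b j ^ 2 := by
    have : 0 < C.b j ^ 2 := by positivity
    omega
  have h2 := Finset.card_nsmul_le_sum (Finset.univ.erase (1 : ↥Z →* ℂˣ)) (fun i => (Nat.card K : ℤ) * C.b i ^ 2)
    (Nat.card K : ℤ) fun i hi => by
      rw [C.b_const hp hj (Finset.mem_erase.1 hi).1]
      exact le_mul_of_one_le_right (by positivity) h1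
  rw [nsmul_eq_mul, Finset.card_erase_of_mem (Finset.mem_univ _), Finset.card_univ, C.E.card_right,
    Nat.cast_sub C.w_pos, Nat.cast_one] at h2
  have hw : (3 : ℤ) ≤ Nat.card Z := by exact_mod_cast C.w_three
  nlinarith

/-- A real generalized character that agrees with `η 1 j - 1` on `H#` meets every member of the family. -/
theorem parity_ne {Γ : G → ℂ} (hΓ : IsGeneralizedCharacter G Γ) (hr : cj Γ = Γ)
    (h1 : classInner Γ (fun _ => 1) = 0) {j : ↥Z →* ℂˣ} (hj : j ≠ 1) (hb : C.b j = 0)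
    (hval : ∀ g ∈ conjSet ((H : Set G) \ {1}), Γ g = C.E.eta 1 j g - 1) {a : T → ℂ} (ha : a ∈ linFam T H) :
    classInner Γ (C.φ a) ≠ 0 := by
  classical
  have hXsub : ((H : Set G) \ {1}) ⊆ sigmaSet T := fun x hx =>
    ⟨C.tail.H_le hx.1, 1, by rw [pow_one, ← C.tail.H_eq]; exact hx.1, by rw [pow_one]; simpa using hx.2⟩
  have hTI : IsTI T ((H : Set G) \ {1}) := C.tail.isTI.mono hXsub fun t ht x hx =>
    ⟨C.tail.conj_mem ht hx.1, fun h => hx.2 (conj_eq_one_iff.1 (Set.mem_singleton_iff.1 h))⟩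
  have key : ∀ α : T → ℂ, (∀ t : T, (t : G) ∉ H → α t = 0) → α 1 = 0 →
      classInner Γ (indFun T α) = classInner (C.E.eta 1 j) (indFun T α) - classInner (fun _ => 1) (indFun T α) := by
    intro α hα h0
    rw [← classInner_sub_left]
    unfold classInner
    refine congrArg _ (Finset.sum_congr rfl fun g _ => ?_)
    by_cases hg : g ∈ conjSet ((H : Set G) \ {1})
    · rw [Pi.sub_apply, hval g hg]
    · rw [hTI.ind_eq_zero (fun x hx => by
        by_cases hxH : (x : G) ∈ H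
        · rw [show x = 1 from Subtype.ext (by by_contra h; exact hx ⟨hxH, h⟩), h0]
        · exact hα x hxH) fun y hy => hg ⟨y, hy⟩]
      simp
  have hη1 : classInner (fun _ => 1) (C.E.eta 1 j) = 0 := by
    rw [← C.E.one, C.E.inner_eq, if_neg fun h => hj h.2.symm]
  have hbeta : classInner Γ (indFun T (C.g C.one)) = -1 := by
    rw [key _ (fun t ht => C.g_vanish _ ht) (C.g_at_one _), ← classInner_symm,
      show classInner (indFun T (C.g C.one)) (C.E.eta 1 j) = (C.b j : ℂ) from C.zb_spec 1 j, hb,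
      ← classInner_symm, C.beta_one]
    simp
  have hdiff : classInner Γ (C.φ a) = classInner Γ (C.φ C.ζ) := by
    have h := key (a - C.ζ)
      (fun t ht => by rw [Pi.sub_apply, linFam_vanish C.M C.E C.tail ha ht,
        linFam_vanish C.M C.E C.tail C.mem ht, sub_self])
      (by rw [Pi.sub_apply, linFam_deg C.M C.E C.tail ha, linFam_deg C.M C.E C.tail C.mem, sub_self])
    have e : ∀ b ∈ linFam T H, ∀ i l, classInner (C.E.eta i l) (C.φ b) = 0 := fun b hb i l => by
      rw [← classInner_symm, C.fam.eta b hb, map_zero]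
    rw [C.fam.diff a ha _ C.mem, classInner_sub_right, classInner_sub_right, classInner_sub_right,
      ← C.E.one, e a ha, e _ C.mem, e a ha, e _ C.mem] at h
    linear_combination h
  intro h0
  rw [hdiff] at h0
  obtain ⟨m, hm⟩ := even_inner C.tail.odd hΓ (gen_add (C.tau_gen (C.g_gen C.one)) (C.phi_gen C.mem)) hr C.Y_real h1
    (c := -1) (by rw [classInner_add_right, hbeta, h0]; simp)
  omega

/-- The multiplicities of `φ ζ` on `H`. -/
theorem res_inner (θ : IrrCharacter ↥(H.subgroupOf T)) :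
    classInner (fun x : ↥(H.subgroupOf T) => C.φ C.ζ ((x : T) : G)) (θ : ↥(H.subgroupOf T) → ℂ) =
      (C.kk θ : ℂ) + (deg (θ : ↥(H.subgroupOf T) → ℂ) : ℂ) * C.bb := by
  have hφ := isClassFunction_genChar (C.phi_gen C.mem)
  set R : T → ℂ := fun t => C.φ C.ζ (t : G)
  have hR : IsClassFunction T R := fun g k => hφ g k
  rw [← classInner_symm, ← frobenius (H.subgroupOf T) _ hR, ← frobenius T (C.ind θ) hφ]
  have e : classInner (indFun T (C.ind θ)) (C.φ C.ζ) =
      (C.kk θ : ℂ) + (deg (θ : ↥(H.subgroupOf T) → ℂ) : ℂ) * C.bb := by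
    have h1 := C.kk_spec θ
    rw [g, indFun_sub, indFun_smul, classInner_sub_left, classInner_smul_left,
      icoef_spec (C.tau_gen (gen_of_char (irr_isCharacter (linFam_irr C.M C.E C.tail C.mem)))) (C.phi_gen C.mem)]
      at h1
    rw [bb]
    push_cast
    linear_combination h1
  rw [e, map_add, map_mul, map_intCast, map_intCast, Complex.conj_natCast]

end TData

section Split

variable [Fintype ↥((sigmaCore T).subgroupOf T)] [((sigmaCore T).subgroupOf T).Normal]

open Classical in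
/-- The sums of `φ ζ` over the cosets `v J` are real. -/
theorem coset_real (C : TData T Z K (sigmaCore T)) {J V : Subgroup G} (hJ : J ≤ sigmaCore T)
    (hV : V ≤ ⁅sigmaCore T, sigmaCore T⁆) {v : G} (hv : v ∈ V) :
    ∑ j : J, C.φ C.ζ (v⁻¹ * (j : G)) = ∑ j : J, C.φ C.ζ (v * (j : G)) := by
  have hζi : IsIrrCharacter T C.ζ := linFam_irr C.M C.E C.tail C.mem
  have hci : IsIrrCharacter T (conjFun C.ζ) := linFam_irr C.M C.E C.tail C.conj_mem
  have hψc := isClassFunction_genChar (C.phi_gen C.mem)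
  have hαc : IsClassFunction T (conjFun C.ζ - C.ζ) :=
    classFun_sub (isClassFunction_character (irr_isCharacter hci)) (isClassFunction_character (irr_isCharacter hζi))
  have hα1 : (conjFun C.ζ - C.ζ) 1 = 0 := by
    rw [Pi.sub_apply, linFam_deg C.M C.E C.tail C.conj_mem, linFam_deg C.M C.E C.tail C.mem, sub_self]
  have hτ : ∀ x : T, (x : G) ∈ sigmaCore T →
      indFun T (conjFun C.ζ - C.ζ) (x : G) = (conjFun C.ζ - C.ζ) x := by
    intro x hx
    by_cases hx1 : x = 1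
    · rw [hx1, OneMemClass.coe_one, indFun_one, hα1, mul_zero]
    · exact C.tail.isTI.ind_apply hαc (sub_supp C.M C.E C.tail C.conj_mem C.mem)
        ⟨x.2, 1, by rw [pow_one]; exact hx, by rw [pow_one]; exact fun h => hx1 (Subtype.ext h)⟩
  have hvH : v ∈ sigmaCore T := Subgroup.commutator_le_self _ (hV hv)
  have hjT : ∀ j : J, (j : G) ∈ T := fun j => C.tail.H_le (hJ j.2)
  have h1 : ∀ j : J, C.φ C.ζ (v⁻¹ * (j : G)) = C.φ C.ζ (v * ((j⁻¹ : J) : G)) +
      (conjFun C.ζ - C.ζ) ⟨((j⁻¹ : J) : G), hjT _⟩ := by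
    intro j
    set x : G := (j : G)⁻¹ * v with hx
    have hxH : x ∈ sigmaCore T := (sigmaCore T).mul_mem ((sigmaCore T).inv_mem (hJ j.2)) hvH
    rw [show v⁻¹ * (j : G) = x⁻¹ by rw [hx]; group, gen_conj_inv (C.phi_gen C.mem),
      ← cj_apply (C.φ C.ζ) x, C.fam.conj_eq _ C.mem]
    have h2 := congrFun (C.fam.diff _ C.conj_mem _ C.mem) x
    rw [hτ ⟨x, C.tail.H_le hxH⟩ hxH, Pi.sub_apply (C.φ (conjFun C.ζ))] at h2
    have e1 : C.φ C.ζ x = C.φ C.ζ (v * ((j⁻¹ : J) : G)) := by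
      rw [show v * ((j⁻¹ : J) : G) = v * x * v⁻¹ by rw [hx, InvMemClass.coe_inv]; group, hψc]
    have e2 : ∀ a ∈ linFam T (sigmaCore T),
        a (⟨x, C.tail.H_le hxH⟩ : T) = a ⟨((j⁻¹ : J) : G), hjT _⟩ := fun a ha => by
      have hc := isClassFunction_character (irr_isCharacter (linFam_irr C.M C.E C.tail ha))
      rw [← hc (⟨x, C.tail.H_le hxH⟩ : T) (⟨v, C.tail.H_le hvH⟩ : T),
        show (⟨v, C.tail.H_le hvH⟩ : T) * ⟨x, C.tail.H_le hxH⟩ * (⟨v, C.tail.H_le hvH⟩ : T)⁻¹ =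
          ⟨v, C.tail.H_le hvH⟩ * ⟨((j⁻¹ : J) : G), hjT _⟩ from Subtype.ext (by
            show v * x * v⁻¹ = v * ((j⁻¹ : J) : G)
            rw [hx, InvMemClass.coe_inv]; group)]
      exact C.zeta_derived ha (hV hv) (hJ (j⁻¹).2)
    rw [← e1, show (conjFun C.ζ - C.ζ) ⟨((j⁻¹ : J) : G), hjT _⟩ =
        (conjFun C.ζ - C.ζ) (⟨x, C.tail.H_le hxH⟩ : T) by
      rw [Pi.sub_apply, Pi.sub_apply, e2 _ C.conj_mem, e2 _ C.mem]]
    linear_combination -h2
  rw [Finset.sum_congr rfl fun j _ => h1 j, Finset.sum_add_distrib,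
    show ∑ j : J, C.φ C.ζ (v * ((j⁻¹ : J) : G)) = ∑ j : J, C.φ C.ζ (v * (j : G)) from
      Equiv.sum_comp (Equiv.inv J) (fun j : J => C.φ C.ζ (v * (j : G))),
    show ∑ j : J, (conjFun C.ζ - C.ζ) ⟨((j⁻¹ : J) : G), hjT _⟩ = ∑ j : J, (conjFun C.ζ - C.ζ) ⟨(j : G), hjT j⟩ from
      Equiv.sum_comp (Equiv.inv J) (fun j : J => (conjFun C.ζ - C.ζ) ⟨(j : G), hjT j⟩)]
  simp only [Pi.sub_apply, Finset.sum_sub_distrib]
  have h3 : ∑ j : J, conjFun C.ζ ⟨(j : G), hjT j⟩ = ∑ j : J, C.ζ ⟨(j : G), hjT j⟩ := by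
    rw [← Equiv.sum_comp (Equiv.inv J) (fun j : J => C.ζ ⟨(j : G), hjT j⟩)]
    refine Finset.sum_congr rfl fun j _ => ?_
    show conj (C.ζ ⟨(j : G), hjT j⟩) = _
    rw [← gen_conj_inv (gen_of_char (irr_isCharacter hζi))]
    rfl
  rw [h3, sub_self, add_zero]

set_option maxHeartbeats 1600000 in
open Classical in
/-- If `D' ≠ 1` and `d = |D : D'|` then, after relabelling, `k = c = 0`. -/
theorem split_derived_zero (c : TSplit T Z K Q D H₁) (C : TData T Z K (sigmaCore T)) (hD : ⁅D, D⁆ ≠ ⊥)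
    (hd : C.d = (⁅D, D⁆).relIndex D) :
    ∃ C' : TData T Z K (sigmaCore T), C'.E = C.E ∧ C'.ζ = C.ζ ∧ C'.c = 0 ∧ C'.k = 0 := by
  obtain ⟨r, R, J, V, J₁, s, ss, hbig⟩ := c.exists_splitRed hD
  have hle := C.tail.H_le
  set e := Subgroup.subgroupOfEquivOfLe hle
  obtain ⟨Yf, hYf, -, hsum, -⟩ := exists_onV c s ss
  set Y := Finset.univ.filter fun θ : IrrCharacter ↥((sigmaCore T).subgroupOf T) =>
    OnV (sigmaCore T) J₁ V (pushT hle θ) with hY
  have hmem : ∀ θ, θ ∈ Y ↔ (∀ x : ↥((sigmaCore T).subgroupOf T), ((x : T) : G) ∈ J₁ →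
      (θ : ↥((sigmaCore T).subgroupOf T) → ℂ) x = (θ : ↥((sigmaCore T).subgroupOf T) → ℂ) 1) ∧
      ∃ x : ↥((sigmaCore T).subgroupOf T), ((x : T) : G) ∈ V ∧
        (θ : ↥((sigmaCore T).subgroupOf T) → ℂ) x ≠ (θ : ↥((sigmaCore T).subgroupOf T) → ℂ) 1 := by
    intro θ
    rw [hY, Finset.mem_filter, and_iff_right (Finset.mem_univ _)]
    constructor
    · rintro ⟨h1, x, hx, h2⟩
      exact ⟨fun y hy => by simpa [pushT, e] using h1 (e y) hy, e.symm x, hx, by simpa [pushT, e] using h2⟩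
    · rintro ⟨h1, x, hx, h2⟩
      exact ⟨fun y hy => by simpa [pushT] using h1 (e.symm y) hy, e x, hx, by simpa [pushT, e] using h2⟩
  have hYc : ∀ t : T, ∀ θ ∈ Y, conjT t θ ∈ Y := by
    intro t θ hθ
    obtain ⟨h1, x, hx, h2⟩ := (hmem θ).1 hθ
    refine (hmem _).2 ⟨fun y hy => ?_, (MulAut.conjNormal t).symm x, ?_, ?_⟩
    · rw [irrComp_apply, irrComp_apply, map_one]
      exact h1 _ (by simpa [MulAut.conjNormal_apply] using Solv.conj_mem_of_mem_normalizer (ss.norm t.2) hy)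
    · simpa [MulAut.conjNormal_symm_apply] using Solv.conj_mem_of_mem_normalizer (s.V_norm (T.inv_mem t.2)) hx
    · rw [irrComp_apply, irrComp_apply, map_one, MulEquiv.apply_symm_apply]
      exact h2
  have hYd : ∀ θ ∈ Y, deg (θ : ↥((sigmaCore T).subgroupOf T) → ℂ) ≠ 1 := by
    intro θ hθ h
    obtain ⟨l, rfl⟩ := eq_linIrr h
    obtain ⟨-, x, hx, h2⟩ := (hmem _).1 hθ
    refine h2 ?_
    show ((l x : ℂˣ) : ℂ) = ((l 1 : ℂˣ) : ℂ)
    rw [lin_derived l (s.V_derived hx) hle, map_one]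
  -- the weight
  have hwt : TData.wt Y = ∑ θ ∈ Yf, deg (θ : sigmaCore T → ℂ) ^ 2 := by
    refine Finset.sum_bij' (fun θ _ => pushT hle θ) (fun θ _ => pullT hle θ)
      (fun θ hθ => (hYf _).2 (Finset.mem_filter.1 hθ).2)
      (fun θ hθ => Finset.mem_filter.2 ⟨Finset.mem_univ _, by rw [pushT_pullT]; exact (hYf θ).1 hθ⟩)
      (fun θ _ => pullT_pushT hle θ) (fun θ _ => pushT_pullT hle θ) fun θ _ => by rw [deg_pushT]
  have hN : 2 * Nat.card Z * C.d ≤ TData.wt Y := by
    have h1 := s.V_big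
    have hJ₁H : J₁ ≤ sigmaCore T := ss.le.trans s.J_le
    have h2 : C.d * Nat.card V ≤ J₁.relIndex (sigmaCore T) := by
      refine Nat.le_of_mul_le_mul_left ?_ (Nat.card_pos (α := J₁))
      conv_rhs => rw [← Solv.card_subgroupOf hJ₁H]
      rw [Subgroup.relIndex, Subgroup.card_mul_index, hd]
      exact le_trans (le_of_eq (by ring)) hbig
    have h3 : C.d * (Nat.card V - 1) * Nat.card V ≤ TData.wt Y * Nat.card V := by
      rw [hwt, hsum]
      calc C.d * (Nat.card V - 1) * Nat.card V = C.d * Nat.card V * (Nat.card V - 1) := by ring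
        _ ≤ _ := Nat.mul_le_mul_right _ h2
    have h4 := Nat.le_of_mul_le_mul_right h3 Nat.card_pos
    calc 2 * Nat.card Z * C.d ≤ (Nat.card V - 1) * C.d := Nat.mul_le_mul_right _ (by omega)
      _ = C.d * (Nat.card V - 1) := mul_comm _ _
      _ ≤ _ := h4
  have hd5 : 5 ≤ C.d := by have := C.w_three; have := C.two_w_le; omega
  have hN0 : 0 < TData.wt Y := lt_of_lt_of_le (by have := C.w_three; positivity) hN
  obtain ⟨θ₀, hθ₀⟩ : Y.Nonempty := Finset.nonempty_iff_ne_empty.2 fun h => by simp [h, TData.wt] at hN0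
  have hd0 : ∀ θ : IrrCharacter ↥((sigmaCore T).subgroupOf T),
      (deg (θ : ↥((sigmaCore T).subgroupOf T) → ℂ) : ℂ) ≠ 0 := fun θ =>
    Nat.cast_ne_zero.2 (deg_pos θ.2).ne'
  -- uniformity
  have huni : ∀ θ ∈ Y, (C.kk θ : ℂ) * deg (θ₀ : ↥((sigmaCore T).subgroupOf T) → ℂ) =
      (C.kk θ₀ : ℂ) * deg (θ : ↥((sigmaCore T).subgroupOf T) → ℂ) := by
    intro θ hθ
    have hind : ∀ η : IrrCharacter ↥((sigmaCore T).subgroupOf T),
        indIn c.core_le (pushT hle η : sigmaCore T → ℂ) = C.ind η := fun η =>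
      congrArg (indFun _) (funext fun x => by simp [pushT])
    have h := splitRed_orth c C.tail.kappa_ne s ss (linFam_irr C.M C.E C.tail C.mem)
      (linFam_irr C.M C.E C.tail C.conj_mem) C.conj_ne.symm
      (by rw [linFam_deg C.M C.E C.tail C.mem, linFam_deg C.M C.E C.tail C.conj_mem])
      (fun x hx => ⟨linFam_vanish C.M C.E C.tail C.mem hx, linFam_vanish C.M C.E C.tail C.conj_mem hx⟩)
      (fun x hx => ⟨by simpa using C.zeta_derived C.mem (x := 1) (s.V_derived hx) (one_mem _),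
        by simpa using C.zeta_derived C.conj_mem (x := 1) (s.V_derived hx) (one_mem _)⟩)
      (C.fam.signed _ C.mem) (C.fam.signed _ C.conj_mem) (C.fam.orth _ C.mem _ C.conj_mem C.conj_ne.symm)
      (C.fam.diff _ C.mem _ C.conj_mem) (pushT hle θ) (pushT hle θ₀)
      (Finset.mem_filter.1 hθ).2 (Finset.mem_filter.1 hθ₀).2
    rw [hind, hind, char_one_eq_deg (irr_isCharacter (pushT hle θ).2),
      char_one_eq_deg (irr_isCharacter (pushT hle θ₀).2), deg_pushT, deg_pushT] at h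
    set a := (deg (θ : ↥((sigmaCore T).subgroupOf T) → ℂ) : ℂ) with ha
    set b := (deg (θ₀ : ↥((sigmaCore T).subgroupOf T) → ℂ) : ℂ) with hb
    rw [show b • C.ind θ - a • C.ind θ₀ = b • C.g θ - a • C.g θ₀ by
        funext x
        simp only [TData.g, Pi.sub_apply, Pi.smul_apply, smul_eq_mul, ← ha, ← hb]
        ring,
      indFun_sub, indFun_smul, indFun_smul, classInner_sub_left, classInner_smul_left, classInner_smul_left,
      C.kk_spec, C.kk_spec, ← ha, ← hb] at h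
    linear_combination h
  -- integrality
  obtain ⟨z, hz⟩ := kappa_int c C.tail.kappa_ne s (C.fam.signed _ C.mem)
    (fun v hv => coset_real C s.J_le s.V_derived hv)
    (x := (C.kk θ₀ : ℂ) / deg (θ₀ : ↥((sigmaCore T).subgroupOf T) → ℂ) + C.bb) fun θ hθ => by
      have hθ' : pullT hle θ ∈ Y := Finset.mem_filter.2 ⟨Finset.mem_univ _, by
        rw [pushT_pullT]; exact ⟨fun x hx => hθ.1 x (ss.le hx), hθ.2⟩⟩
      rw [← classInner_comp_mulEquiv e]
      refine (C.res_inner (pullT hle θ)).trans ?_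
      rw [char_one_eq_deg (irr_isCharacter θ.2), ← deg_pullT hle θ]
      have h := huni _ hθ'
      field_simp [hd0 θ₀]
      linear_combination h
  set κ : ℤ := z - C.bb with hκ
  have hkY : ∀ θ ∈ Y, C.kk θ = κ * deg (θ : ↥((sigmaCore T).subgroupOf T) → ℂ) := by
    intro θ hθ
    have h := huni θ hθ
    have hq : (C.kk θ₀ : ℂ) = (κ : ℂ) * deg (θ₀ : ↥((sigmaCore T).subgroupOf T) → ℂ) := by
      rw [hκ]; push_cast; rw [← hz]
      field_simp [hd0 θ₀]
      ring
    have : (C.kk θ : ℂ) = ((κ * deg (θ : ↥((sigmaCore T).subgroupOf T) → ℂ) : ℤ) : ℂ) := by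
      rw [hq] at h
      push_cast
      exact mul_right_cancel₀ (hd0 θ₀) (by linear_combination h)
    exact_mod_cast this
  have htot : C.tot Y = κ * (TData.wt Y : ℤ) := by
    simp only [TData.tot, TData.wt]
    push_cast
    rw [Finset.mul_sum]
    exact Finset.sum_congr rfl fun θ hθ => by rw [hkY θ hθ]; ring
  have hκ2 : ((linFam T (sigmaCore T)).card : ℤ) * κ ^ 2 - 2 * κ ≤ 0 := by
    have h := C.tot_bound hYc fun θ hθ => Or.inl (hYd θ hθ)
    rw [htot] at h
    have hNw : (Nat.card Z : ℤ) < TData.wt Y := by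
      have h1 : Nat.card Z * 1 < Nat.card Z * (2 * C.d) := Nat.mul_lt_mul_of_pos_left (by omega) C.w_pos
      exact_mod_cast (by nlinarith : Nat.card Z < TData.wt Y)
    by_contra hc
    push Not at hc
    have hN' : (0 : ℤ) < TData.wt Y := by exact_mod_cast hN0
    have h1 : (TData.wt Y : ℤ) * 1 ≤
        (TData.wt Y : ℤ) * (((linFam T (sigmaCore T)).card : ℤ) * κ ^ 2 - 2 * κ) :=
      mul_le_mul_of_nonneg_left hc hN'.le
    nlinarith [mul_le_mul_of_nonneg_left h1 hN'.le]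
  obtain ⟨C₁, hE, hζ, hX⟩ : ∃ C₁ : TData T Z K (sigmaCore T), C₁.E = C.E ∧ C₁.ζ = C.ζ ∧ C₁.tot Y = 0 := by
    rcases eq_or_ne κ 0 with h0 | h0
    · exact ⟨C, rfl, rfl, by rw [htot, h0, zero_mul]⟩
    have hn : (2 : ℤ) ≤ (linFam T (sigmaCore T)).card := by exact_mod_cast C.two_le
    have hκ1 : κ = 1 := by rcases lt_or_gt_of_ne h0 with h1 | h1 <;> nlinarith
    have hn2 : (linFam T (sigmaCore T)).card = 2 := by
      rw [hκ1] at hκ2
      have : ((linFam T (sigmaCore T)).card : ℤ) = 2 := by linarith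
      exact_mod_cast this
    refine ⟨C.swap hn2, rfl, rfl, ?_⟩
    simp only [TData.tot]
    refine Finset.sum_eq_zero fun θ hθ => ?_
    rw [C.kk_swap hn2 (Or.inl (hYd θ hθ)), hkY θ hθ, hκ1]
    ring
  have hd₁ : C₁.d = C.d := by rw [TData.d_eq c C₁, TData.d_eq c C]
  have hNZ : 2 * (Nat.card Z : ℤ) * C.d ≤ TData.wt Y := by exact_mod_cast hN
  have hdZ : (5 : ℤ) ≤ C.d := by exact_mod_cast hd5
  have hwZ : (3 : ℤ) ≤ Nat.card Z := by exact_mod_cast C.w_three
  have hw2 : 2 * (Nat.card Z : ℤ) ≤ (C.d : ℤ) + 1 := by exact_mod_cast C.two_w_le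
  have hc1 : C₁.c = 0 := by
    have h := C₁.kk_bound hYc (fun θ hθ => Or.inl (hYd θ hθ)) hX hN0 C₁.nonLin_one
    rw [C₁.deg_one, show C₁.kk C₁.one = C₁.c from rfl] at h
    push_cast at h
    by_contra hne
    have h1 : (1 : ℤ) ≤ |C₁.c| := Int.one_le_abs hne
    have h2 : 2 * (Nat.card Z : ℤ) * C.d * |C₁.c| ≤ (TData.wt Y : ℤ) * C₁.c ^ 2 := by
      rw [← sq_abs C₁.c]
      exact mul_le_mul hNZ (by nlinarith) (by positivity) (by positivity)
    have h3 : 2 * (C.d : ℤ) * |C₁.c| ≤ Nat.card Z + 2 * 1 * |C₁.c| :=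
      le_of_mul_le_mul_left (by nlinarith) (show (0 : ℤ) < Nat.card Z by linarith)
    nlinarith [mul_le_mul_of_nonneg_left h1 (show (0 : ℤ) ≤ 2 * C.d - 2 by linarith)]
  refine ⟨C₁, hE, hζ, hc1, ?_⟩
  have h := C₁.kk_bound hYc (fun θ hθ => Or.inl (hYd θ hθ)) hX hN0 (C₁.nonLin_theta C₁.i₀)
  rw [C₁.deg_theta C₁.i₀_ne, hd₁] at h
  have hw := C₁.wk_eq C₁.i₀_ne
  rw [hc1] at hw
  have habs : |C₁.kk (C₁.M.theta C₁.tail C₁.i₀)| = (Nat.card Z : ℤ) * |C₁.k| := by
    rw [← abs_of_nonneg (show (0 : ℤ) ≤ Nat.card Z by positivity), ← abs_mul, hw]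
    rcases C₁.M.sgn_cases C₁.i₀ with he | he <;> simp [TData.e, he]
  rw [habs, ← sq_abs (C₁.kk _), habs] at h
  by_contra hne
  have h1 : (1 : ℤ) ≤ |C₁.k| := Int.one_le_abs hne
  have h2 : (Nat.card Z : ℤ) ^ 2 * (2 * (Nat.card Z : ℤ) * C.d * |C₁.k|) ≤
      (TData.wt Y : ℤ) * ((Nat.card Z : ℤ) * |C₁.k|) ^ 2 := by
    rw [mul_pow, mul_left_comm (TData.wt Y : ℤ)]
    exact mul_le_mul_of_nonneg_left (mul_le_mul hNZ (by nlinarith) (by positivity) (by positivity)) (sq_nonneg _)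
  have h3 : 2 * (Nat.card Z : ℤ) * C.d * |C₁.k| ≤ 1 + 2 * C.d * |C₁.k| :=
    le_of_mul_le_mul_left (by nlinarith) (show (0 : ℤ) < (Nat.card Z : ℤ) ^ 2 by positivity)
  nlinarith [mul_le_mul_of_nonneg_left h1 (mul_nonneg (show (0 : ℤ) ≤ 2 * (Nat.card Z : ℤ) - 2 by linarith) (show (0 : ℤ) ≤ C.d by positivity))]

open Classical in
/-- The conclusion when `k = c = 0` and `ζ` is trivial on `C D₀`. -/
theorem split_concl (c : TSplit T Z K Q D H₁) (C : TData T Z K (sigmaCore T)) (hc : C.c = 0) (hk : C.k = 0)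
    (hζ : ∀ x : T, (x : G) ∈ c.triv → C.ζ x = C.ζ 1) : TailConcl C.E (sigmaCore T) := by
  haveI : (c.triv.subgroupOf T).Normal := Subgroup.normal_subgroupOf_of_le_normalizer c.T_norm_triv
  set J : Subgroup ↥((sigmaCore T).subgroupOf T) := (c.triv.subgroupOf T).subgroupOf ((sigmaCore T).subgroupOf T)
  have hle := C.tail.H_le
  set e := Subgroup.subgroupOfEquivOfLe hle
  refine C.concl hc hk J (fun x hx => hζ _ hx) (fun θ hθ hd => ?_) ?_
  · have hdvd : deg (θ : ↥((sigmaCore T).subgroupOf T) → ℂ) ∣ C.d := by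
      rw [TData.d_eq c C, ← deg_pushT hle θ]
      refine c.deg_ker_dvd (pushT hle θ) fun x hx => ?_
      simpa [pushT, e] using hθ (e.symm x) hx
    rcases C.M.cases C.tail C.E θ with hm | ⟨i, rfl⟩
    · refine C.kk_moved_zero hc hk (Or.inl hd) hm ?_
      have hdle := Nat.le_of_dvd (by have := C.one_lt_d; omega) hdvd
      have hq := C.tail.three_le_card K C.tail.K_ne
      have hw := C.two_w_le
      have hw3 := C.w_three
      have h5 : 5 ≤ C.d := by omega
      calc Nat.card Z * (2 * deg (θ : ↥((sigmaCore T).subgroupOf T) → ℂ) + 1) ≤ Nat.card Z * (2 * C.d + 1) :=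
            Nat.mul_le_mul_left _ (by omega)
        _ < 2 * C.d ^ 2 := by nlinarith [Nat.mul_le_mul_right (2 * C.d + 1) hw]
        _ ≤ (Nat.card K - 1) * C.d ^ 2 := Nat.mul_le_mul_right _ (by omega)
    · refine C.kk_theta_zero hc hk fun h => hd ?_
      rw [h, C.theta_one_eq, C.deg_one]
  · have hJ : Nat.card J = Nat.card c.triv := by
      rw [show J = (c.triv.subgroupOf T).subgroupOf ((sigmaCore T).subgroupOf T) from rfl,
        Solv.card_subgroupOf (show c.triv.subgroupOf T ≤ (sigmaCore T).subgroupOf T from fun x hx => c.triv_le hx),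
        Solv.card_subgroupOf (c.triv_le.trans hle)]
    rw [hJ, Solv.card_subgroupOf hle]
    calc Nat.card K * (2 * Nat.card Z + 1) * Nat.card c.triv
        ≤ c.triv.relIndex (sigmaCore T) * Nat.card c.triv := Nat.mul_le_mul_right _ c.big_quotient
      _ = Nat.card (sigmaCore T) := by
          rw [mul_comm, Subgroup.relIndex, ← Solv.card_subgroupOf c.triv_le, Subgroup.card_mul_index]

open Classical in
/-- The side in the residual case. -/
theorem split_side (c : TSplit T Z K Q D H₁) (hsn : IsSelfNormalizingCyclic Z K) (hC : c.qFix = ⊥)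
    (hD : ⁅D, D⁆ = ⊥) : Side T Z K Q D ∧ IsElementaryAbelian (Nat.card K) Q := by
  have hQmov : c.qMov = Q := by
    have h := c.qMov_sup_qFix
    rwa [hC, sup_bot_eq] at h
  haveI := Fact.mk c.q_prime
  have hκ : kappa T ≠ ∅ := c.toTail.kappa_ne
  have hDne : D ≠ ⊥ := fun h => by
    have h1 := c.three_le_dKer_index
    have : c.dKer.relIndex D = 1 := Subgroup.relIndex_eq_one.2 (h.le.trans bot_le)
    omega
  refine ⟨⟨c.minSimple, c.coatom, hκ, hsn, c.w_prime, c.Q_le, c.isPGroup_Q.isNilpotent, c.T_norm_Q,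
    c.D_le.trans c.core_le, c.Z_le, c.Z_norm_D, ?_, ?_, ?_, hDne, fun z hz hz1 d hd e => c.Z_free hz hz1 hd e,
    ?_, ?_, ?_, c.coprime_Q_D.symm, ?_, ?_⟩, ?_⟩
  · intro s hs
    obtain ⟨z, hz, x, hx, rfl⟩ := c.exists_mul hs
    obtain ⟨y, hy, d, hd, rfl⟩ := c.mul hx
    exact ⟨z * y * z⁻¹, Solv.conj_mem_of_mem_normalizer (c.T_norm_Q (c.Z_le hz)) hy, z * d * z⁻¹,
      Solv.conj_mem_of_mem_normalizer (c.Z_norm_D hz) hd, z, hz, by group⟩
  · rw [card_T c, c.card_core, mul_comm]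
  · refine ⟨⟨fun a b => Subtype.ext ?_⟩⟩
    have h : ⁅(a : G), (b : G)⁆ ∈ ⁅D, D⁆ := Subgroup.commutator_mem_commutator a.2 b.2
    rw [hD, Subgroup.mem_bot] at h
    exact commutatorElement_eq_one_iff_mul_comm.1 h
  · exact le_antisymm (fun x hx => c.star ▸ ⟨c.Q_le hx.1, hx.2⟩)
      fun x hx => ⟨c.K_le_Q hx, (c.star.symm ▸ hx : x ∈ sigmaCore T ⊓ Subgroup.centralizer (Z : Set G)).2⟩
  · rw [← c.qFix_eq, hC]
  · rw [c.card_Q, hC, Subgroup.card_bot, one_mul]
  · exact (coprime_Z_core c).coprime_dvd_right (Subgroup.card_dvd_of_le c.Q_le)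
  · exact (coprime_Z_core c).coprime_dvd_right (Subgroup.card_dvd_of_le c.D_le)
  · refine ⟨⟨⟨fun a b => Subtype.ext (c.qMov_comm (hQmov.symm ▸ a.2) (hQmov.symm ▸ b.2)).eq⟩⟩, fun a ha => ?_⟩
    have h := c.pow_mem_qFix ha
    rwa [hC, Subgroup.mem_bot] at h

end Split

open Classical in
/-- The tail with nonnilpotent `σ`-core. -/
theorem tail_split {G : Type u} [Group G] [Fintype G] {T Z K : Subgroup G} (hG : IsMinSimpleOddOrder G)
    (hT : IsCoatom T) (hdec : IsSigmaDecomposition T Z ⊥)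
    (hK : sigmaCore T ⊓ Subgroup.centralizer (Z : Set G) = K)
    (hnil : ¬ Group.IsNilpotent ↥(sigmaCore T)) (E : Grid K Z) :
    TailConcl E (sigmaCore T) ∨
      ∃ Q D : Subgroup G, Side T Z K Q D ∧ D ⊓ Subgroup.centralizer (Q : Set G) = ⊥ ∧
        IsElementaryAbelian (Nat.card K) Q ∧ (Nat.card Z).Prime ∧
        Nat.card K < Nat.card Z ∧ ∃ (m : ℕ) (Ψ : Fin m → G → ℂ), m * Nat.card Z + 1 = Nat.card D ∧
          (∀ a, IsSigned G (Ψ a)) ∧ (∀ a b, a ≠ b → classInner (Ψ a) (Ψ b) = 0) ∧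
          (∀ a i j, classInner (Ψ a) (E.eta i j) = 0) ∧
          ∀ Γ : G → ℂ, IsGeneralizedCharacter G Γ → cj Γ = Γ → classInner Γ (fun _ => 1) = 0 →
            ∀ j : ↥Z →* ℂˣ, j ≠ 1 →
              (∀ g ∈ conjSet ((sigmaCore T : Set G) \ {1}), Γ g = E.eta 1 j g - 1) →
                ∀ a, classInner Γ (Ψ a) ≠ 0 := by
  obtain ⟨Q, D, H₁, c⟩ := exists_tsplit hG hT hdec hK (fittingHallOf_ne_of_not_nilpotent hnil)
  haveI : ((sigmaCore T).subgroupOf T).Normal :=
    Subgroup.normal_subgroupOf_of_le_normalizer c.T_norm_core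
  obtain ⟨C₀, rfl⟩ := c.toTail.exists_data E
  -- a member trivial on `C D₀`
  have hN : T ≤ Subgroup.normalizer ((c.qMov ⊔ c.triv : Subgroup G) : Set G) := c.T_norm_mov_triv
  have hne : ¬ sigmaCore T ≤ c.qMov ⊔ c.triv := fun h => by
    refine c.dKer_ne (le_antisymm c.dKer_le fun d hd => ?_)
    have h1 : c.qMov ⊔ c.triv = Q ⊔ c.dKer := by rw [c.triv_eq, ← sup_assoc, c.qMov_sup_qFix]
    have h2 := h (c.D_le hd)
    rw [h1, ← SetLike.mem_coe, Subgroup.coe_mul_of_right_le_normalizer_left _ _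
      (((c.dKer_le.trans c.D_le).trans c.core_le).trans c.T_norm_Q)] at h2
    obtain ⟨y, hy, k, hk, e⟩ := h2
    have h3 : y ∈ Q ⊓ D := ⟨hy, by
      rw [show y = d * k⁻¹ by rw [← e]; group]
      exact D.mul_mem hd (D.inv_mem (c.dKer_le hk))⟩
    rw [c.Q_D, Subgroup.mem_bot] at h3
    simp only [h3, one_mul] at e
    exact e ▸ hk
  obtain ⟨ζ, hζm, hζ⟩ := exists_linFam_trivial c.core_le hN c.derived_le_mov_triv hne
  let C : TData T Z K (sigmaCore T) := { C₀ with ζ := ζ, mem := hζm }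
  have hζ' : ∀ x : T, (x : G) ∈ c.triv → C.ζ x = C.ζ 1 := fun x hx =>
    hζ x (c.triv_le hx) (Subgroup.mem_sup_right (S := c.qMov) hx)
  show TailConcl C.E _ ∨ _
  have finish : ∀ C' : TData T Z K (sigmaCore T), C'.E = C.E → C'.ζ = C.ζ → C'.c = 0 → C'.k = 0 →
      TailConcl C.E (sigmaCore T) := fun C' hE hz hc hk => by
    rw [← hE]
    exact split_concl c C' hc hk fun x hx => by rw [hz]; exact hζ' x hx
  rcases c.small_or_large (d := C.d) (by rw [TData.d_eq c C]) with h | ⟨hC, h0, hdD, hidx⟩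
  · rw [← C.card_linFam_eq] at h
    obtain ⟨h1, h2⟩ := C.large h
    exact Or.inl (finish C rfl rfl h1 h2)
  by_cases hD : ⁅D, D⁆ = ⊥
  swap
  · obtain ⟨C', hE, hz, hc, hk⟩ := split_derived_zero c C hD hdD
    exact Or.inl (finish C' hE hz hc hk)
  have hd : C.d = (linFam T (sigmaCore T)).card * Nat.card Z + 1 := by rw [C.card_linFam_eq, hidx]
  obtain ⟨he, hn⟩ := C.small_sign hd
  -- an even coefficient
  have heven : Even C.k → ∃ C' : TData T Z K (sigmaCore T), C'.E = C.E ∧ C'.ζ = C.ζ ∧ C'.c = 0 ∧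
      (C'.k = 0 ∨ C'.k = -2) := by
    intro hev
    have ha : C.a ≠ 1 := fun ha => by
      have := (Int.even_add.1 C.even_k_add_a).1 hev
      rw [ha] at this
      exact absurd this (by decide)
    have hk : C.k = 0 ∨ C.k = -2 := by
      rcases C.k_cases hn with h | h | h
      · exact Or.inl h
      · exact absurd hev (by rw [h]; decide)
      · exact Or.inr h
    rcases C.c_cases (C.a_zero ha).2 with hc | ⟨hc, hn2⟩
    · exact ⟨C, rfl, rfl, hc, hk⟩
    · have hcF : C.cF = 1 := by rw [hn2] at hn; omega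
      refine ⟨C.swap hn2, rfl, rfl, by rw [C.c_swap hn2, hc]; norm_num, ?_⟩
      rw [C.k_swap hn2, hcF]
      rcases hk with h | h <;> rw [h] <;> norm_num
  rcases C.k_cases hn with hk | hk | hk
  rotate_left 1
  · -- the residual case
    right
    have hsn : IsSelfNormalizingCyclic Z K := c.toTail.sn
    obtain ⟨hside, hab⟩ := split_side c hsn hC hD
    obtain ⟨hlt, hb⟩ := C.residual c.w_prime hk
    set F := linFam T (sigmaCore T)
    refine ⟨Q, D, hside, h0.trans hD, hab, c.w_prime, hlt, F.card, fun a => C.φ (F.equivFin.symm a : T → ℂ), ?_,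
      fun a => C.fam.signed _ (F.equivFin.symm a).2,
      fun a b hab' => C.fam.orth _ (F.equivFin.symm a).2 _ (F.equivFin.symm b).2 fun h =>
        hab' (F.equivFin.symm.injective (Subtype.ext h)),
      fun a => C.fam.eta _ (F.equivFin.symm a).2,
      fun Γ hΓ hr h1 j hj hval a => C.parity_ne hΓ hr h1 hj (hb j hj) hval (F.equivFin.symm a).2⟩
    rw [← hd, hdD, hD, Subgroup.relIndex_bot_left]
  all_goals
    obtain ⟨C', hE, hz, hc, hk'⟩ := heven (by rw [hk]; decide)
    rcases hk' with hk' | hk'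
    · exact Or.inl (finish C' hE hz hc hk')
    · exact (C'.not_minus_two (by rw [TData.d_eq c C', ← TData.d_eq c C]; exact hd) hc hk').elim

end Cfsg.Agent.OddFT
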