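import Cfsg.Agent.Lib.OddChar.FT.EndCases
import Cfsg.Agent.Lib.OddChar.FT.EndExist
import Cfsg.Agent.Lib.OddChar.FT.TailMass
import Cfsg.Agent.Lib.OddChar.FT.TailSplit
import Cfsg.Agent.Lib.OddChar.FT.TailNilp

/-!
There is no minimal simple group of odd order.
-/

set_option autoImplicit false
set_option linter.unusedSectionVars false
set_option linter.unusedVariables false
set_option linter.style.haveILetI false

open Cfsg Cfsg.Agent.Char Cfsg.Agent.OddChar Cfsg.Agent.OddLocal
open scoped ComplexConjugate Classical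

namespace Cfsg.Agent.OddFT

universe u

/-- No minimal simple group has odd order. -/
theorem no_minSimple (G : Type u) [Group G] [Finite G] (hG : IsMinSimpleOddOrder G) : False := by
  haveI : Fintype G := Fintype.ofFinite G
  obtain ⟨S, K, U, T, d, UT, hdec, hUT⟩ := exists_duo_pair hG
  obtain ⟨W⟩ := exists_grid_side (side_of_duo d)
  have hKeq := d.K_eq'
  set Z := sigmaCore S ⊓ Subgroup.centralizer (K : Set G) with hZ
  by_cases hU : UT = ⊥
  · subst hU
    by_cases hnil : Group.IsNilpotent ↥(sigmaCore T)
    · exact tail_mass_false d hdec W (tail_nilpotent W ⟨hG, d.coatomN, hdec, d.star_ne, rfl, hKeq⟩ hnil)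
    rcases tail_split hG d.coatomN hdec hKeq.symm hnil W with
      hc | ⟨Q, V, hs, hD0, hQ, hw, hlt, m, Ψ, hm, hsig, ho, he, hpar⟩
    · exact tail_mass_false d hdec W hc
    have tl : Tail T Z K (sigmaCore T) := ⟨hG, d.coatomN, hdec, d.star_ne, rfl, hKeq⟩
    have sS := endSide_of_duo d hw
    have D : EndData S T K Z (sigmaCore S) Q U V := ⟨sS, endSide_of_faithful hs d.prime hD0⟩
    refine end_false d D W hlt (Or.inr ?_)
    have hHP : (Nat.card (sigmaCore S)).Coprime (Nat.card (sigmaCore T)) := by
      rw [sS.side.card_P]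
      exact tl.coprime.pow_left _
    have hc := tail_count sS W tl.coprime hHP Ψ hsig ho he hpar
    have hv : Nat.card V - 1 = m * Nat.card Z := by omega
    rw [hv]
    calc Nat.card K * (m * Nat.card Z) = Nat.card Z * (Nat.card K * m) := by ring
      _ ≤ Nat.card Z * (Nat.card U - 1) := Nat.mul_le_mul_left _ hc
  · have dT : Kappa.Duo T Z UT S := hUT hU
    have sS := endSide_of_duo d dT.prime
    have hprime : (Nat.card ↥(sigmaCore T ⊓ Subgroup.centralizer (Z : Set G))).Prime := by
      rw [← hKeq]; exact d.prime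
    have sT := endSide_of_duo dT hprime
    rw [← hKeq] at sT
    have D : EndData S T K Z (sigmaCore S) (sigmaCore T) U UT := ⟨sS, sT⟩
    rcases lt_trichotomy (Nat.card K) (Nat.card Z) with hlt | heq | hgt
    · exact end_false d D W hlt (Or.inl dT)
    · exfalso
      have h1 := sS.side.coKP
      rw [sS.side.card_P, heq] at h1
      exact sS.primeZ.ne_one (Nat.eq_one_of_dvd_coprimes h1 dvd_rfl (dvd_pow_self _ Nat.card_pos.ne'))
    · exact end_false dT D.swap W.swap hgt (Or.inl d)

end Cfsg.Agent.OddFT
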