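import Mathlib

/-!
The radical of an alternating bimultiplicative map into a group of prime order has square index.
-/

set_option autoImplicit false

namespace Cfsg.Agent.OddFT

universe u v

variable {A : Type v} [CommGroup A] [Finite A] {q : ℕ}

theorem alt_radical_aux (hq : q.Prime) (hA : Nat.card A = q) (n : ℕ) :
    ∀ {E : Type u} [Group E] [Finite E] (f : E →* E →* A), Nat.card E ≤ n → (∀ a, f a a = 1) →
      ∃ m : ℕ, f.ker.index = q ^ (2 * m) := by
  induction n with
  | zero =>
    intro E _ _ f hn
    have : 0 < Nat.card E := Nat.card_pos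
    omega
  | succ n ih =>
    intro E _ _ f hn halt
    by_cases h1 : ∀ a b, f a b = 1
    · refine ⟨0, ?_⟩
      have : f.ker = ⊤ := eq_top_iff.2 fun a _ => MonoidHom.mem_ker.2 (MonoidHom.ext (h1 a))
      rw [this, Subgroup.index_top, Nat.mul_zero, pow_zero]
    push Not at h1
    obtain ⟨x, y, hxy⟩ := h1
    have hyx : f y x ≠ 1 := by
      intro h
      have := halt (x * y)
      simp only [map_mul, MonoidHom.mul_apply, halt, h, mul_one, one_mul] at this
      exact hxy this
    haveI : Fact q.Prime := ⟨hq⟩
    let φ : E →* A × A :=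
      { toFun := fun g => (f g x, f g y)
        map_one' := by simp
        map_mul' := fun a b => by simp }
    have hsurj : Function.Surjective φ := by
      rintro ⟨s, t⟩
      obtain ⟨i, rfl⟩ := mem_zpowers_of_prime_card (g' := s) (p := q) hA hyx
      obtain ⟨j, rfl⟩ := mem_zpowers_of_prime_card (g' := t) (p := q) hA hxy
      refine ⟨y ^ i * x ^ j, ?_⟩
      show (f (y ^ i * x ^ j) x, f (y ^ i * x ^ j) y) = _
      simp [halt]
    have hidx : φ.ker.index = q ^ 2 := by
      rw [Subgroup.index_ker, MonoidHom.range_eq_top.2 hsurj, Subgroup.card_top, Nat.card_prod, hA, sq]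
    have hlt : Nat.card φ.ker ≤ n := by
      have h2 := φ.ker.card_mul_index
      rw [hidx] at h2
      have : 4 ≤ q ^ 2 := by nlinarith [hq.two_le]
      have : 0 < Nat.card φ.ker := Nat.card_pos
      nlinarith
    let f' : φ.ker →* φ.ker →* A :=
      { toFun := fun a => (f a).comp φ.ker.subtype
        map_one' := by ext b; simp
        map_mul' := fun a b => by ext c; simp }
    obtain ⟨m, hm⟩ := ih f' hlt fun a => halt a
    have hle : f.ker ≤ φ.ker := fun g hg => by
      rw [MonoidHom.mem_ker] at hg ⊢
      show (f g x, f g y) = 1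
      rw [hg]
      rfl
    have hk : f'.ker = f.ker.subgroupOf φ.ker := by
      ext g
      rw [Subgroup.mem_subgroupOf, MonoidHom.mem_ker, MonoidHom.mem_ker]
      constructor
      · intro hg
        refine MonoidHom.ext fun h => ?_
        obtain ⟨i, hi⟩ := mem_zpowers_of_prime_card (g' := f h x) (p := q) hA hyx
        obtain ⟨j, hj⟩ := mem_zpowers_of_prime_card (g' := f h y) (p := q) hA hxy
        have hd : h * (y ^ i * x ^ j)⁻¹ ∈ φ.ker := by
          rw [MonoidHom.mem_ker]
          show (f (h * (y ^ i * x ^ j)⁻¹) x, f (h * (y ^ i * x ^ j)⁻¹) y) = 1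
          simp only at hi hj
          simp [halt, ← hi, ← hj]
        have h2 := DFunLike.congr_fun hg ⟨_, hd⟩
        have hgx : f (g : E) x = 1 := congrArg Prod.fst (MonoidHom.mem_ker.1 g.2)
        have hgy : f (g : E) y = 1 := congrArg Prod.snd (MonoidHom.mem_ker.1 g.2)
        simpa [f', hgx, hgy] using h2
      · intro hg
        ext h
        simp [f', hg]
    rw [hk] at hm
    refine ⟨m + 1, ?_⟩
    rw [← Subgroup.relIndex_mul_index hle, hidx, Subgroup.relIndex, hm, ← pow_add, Nat.mul_succ]

theorem alt_radical {E : Type u} [Group E] [Finite E] (hq : q.Prime) (hA : Nat.card A = q)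
    (f : E →* E →* A) (halt : ∀ a, f a a = 1) : ∃ m : ℕ, f.ker.index = q ^ (2 * m) :=
  alt_radical_aux hq hA _ f le_rfl halt

end Cfsg.Agent.OddFT
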