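import Cfsg.Agent.Lib.Char.Exceptional
import Cfsg.Agent.Lib.Char.RealClass
import Cfsg.Agent.Lib.Char.Rational
import Cfsg.Agent.Lib.Char.Zeros
import Cfsg.Agent.Lib.Char.CoherenceExt
import Cfsg.Agent.Lib.OddChar.DadeSpan
import Cfsg.Agent.Lib.OddChar.NormBound

/-!
Generalized characters, signed irreducible characters, parity in groups of odd order, and mean squares
on subsets.
-/

set_option autoImplicit false
set_option linter.unusedSectionVars false
set_option linter.unusedVariables false
set_option linter.style.haveILetI false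

open Cfsg Cfsg.Agent.Char Cfsg.Agent.OddChar
open scoped ComplexConjugate

namespace Cfsg.Agent.OddFT

universe u

variable {G : Type u} [Group G] [Fintype G]

/-- Plus or minus an irreducible character. -/
def IsSigned (G : Type u) [Group G] (ψ : G → ℂ) : Prop := IsIrrCharacter G ψ ∨ IsIrrCharacter G (-ψ)

/-- The pointwise complex conjugate. -/
noncomputable def cj (f : G → ℂ) : G → ℂ := fun g => conj (f g)

@[simp] theorem cj_apply (f : G → ℂ) (g : G) : cj f g = conj (f g) := rfl

theorem cj_cj (f : G → ℂ) : cj (cj f) = f := funext fun g => by simp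

theorem cj_sub (f h : G → ℂ) : cj (f - h) = cj f - cj h := funext fun g => by simp

theorem cj_add (f h : G → ℂ) : cj (f + h) = cj f + cj h := funext fun g => by simp

theorem cj_neg (f : G → ℂ) : cj (-f) = -cj f := funext fun g => by simp

theorem classInner_cj (a b : G → ℂ) : classInner (cj a) (cj b) = conj (classInner a b) := by
  simp [classInner, map_sum]

theorem classInner_neg_left (a b : G → ℂ) : classInner (-a) b = -classInner a b := by
  rw [← zero_sub, classInner_sub_left, classInner_zero_left, zero_sub]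

theorem classInner_neg_right (a b : G → ℂ) : classInner a (-b) = -classInner a b := by
  rw [← classInner_symm, classInner_neg_left, map_neg, classInner_symm]

section Gen

theorem gen_of_char {χ : G → ℂ} (h : IsCharacter G χ) : IsGeneralizedCharacter G χ :=
  ⟨χ, 0, h, isCharacter_zero, (sub_zero χ).symm⟩

theorem gen_one : IsGeneralizedCharacter G (fun _ => 1) := gen_of_char (irr_isCharacter isIrrCharacter_one)

theorem gen_neg {X : G → ℂ} (h : IsGeneralizedCharacter G X) : IsGeneralizedCharacter G (-X) := by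
  rw [← zero_sub]
  exact isGenChar_sub isGenChar_zero h

theorem gen_add {X Y : G → ℂ} (hX : IsGeneralizedCharacter G X) (hY : IsGeneralizedCharacter G Y) :
    IsGeneralizedCharacter G (X + Y) := by
  rw [← sub_neg_eq_add]
  exact isGenChar_sub hX (gen_neg hY)

theorem gen_cj {X : G → ℂ} (h : IsGeneralizedCharacter G X) : IsGeneralizedCharacter G (cj X) := by
  obtain ⟨a, b, ha, hb, rfl⟩ := h
  exact ⟨cj a, cj b, isCharacter_conj ha, isCharacter_conj hb, cj_sub a b⟩

theorem gen_conj_inv {X : G → ℂ} (h : IsGeneralizedCharacter G X) (g : G) : X g⁻¹ = conj (X g) := by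
  obtain ⟨a, b, ha, hb, rfl⟩ := h
  simp [char_inv ha, char_inv hb]

theorem gen_galEquiv {X : G → ℂ} (h : IsGeneralizedCharacter G X) : GalEquiv X := by
  obtain ⟨a, b, ha, hb, rfl⟩ := h
  exact galEquiv_sub (galEquiv_char ha) (galEquiv_char hb)

theorem gen_isIntegral {X : G → ℂ} (h : IsGeneralizedCharacter G X) (g : G) : IsIntegral ℤ (X g) := by
  obtain ⟨a, b, ha, hb, rfl⟩ := h
  exact (char_isIntegral ha g).sub (char_isIntegral hb g)

theorem gen_one_int {X : G → ℂ} (h : IsGeneralizedCharacter G X) : ∃ z : ℤ, X 1 = z := by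
  obtain ⟨a, b, ha, hb, rfl⟩ := h
  exact ⟨(deg a : ℤ) - deg b, by simp [char_one_eq_deg ha, char_one_eq_deg hb]⟩

theorem gen_inner_int {X Y : G → ℂ} (hX : IsGeneralizedCharacter G X) (hY : IsGeneralizedCharacter G Y) :
    ∃ z : ℤ, classInner X Y = z := by
  obtain ⟨x, hx, -⟩ := exists_int_coords hX
  obtain ⟨y, -, hy⟩ := exists_int_coords hY
  refine ⟨∑ χ, x χ * y χ, ?_⟩
  rw [hx, classInner_sum_left, Int.cast_sum]
  refine Finset.sum_congr rfl fun χ _ => ?_
  rw [classInner_smul_left, ← classInner_symm Y, hy, map_intCast, Int.cast_mul]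

theorem gen_inner_real {X Y : G → ℂ} (hX : IsGeneralizedCharacter G X) (hY : IsGeneralizedCharacter G Y) :
    classInner X Y = classInner Y X := by
  obtain ⟨z, hz⟩ := gen_inner_int hX hY
  rw [← classInner_symm X Y, hz, map_intCast]

theorem gen_inner_cj {X Y : G → ℂ} (hX : IsGeneralizedCharacter G X) (hY : IsGeneralizedCharacter G Y) :
    classInner (cj X) (cj Y) = classInner X Y := by
  obtain ⟨z, hz⟩ := gen_inner_int hX hY
  rw [classInner_cj, hz, map_intCast]

end Gen

section Signed

theorem IsSigned.gen {ψ : G → ℂ} (h : IsSigned G ψ) : IsGeneralizedCharacter G ψ := by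
  rcases h with h | h
  · exact gen_of_char (irr_isCharacter h)
  · simpa using gen_neg (gen_of_char (irr_isCharacter h))

theorem IsSigned.neg {ψ : G → ℂ} (h : IsSigned G ψ) : IsSigned G (-ψ) := by
  rcases h with h | h
  · exact Or.inr (by rwa [neg_neg])
  · exact Or.inl h

theorem IsSigned.self {ψ : G → ℂ} (h : IsSigned G ψ) : classInner ψ ψ = 1 := by
  rcases h with h | h
  · exact irr_self h
  · have := irr_self h
    rwa [classInner_neg_left, classInner_neg_right, neg_neg] at this

theorem IsSigned.one_ne_zero {ψ : G → ℂ} (h : IsSigned G ψ) : ψ 1 ≠ 0 := by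
  rcases h with h | h
  · rw [char_one_eq_deg (irr_isCharacter h)]
    exact_mod_cast (deg_pos h).ne'
  · intro h0
    have := char_one_eq_deg (irr_isCharacter h)
    rw [Pi.neg_apply, h0, neg_zero] at this
    exact (deg_pos h).ne' (by exact_mod_cast this.symm)

theorem IsSigned.inner_cases {a b : G → ℂ} (ha : IsSigned G a) (hb : IsSigned G b) :
    classInner a b = 0 ∨ a = b ∨ a = -b := by
  rcases ha with ha | ha <;> rcases hb with hb | hb
  · have := irrC_orth (G := G) ⟨a, ha⟩ ⟨b, hb⟩
    split_ifs at this with h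
    · exact Or.inr (Or.inl (congrArg Subtype.val h))
    · exact Or.inl this
  · have := irrC_orth (G := G) ⟨a, ha⟩ ⟨-b, hb⟩
    rw [classInner_neg_right] at this
    split_ifs at this with h
    · exact Or.inr (Or.inr (congrArg Subtype.val h))
    · exact Or.inl (neg_eq_zero.1 this)
  · have := irrC_orth (G := G) ⟨-a, ha⟩ ⟨b, hb⟩
    rw [classInner_neg_left] at this
    split_ifs at this with h
    · exact Or.inr (Or.inr (neg_eq_iff_eq_neg.1 (congrArg Subtype.val h)))
    · exact Or.inl (neg_eq_zero.1 this)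
  · have := irrC_orth (G := G) ⟨-a, ha⟩ ⟨-b, hb⟩
    rw [classInner_neg_left, classInner_neg_right, neg_neg] at this
    split_ifs at this with h
    · exact Or.inr (Or.inl (neg_injective (congrArg Subtype.val h)))
    · exact Or.inl this

theorem IsSigned.cj {ψ : G → ℂ} (h : IsSigned G ψ) : IsSigned G (cj ψ) := by
  rcases h with h | h
  · exact Or.inl (irrConj ⟨ψ, h⟩).2
  · refine Or.inr ?_
    rw [← cj_neg]
    exact (irrConj ⟨-ψ, h⟩).2

/-- A generalized character of norm one is signed irreducible. -/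
theorem signed_of_norm_one {θ : G → ℂ} (hθ : IsGeneralizedCharacter G θ) (h : classInner θ θ = 1) :
    IsSigned G θ := by
  classical
  obtain ⟨z, hz, -⟩ := exists_int_coords hθ
  rw [classInner_int_combination hz] at h
  have hsum : ∑ χ, z χ * z χ = 1 := by exact_mod_cast h
  obtain ⟨a, ha⟩ : ∃ a, z a ≠ 0 := by
    by_contra hc
    push Not at hc
    simp [hc] at hsum
  have h2 : ∑ χ ∈ Finset.univ.erase a, z χ * z χ + z a * z a = 1 := by
    rw [Finset.sum_erase_add _ _ (Finset.mem_univ a), hsum]
  have h1 : 0 < z a * z a := mul_self_pos.2 ha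
  have h0 : 0 ≤ ∑ χ ∈ Finset.univ.erase a, z χ * z χ := Finset.sum_nonneg fun χ _ => mul_self_nonneg _
  have hz0 : ∀ χ, χ ≠ a → z χ = 0 := fun χ hχ => by
    have := (Finset.sum_eq_zero_iff_of_nonneg fun χ _ => mul_self_nonneg (z χ)).1
      (show ∑ χ ∈ Finset.univ.erase a, z χ * z χ = 0 by omega) χ (by simp [hχ])
    simpa using this
  have hθa : θ = (z a : ℂ) • (a : G → ℂ) := by
    rw [hz, Finset.sum_eq_single a (fun χ _ hχ => by simp [hz0 χ hχ]) (by simp)]
  rcases mul_self_eq_one_iff.1 (show z a * z a = 1 by omega) with e | e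
  · left; rw [hθa, e]; simpa using a.2
  · right; rw [hθa, e]; simpa using a.2

/-- Two signed characters sharing a difference with their conjugates are conjugate. -/
theorem cj_eq_of_pair {a b : G → ℂ} (ha : IsSigned G a) (hb : IsSigned G b) (hab : classInner a b = 0)
    (h : cj a - cj b = b - a) : cj a = b := by
  have e : classInner (cj a) (b - a) = 1 := by
    rw [← h, classInner_sub_right, ha.cj.self, gen_inner_cj ha.gen hb.gen, hab, sub_zero]
  rw [classInner_sub_right] at e
  rcases ha.cj.inner_cases hb with hab' | hab' | hab'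
  · rcases ha.cj.inner_cases ha with h' | h' | h'
    · rw [hab', h'] at e; norm_num at e
    · rw [hab', h', ha.self] at e; norm_num at e
    · exact absurd (congrFun h' 1) (by
        obtain ⟨z, hz⟩ := gen_one_int ha.gen
        rw [Pi.neg_apply, cj_apply, hz, map_intCast]
        intro hc
        refine ha.one_ne_zero ?_
        rw [hz]
        have : (z : ℂ) + z = 0 := by linear_combination hc
        simpa [← two_mul] using this)
  · exact hab'
  · rcases ha.cj.inner_cases ha with h' | h' | h'
    · rw [hab', classInner_neg_left, hb.self, ← hab', h'] at e; norm_num at e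
    · have : classInner a b = -1 := by rw [← h', hab', classInner_neg_left, hb.self]
      rw [hab] at this; norm_num at this
    · have : classInner a b = 1 := by
        rw [show a = b from neg_injective (h'.symm.trans hab'), hb.self]
      rw [hab] at this; norm_num at this

/-- A generalized character splits along an orthonormal signed family. -/
theorem signed_split {ι : Type*} (s : Finset ι) (f : ι → G → ℂ) (hf : ∀ i ∈ s, IsSigned G (f i))
    (ho : ∀ i ∈ s, ∀ j ∈ s, i ≠ j → classInner (f i) (f j) = 0) {X : G → ℂ}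
    (hX : IsGeneralizedCharacter G X) (z : ι → ℤ) (hz : ∀ i ∈ s, classInner X (f i) = z i) :
    IsGeneralizedCharacter G (X - ∑ i ∈ s, (z i : ℂ) • f i) ∧
      (∀ i ∈ s, classInner (X - ∑ i ∈ s, (z i : ℂ) • f i) (f i) = 0) ∧
      classInner (X - ∑ i ∈ s, (z i : ℂ) • f i) (X - ∑ i ∈ s, (z i : ℂ) • f i) =
        classInner X X - ∑ i ∈ s, (z i : ℂ) ^ 2 := by
  classical
  have h1 : ∀ i ∈ s, classInner (∑ j ∈ s, (z j : ℂ) • f j) (f i) = z i := fun i hi => by
    rw [classInner_sum_left, Finset.sum_eq_single i (fun j hj hne => by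
      rw [classInner_smul_left, ho j hj i hi hne, mul_zero]) (fun h => absurd hi h),
      classInner_smul_left, (hf i hi).self, mul_one]
  have h2 : ∀ i ∈ s, classInner (X - ∑ i ∈ s, (z i : ℂ) • f i) (f i) = 0 := fun i hi => by
    rw [classInner_sub_left, hz i hi, h1 i hi, sub_self]
  refine ⟨isGenChar_sub hX (isGenChar_sum _ _ fun i hi => isGenChar_int_smul (hf i hi).gen _), h2, ?_⟩
  have h3 : classInner (X - ∑ i ∈ s, (z i : ℂ) • f i) (∑ i ∈ s, (z i : ℂ) • f i) = 0 := by
    rw [classInner_sum_right]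
    exact Finset.sum_eq_zero fun i hi => by rw [classInner_smul_right, h2 i hi, mul_zero]
  rw [classInner_sub_right, h3, sub_zero, classInner_sub_left, classInner_sum_left]
  congr 1
  refine Finset.sum_congr rfl fun i hi => ?_
  rw [classInner_smul_left, ← classInner_symm, hz i hi, map_intCast, sq]

theorem bessel {ι : Type*} (s : Finset ι) (f : ι → G → ℂ) (hf : ∀ i ∈ s, IsSigned G (f i))
    (ho : ∀ i ∈ s, ∀ j ∈ s, i ≠ j → classInner (f i) (f j) = 0) {X : G → ℂ}
    (hX : IsGeneralizedCharacter G X) (z : ι → ℤ) (hz : ∀ i ∈ s, classInner X (f i) = z i) :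
    (∑ i ∈ s, (z i : ℝ) ^ 2) ≤ (classInner X X).re := by
  have h := congrArg Complex.re (signed_split s f hf ho hX z hz).2.2
  have h0 := classInner_self_re_nonneg (X - ∑ i ∈ s, (z i : ℂ) • f i)
  rw [h, Complex.sub_re, Complex.re_sum] at h0
  simp only [← Int.cast_pow, Complex.intCast_re] at h0
  push_cast at h0
  linarith

end Signed

section Parity

/-- Real generalized characters of a group of odd order have inner product of the parity of their
products with the trivial character. -/
theorem parity (hodd : Odd (Nat.card G)) {X Y : G → ℂ} (hX : IsGeneralizedCharacter G X)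
    (hY : IsGeneralizedCharacter G Y) (rX : cj X = X) (rY : cj Y = Y) {a b c : ℤ}
    (ha : classInner X (fun _ => 1) = a) (hb : classInner Y (fun _ => 1) = b)
    (hc : classInner X Y = c) : Even (c - a * b) := by
  classical
  obtain ⟨x, hx, hx'⟩ := exists_int_coords hX
  obtain ⟨y, -, hy'⟩ := exists_int_coords hY
  let one : IrrCharacter G := ⟨_, isIrrCharacter_one⟩
  have hsum : c = ∑ χ, x χ * y χ := by
    have : classInner X Y = ((∑ χ, x χ * y χ : ℤ) : ℂ) := by
      rw [hx, classInner_sum_left, Int.cast_sum]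
      refine Finset.sum_congr rfl fun χ _ => ?_
      rw [classInner_smul_left, ← classInner_symm Y, hy', map_intCast, Int.cast_mul]
    exact_mod_cast hc.symm.trans this
  have e1 : x one = a := by exact_mod_cast (hx' one).symm.trans ha
  have e2 : y one = b := by exact_mod_cast (hy' one).symm.trans hb
  have inv : ∀ {Z : G → ℂ} (z : IrrCharacter G → ℤ), IsGeneralizedCharacter G Z → cj Z = Z →
      (∀ χ : IrrCharacter G, classInner Z (χ : G → ℂ) = z χ) → ∀ χ, z (irrConj χ) = z χ := by
    intro Z z hZ rZ hz χ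
    have h : classInner Z (irrConj χ : G → ℂ) = classInner Z (χ : G → ℂ) := by
      conv_lhs => rw [← rZ]
      exact gen_inner_cj hZ (gen_of_char (irr_isCharacter χ.2))
    rw [hz, hz] at h
    exact_mod_cast h
  have ix := inv x hX rX hx'
  have iy := inv y hY rY hy'
  rw [hsum, ← Finset.sum_erase_add _ _ (Finset.mem_univ one), e1, e2, add_sub_cancel_right,
    ← ZMod.intCast_eq_zero_iff_even, Int.cast_sum]
  refine Finset.sum_involution (fun χ _ => irrConj χ) (fun χ _ => ?_) (fun χ hχ _ => ?_)
    (fun χ hχ => ?_) (fun χ _ => irrConj_irrConj χ)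
  · rw [ix, iy]
    exact CharTwo.add_self_eq_zero _
  · intro h
    exact (Finset.mem_erase.1 hχ).1 (Subtype.ext (irrConj_eq_self_iff_one hodd χ h))
  · refine Finset.mem_erase.2 ⟨fun h => ?_, Finset.mem_univ _⟩
    refine (Finset.mem_erase.1 hχ).1 ?_
    rw [← irrConj_irrConj χ, h]
    exact Subtype.ext (funext fun g => by simp [one])

theorem even_inner (hodd : Odd (Nat.card G)) {X Y : G → ℂ} (hX : IsGeneralizedCharacter G X)
    (hY : IsGeneralizedCharacter G Y) (rX : cj X = X) (rY : cj Y = Y)
    (ha : classInner X (fun _ => 1) = 0) {c : ℤ} (hc : classInner X Y = c) : Even c := by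
  obtain ⟨b, hb⟩ := gen_inner_int hY gen_one
  simpa using parity hodd hX hY rX rY (a := 0) (by simpa using ha) hb hc

end Parity

section Values

/-- An integral equivariant value fixed by all coprime powers is an integer. -/
theorem int_of_fixed {F : G → ℂ} (hF : GalEquiv F) {g₀ : G} (hI : IsIntegral ℤ (F g₀))
    (hfix : ∀ k : ℕ, k.Coprime (Nat.card G) → F (g₀ ^ k) = F g₀) : ∃ z : ℤ, F g₀ = z := by
  classical
  set S : Finset G := Finset.univ.filter fun x => ∃ k : ℕ, k.Coprime (Nat.card G) ∧ g₀ ^ k = x with hS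
  have hmem : ∀ x, x ∈ S ↔ ∃ k : ℕ, k.Coprime (Nat.card G) ∧ g₀ ^ k = x := fun x => by simp [hS]
  have hpow : ∀ k : ℕ, k.Coprime (Nat.card G) → ∀ x, x ^ k ∈ S ↔ x ∈ S := by
    intro k hk x
    have hto : ∀ y ∈ S, y ^ k ∈ S := fun y hy => by
      obtain ⟨m, hm, e⟩ := (hmem y).1 hy
      exact (hmem _).2 ⟨m * k, Nat.Coprime.mul_left hm hk, by rw [pow_mul, e]⟩
    refine ⟨fun h => ?_, hto x⟩
    obtain ⟨y, hy, e⟩ := Finset.surj_on_of_inj_on_of_card_le (fun y _ => y ^ k) hto
      (fun a b _ _ hab => (powCoprime_bijective hk).injective hab) le_rfl (x ^ k) h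
    rwa [(powCoprime_bijective hk).injective e]
  have hg : g₀ ∈ S := (hmem _).2 ⟨1, by simp, pow_one _⟩
  have hgal := galEquiv_rat (fun x => if x ∈ S then (1 : ℚ) else 0) fun x k hk => by
    simp only [hpow k hk x]
  obtain ⟨q, hq⟩ := galEquiv_sum_rat (galEquiv_mul hF hgal)
  have hsum : ∑ x, (F * fun x => (((if x ∈ S then 1 else 0 : ℚ)) : ℂ)) x = S.card * F g₀ := by
    rw [← Finset.sum_subset (Finset.subset_univ S) fun x _ hx => by simp [hx],
      Finset.sum_congr rfl (g := fun _ => F g₀) fun x hx => ?_]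
    · simp
    · obtain ⟨k, hk, rfl⟩ := (hmem x).1 hx
      simp [Pi.mul_apply, hx, hfix k hk]
  have hc : (S.card : ℂ) ≠ 0 := Nat.cast_ne_zero.2 (Finset.card_ne_zero.2 ⟨g₀, hg⟩)
  have hr : F g₀ = ((q / S.card : ℚ) : ℂ) := by
    push_cast
    rw [eq_div_iff hc, ← hq, hsum, mul_comm]
  rw [hr] at hI
  obtain ⟨z, hz⟩ := isIntegral_rat_cast_imp hI
  exact ⟨z, by rw [hr, ← hz, Rat.cast_intCast]⟩

theorem gen_int_of_fixed {X : G → ℂ} (hX : IsGeneralizedCharacter G X) {g : G}
    (hfix : ∀ k : ℕ, k.Coprime (Nat.card G) → X (g ^ k) = X g) : ∃ z : ℤ, X g = z :=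
  int_of_fixed (gen_galEquiv hX) (gen_isIntegral hX g) hfix

end Values

section Dens

open Classical in
/-- The part of the norm of `f` carried by the subset `s`. -/
noncomputable def dens (s : Set G) (f : G → ℂ) : ℝ :=
  (Nat.card G : ℝ)⁻¹ * ∑ g : G with g ∈ s, ‖f g‖ ^ 2

theorem dens_nonneg (s : Set G) (f : G → ℂ) : 0 ≤ dens s f :=
  mul_nonneg (inv_nonneg.2 (Nat.cast_nonneg _)) (Finset.sum_nonneg fun _ _ => sq_nonneg _)

theorem dens_univ (f : G → ℂ) : dens Set.univ f = (classInner f f).re := by
  rw [classInner_self_re, Complex.ofReal_re]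
  simp [dens]

theorem dens_union {s t : Set G} (h : ∀ g ∈ s, g ∉ t) (f : G → ℂ) :
    dens (s ∪ t) f = dens s f + dens t f := by
  classical
  unfold dens
  rw [← mul_add, ← Finset.sum_union (Finset.disjoint_left.2 fun g hg hg' =>
    h g (Finset.mem_filter.1 hg).2 (Finset.mem_filter.1 hg').2)]
  congr 2
  ext g
  simp

theorem dens_mono {s t : Set G} (h : s ⊆ t) (f : G → ℂ) : dens s f ≤ dens t f := by
  classical
  refine mul_le_mul_of_nonneg_left (Finset.sum_le_sum_of_subset_of_nonneg (fun g hg => ?_)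
    fun _ _ _ => sq_nonneg _) (inv_nonneg.2 (Nat.cast_nonneg _))
  simp only [Finset.mem_filter, Finset.mem_univ, true_and] at hg ⊢
  exact h hg

theorem dens_congr {s : Set G} {f h : G → ℂ} (e : ∀ g ∈ s, f g = h g) : dens s f = dens s h := by
  classical
  unfold dens
  congr 1
  exact Finset.sum_congr rfl fun g hg => by rw [e g (Finset.mem_filter.1 hg).2]

theorem dens_compl (s : Set G) (f : G → ℂ) : dens s f + dens sᶜ f = (classInner f f).re := by
  rw [← dens_union (fun g hg => by simpa using hg), Set.union_compl_self, dens_univ]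

theorem dens_const (s : Set G) (c : ℂ) : dens s (fun _ => c) = ‖c‖ ^ 2 * s.ncard / Nat.card G := by
  classical
  rw [dens, Finset.sum_const, nsmul_eq_mul, Set.ncard_eq_toFinset_card', Set.filter_mem_univ_eq_toFinset]
  ring

/-- A nonvanishing integral equivariant function has mean square at least one. -/
theorem count_le_dens {X : G → ℂ} (hX : IsGeneralizedCharacter G X) {s : Set G}
    (hs : ∀ k : ℕ, k.Coprime (Nat.card G) → ∀ g ∈ s, g ^ k ∈ s) (hne : ∀ g ∈ s, X g ≠ 0) :
    (s.ncard : ℝ) / Nat.card G ≤ dens s X := by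
  classical
  have h := card_le_sum_norm_sq (gen_galEquiv hX) (gen_isIntegral hX) (gen_conj_inv hX)
    (Finset.univ.filter (· ∈ s)) (fun k hk g hg => by simpa using hs k hk g (by simpa using hg))
    (fun g hg => hne g (by simpa using hg))
  rw [dens, div_eq_inv_mul]
  refine mul_le_mul_of_nonneg_left (le_trans (le_of_eq ?_) h) (inv_nonneg.2 (Nat.cast_nonneg _))
  rw [Set.ncard_eq_toFinset_card', Set.filter_mem_univ_eq_toFinset]

open Classical in
/-- The part of the norm carried by a Dade support. -/
theorem dens_dadeSet {A : Set G} {L : Subgroup G} {R : G → Subgroup G} (hD : DadeHypothesis A L R)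
    {f : G → ℂ} (hf : IsClassFunction G f) :
    dens (dadeSet A R) f = (Nat.card L : ℝ)⁻¹ * ∑ a : G with a ∈ A, avgSq R f a := by
  classical
  have h := dade_sum_sq hD hf
  have hN : (Nat.card L : ℝ) ≠ 0 := Nat.cast_ne_zero.2 Nat.card_pos.ne'
  have hG : (Nat.card G : ℝ) ≠ 0 := Nat.cast_ne_zero.2 Nat.card_pos.ne'
  unfold dens
  field_simp
  linarith

end Dens

end Cfsg.Agent.OddFT
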