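import Cfsg.Agent.Lib.Char.Convolution
import Cfsg.Agent.Lib.OddChar.AverageIntegral

/-!
# A congruence from free actions on pairs
-/

set_option autoImplicit false
set_option linter.style.haveILetI false
set_option maxHeartbeats 800000

open Cfsg Cfsg.Agent.Char
open scoped ComplexConjugate commutatorElement

namespace Cfsg.Agent.OddFT

universe u

/-- Free orbits contribute multiples of the order of the acting group. -/
theorem sum_dvd_of_free {H Ω : Type*} [Group H] [Fintype H] [MulAction H Ω] (s : Finset Ω)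
    (hs : ∀ h : H, ∀ a ∈ s, h • a ∈ s) (hfree : ∀ h : H, ∀ a ∈ s, h • a = a → h = 1) (F : Ω → ℂ)
    (hF : ∀ a ∈ s, IsIntegral ℤ (F a)) (hinv : ∀ h : H, ∀ a ∈ s, F (h • a) = F a) :
    ∃ γ : ℂ, IsIntegral ℤ γ ∧ ∑ a ∈ s, F a = (Nat.card H : ℂ) * γ := by
  classical
  induction s using Finset.strongInduction with
  | H s ih =>
    rcases s.eq_empty_or_nonempty with rfl | ⟨a, ha⟩
    · exact ⟨0, isIntegral_zero, by simp⟩
    set o : Finset Ω := Finset.univ.image fun h : H => h • a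
    have hos : o ⊆ s := fun x hx => by
      obtain ⟨h, -, rfl⟩ := Finset.mem_image.1 hx
      exact hs h a ha
    have hao : a ∈ o := Finset.mem_image.2 ⟨1, Finset.mem_univ _, one_smul H a⟩
    obtain ⟨γ, hγ, he⟩ := ih (s \ o) (Finset.sdiff_ssubset hos ⟨a, hao⟩)
      (fun h x hx => by
        rw [Finset.mem_sdiff] at hx ⊢
        refine ⟨hs h x hx.1, fun hc => hx.2 ?_⟩
        obtain ⟨k, -, hk⟩ := Finset.mem_image.1 hc
        exact Finset.mem_image.2 ⟨h⁻¹ * k, Finset.mem_univ _, by rw [mul_smul, hk, inv_smul_smul]⟩)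
      (fun h x hx => hfree h x (Finset.mem_sdiff.1 hx).1) (fun x hx => hF x (Finset.mem_sdiff.1 hx).1)
      (fun h x hx => hinv h x (Finset.mem_sdiff.1 hx).1)
    refine ⟨γ + F a, hγ.add (hF a ha), ?_⟩
    have ho : ∑ x ∈ o, F x = (Nat.card H : ℂ) * F a := by
      rw [Finset.sum_image, Finset.sum_congr rfl fun h _ => hinv h a ha, Finset.sum_const,
        nsmul_eq_mul, Finset.card_univ, Nat.card_eq_fintype_card]
      intro h _ k _ hk
      have h1 : k⁻¹ * h = 1 := hfree _ a ha (by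
        rw [mul_smul, show h • a = k • a from hk, inv_smul_smul])
      exact (inv_mul_eq_one.1 h1).symm
    rw [← Finset.sum_sdiff hos, he, ho, mul_add]

variable {G : Type u} [Group G]

/-- The sum over one coset. -/
noncomputable def cosetSum [Fintype G] (ψ : G → ℂ) (J : Subgroup G) [Fintype J] (z : G) : ℂ :=
  ∑ j : J, ψ (z * (j : G))

theorem cosetSum_congr [Fintype G] (ψ : G → ℂ) {J : Subgroup G} [Fintype J] {z z' : G}
    (h : z⁻¹ * z' ∈ J) : cosetSum ψ J z = cosetSum ψ J z' := by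
  refine (Fintype.sum_equiv (Equiv.mulLeft (⟨_, h⟩ : J)) _ _ fun j => ?_).symm
  show ψ (z' * (j : G)) = ψ (z * (z⁻¹ * z' * (j : G)))
  rw [mul_assoc z⁻¹, mul_inv_cancel_left]

/-- The twisted sum over pairs of cosets. -/
noncomputable def pairSum [Fintype G] (ψ : G → ℂ) (J : Subgroup G) [Fintype J] (z z' : G)
    (q : G × G) : ℂ :=
  ∑ j : J, ∑ j' : J, ψ (q.1 * (z * (j : G)) * q.1⁻¹ * (q.2 * (z' * (j' : G)) * q.2⁻¹))

variable [Fintype G] {ψ : G → ℂ}

theorem psi_props (hψ : IsIrrCharacter G ψ ∨ IsIrrCharacter G (-ψ)) :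
    (∀ x y : G, ψ 1 * ∑ t : G, ψ (x * (t * y * t⁻¹)) = (Nat.card G : ℂ) * ψ x * ψ y) ∧
    (∀ x g : G, ψ (g * x * g⁻¹) = ψ x) ∧ (∀ g, IsIntegral ℤ (ψ g)) ∧ ψ 1 ≠ 0 := by
  rcases hψ with h | h
  · exact ⟨sum_conj_mul h, fun x g => isClassFunction_character (irr_isCharacter h) x g,
      char_isIntegral (irr_isCharacter h), irr_one_ne_zero h⟩
  · refine ⟨fun x y => ?_, fun x g => neg_inj.1 (isClassFunction_character (irr_isCharacter h) x g), fun g => ?_,
      fun h0 => irr_one_ne_zero h (by simp [h0])⟩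
    · have := sum_conj_mul h x y
      simp only [Pi.neg_apply, Finset.sum_neg_distrib] at this
      linear_combination this
    · have := (char_isIntegral (irr_isCharacter h) g).neg
      simpa using this

open Classical in
/-- The congruence. -/
theorem congr_pair (hodd : Odd (Nat.card G)) (hψ : IsIrrCharacter G ψ ∨ IsIrrCharacter G (-ψ))
    {T P Z0 J : Subgroup G} (hPT : P ≤ T) (hZT : Z0 ≤ T) (hJZ : J ≤ Z0)
    (hJn : T ≤ Subgroup.normalizer (J : Set G)) (hZn : T ≤ Subgroup.normalizer (Z0 : Set G))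
    (hti : ∀ x : G, x ∉ T → ∀ p ∈ P, x * p * x⁻¹ ∈ P → p = 1)
    (hPZ : ∀ p ∈ P, ∀ z ∈ Z0, ⁅p, z⁆ ∈ J) (hZab : ∀ a ∈ Z0, ∀ b ∈ Z0, ⁅a, b⁆ ∈ J)
    (hfix : ∀ g ∈ T, (∀ z ∈ Z0, ⁅g, z⁆ ∈ J) ∨ (∀ z ∈ Z0, ⁅g, z⁆ ∈ J → z ∈ J))
    (hcop : (Nat.card P).Coprime (Nat.card J)) (hsyl : (Nat.card P).Coprime (P.relIndex T))
    (hreal : ∀ z ∈ Z0, z ∉ J → ∑ j : J, ψ (z⁻¹ * (j : G)) = ∑ j : J, ψ (z * (j : G)))
    {Y : ℤ} (hY : ∑ z : G with z ∈ Z0 ∧ z ∉ J, ∑ j : J, (ψ (j : G) - ψ (z * (j : G))) = (Y : ℂ)) :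
    (Nat.card P : ℤ) ∣ Y := by
  classical
  obtain ⟨hconv, hclass, hint, hψ1⟩ := psi_props hψ
  set Φ := cosetSum ψ J with hΦ
  have hΦint : ∀ z, IsIntegral ℤ (Φ z) := fun z => IsIntegral.sum _ fun j _ => hint _
  set S : Finset G := Finset.univ.filter fun z => z ∈ Z0 ∧ z ∉ J with hSdef
  have hS : ∀ z, z ∈ S ↔ z ∈ Z0 ∧ z ∉ J := fun z => by simp [hSdef]
  have hJc : ∀ t ∈ T, ∀ j ∈ J, t * j * t⁻¹ ∈ J := fun t ht j hj =>
    (Subgroup.mem_normalizer_iff.1 (hJn ht) j).1 hj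
  have hZc : ∀ t ∈ T, ∀ z ∈ Z0, t * z * t⁻¹ ∈ Z0 := fun t ht j hj =>
    (Subgroup.mem_normalizer_iff.1 (hZn ht) j).1 hj
  have hJ' : ∀ t ∈ T, ∀ j ∈ J, t⁻¹ * j * t ∈ J := fun t ht j hj => by
    simpa using hJc t⁻¹ (T.inv_mem ht) j hj
  -- the sum over all pairs
  have htotal : ∀ z z' : G, ψ 1 * ∑ q : G × G, pairSum ψ J z z' q =
      (Nat.card G : ℂ) ^ 2 * Φ z * Φ z' := by
    intro z z'
    have h1 : ∀ (j j' : J) (x : G),
        ∑ y : G, ψ (x * (z * (j : G)) * x⁻¹ * (y * (z' * (j' : G)) * y⁻¹)) =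
          ∑ t : G, ψ (z * (j : G) * (t * (z' * (j' : G)) * t⁻¹)) := fun j j' x => by
      refine Fintype.sum_equiv (Equiv.mulLeft x⁻¹) _ _ fun y => ?_
      rw [Equiv.coe_mulLeft, ← hclass (z * (j : G) *
        (x⁻¹ * y * (z' * (j' : G)) * (x⁻¹ * y)⁻¹)) x]
      congr 1
      group
    simp only [pairSum]
    rw [Finset.sum_comm, Finset.mul_sum, hΦ, cosetSum, cosetSum, mul_assoc, Finset.sum_mul_sum,
      Finset.mul_sum]
    refine Finset.sum_congr rfl fun j _ => ?_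
    rw [Finset.sum_comm, Finset.mul_sum, Finset.mul_sum]
    refine Finset.sum_congr rfl fun j' _ => ?_
    rw [Fintype.sum_prod_type, Finset.sum_congr rfl fun x _ => h1 j j' x, Finset.sum_const,
      nsmul_eq_mul, Finset.card_univ, ← Nat.card_eq_fintype_card, mul_left_comm, hconv]
    ring
  -- the action of `P ^ 3`
  letI : MulAction (P × P × P) (G × G) :=
    { smul := fun h q => ((h.1 : G) * q.1 * (h.2.1 : G)⁻¹, (h.1 : G) * q.2 * (h.2.2 : G)⁻¹)
      one_smul := fun q => by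
        show (((1 : P) : G) * q.1 * ((1 : P) : G)⁻¹, ((1 : P) : G) * q.2 * ((1 : P) : G)⁻¹) = q
        simp
      mul_smul := fun h k q => by
        show (((h.1 * k.1 : P) : G) * q.1 * ((h.2.1 * k.2.1 : P) : G)⁻¹,
          ((h.1 * k.1 : P) : G) * q.2 * ((h.2.2 * k.2.2 : P) : G)⁻¹) = ((h.1 : G) * _ * _, _)
        simp only [Subgroup.coe_mul, mul_inv_rev]
        refine Prod.ext ?_ ?_ <;>
        · show _ = (h.1 : G) * ((k.1 : G) * _ * _) * _
          simp only [mul_assoc] }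
  set out : Finset (G × G) := Finset.univ.filter fun q => ¬ (q.1 ∈ T ∧ q.2 ∈ T) with hout
  set inn : Finset (G × G) := Finset.univ.filter fun q => q.1 ∈ T ∧ q.2 ∈ T with hinn
  have hmemT : ∀ (a b : P) (x : G), (a : G) * x * (b : G)⁻¹ ∈ T ↔ x ∈ T := fun a b x => by
    rw [T.mul_mem_cancel_right (T.inv_mem (hPT b.2)), T.mul_mem_cancel_left (hPT a.2)]
  have hcoset : ∀ z ∈ Z0, ∀ (b : P) (x : G), ∀ j : J, ∃ j' : J,
      x * (b : G)⁻¹ * (z * (j : G)) * (x * (b : G)⁻¹)⁻¹ = x * (z * (j' : G)) * x⁻¹ ∧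
        (j' : G) = z⁻¹ * ((b : G)⁻¹ * z * (b : G)) * ((b : G)⁻¹ * (j : G) * (b : G)) := by
    intro z hz b x j
    refine ⟨⟨z⁻¹ * ((b : G)⁻¹ * z * (b : G)) * ((b : G)⁻¹ * (j : G) * (b : G)), J.mul_mem ?_
      (hJ' _ (hPT b.2) _ j.2)⟩, by group, rfl⟩
    have h1 := hPZ _ (P.inv_mem b.2) z hz
    have h2 := hJ' z (hZT hz) _ h1
    simpa [commutatorElement_def, mul_assoc] using h2
  have hFinv : ∀ z ∈ Z0, ∀ z' ∈ Z0, ∀ h : P × P × P, ∀ q : G × G,
      pairSum ψ J z z' (h • q) = pairSum ψ J z z' q := by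
    intro z hz z' hz' h q
    show ∑ j : J, ∑ j' : J, ψ ((h.1 : G) * q.1 * (h.2.1 : G)⁻¹ * (z * (j : G)) *
      ((h.1 : G) * q.1 * (h.2.1 : G)⁻¹)⁻¹ * ((h.1 : G) * q.2 * (h.2.2 : G)⁻¹ * (z' * (j' : G)) *
      ((h.1 : G) * q.2 * (h.2.2 : G)⁻¹)⁻¹)) = _
    choose f hf hfv using fun j => hcoset z hz h.2.1 q.1 j
    choose f' hf' hfv' using fun j => hcoset z' hz' h.2.2 q.2 j
    have hbij : ∀ (b : P) (w : G) (f : J → J),
        (∀ j : J, (f j : G) = w⁻¹ * ((b : G)⁻¹ * w * (b : G)) * ((b : G)⁻¹ * (j : G) * (b : G))) →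
        Function.Bijective f := fun b w f hf => Finite.injective_iff_bijective.1 fun i k hik => by
      have := congrArg Subtype.val hik
      rw [hf, hf] at this
      exact Subtype.ext (mul_left_cancel (mul_right_cancel (mul_left_cancel this)))
    refine Fintype.sum_bijective f (hbij _ _ f hfv) _ _ fun j => ?_
    refine Fintype.sum_bijective f' (hbij _ _ f' hfv') _ _ fun j' => ?_
    rw [← hf j, ← hf' j', ← hclass (q.1 * (h.2.1 : G)⁻¹ * (z * (j : G)) *
      (q.1 * (h.2.1 : G)⁻¹)⁻¹ * (q.2 * (h.2.2 : G)⁻¹ * (z' * (j' : G)) *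
      (q.2 * (h.2.2 : G)⁻¹)⁻¹)) (h.1 : G)]
    congr 1
    group
  have hfree : ∀ h : P × P × P, ∀ q ∈ out, h • q = q → h = 1 := by
    rintro ⟨p, p1, p2⟩ ⟨x, y⟩ hq he
    have hx : (p : G) * x * (p1 : G)⁻¹ = x := congrArg Prod.fst he
    have hy : (p : G) * y * (p2 : G)⁻¹ = y := congrArg Prod.snd he
    have ex : x⁻¹ * (p : G) * x = p1 := by
      rw [mul_inv_eq_iff_eq_mul] at hx
      rw [mul_assoc, hx, inv_mul_cancel_left]
    have ey : y⁻¹ * (p : G) * y = p2 := by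
      rw [mul_inv_eq_iff_eq_mul] at hy
      rw [mul_assoc, hy, inv_mul_cancel_left]
    have hkey : ∀ (x : G) (p1 : P), x ∉ T → x⁻¹ * (p : G) * x = p1 → p = 1 := fun x p1 hx e =>
      Subtype.ext (hti x⁻¹ (fun h => hx (by simpa using T.inv_mem h)) p p.2 (by
        rw [inv_inv, e]; exact p1.2))
    simp only [hout, Finset.mem_filter, Finset.mem_univ, true_and] at hq
    have hp : p = 1 := by
      by_cases hxT : x ∈ T
      · exact hkey y p2 (fun h => hq ⟨hxT, h⟩) ey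
      · exact hkey x p1 hxT ex
    subst hp
    refine Prod.ext rfl (Prod.ext (Subtype.ext ?_) (Subtype.ext ?_))
    · simpa using ex.symm
    · simpa using ey.symm
  have hcardP : (Nat.card (P × P × P) : ℂ) = (Nat.card P : ℂ) ^ 3 := by
    rw [Nat.card_prod, Nat.card_prod]; push_cast; ring
  have hout_inv : ∀ h : P × P × P, ∀ q ∈ out, h • q ∈ out := by
    intro h q hq
    simp only [hout, Finset.mem_filter, Finset.mem_univ, true_and] at hq ⊢
    show ¬ ((h.1 : G) * q.1 * (h.2.1 : G)⁻¹ ∈ T ∧ (h.1 : G) * q.2 * (h.2.2 : G)⁻¹ ∈ T)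
    rwa [hmemT, hmemT]
  -- congruence at one element
  have hstep : ∀ z ∈ S, ∃ γ : ℂ, IsIntegral ℤ γ ∧
      ∑ q ∈ inn, (pairSum ψ J z z q - pairSum ψ J z z⁻¹ q) = (Nat.card P : ℂ) ^ 3 * γ := by
    intro z hz
    obtain ⟨hzZ, hzJ⟩ := (hS z).1 hz
    obtain ⟨γ, hγ, he⟩ := sum_dvd_of_free (H := P × P × P) out hout_inv hfree
      (fun q => pairSum ψ J z z q - pairSum ψ J z z⁻¹ q)
      (fun q _ => (IsIntegral.sum _ fun j _ => IsIntegral.sum _ fun j' _ => hint _).sub
        (IsIntegral.sum _ fun j _ => IsIntegral.sum _ fun j' _ => hint _))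
      (fun h q _ => by rw [hFinv z hzZ z hzZ, hFinv z hzZ z⁻¹ (Z0.inv_mem hzZ)])
    · refine ⟨-γ, hγ.neg, ?_⟩
      have h0 : ∑ q : G × G, (pairSum ψ J z z q - pairSum ψ J z z⁻¹ q) = 0 := by
        refine mul_left_cancel₀ hψ1 ?_
        rw [Finset.sum_sub_distrib, mul_sub, htotal, htotal, mul_zero,
          show Φ z⁻¹ = Φ z from hreal z hzZ hzJ, sub_self]
      rw [← Finset.sum_filter_add_sum_filter_not Finset.univ fun q : G × G => q.1 ∈ T ∧ q.2 ∈ T,
        ← hout, he, hcardP] at h0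
      rw [hinn]
      linear_combination h0
  choose γ hγ hγe using hstep
  set γsum : ℂ := ∑ z ∈ S.attach, γ z z.2
  have hγint : IsIntegral ℤ γsum := IsIntegral.sum _ fun z _ => hγ _ _
  have hLHS : ∑ z ∈ S, ∑ q ∈ inn, (pairSum ψ J z z q - pairSum ψ J z z⁻¹ q) =
      (Nat.card P : ℂ) ^ 3 * γsum := by
    rw [Finset.mul_sum, ← Finset.sum_attach S]
    exact Finset.sum_congr rfl fun z _ => hγe _ _
  -- the pairs inside `T`
  set TT : Finset G := Finset.univ.filter (· ∈ T) with hTT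
  have hTTm : ∀ t, t ∈ TT ↔ t ∈ T := fun t => by simp [hTT]
  have hcardT : (TT.card : ℂ) = Nat.card T := by
    rw [Nat.card_eq_fintype_card, Fintype.card_subtype]
  have hTpair : ∀ z ∈ Z0, ∀ z' ∈ Z0, ∑ q ∈ inn, pairSum ψ J z z' q =
      (Nat.card T : ℂ) * (Nat.card J : ℂ) * ∑ g ∈ TT, Φ (z * (g * z' * g⁻¹)) := by
    intro z hz z' hz'
    have hinn' : inn = TT ×ˢ TT := by ext q; simp [hinn, hTT]
    rw [hinn', Finset.sum_product]
    have h1 : ∀ x ∈ TT, ∑ y ∈ TT, pairSum ψ J z z' (x, y) =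
        ∑ g ∈ TT, pairSum ψ J z z' (1, g) := by
      intro x hx
      rw [hTTm] at hx
      refine Finset.sum_equiv (Equiv.mulLeft x⁻¹) (fun y => ?_) fun y _ => ?_
      · rw [hTTm, hTTm, Equiv.coe_mulLeft, T.mul_mem_cancel_left (T.inv_mem hx)]
      · refine Finset.sum_congr rfl fun j _ => Finset.sum_congr rfl fun j' _ => ?_
        show ψ (x * (z * (j : G)) * x⁻¹ * (y * (z' * (j' : G)) * y⁻¹)) =
          ψ (1 * (z * (j : G)) * 1⁻¹ * (x⁻¹ * y * (z' * (j' : G)) * (x⁻¹ * y)⁻¹))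
        rw [← hclass (1 * (z * (j : G)) * 1⁻¹ *
          (x⁻¹ * y * (z' * (j' : G)) * (x⁻¹ * y)⁻¹)) x]
        congr 1
        group
    rw [Finset.sum_congr rfl h1, Finset.sum_const, nsmul_eq_mul, hcardT, mul_assoc]
    congr 1
    rw [Finset.mul_sum]
    refine Finset.sum_congr rfl fun g hg => ?_
    rw [hTTm] at hg
    set u := g * z' * g⁻¹ with hu
    have huT : u ∈ T := hZT (hZc g hg z' hz')
    show ∑ j : J, ∑ j' : J, ψ (1 * (z * (j : G)) * 1⁻¹ * (g * (z' * (j' : G)) * g⁻¹)) = _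
    have h2 : ∀ j : J, ∑ j' : J, ψ (1 * (z * (j : G)) * 1⁻¹ * (g * (z' * (j' : G)) * g⁻¹)) =
        Φ (z * u) := by
      intro j
      let f : J → J := fun j' => ⟨u⁻¹ * (j : G) * u * (g * (j' : G) * g⁻¹),
        J.mul_mem (hJ' u huT _ j.2) (hJc g hg _ j'.2)⟩
      refine Fintype.sum_bijective f (Finite.injective_iff_bijective.1 fun a b hab => ?_) _ _
        fun j' => ?_
      · exact Subtype.ext (mul_left_cancel (mul_right_cancel
          (mul_left_cancel (congrArg Subtype.val hab))))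
      · show _ = ψ (z * u * (u⁻¹ * (j : G) * u * (g * (j' : G) * g⁻¹)))
        congr 1
        simp only [hu]
        group
    rw [Finset.sum_congr rfl fun j _ => h2 j, Finset.sum_const, nsmul_eq_mul, Finset.card_univ,
      Nat.card_eq_fintype_card]
  -- the action of an element of `T` on the quotient
  set C : Subgroup G :=
    { carrier := {g | g ∈ T ∧ ∀ z ∈ Z0, ⁅g, z⁆ ∈ J}
      one_mem' := ⟨T.one_mem, fun z _ => by simp⟩
      mul_mem' := fun {a b} ha hb => ⟨T.mul_mem ha.1 hb.1, fun z hz => by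
        have := J.mul_mem (hJc a ha.1 _ (hb.2 z hz)) (ha.2 z hz)
        simpa [commutatorElement_def, mul_assoc] using this⟩
      inv_mem' := fun {a} ha => ⟨T.inv_mem ha.1, fun z hz => by
        have := hJ' a ha.1 _ (J.inv_mem (ha.2 z hz))
        simpa [commutatorElement_def, mul_assoc] using this⟩ } with hC
  have hCT : C ≤ T := fun g hg => hg.1
  have hPC : P ≤ C := fun g hg => ⟨hPT hg, hPZ g hg⟩
  -- squaring and twisted products permute the cosets outside `J`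
  set B := Z0 with hB
  haveI : (J.subgroupOf Z0).Normal :=
    (Subgroup.normal_subgroupOf_iff_le_normalizer hJZ).2 (hZT.trans hJn)
  have hperm : ∀ f : (Z0 ⧸ J.subgroupOf Z0) → (Z0 ⧸ J.subgroupOf Z0), Function.Bijective f →
      f 1 = 1 → ∀ F : G → G, (∀ z, z ∈ Z0 → ∃ h : F z ∈ Z0, ∀ hz : z ∈ Z0,
        f (QuotientGroup.mk (⟨z, hz⟩ : Z0)) = QuotientGroup.mk (⟨F z, h⟩ : Z0)) →
      ∑ z ∈ S, Φ (F z) = ∑ z ∈ S, Φ z := by
    intro f hf hf1 F hF
    let ΦW : (Z0 ⧸ J.subgroupOf Z0) → ℂ := Quotient.lift (fun z : Z0 => Φ (z : G)) fun a b h => cosetSum_congr ψ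
      (Subgroup.mem_subgroupOf.1 (QuotientGroup.leftRel_apply.1 h) :)
    have key : ∀ F : G → G, ∀ f : (Z0 ⧸ J.subgroupOf Z0) → (Z0 ⧸ J.subgroupOf Z0), (∀ z, z ∈ Z0 → ∃ h : F z ∈ Z0, ∀ hz : z ∈ Z0,
        f (QuotientGroup.mk (⟨z, hz⟩ : Z0)) = QuotientGroup.mk (⟨F z, h⟩ : Z0)) →
        ∑ z ∈ S, Φ (F z) = (Nat.card J : ℂ) * ∑ w : (Z0 ⧸ J.subgroupOf Z0) with w ≠ 1, ΦW (f w) := by
      intro F f hF
      have e1 : ∑ z ∈ S, Φ (F z) =
          ∑ z : Z0 with (QuotientGroup.mk z : (Z0 ⧸ J.subgroupOf Z0)) ≠ 1, ΦW (f (QuotientGroup.mk z)) := by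
        refine Finset.sum_bij' (fun z hz => (⟨z, ((hS z).1 hz).1⟩ : Z0)) (fun z _ => (z : G))
          (fun z hz => ?_) (fun z hz => ?_) (fun _ _ => rfl) (fun _ _ => rfl) fun z hz => ?_
        · simp only [Finset.mem_filter, Finset.mem_univ, true_and]
          exact fun h => ((hS z).1 hz).2 (Subgroup.mem_subgroupOf.1 ((QuotientGroup.eq_one_iff (N := J.subgroupOf Z0) _).1 h))
        · simp only [Finset.mem_filter, Finset.mem_univ, true_and] at hz
          exact (hS _).2 ⟨z.2, fun h => hz ((QuotientGroup.eq_one_iff (N := J.subgroupOf Z0) z).2 (Subgroup.mem_subgroupOf.2 h))⟩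
        · obtain ⟨h, he⟩ := hF z ((hS z).1 hz).1
          rw [he]
          rfl
      rw [e1, Finset.mul_sum, ← Finset.sum_fiberwise_of_maps_to (t := Finset.univ.filter (· ≠ (1 : (Z0 ⧸ J.subgroupOf Z0))))
        (g := fun z : Z0 => (QuotientGroup.mk z : (Z0 ⧸ J.subgroupOf Z0))) (fun z hz => by simpa using hz)]
      refine Finset.sum_congr rfl fun w hw => ?_
      simp only [Finset.mem_filter, Finset.mem_univ, true_and] at hw
      rw [Finset.sum_congr rfl fun z hz => by rw [(Finset.mem_filter.1 hz).2], Finset.sum_const,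
        nsmul_eq_mul]
      congr 2
      obtain ⟨z₀, rfl⟩ := QuotientGroup.mk_surjective w
      rw [Nat.card_eq_fintype_card, ← Finset.card_univ]
      refine (Finset.card_bij (fun (j : J) _ => z₀ * (⟨j, hJZ j.2⟩ : Z0)) (fun j _ => ?_)
        (fun i _ k _ h => Subtype.ext (congrArg Subtype.val (mul_left_cancel h) : _)) fun z hz => ?_).symm
      · simp only [Finset.mem_filter, Finset.mem_univ, true_and]
        have e : (QuotientGroup.mk (z₀ * (⟨(j : G), hJZ j.2⟩ : Z0)) : (Z0 ⧸ J.subgroupOf Z0)) = QuotientGroup.mk z₀ := by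
          refine QuotientGroup.eq.2 (Subgroup.mem_subgroupOf.2 ?_)
          simp
        exact ⟨e ▸ hw, e⟩
      · simp only [Finset.mem_filter, Finset.mem_univ, true_and] at hz
        exact ⟨⟨_, Subgroup.mem_subgroupOf.1 (QuotientGroup.eq.1 hz.2.symm)⟩, Finset.mem_univ _,
          Subtype.ext (by simp)⟩
    have h2 : ∑ z ∈ S, Φ z = _ := key id id fun z hz => ⟨hz, fun _ => rfl⟩
    rw [key F f hF, h2]
    congr 1
    refine Finset.sum_equiv (Equiv.ofBijective f hf) (fun w => ?_) fun w _ => rfl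
    simp only [Finset.mem_filter, Finset.mem_univ, true_and, Equiv.ofBijective_apply]
    exact not_congr ⟨fun h => h ▸ hf1, fun h => hf.1 (h.trans hf1.symm)⟩
  letI : CommGroup (Z0 ⧸ J.subgroupOf Z0) :=
    { (inferInstance : Group (Z0 ⧸ J.subgroupOf Z0)) with
      mul_comm := fun a b => by
        obtain ⟨a, rfl⟩ := QuotientGroup.mk'_surjective _ a
        obtain ⟨b, rfl⟩ := QuotientGroup.mk'_surjective _ b
        refine commutatorElement_eq_one_iff_mul_comm.1 ?_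
        rw [← map_commutatorElement]
        exact (QuotientGroup.eq_one_iff _).2 (hZab a a.2 b b.2) }
  have hoddW : Odd (Nat.card (Z0 ⧸ J.subgroupOf Z0)) :=
    hodd.of_dvd_nat ((Subgroup.card_quotient_dvd_card _).trans (Subgroup.card_subgroup_dvd_card _))
  have hcongrC : ∀ g ∈ C, ∀ z ∈ Z0, ∀ w ∈ Z0, Φ (w * (g * z * g⁻¹)) = Φ (w * z) := by
    intro g hg z hz w hw
    refine cosetSum_congr ψ ?_
    have h1 := J.inv_mem (hJ' z (hZT hz) _ (hg.2 z hz))
    simpa [commutatorElement_def, mul_assoc] using h1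
  have hin : ∀ g ∈ TT, ∑ z ∈ S, (Φ (z * (g * z * g⁻¹)) - Φ (z * (g * z⁻¹ * g⁻¹))) =
      if g ∈ C then -(Y : ℂ) else 0 := by
    intro g hg
    rw [hTTm] at hg
    split_ifs with hgC
    · have h1 : ∀ z ∈ S, Φ (z * (g * z * g⁻¹)) - Φ (z * (g * z⁻¹ * g⁻¹)) = Φ (z * z) - Φ 1 := by
        intro z hz
        have hz0 := ((hS z).1 hz).1
        rw [hcongrC g hgC z hz0 z hz0, hcongrC g hgC z⁻¹ (Z0.inv_mem hz0) z hz0, mul_inv_cancel]
      rw [Finset.sum_congr rfl h1, Finset.sum_sub_distrib,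
        hperm (fun w => w * w) ?_ (one_mul 1) (fun z => z * z) fun z hz => ⟨Z0.mul_mem hz hz, fun _ => rfl⟩,
        ← hY, ← Finset.sum_sub_distrib, ← Finset.sum_neg_distrib]
      · refine Finset.sum_congr rfl fun z _ => ?_
        rw [← Finset.sum_neg_distrib, hΦ, cosetSum, cosetSum, ← Finset.sum_sub_distrib]
        exact Finset.sum_congr rfl fun j _ => by rw [one_mul, neg_sub]
      · have := (powCoprime (G := Z0 ⧸ J.subgroupOf Z0) (n := 2) hoddW.coprime_two_right).bijective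
        have e : (fun w : Z0 ⧸ J.subgroupOf Z0 => w * w) = ⇑(powCoprime (G := Z0 ⧸ J.subgroupOf Z0)
            (n := 2) hoddW.coprime_two_right) := funext fun w => (sq w).symm
        rwa [e]
    · have hfix' := (hfix g hg).resolve_left fun h => hgC ⟨hg, h⟩
      let φ : (Z0 ⧸ J.subgroupOf Z0) →* (Z0 ⧸ J.subgroupOf Z0) :=
        QuotientGroup.map _ _ (MonoidHom.mk' (fun z : Z0 => (⟨g * z * g⁻¹, hZc g hg z z.2⟩ : Z0))
          (fun a b => Subtype.ext (by
            show g * ((a : G) * b) * g⁻¹ = g * a * g⁻¹ * (g * b * g⁻¹)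
            group))) fun z hz => Subgroup.mem_subgroupOf.2 (hJc g hg _ hz)
      have hφfix : ∀ w, φ w = w → w = 1 := by
        intro w hw
        obtain ⟨z, rfl⟩ := QuotientGroup.mk_surjective w
        refine (QuotientGroup.eq_one_iff z).2 (hfix' z z.2 ?_)
        have h1 : ((g * z * g⁻¹)⁻¹ * (z : G)) ∈ J := Subgroup.mem_subgroupOf.1 (QuotientGroup.eq.1 hw)
        have h2 := hJc (z : G) (hZT z.2) _ (J.inv_mem h1)
        simpa [commutatorElement_def, mul_assoc] using h2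
      have hneg : ∀ w, φ w = w⁻¹ → w = 1 := by
        intro w hw
        have h2 : φ (φ w) = w := by rw [hw, map_inv, hw, inv_inv]
        have hiter : ∀ n : ℕ, φ^[2 * n] w = w := by
          intro n
          induction n with
          | zero => rfl
          | succ n ih =>
            rw [show 2 * (n + 1) = (2 * n + 1) + 1 by omega, Function.iterate_succ_apply',
              Function.iterate_succ_apply', ih, h2]
        have hpow : ∀ (n : ℕ) (z : Z0), φ^[n] (QuotientGroup.mk z) =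
            QuotientGroup.mk (⟨g ^ n * z * (g ^ n)⁻¹, hZc _ (T.pow_mem hg n) _ z.2⟩ : Z0) := by
          intro n z
          induction n with
          | zero => simp
          | succ n ih =>
            rw [Function.iterate_succ_apply', ih]
            refine congrArg QuotientGroup.mk (Subtype.ext ?_)
            show g * (g ^ n * (z : G) * (g ^ n)⁻¹) * g⁻¹ = g ^ (n + 1) * (z : G) * (g ^ (n + 1))⁻¹
            group
        obtain ⟨m, hm⟩ := hodd.of_dvd_nat (orderOf_dvd_natCard g)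
        obtain ⟨z, rfl⟩ := QuotientGroup.mk_surjective w
        refine hφfix _ ?_
        have h3 := hpow (2 * m + 1) z
        rw [Function.iterate_succ_apply', hiter] at h3
        rw [h3]
        refine congrArg QuotientGroup.mk (Subtype.ext ?_)
        show g ^ (2 * m + 1) * (z : G) * (g ^ (2 * m + 1))⁻¹ = z
        rw [← hm, pow_orderOf_eq_one]
        group
      have hb1 : Function.Bijective fun w : Z0 ⧸ J.subgroupOf Z0 => w * φ w := by
        refine Finite.injective_iff_bijective.1 fun a b hab => ?_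
        have : φ (a * b⁻¹) = (a * b⁻¹)⁻¹ := by
          rw [map_mul, map_inv, mul_inv_rev, inv_inv, ← div_eq_mul_inv, div_eq_iff_eq_mul]
          calc φ a = a⁻¹ * (a * φ a) := by group
            _ = a⁻¹ * (b * φ b) := by rw [show a * φ a = b * φ b from hab]
            _ = b * a⁻¹ * φ b := by rw [mul_left_comm, mul_assoc]
        exact mul_inv_eq_one.1 (hneg _ this)
      have hb2 : Function.Bijective fun w : Z0 ⧸ J.subgroupOf Z0 => w * (φ w)⁻¹ := by
        refine Finite.injective_iff_bijective.1 fun a b hab => ?_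
        have h5 : a * b⁻¹ = φ a * (φ b)⁻¹ := by
          calc a * b⁻¹ = (a * (φ a)⁻¹) * φ a * b⁻¹ := by group
            _ = (b * (φ b)⁻¹) * φ a * b⁻¹ := by rw [show a * (φ a)⁻¹ = b * (φ b)⁻¹ from hab]
            _ = φ a * (φ b)⁻¹ := by rw [mul_right_comm, mul_comm (φ a), mul_comm b, mul_inv_cancel_right]
        exact mul_inv_eq_one.1 (hφfix _ (by rw [map_mul, map_inv, h5]))
      rw [Finset.sum_sub_distrib,
        hperm (fun w => w * φ w) hb1 (by rw [map_one, one_mul]) (fun z => z * (g * z * g⁻¹))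
          fun z hz => ⟨Z0.mul_mem hz (hZc g hg z hz), fun _ => rfl⟩,
        hperm (fun w => w * (φ w)⁻¹) hb2 (by rw [map_one, inv_one, one_mul])
          (fun z => z * (g * z⁻¹ * g⁻¹))
          fun z hz => ⟨Z0.mul_mem hz (hZc g hg _ (Z0.inv_mem hz)), fun _ => ?_⟩, sub_self]
      show QuotientGroup.mk _ * (φ (QuotientGroup.mk _))⁻¹ = _
      rw [show φ (QuotientGroup.mk (⟨z, hz⟩ : Z0)) =
        QuotientGroup.mk (⟨g * z * g⁻¹, hZc g hg z hz⟩ : Z0) from rfl, ← QuotientGroup.mk_inv,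
        ← QuotientGroup.mk_mul]
      refine congrArg QuotientGroup.mk (Subtype.ext ?_)
      show z * (g * z * g⁻¹)⁻¹ = z * (g * z⁻¹ * g⁻¹)
      group
  have hkey : (Nat.card P : ℂ) ^ 3 * γsum =
      -((Nat.card T : ℂ) * (Nat.card J : ℂ) * (Nat.card C : ℂ) * (Y : ℂ)) := by
    rw [← hLHS]
    have h1 : ∀ z ∈ S, ∑ q ∈ inn, (pairSum ψ J z z q - pairSum ψ J z z⁻¹ q) =
        (Nat.card T : ℂ) * (Nat.card J : ℂ) *
          ∑ g ∈ TT, (Φ (z * (g * z * g⁻¹)) - Φ (z * (g * z⁻¹ * g⁻¹))) := by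
      intro z hz
      have hz0 := ((hS z).1 hz).1
      rw [Finset.sum_sub_distrib, hTpair z hz0 z hz0, hTpair z hz0 z⁻¹ (Z0.inv_mem hz0), ← mul_sub,
        ← Finset.sum_sub_distrib]
    rw [Finset.sum_congr rfl h1, ← Finset.mul_sum, Finset.sum_comm, Finset.sum_congr rfl hin,
      ← Finset.sum_filter, Finset.sum_const, nsmul_eq_mul]
    have hc : ((TT.filter (· ∈ C)).card : ℂ) = Nat.card C := by
      rw [Nat.card_eq_fintype_card, Fintype.card_subtype]
      congr 2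
      ext g
      simp only [hTT, Finset.mem_filter, Finset.mem_univ, true_and]
      exact ⟨fun h => h.2, fun h => ⟨hCT h, h⟩⟩
    rw [hc]
    ring
  have hTcard : Nat.card T = Nat.card P * P.relIndex T := by
    have := Subgroup.relIndex_mul_relIndex (⊥ : Subgroup G) P T bot_le hPT
    rw [Subgroup.relIndex_bot_left, Subgroup.relIndex_bot_left] at this
    exact this.symm
  have hCcard : Nat.card C = Nat.card P * P.relIndex C := by
    have := Subgroup.relIndex_mul_relIndex (⊥ : Subgroup G) P C bot_le hPC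
    rw [Subgroup.relIndex_bot_left, Subgroup.relIndex_bot_left] at this
    exact this.symm
  have hP0 : (Nat.card P : ℂ) ≠ 0 := Nat.cast_ne_zero.2 Nat.card_pos.ne'
  set M : ℕ := P.relIndex T * Nat.card J * P.relIndex C with hMdef
  have hMco : (Nat.card P).Coprime M := (hsyl.mul_right hcop).mul_right
    (hsyl.coprime_dvd_right ⟨_, (Subgroup.relIndex_mul_relIndex P C T hPC hCT).symm⟩)
  have h2 : ((-(M : ℤ) * Y : ℤ) : ℂ) = (Nat.card P : ℕ) * γsum := by
    rw [hTcard, hCcard] at hkey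
    refine mul_left_cancel₀ (pow_ne_zero 2 hP0) ?_
    push_cast at hkey ⊢
    rw [hMdef]
    push_cast
    linear_combination -hkey
  have h3 := Cfsg.Agent.OddChar.int_dvd_of_integral Nat.card_pos.ne' hγint h2
  rw [neg_mul, dvd_neg] at h3
  exact (Int.isCoprime_iff_nat_coprime.2 (by simpa using hMco)).dvd_of_dvd_mul_left h3

end Cfsg.Agent.OddFT
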