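import Cfsg.Agent.Lib.OddChar.FT.FreeKernel
import Cfsg.Agent.Lib.Char.PowerCongr

/-!
The regions of the final configuration: two sides with elementary abelian kernels and trivial `C`.
-/

set_option autoImplicit false
set_option linter.unusedSectionVars false
set_option linter.unusedVariables false
set_option linter.style.haveILetI false

open Cfsg Cfsg.Agent.Char Cfsg.Agent.OddChar Cfsg.Agent.OddLocal
open scoped ComplexConjugate Classical

namespace Cfsg.Agent.OddFT

universe u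

variable {G : Type u} [Group G] [Fintype G]

/-- An integral value of a generalized character is congruent to the value at the `q`-th power. -/
theorem gen_int_congr {X : G → ℂ} (hX : IsGeneralizedCharacter G X) {q : ℕ} (hq : q.Prime) (hq2 : Odd q)
    {x : G} {u v : ℤ} (hu : X x = u) (hv : X (x ^ q) = v) : (q : ℤ) ∣ u - v := by
  obtain ⟨a, b, ha, hb, rfl⟩ := hX
  obtain ⟨γ, hγ⟩ := char_pow_congr ha hq 1 x
  obtain ⟨δ, hδ⟩ := char_pow_congr hb hq 1 x
  rw [pow_one] at hγ hδ
  let A : AlgInt := ⟨a x, char_isIntegral ha x⟩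
  let B : AlgInt := ⟨b x, char_isIntegral hb x⟩
  obtain ⟨r, hr⟩ := sum_pow_prime_pow hq 1 (Finset.univ : Finset (Fin 2)) ![A, -B]
  simp only [Fin.sum_univ_two, Matrix.cons_val_zero, Matrix.cons_val_one, pow_one, hq2.neg_pow] at hr
  have h2 := congrArg (fun z : AlgInt => (z : ℂ)) hr
  simp [A, B] at h2
  rw [Pi.sub_apply] at hu hv
  have hint : IsIntegral ℤ ((((u : ℚ) ^ q - v) / q : ℚ) : ℂ) := by
    have h1 : ((((u : ℚ) ^ q - v) / q : ℚ) : ℂ) = ((r + γ - δ : AlgInt) : ℂ) := by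
      push_cast
      rw [div_eq_iff (Nat.cast_ne_zero.2 hq.ne_zero), ← hu, ← hv]
      push_cast
      linear_combination h2 + hγ - hδ
    rw [h1]
    exact (r + γ - δ).2
  obtain ⟨w, hw⟩ := isIntegral_rat_cast_imp hint
  have h2' : (q : ℤ) ∣ u ^ q - v := ⟨w, by
    have hq0 : (q : ℚ) ≠ 0 := Nat.cast_ne_zero.2 hq.ne_zero
    field_simp at hw
    exact_mod_cast hw.symm.trans (mul_comm _ _)⟩
  haveI := Fact.mk hq
  rw [← ZMod.intCast_zmod_eq_zero_iff_dvd] at h2' ⊢
  push_cast at h2' ⊢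
  rwa [ZMod.pow_card] at h2'

/-- A side of the final configuration: `P` elementary abelian, `Z` of prime order, `C = 1`. -/
structure EndSide (S K Z P U : Subgroup G) : Prop where
  side : Side S K Z P U
  primeZ : (Nat.card Z).Prime
  elem : IsElementaryAbelian (Nat.card Z) P
  layer : IsLayer S K Z P U ⊥ (Nat.card Z)
  C_eq : layerC P U ⊥ = ⊥

/-- The conjugates of the nontrivial elements of `P`. -/
def regP (P : Subgroup G) : Set G := conjSet ((P : Set G) \ {1})

/-- The final configuration: the two sides. -/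
structure EndData (S T K Z P Q U V : Subgroup G) : Prop where
  sS : EndSide S K Z P U
  sT : EndSide T Z K Q V

theorem EndData.swap {S T K Z P Q U V : Subgroup G} (D : EndData S T K Z P Q U V) :
    EndData T S Z K Q P V U := ⟨D.sT, D.sS⟩

theorem powStable_regP (P : Subgroup G) : PowStable (regP P) := (powStable_punctured P).conjSet

theorem regP_disjoint_hat {K Z P : Subgroup G} (W : Grid K Z) (hco : (Nat.card K).Coprime (Nat.card P))
    (hK : (Nat.card K).Prime) {g : G} (hg : g ∈ regP P) : g ∉ hatG K Z := by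
  rintro ⟨w, a, ha, b, hb, ha1, hb1, rfl⟩
  obtain ⟨y, hy, -⟩ := hg
  set x := y * (w * (a * b) * w⁻¹) * y⁻¹ with hx
  have h1 : (a * b) ^ Nat.card P = 1 := by
    have e : x ^ Nat.card P = 1 := congrArg Subtype.val (pow_card_eq_one' (x := (⟨x, hy⟩ : P)))
    rw [hx, conj_pow, conj_eq_one_iff, conj_pow, conj_eq_one_iff] at e
    exact e
  rw [(show Commute a b from W.comm ha hb).mul_pow] at h1
  have h2 : a ^ Nat.card P ∈ K ⊓ Z := ⟨K.pow_mem ha _, by
    rw [eq_inv_of_mul_eq_one_left h1]; exact Z.inv_mem (Z.pow_mem hb _)⟩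
  rw [W.sn.2.2.1, Subgroup.mem_bot] at h2
  exact ha1 (orderOf_eq_one_iff.1 (Nat.eq_one_of_dvd_coprimes hco (Subgroup.orderOf_dvd_natCard _ ha)
    (orderOf_dvd_of_pow_eq_one h2)))

theorem regP_disjoint {P Q : Subgroup G} (hco : (Nat.card P).Coprime (Nat.card Q)) {g : G} (hg : g ∈ regP P) :
    g ∉ regP Q := by
  rintro ⟨y, hy, -⟩
  obtain ⟨x, hx, hx1⟩ := hg
  refine hx1 (orderOf_eq_one_iff.1 (Nat.eq_one_of_dvd_coprimes hco (Subgroup.orderOf_dvd_natCard _ hx) ?_))
  rw [show orderOf (x * g * x⁻¹) = orderOf g from (MulAut.conj x).orderOf_eq g,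
    ← show orderOf (y * g * y⁻¹) = orderOf g from (MulAut.conj y).orderOf_eq g]
  exact Subgroup.orderOf_dvd_natCard _ hy

theorem Grid.eta_swap {K Z : Subgroup G} (W : Grid K Z) (i : ↥K →* ℂˣ) (j : ↥Z →* ℂˣ) :
    W.swap.eta j i = W.eta i j := rfl

namespace EndSide

variable {S K Z P U : Subgroup G} (h : EndSide S K Z P U)
include h

theorem layerX_eq : layerX P U ⊥ = (P : Set G) \ {1} := by
  ext x
  constructor
  · rintro ⟨p, hp, c, hc, hp1, rfl⟩
    rw [h.C_eq, Subgroup.mem_bot] at hc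
    exact ⟨by simpa [hc] using hp, fun e => hp1 (Subgroup.mem_bot.2 (by simpa [hc] using e))⟩
  · rintro ⟨hx, hx1⟩
    exact ⟨x, hx, 1, one_mem _, fun e => hx1 (Subgroup.mem_bot.1 e), by simp⟩

theorem reg_eq : regP P = conjSet (layerX P U ⊥) := by rw [h.layerX_eq]; rfl

theorem isTI : IsTI S ((P : Set G) \ {1}) := h.layerX_eq ▸ h.layer.layerX_isTI

theorem mem_J {j : ↥Z →* ℂˣ} : j ∈ layerJ Z (⊥ : Subgroup G) ↔ j ≠ 1 :=
  ⟨fun hj => hj.1, fun hj => ⟨hj, fun z hz => by
    rw [show z = 1 from Subtype.ext (Subgroup.mem_bot.1 hz), map_one]⟩⟩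

theorem card_C : Nat.card ↥(layerC P U ⊥) = 1 := by rw [h.C_eq]; exact Subgroup.card_bot

theorem card_P : (Nat.card P : ℝ) = (Nat.card Z : ℝ) ^ Nat.card K := by rw [h.side.card_P, Nat.cast_pow]

/-- The orbits of `U` on the nontrivial characters: `(w - 1) u ≤ |P|`. -/
theorem card_U_bound : ((Nat.card Z : ℝ) - 1) * Nat.card U ≤ Nat.card P := by
  have := h.layer.orbit_bound
  rwa [h.card_C, Nat.cast_one, div_one, ← h.card_P] at this

theorem two_le_Z : (2 : ℝ) ≤ (Nat.card Z : ℝ) := by exact_mod_cast h.primeZ.two_le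

variable (W : Grid K Z)

/-- Off the conjugates of `P` and the hat, `η 1 j = 1 + Γ`. -/
theorem eta_eq {j : ↥Z →* ℂˣ} (hj : j ≠ 1) {g : G} (hg : g ∉ regP P) (hh : g ∉ hatG K Z) :
    W.eta 1 j g = 1 + h.layer.gamma W j g := by
  have e := h.layer.ind_beta_zero (h.mem_J.2 hj) (h.reg_eq ▸ hg) hh
  simp only [IsLayer.gamma, Pi.add_apply, Pi.sub_apply, e]
  ring

/-- Off the conjugates of `P` and the hat, the `η 1 j` take one common integer value. -/
theorem exists_int {g : G} (hg : g ∉ regP P) (hh : g ∉ hatG K Z) :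
    ∃ z : ℤ, ∀ j : ↥Z →* ℂˣ, j ≠ 1 → W.eta 1 j g = z := by
  obtain ⟨j, hj⟩ := h.layer.exists_layerJ
  have hval : ∀ m ∈ layerJ Z (⊥ : Subgroup G), W.eta 1 m g = W.eta 1 j g := fun m hm => by
    rw [h.eta_eq W hm.1 hg hh, h.eta_eq W hj.1 hg hh, h.layer.gamma_indep W hm hj]
  obtain ⟨z, hz⟩ := gen_int_of_fixed (W.eta_gen 1 j) (g := g) fun k hk => by
    rw [W.power 1 j k hk, show (1 : ↥K →* ℂˣ) ^ k = 1 from MonoidHom.ext fun _ => by simp,
      hval _ (h.layer.pow_mem_layerJ hj hk)]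
  exact ⟨z, fun m hm => (hval m (h.mem_J.2 hm)).trans hz⟩

/-- The measure of the conjugates of the nontrivial elements of `P`. -/
theorem meas_reg : meas (regP P) = (1 - 1 / (Nat.card P : ℝ)) / ((Nat.card U : ℝ) * Nat.card K) := by
  rw [regP, h.isTI.meas_conjSet, ncard_punctured, h.side.card_eq]
  have hP : (Nat.card P : ℝ) ≠ 0 := Nat.cast_ne_zero.2 Nat.card_pos.ne'
  push_cast
  field_simp

/-- The shift bound on the conjugates of `P`. -/
theorem dens_shift {Y : G → ℂ} (hY : IsGeneralizedCharacter G Y) (s : ℕ) (hs : 2 * s + 1 ≤ Nat.card Z) :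
    ((Nat.card Z : ℝ) - 1) * ((s : ℝ) ^ 2 * (1 - (Nat.card U : ℝ) / Nat.card P) / Nat.card K) ≤
      ∑ j ∈ Finset.univ.erase (1 : ↥Z →* ℂˣ), dens (regP P) ((s : ℂ) • W.eta 1 j + Y) := by
  have h1 := h.layer.shift_bound W hY s hs
  rw [h.card_C, Nat.cast_one, div_one, ← h.card_P, ← h.reg_eq] at h1
  refine h1.trans (le_of_eq (Finset.sum_congr ?_ fun _ _ => rfl))
  ext j
  simp [h.mem_J]

/-- The cross characters do not vanish on average on the conjugates of `P`. -/
theorem dens_cross (hK : Odd (Nat.card K)) {i : ↥K →* ℂˣ} (hi : i ≠ 1) :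
    meas (regP P) ≤ dens (regP P) (W.eta i 1) := by
  haveI : IsMulCommutative P := h.elem.1
  have hP : ∀ a b : P, a * b = b * a := fun a b => IsMulCommutative.is_comm.comm a b
  have hgen : IsGeneralizedCharacter P (fun x : P => W.eta i 1 (x : G)) := by
    obtain ⟨a, b, ha, hb, e⟩ := W.eta_gen i 1
    exact ⟨_, _, isCharacter_comp P.subtype ha, isCharacter_comp P.subtype hb, by rw [e]; rfl⟩
  obtain ⟨d, hd⟩ := exists_hom_coords hgen
  haveI : Finite (↥P →* ℂˣ) := finite_hom_units _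
  haveI := Fintype.ofFinite (↥P →* ℂˣ)
  have hpar := parseval_hom hP hd
  have hne : ∃ a b, d a ≠ d b := by
    by_contra hall
    push Not at hall
    obtain ⟨b, hb, hb1⟩ := Z.bot_or_exists_ne_one.resolve_left fun e => h.primeZ.ne_one (by
      rw [e]; exact Subgroup.card_bot)
    obtain ⟨a, ha, ha1⟩ := K.bot_or_exists_ne_one.resolve_left fun e => h.side.prime.ne_one (by
      rw [e]; exact Subgroup.card_bot)
    have hg0 : gVar d = 0 := by
      have : gVar d = gVar (fun _ : ↥P →* ℂˣ => (0 : ℤ)) := by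
        rw [← gVar_add_const (fun _ : ↥P →* ℂˣ => (0 : ℤ)) (d 1)]
        congr 1
        funext l
        rw [zero_add, hall l 1]
      rw [this, gVar]
      simp
    rw [hg0, mul_zero] at hpar
    set z := b ^ Nat.card K with hz
    have hzP : z ∈ P := P.pow_mem (h.side.Z_le hb) _
    have hz1 : z ≠ 1 := fun e => hb1 (orderOf_eq_one_iff.1 (Nat.eq_one_of_dvd_coprimes h.side.coKP
      (orderOf_dvd_of_pow_eq_one e) ((Subgroup.orderOf_dvd_natCard _ (h.side.Z_le hb)))))
    have hv : ∀ x ∈ P, x ≠ 1 → W.eta i 1 x = 0 := fun x hx hx1 => by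
      have := (Finset.sum_eq_zero_iff_of_nonneg fun x _ => sq_nonneg _).1 hpar ⟨x, hx⟩
        (Finset.mem_filter.2 ⟨Finset.mem_univ _, fun e => hx1 (congrArg Subtype.val e)⟩)
      simpa using this
    set X : G → ℂ := ∑ k ∈ Finset.univ.erase (1 : ↥K →* ℂˣ), W.eta k 1 with hX
    have hXgen : IsGeneralizedCharacter G X := isGenChar_sum _ _ (fun k _ => W.eta_gen k 1)
    have hXz : X z = ((0 : ℤ) : ℂ) := by
      rw [hX, Finset.sum_apply, Int.cast_zero]
      refine Finset.sum_eq_zero fun k hk => ?_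
      obtain ⟨n, hn, e⟩ := exists_coprime_pow h.side.prime
        (by rw [Nat.card_eq_fintype_card, W.card_left]) hi (Finset.mem_erase.1 hk).1
      have hp := W.power i 1 n hn z
      rw [e, show (1 : ↥Z →* ℂˣ) ^ n = 1 from MonoidHom.ext fun _ => by simp] at hp
      rw [← hp]
      exact hv _ (P.pow_mem hzP n) (powStable_punctured P n hn z ⟨hzP, hz1⟩).2
    have hXa : X (a * b) = ((-1 : ℤ) : ℂ) := by
      rw [hX, Finset.sum_apply, Finset.sum_congr rfl fun k _ =>
        show W.eta k 1 (a * b) = _ from W.onHat k 1 ⟨a, ha⟩ ⟨b, hb⟩ (fun e => ha1 (congrArg Subtype.val e))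
          (fun e => hb1 (congrArg Subtype.val e))]
      have hs := sum_hom_eq (Y := ↥K) (⟨a, ha⟩ : ↥K)
      rw [← Finset.sum_erase_add _ _ (Finset.mem_univ (1 : ↥K →* ℂˣ))] at hs
      have hc : commutator ↥K = ⊥ := by
        rw [commutator_def, Subgroup.commutator_eq_bot_iff_le_centralizer]
        intro x _ y _
        haveI : Fact (Nat.card K).Prime := ⟨h.side.prime⟩
        haveI := isCyclic_of_prime_card (α := K) rfl
        exact (IsCyclic.commGroup (α := K)).mul_comm y x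
      rw [hc, if_neg (fun e => ha1 (congrArg Subtype.val (Subgroup.mem_bot.1 e)))] at hs
      simp only [MonoidHom.one_apply, Units.val_one, mul_one] at hs ⊢
      push_cast
      linear_combination hs
    have hpow : (a * b) ^ Nat.card K = z := by
      rw [(show Commute a b from W.comm ha hb).mul_pow,
        show a ^ Nat.card K = 1 from congrArg Subtype.val (pow_card_eq_one' (x := (⟨a, ha⟩ : K))), one_mul]
    have hd := gen_int_congr hXgen h.side.prime hK hXa (v := 0) (by rw [hpow]; exact hXz)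
    rw [sub_zero] at hd
    have := Int.le_of_dvd one_pos (dvd_neg.1 hd)
    have := h.side.prime.two_le
    omega
  obtain ⟨a, b, hab⟩ := hne
  have hv := one_sub_inv_le_gVar hab
  have hcard : (Fintype.card (↥P →* ℂˣ) : ℝ) = Nat.card P := by
    rw [← Nat.card_eq_fintype_card, card_hom_units]
    have hc : commutator ↥P = ⊥ := by
      rw [commutator_def, Subgroup.commutator_eq_bot_iff_le_centralizer]
      exact fun x _ y _ => hP y x
    rw [hc, Subgroup.index_bot]
  rw [hcard] at hv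
  rw [h.meas_reg, regP, h.isTI.dens_conjSet (isClassFunction_genChar (W.eta_gen i 1))]
  have hsum : ∀ s : Finset S, (∀ x, x ∈ s ↔ (x : G) ∈ (P : Set G) \ {1}) →
      ∑ x ∈ s, ‖W.eta i 1 (x : G)‖ ^ 2 = ∑ x : P with x ≠ 1, ‖W.eta i 1 (x : G)‖ ^ 2 := by
    intro s hs
    refine Finset.sum_bij' (fun x hx => (⟨(x : G), ((hs x).1 hx).1⟩ : P))
      (fun x _ => (⟨(x : G), h.side.P_le_S x.2⟩ : S)) (fun x hx => ?_) (fun x hx => ?_)
      (fun _ _ => rfl) (fun _ _ => rfl) (fun _ _ => rfl)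
    · exact Finset.mem_filter.2 ⟨Finset.mem_univ _, fun e => ((hs x).1 hx).2 (congrArg Subtype.val e)⟩
    · exact (hs _).2 ⟨x.2, fun e => (Finset.mem_filter.1 hx).2 (Subtype.ext e)⟩
  rw [hsum _ fun x => by simp]
  rw [hpar, h.side.card_eq]
  have hP0 : (0 : ℝ) < Nat.card P := Nat.cast_pos.2 Nat.card_pos
  have hU : (0 : ℝ) < Nat.card U := Nat.cast_pos.2 Nat.card_pos
  have hK0 : (0 : ℝ) < Nat.card K := Nat.cast_pos.2 Nat.card_pos
  push_cast
  rw [div_le_iff₀ (by positivity)]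
  refine hv.trans (le_of_eq ?_)
  field_simp

end EndSide

/-- Outside the three regions all grid characters are integers determined by two of them. -/
theorem EndData.exists_values {S T K Z P Q U V : Subgroup G} (D : EndData S T K Z P Q U V) (W : Grid K Z)
    {g : G} (hP : g ∉ regP P) (hQ : g ∉ regP Q) (hh : g ∉ hatG K Z) :
    ∃ a b : ℤ, (∀ i : ↥K →* ℂˣ, i ≠ 1 → W.eta i 1 g = a) ∧ (∀ j : ↥Z →* ℂˣ, j ≠ 1 → W.eta 1 j g = b) ∧
      ∀ i j, i ≠ 1 → j ≠ 1 → W.eta i j g = ((a + b - 1 : ℤ) : ℂ) := by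
  obtain ⟨b, hb⟩ := D.sS.exists_int W hP hh
  obtain ⟨a, ha⟩ := D.sT.exists_int W.swap hQ (by rwa [W.hatG_comm])
  refine ⟨a, b, ha, hb, fun i j hi hj => ?_⟩
  rw [W.outside i j g hh, show W.eta i 1 g = a from ha i hi, hb j hj]
  push_cast
  ring

end Cfsg.Agent.OddFT
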