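import Cfsg.Agent.Lib.OddChar.FT.Setup
import Cfsg.Agent.Lib.OddChar.FrobeniusCoherent
import Cfsg.Agent.Lib.OddChar.TauTwoSetup
import Cfsg.Agent.Lib.Solv.CIT.EPPOGroups

/-!
Group theory of the part `C` of `U` centralising a layer, inside the maximal subgroup over `N(U)`.
-/

set_option autoImplicit false
set_option linter.unusedSectionVars false
set_option linter.style.haveILetI false

namespace Cfsg.Agent.OddFT

open scoped commutatorElement
open Cfsg
open Cfsg.Agent.Fusion (SylIn cj_eq_self exists_sylIn)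
open Cfsg.Agent.OddLocal Cfsg.Agent.OddLocal.Kappa Cfsg.Agent.OddLocal.Sig Cfsg.Agent.OddLocal.Uniq Cfsg.Agent.OddLocal.RankTwo

universe u

variable {G : Type u} [Group G] [Finite G] {S K U T L H E Z P N : Subgroup G} {r : ℕ}

theorem layerC_le : layerC P U N ≤ U := inf_le_left

theorem IsLayer.mem_C_grp (hl : IsLayer S K Z P U N r) {x : G} :
    x ∈ layerC P U N ↔ x ∈ U ∧ ∀ p ∈ P, p * x * p⁻¹ * x⁻¹ ∈ N :=
  mem_layerC (hl.side.U_le.trans hl.norm)

/-- `U K` normalises `C`. -/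
theorem layerC_normalized (hl : IsLayer S K Z P U N r) :
    U ⊔ K ≤ Subgroup.normalizer (layerC P U N : Set G) := by
  have hs := hl.side
  refine sup_le (fun u hu => ?_) (fun k hk => Fusion.mem_normalizer_of_cj_le ?_)
  · refine Subgroup.centralizer_le_normalizer _ (Subgroup.mem_centralizer_iff.2 fun a ha => ?_)
    exact congrArg Subtype.val (hs.U_comm.is_comm.comm (⟨a, layerC_le ha⟩ : U) ⟨u, hu⟩)
  · rintro _ ⟨a, ha, rfl⟩
    show k * a * k⁻¹ ∈ layerC P U N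
    rw [hl.mem_C_grp]
    refine ⟨(Subgroup.mem_normalizer_iff.1 (hs.U_norm hk) a).1 (layerC_le ha), fun p hp => ?_⟩
    have hp' : k⁻¹ * p * k ∈ P := by
      simpa using (Subgroup.mem_normalizer_iff.1 (hs.P_norm (inv_mem (hs.K_le hk))) p).1 hp
    have h := (Subgroup.mem_normalizer_iff.1 (hl.norm (hs.K_le hk)) _).1 ((hl.mem_C_grp.1 ha).2 _ hp')
    rw [show p * (k * a * k⁻¹) * p⁻¹ * (k * a * k⁻¹)⁻¹ =
      k * (k⁻¹ * p * k * a * (k⁻¹ * p * k)⁻¹ * a⁻¹) * k⁻¹ by group]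
    exact h

theorem IsLayer.twist_N (hl : IsLayer S K Z P U N r) {x a : G} (hx : x ∈ P) (ha : a ∈ layerC P U N) :
    x⁻¹ * (a * x * a⁻¹) ∈ N := by
  have h := (hl.mem_C_grp.1 ha).2 _ (P.inv_mem hx)
  rwa [inv_inv, mul_assoc, mul_assoc, ← mul_assoc a] at h

theorem IsLayer.coprime_C (hl : IsLayer S K Z P U N r) :
    (Nat.card ↥(layerC P U N)).Coprime (Nat.card P) :=
  hl.side.coUP.coprime_dvd_left (Subgroup.card_dvd_of_le layerC_le)

/-- The centraliser of `C` in `P` covers `P / N`. -/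
theorem layer_sup (hl : IsLayer S K Z P U N r) :
    (P ⊓ Subgroup.centralizer (layerC P U N : Set G)) ⊔ N = P := by
  have hs := hl.side
  refine le_antisymm (sup_le inf_le_left hl.le) fun x hx => ?_
  obtain ⟨c, hc, hxc⟩ := Solv.exists_fixed_in_coset' (layerC P U N) P N
    ((layerC_le.trans hs.U_le).trans hs.P_norm) hl.coprime_C
    (Or.inr (Solv.isSolvable_of_le hs.P_le_S (hs.minSimple.2.2.2 S hs.coatom.1))) hl.le
    ((layerC_le.trans hs.U_le).trans hl.norm) hx (fun a ha => hl.twist_N hx ha)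
  rw [show x = c * (x⁻¹ * c)⁻¹ by group]
  exact Subgroup.mul_mem _ (Subgroup.mem_sup_left hc) (Subgroup.mem_sup_right (N.inv_mem hxc))

/-- The centraliser of an element of `C` in `P` covers `P / N`. -/
theorem layer_sup_singleton (hl : IsLayer S K Z P U N r) {c : G} (hc : c ∈ layerC P U N) :
    (P ⊓ Subgroup.centralizer ({c} : Set G)) ⊔ N = P :=
  le_antisymm (sup_le inf_le_left hl.le) ((layer_sup hl).ge.trans
    (sup_le_sup_right (inf_le_inf_left _ (Subgroup.centralizer_le (Set.singleton_subset_iff.2 hc))) _))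

/-- `C` centralises a point of `Z` outside `N`. -/
theorem layer_point (hl : IsLayer S K Z P U N r) :
    ∃ z ∈ Z, z ∉ N ∧ z ∈ Subgroup.centralizer (layerC P U N : Set G) := by
  have hs := hl.side
  obtain ⟨x, hxZ, hxN⟩ : ∃ x ∈ Z, x ∉ N := SetLike.not_le_iff_exists.1 fun h => by
    have h1 := hl.index
    rw [inf_eq_left.2 h] at h1
    exact hl.prime.ne_one ((Nat.mul_eq_left Nat.card_pos.ne').1 h1)
  have hxP := hs.Z_le hxZ
  have hxK : x ∈ P ⊓ Subgroup.centralizer (K : Set G) := hs.fix.ge hxZ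
  have hn : K ≤ Subgroup.normalizer (layerC P U N : Set G) := le_sup_right.trans (layerC_normalized hl)
  have hA : layerC P U N ⊔ K ≤ S := sup_le (layerC_le.trans hs.U_le) hs.K_le
  have hco : (Nat.card ↥(layerC P U N ⊔ K)).Coprime (Nat.card P) :=
    (Nat.Coprime.mul_left hl.coprime_C hs.coKP).coprime_dvd_left
      ⟨_, (Solv.card_sup_mul_card_inf' (layerC P U N) K hn).symm⟩
  obtain ⟨c, hc, hxc⟩ := Solv.exists_fixed_in_coset' (layerC P U N ⊔ K) P N (hA.trans hs.P_norm) hco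
    (Or.inr (Solv.isSolvable_of_le hs.P_le_S (hs.minSimple.2.2.2 S hs.coatom.1))) hl.le
    (hA.trans hl.norm) hxP fun a ha => by
      rw [← SetLike.mem_coe, Subgroup.coe_mul_of_right_le_normalizer_left _ _ hn] at ha
      obtain ⟨a₁, ha₁, k, hk, rfl⟩ := ha
      have hkx : k * x = x * k := Subgroup.mem_centralizer_iff.1 hxK.2 k hk
      have e : x⁻¹ * (a₁ * k * x * (a₁ * k)⁻¹) = x⁻¹ * (a₁ * x * a₁⁻¹) := by
        rw [mul_assoc a₁ k x, hkx]; group
      rw [e]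
      exact hl.twist_N hxP ha₁
  have hsub : ∀ W : Subgroup G, W ≤ layerC P U N ⊔ K → c ∈ Subgroup.centralizer (W : Set G) := fun W hW =>
    centralizer_le_of_le hW hc.2
  refine ⟨c, hs.fix.le ⟨hc.1, hsub K le_sup_right⟩, fun hcN => hxN ?_, hsub _ le_sup_left⟩
  rw [show x = c * (x⁻¹ * c)⁻¹ by group]
  exact N.mul_mem hcN (N.inv_mem hxc)

/-- The centraliser of an element of `C` is outside `L`. -/
theorem layer_not_le_nbr (hl : IsLayer S K Z P U N r) (hn : Nbr S K U T L H E) {c : G} (hc : c ∈ layerC P U N) :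
    ¬ Subgroup.centralizer ({c} : Set G) ≤ L := fun hle => by
  have hs := hl.side
  obtain ⟨z, hzZ, hzN, hzC⟩ := layer_point hl
  have h1 : z ∈ S ⊓ L := ⟨hs.P_le_S (hs.Z_le hzZ),
    hle (Subgroup.centralizer_le (Set.singleton_subset_iff.2 hc) hzC)⟩
  rw [hn.meet] at h1
  have h2 : P ⊓ (U ⊔ K) = ⊥ := Solv.coprime_inf
    ((Nat.Coprime.mul_left hs.coUP hs.coKP).coprime_dvd_left
      ⟨_, (Solv.card_sup_mul_card_inf' U K hs.U_norm).symm⟩).symm
  have h3 : z ∈ P ⊓ (U ⊔ K) := ⟨hs.Z_le hzZ, h1⟩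
  rw [h2, Subgroup.mem_bot] at h3
  exact hzN (h3 ▸ N.one_mem)

/-- The only maximal subgroup over the centraliser of an element of `C` is `S`. -/
theorem layer_over (d : Duo S K U T) (hl : IsLayer S K Z P U N r) (hn : Nbr S K U T L H E) {c : G}
    (hc : c ∈ layerC P U N) (hc1 : c ≠ 1) :
    Subgroup.centralizer ({c} : Set G) ≤ S ∧
      ∀ M : Subgroup G, IsCoatom M → Subgroup.centralizer ({c} : Set G) ≤ M → M = S := by
  haveI := Fintype.ofFinite G
  have hG := d.minSimple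
  have hs := hl.side
  have hcS : c ∈ S := hs.U_le (layerC_le hc)
  obtain ⟨M, hM⟩ := exists_over_facts hG hn.coatom (hn.H_eq.le (hn.U_le (layerC_le hc))) hc1
    (layer_not_le_nbr hl hn hc)
  suffices hMS : M = S from hMS ▸ ⟨hM.centralizer, hM.unique⟩
  have hκ : (kappa M).Nonempty := Set.nonempty_iff_ne_empty.2 fun h => hM.notI (typeI_of_empty hG hM.coatom h)
  obtain ⟨z, hzZ, hzN, hzC⟩ := layer_point hl
  have hz1 : z ≠ 1 := fun h => hzN (h ▸ N.one_mem)
  have hzM : z ∈ M := hM.centralizer (Subgroup.centralizer_le (Set.singleton_subset_iff.2 hc) hzC)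
  have hzσ : z ∈ sigmaCore S := hs.P_le (hs.Z_le hzZ)
  obtain ⟨g, rfl | rfl⟩ := star_cover hG d.coatom d.decomp.hall d.K_ne d.coatomN d.K_eq hM.coatom hκ
  · exact Fusion.cj_eq_self_of_mem (by
      simpa using S.inv_mem (mem_of_conj_mem hG d.coatom hs.kappa_ne hzσ hz1 (g := g⁻¹)
        (by simpa using Fusion.mem_cj.1 hzM)))
  exfalso
  obtain ⟨UT, hUT⟩ := exists_decomp hG d.coatomN d.hallN (hall_cyclic hG d.coatomN d.hallN)
  obtain ⟨m, hm, hmz⟩ := mem_hall_conj hG d.coatomN d.hallN (x := g⁻¹ * z * g) (Fusion.mem_cj.1 hzM)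
    (fun t ht hd => d.hallN.2.1 t ht (hd.trans (by
      rw [show g⁻¹ * z * g = g⁻¹ * z * g⁻¹⁻¹ by rw [inv_inv], show orderOf (g⁻¹ * z * g⁻¹⁻¹) = orderOf z from
        (MulEquiv.orderOf_eq (MulAut.conj g⁻¹) z)]
      exact Subgroup.orderOf_dvd_natCard _ ⟨hzσ, (hs.fix.ge hzZ).2⟩)))
  set h := g * m with hh
  have hzh : h⁻¹ * z * h ∈ sigmaCore S ⊓ Subgroup.centralizer (K : Set G) := by
    rw [hh, show (g * m)⁻¹ * z * (g * m) = m⁻¹ * (g⁻¹ * z * g) * m by group]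
    exact hmz
  have hhS : h ∈ S := by
    simpa using S.inv_mem (mem_of_conj_mem hG d.coatom hs.kappa_ne hzσ hz1 (g := h⁻¹)
      (by simpa using (Subgroup.map_subtype_le _ : sigmaCore S ≤ S) hzh.1))
  have hzh1 : h⁻¹ * z * h ≠ 1 := fun e => hz1 (by
    rw [show z = h * (h⁻¹ * z * h) * h⁻¹ by group, e]; group)
  have hcz : c * z = z * c := Subgroup.mem_centralizer_iff.1 hzC c hc
  have hcT : h⁻¹ * c * h ∈ T ⊓ Subgroup.centralizer ({h⁻¹ * z * h} : Set G) := by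
    refine ⟨?_, Subgroup.mem_centralizer_singleton_iff.2 ?_⟩
    · have h1 : g⁻¹ * c * g ∈ T :=
        Fusion.mem_cj.1 (hM.centralizer (Subgroup.mem_centralizer_singleton_iff.2 rfl))
      rw [hh, show (g * m)⁻¹ * c * (g * m) = m⁻¹ * (g⁻¹ * c * g) * m by group]
      exact T.mul_mem (T.mul_mem (T.inv_mem hm) h1) hm
    · calc h⁻¹ * c * h * (h⁻¹ * z * h) = h⁻¹ * (c * z) * h := by group
        _ = h⁻¹ * (z * c) * h := by rw [hcz]
        _ = _ := by group
  rw [centralizer_eq hG d.coatomN d.hallN (frame_of_decomp hG d.coatomN hUT d.star_ne) (comm_of_cyclic hUT.cyclic)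
    hzh hzh1, ← d.K_eq'] at hcT
  have hd : orderOf c ∣ Nat.card ↥(sigmaCore S ⊓ Subgroup.centralizer (K : Set G)) * Nat.card K := by
    have h1 : orderOf (h⁻¹ * c * h) = orderOf c := by
      rw [show h⁻¹ * c * h = h⁻¹ * c * h⁻¹⁻¹ by rw [inv_inv]]
      exact MulEquiv.orderOf_eq (MulAut.conj h⁻¹) c
    rw [← h1]
    exact (Subgroup.orderOf_dvd_natCard _ hcT).trans ⟨_, (Solv.card_sup_mul_card_inf' _ K
      ((Subgroup.le_centralizer_iff.1 (inf_le_right : sigmaCore S ⊓ Subgroup.centralizer (K : Set G) ≤ _)).trans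
        (Subgroup.centralizer_le_normalizer _))).symm⟩
  refine hc1 (orderOf_eq_one_iff.1 (Nat.eq_one_of_dvd_coprimes (Nat.Coprime.mul_right ?_ ?_)
    (Subgroup.orderOf_dvd_natCard U (layerC_le hc)) hd))
  · exact Nat.coprime_of_dvd fun q hq h1 h2 => (Decomp.U_pi hG d.coatom d.decomp hq h1).1
      ((sigmaCore_hall hG d.coatom).1.2.1 q hq (h2.trans (Subgroup.card_dvd_of_le inf_le_left)))
  · exact hs.coKU.symm

/-- `C` is a trivial intersection set in `L`. -/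
theorem layer_ti (d : Duo S K U T) (hl : IsLayer S K Z P U N r) (hn : Nbr S K U T L H E) {x c : G} (hx : x ∈ L)
    (hc : c ∈ layerC P U N) (hc1 : c ≠ 1) (hxc : x * c * x⁻¹ ∈ layerC P U N) : x ∈ U ⊔ K := by
  have h1 := (layer_over d hl hn hxc (fun h => hc1 (conj_eq_one_iff.1 h))).2 (Fusion.cj S x)
    (OddLocal.Prime.isCoatom_cj d.coatom x) fun y hy => Fusion.mem_cj.2 ((layer_over d hl hn hc hc1).1
      (Subgroup.mem_centralizer_singleton_iff.2 (by
        have hy' := Subgroup.mem_centralizer_singleton_iff.1 hy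
        calc x⁻¹ * y * x * c = x⁻¹ * (y * (x * c * x⁻¹)) * x := by group
          _ = x⁻¹ * (x * c * x⁻¹ * y) * x := by rw [hy']
          _ = _ := by group)))
  have h2 : x ∈ Subgroup.normalizer (S : Set G) := Fusion.mem_normalizer_iff_cj.2 h1
  rw [normalizer_coatom d.minSimple d.coatom] at h2
  exact hn.meet.le ⟨h2, hx⟩

theorem Nbr.notMem_meet (hn : Nbr S K U T L H E) (hU : K ≤ Subgroup.normalizer (U : Set G)) {x : G} (hx : x ∈ E)
    (hxK : x ∉ K) : x ∉ U ⊔ K := fun h => hxK <| by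
  rw [← SetLike.mem_coe, Subgroup.coe_mul_of_right_le_normalizer_left _ _ hU] at h
  obtain ⟨u, hu, k, hk, rfl⟩ := h
  have h1 : u ∈ E ⊓ H := ⟨by simpa using E.mul_mem hx (E.inv_mem (hn.K_le hk)), hn.U_le hu⟩
  rw [hn.compl.2.2.1, Subgroup.mem_bot] at h1
  simpa [h1] using hk

theorem Nbr.le_normalizer (hn : Nbr S K U T L H E) : E ≤ Subgroup.normalizer (H : Set G) := by
  rw [hn.H_eq]
  exact hn.compl.1.trans le_normalizer_piCoreOf

/-- For `|E| > |K|` the square of `|C|` is at most `|H|`. -/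
theorem layer_sq (d : Duo S K U T) (hl : IsLayer S K Z P U N r) (hn : Nbr S K U T L H E)
    (hg : Nat.card K < Nat.card E) : Nat.card ↥(layerC P U N) ^ 2 ≤ Nat.card H := by
  obtain ⟨x, hx, hxK⟩ : ∃ x ∈ E, x ∉ K := SetLike.not_le_iff_exists.1 fun h => hg.not_ge (Subgroup.card_le_of_le h)
  let f : ↥(layerC P U N) × ↥(layerC P U N) → ↥H := fun a => ⟨(a.1 : G) * (x * a.2 * x⁻¹),
    H.mul_mem (hn.U_le (layerC_le a.1.2))
      ((Subgroup.mem_normalizer_iff.1 (hn.le_normalizer hx) _).1 (hn.U_le (layerC_le a.2.2)))⟩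
  have hf : Function.Injective f := by
    rintro ⟨a, b⟩ ⟨a', b'⟩ h
    have h' : (a : G) * (x * b * x⁻¹) = a' * (x * b' * x⁻¹) := congrArg Subtype.val h
    have h'' : (a' : G)⁻¹ * a = x * (b' * (b : G)⁻¹) * x⁻¹ := by
      calc (a' : G)⁻¹ * a = (a' : G)⁻¹ * (a * (x * b * x⁻¹)) * (x * b * x⁻¹)⁻¹ := by group
        _ = (a' : G)⁻¹ * (a' * (x * b' * x⁻¹)) * (x * b * x⁻¹)⁻¹ := by rw [h']
        _ = _ := by group
    by_cases hb : (b' : G) * (b : G)⁻¹ = 1
    · have hbb : b = b' := Subtype.ext (mul_inv_eq_one.1 hb).symm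
      subst hbb
      exact Prod.ext (Subtype.ext (mul_right_cancel h')) rfl
    refine absurd (layer_ti d hl hn (hn.compl.1 hx) ((layerC P U N).mul_mem b'.2 (inv_mem b.2)) hb ?_)
      (hn.notMem_meet hl.side.U_norm hx hxK)
    rw [← h'']
    exact (layerC P U N).mul_mem (inv_mem a'.2) a.2
  have := Nat.card_le_card_of_injective f hf
  rwa [Nat.card_prod, ← pow_two] at this

/-- The lines of an elementary group of order `t²`. -/
theorem card_lines {t : ℕ} [Fact t.Prime] {Ω : Subgroup G} (hΩ : Nat.card Ω = t ^ 2) (hexp : ∀ w ∈ Ω, w ^ t = 1) :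
    Nat.card {W : Subgroup G // W ≤ Ω ∧ Nat.card W = t} = t + 1 := by
  have ht : t.Prime := Fact.out
  have hcard : ∀ {w : G}, w ∈ Ω → w ≠ 1 → Nat.card (Subgroup.zpowers w) = t := fun hw hw1 => by
    rw [Nat.card_zpowers, orderOf_eq_prime (hexp _ hw) hw1]
  let e : {w : G // w ∈ (Ω : Set G) \ {1}} ≃
      Σ W : {W : Subgroup G // W ≤ Ω ∧ Nat.card W = t}, {w : G // w ∈ (W.1 : Set G) \ {1}} :=
    { toFun := fun w => ⟨⟨Subgroup.zpowers w.1, Subgroup.zpowers_le.2 w.2.1, hcard w.2.1 w.2.2⟩, w.1,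
        Subgroup.mem_zpowers _, w.2.2⟩
      invFun := fun s => ⟨s.2.1, s.1.2.1 s.2.2.1, s.2.2.2⟩
      left_inv := fun w => rfl
      right_inv := by
        rintro ⟨⟨W, hW⟩, w, hw, hw1⟩
        have hWeq : Subgroup.zpowers w = W := Subgroup.eq_of_le_of_card_ge (Subgroup.zpowers_le.2 hw)
          (by rw [hW.2, hcard (hW.1 hw) hw1])
        subst hWeq
        rfl }
  have hsub : ∀ {W : Subgroup G}, Nat.card {w : G // w ∈ (W : Set G) \ {1}} = Nat.card W - 1 := fun {W} => by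
    show Nat.card ↥((W : Set G) \ {1}) = _
    rw [Nat.card_coe_set_eq, Set.ncard_sdiff (Set.singleton_subset_iff.2 W.one_mem), Set.ncard_singleton,
      ← Nat.card_coe_set_eq]
    rfl
  have h := Nat.card_congr e
  haveI := Fintype.ofFinite {W : Subgroup G // W ≤ Ω ∧ Nat.card W = t}
  rw [Nat.card_sigma, Finset.sum_congr rfl fun W _ => hsub.trans (congrArg (· - 1) W.2.2), Finset.sum_const,
    Finset.card_univ, ← Nat.card_eq_fintype_card, smul_eq_mul, hsub, hΩ] at h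
  have h2 : t ^ 2 - 1 = (t + 1) * (t - 1) := by
    have := Nat.sq_sub_sq t 1
    simpa using this
  rw [h2] at h
  exact (Nat.eq_of_mul_eq_mul_right (Nat.sub_pos_of_lt ht.one_lt) h).symm

/-- An element fixing three lines of an elementary group of order `t²` fixes every line. -/
theorem normalizes_lines {t : ℕ} [Fact t.Prime] {Ω : Subgroup G} (hΩ : Nat.card Ω = t ^ 2)
    (hab : ∀ v ∈ Ω, ∀ w ∈ Ω, v * w = w * v) {a : G}
    {A B W : Subgroup G} (hA : A ≤ Ω ∧ Nat.card A = t) (hB : B ≤ Ω ∧ Nat.card B = t) (hW : W ≤ Ω ∧ Nat.card W = t)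
    (hAB : A ≠ B) (hAW : A ≠ W) (hBW : B ≠ W) (haA : a ∈ Subgroup.normalizer (A : Set G))
    (haB : a ∈ Subgroup.normalizer (B : Set G)) (haW : a ∈ Subgroup.normalizer (W : Set G)) :
    ∃ n : ℤ, ∀ v ∈ Ω, a * v * a⁻¹ = v ^ n := by
  have ht : t.Prime := Fact.out
  have hne : ∀ {X : Subgroup G}, Nat.card X = t → X ≠ ⊥ := fun hX h => ht.ne_one (by rw [← hX, h, Subgroup.card_bot])
  have hgen : ∀ {X : Subgroup G} {x : G}, Nat.card X = t → x ∈ X → x ≠ 1 → Subgroup.zpowers x = X :=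
    fun {X x} hX hx hx1 => Subgroup.eq_of_le_of_card_ge (Subgroup.zpowers_le.2 hx) (by
      rcases (Nat.dvd_prime ht).1 (hX ▸ Subgroup.card_dvd_of_le (Subgroup.zpowers_le.2 hx)) with h | h
      · exact absurd (Subgroup.zpowers_eq_bot.1 (Subgroup.card_eq_one.1 h)) hx1
      · rw [h, hX])
  have hinf : ∀ {X Y : Subgroup G}, Nat.card X = t → Nat.card Y = t → X ≠ Y → X ⊓ Y = ⊥ := fun {X Y} hX hY hXY => by
    refine eq_bot_iff.2 fun x hx => Subgroup.mem_bot.2 (by_contra fun hx1 => hXY ?_)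
    rw [← hgen hX hx.1 hx1, hgen hY hx.2 hx1]
  have hnAB : B ≤ Subgroup.normalizer (A : Set G) := fun b hb => Subgroup.centralizer_le_normalizer _
    (Subgroup.mem_centralizer_iff.2 fun x hx => hab x (hA.1 hx) b (hB.1 hb))
  have hsup : A ⊔ B = Ω := by
    refine Subgroup.eq_of_le_of_card_ge (sup_le hA.1 hB.1) ?_
    have h := Solv.card_sup_mul_card_inf' A B hnAB
    rw [hinf hA.2 hB.2 hAB, Subgroup.card_bot, mul_one, hA.2, hB.2] at h
    rw [h, hΩ, pow_two]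
  have hdec : ∀ v ∈ Ω, ∃ x ∈ A, ∃ y ∈ B, v = x * y := fun v hv => by
    rw [← hsup, ← SetLike.mem_coe, Subgroup.coe_mul_of_right_le_normalizer_left _ _ hnAB] at hv
    obtain ⟨x, hx, y, hy, rfl⟩ := hv
    exact ⟨x, hx, y, hy, rfl⟩
  obtain ⟨w, hw, hw1⟩ := exists_ne_one (hne hW.2)
  obtain ⟨x, hx, y, hy, rfl⟩ := hdec w (hW.1 hw)
  have hx1 : x ≠ 1 := fun h => by
    rw [h, one_mul] at hw hw1
    exact hw1 (Subgroup.mem_bot.1 (hinf hB.2 hW.2 hBW ▸ Subgroup.mem_inf.2 ⟨hy, hw⟩))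
  have hy1 : y ≠ 1 := fun h => by
    rw [h, mul_one] at hw hw1
    exact hw1 (Subgroup.mem_bot.1 (hinf hA.2 hW.2 hAW ▸ Subgroup.mem_inf.2 ⟨hx, hw⟩))
  obtain ⟨n, hn⟩ := Subgroup.mem_zpowers_iff.1
    ((hgen hW.2 hw hw1).ge ((Subgroup.mem_normalizer_iff.1 haW _).1 hw))
  have hxy : Commute x y := hab x (hA.1 hx) y (hB.1 hy)
  have hax := (Subgroup.mem_normalizer_iff.1 haA x).1 hx
  have hay := (Subgroup.mem_normalizer_iff.1 haB y).1 hy
  have e : (x ^ n)⁻¹ * (a * x * a⁻¹) = y ^ n * (a * y * a⁻¹)⁻¹ := by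
    rw [hxy.mul_zpow] at hn
    calc (x ^ n)⁻¹ * (a * x * a⁻¹) = (x ^ n)⁻¹ * (a * (x * y) * a⁻¹) * (a * y * a⁻¹)⁻¹ := by group
      _ = (x ^ n)⁻¹ * (x ^ n * y ^ n) * (a * y * a⁻¹)⁻¹ := by rw [hn]
      _ = _ := by group
  have h0 : (x ^ n)⁻¹ * (a * x * a⁻¹) ∈ A ⊓ B :=
    ⟨A.mul_mem (A.inv_mem (A.zpow_mem hx n)) hax, e ▸ B.mul_mem (B.zpow_mem hy n) (B.inv_mem hay)⟩
  rw [hinf hA.2 hB.2 hAB, Subgroup.mem_bot] at h0
  have hax' : a * x * a⁻¹ = x ^ n := (inv_mul_eq_one.1 h0).symm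
  have hay' : a * y * a⁻¹ = y ^ n := (mul_inv_eq_one.1 (e ▸ h0)).symm
  refine ⟨n, fun v hv => ?_⟩
  obtain ⟨p, hp, q, hq, rfl⟩ := hdec v hv
  obtain ⟨i, rfl⟩ := Subgroup.mem_zpowers_iff.1 ((hgen hA.2 hx hx1).ge hp)
  obtain ⟨j, rfl⟩ := Subgroup.mem_zpowers_iff.1 ((hgen hB.2 hy hy1).ge hq)
  rw [(hxy.zpow_zpow i j).mul_zpow, ← zpow_mul, ← zpow_mul, mul_comm i, mul_comm j, zpow_mul, zpow_mul,
    ← hax', ← hay', conj_zpow, conj_zpow]
  group

/-- For empty `κ` and exponent condition, `|E|` divides `t - 1`. -/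
theorem Nbr.card_dvd_of_exponent (hn : Nbr S K U T L H E) {t : ℕ}
    (h : Monoid.exponent (↥L ⧸ fittingHall ↥L) ∣ t - 1) : Nat.card E ∣ t - 1 := by
  have hG := hn.minSimple
  have hFσ : fittingHallOf L = H := (OddLocal.Kappa.fittingHallOf_eq hG hn.coatom hn.kappa_eq).trans hn.H_eq.symm
  have hmem : ∀ {y : ↥L}, y ∈ fittingHall ↥L → (y : G) ∈ H := fun hy => hFσ.le (Subgroup.mem_map_of_mem _ hy)
  let ψ : ↥E →* ↥L ⧸ fittingHall ↥L := (QuotientGroup.mk' _).comp (Subgroup.inclusion hn.compl.1)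
  have hψ : Function.Injective ψ := (injective_iff_map_eq_one ψ).2 fun e he => Subtype.ext (Subgroup.mem_bot.1
    (hn.compl.2.2.1 ▸ Subgroup.mem_inf.2 ⟨e.2, hmem ((QuotientGroup.eq_one_iff (Subgroup.inclusion hn.compl.1 e)).1 he)⟩))
  have hV : fittingHall ↥L ≠ ⊥ := fun h0 => FitParts.sigmaCore_ne_bot hG hn.coatom (by
    rw [← OddLocal.Kappa.fittingHallOf_eq hG hn.coatom hn.kappa_eq, fittingHallOf, h0, Subgroup.map_bot])
  have hco : (Nat.card ↥(E.subgroupOf L)).Coprime (Nat.card ↥(fittingHall ↥L)) := by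
    have h1 : Nat.card ↥(fittingHall ↥L) = Nat.card H := by
      rw [← hFσ, fittingHallOf, Subgroup.card_map_of_injective L.subtype_injective]
    rw [Solv.card_subgroupOf hn.compl.1, h1, hn.H_eq]
    exact Nat.coprime_of_dvd fun q hq h2 h3 => compl_pi hG hn.coatom (hn.H_eq ▸ hn.compl) hq h2
      ((sigmaCore_hall hG hn.coatom).1.2.1 q hq h3)
  haveI := OddChar.isZGroup_of_fpf (odd_subgroup hG L) hV (U := E.subgroupOf L) (fun e he he1 v hv hev =>
    Subtype.ext (hn.fpf (e : G) he (fun h0 => he1 (Subtype.ext h0)) (v : G) (hmem hv) (congrArg Subtype.val hev))) hco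
  haveI : IsZGroup ↥E := IsZGroup.of_injective (f := (Subgroup.subgroupOfEquivOfLe hn.compl.1).symm.toMonoidHom)
    (MulEquiv.injective _)
  rw [← IsZGroup.exponent_eq_card]
  exact (Monoid.exponent_dvd_of_monoidHom ψ hψ).trans h

theorem Nbr.card_dvd_line (hn : Nbr S K U T L H E) {t : ℕ} [Fact t.Prime] {W : Subgroup G} (hW : Nat.card W = t)
    (hWH : W ≤ H) (hWn : E ≤ Subgroup.normalizer (W : Set G)) : Nat.card E ∣ t - 1 :=
  OddLocal.Kappa.card_dvd_pred_of_line Fact.out hW hWn fun e he he1 w hw => hn.fpf e he he1 w (hWH hw)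

/-- For `|E| > |K|` the index `|E : K|` is at most half of `|C| + 1`. -/
theorem layer_index (d : Duo S K U T) (hl : IsLayer S K Z P U N r) (hn : Nbr S K U T L H E)
    (hC : layerC P U N ≠ ⊥) (hg : Nat.card K < Nat.card E) :
    2 * (Nat.card E / Nat.card K) ≤ Nat.card ↥(layerC P U N) + 1 := by
  have hG := hn.minSimple
  have hs := hl.side
  obtain ⟨t, ht, htC⟩ := Nat.exists_prime_and_dvd fun h => hC (Subgroup.card_eq_one.1 h)
  haveI := Fact.mk ht
  have htle : t ≤ Nat.card ↥(layerC P U N) := Nat.le_of_dvd Nat.card_pos htC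
  have hq2 : 2 ≤ Nat.card K := hs.prime.two_le
  obtain ⟨g, hge⟩ := Subgroup.card_dvd_of_le hn.K_le
  have hgdiv : Nat.card E / Nat.card K = g := by rw [hge, Nat.mul_div_cancel_left _ hs.prime.pos]
  rw [hgdiv]
  have hsmall : Nat.card E ∣ t - 1 → 2 * g ≤ Nat.card ↥(layerC P U N) + 1 := fun h => by
    have h1 := Nat.le_of_dvd (Nat.sub_pos_of_lt ht.one_lt) h
    have h2 : 2 * g ≤ Nat.card K * g := Nat.mul_le_mul_right g hq2
    omega
  obtain ⟨⟨c₀, hc₀⟩, hc₀o⟩ := exists_prime_orderOf_dvd_card' t htC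
  rw [Subgroup.orderOf_mk] at hc₀o
  have hc₁ : c₀ ≠ 1 := fun h => ht.ne_one (by rw [← hc₀o, h, orderOf_one])
  have hFσ : fittingHallOf L = H := (OddLocal.Kappa.fittingHallOf_eq hG hn.coatom hn.kappa_eq).trans hn.H_eq.symm
  have hc₀H : c₀ ∈ H := hn.U_le (layerC_le hc₀)
  have hLn : L ≤ Subgroup.normalizer (H : Set G) := by rw [hn.H_eq]; exact le_normalizer_piCoreOf
  have hHn : Subgroup.normalizer (H : Set G) = L := by
    refine (hn.coatom.le_iff.1 hLn).resolve_left fun h => ?_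
    refine Transit.normalizer_ne_top hG.2.1 (fun h0 => hc₁ ?_) ?_ h
    · rwa [h0, Subgroup.mem_bot] at hc₀H
    · exact fun h0 => hn.coatom.1 (top_le_iff.1 (h0.ge.trans (hn.H_eq.le.trans (Subgroup.map_subtype_le _))))
  rcases (typeI_of_empty hG hn.coatom hn.kappa_eq).2 with hti | ⟨hab, hrk, -⟩ | ⟨hexp, -⟩
  · exfalso
    rw [hFσ] at hti
    refine layer_not_le_nbr hl hn hc₀ fun z hz => ?_
    by_contra hzL
    refine hc₁ (hti z (fun h => hzL (hHn.le h)) c₀ hc₀H ?_)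
    rw [Subgroup.mem_centralizer_singleton_iff.1 hz, mul_inv_cancel_right]
    exact hc₀H
  swap
  · refine hsmall (hn.card_dvd_of_exponent (hexp t ht ?_))
    rw [hFσ]
    exact htC.trans (Subgroup.card_dvd_of_le (layerC_le.trans hn.U_le))
  rw [hFσ] at hab hrk
  have hcomm : ∀ a ∈ H, ∀ b ∈ H, a * b = b * a := fun a ha b hb =>
    congrArg Subtype.val (hab.is_comm.comm (⟨a, ha⟩ : H) ⟨b, hb⟩)
  let Ω : Subgroup G :=
    { carrier := {v | v ∈ H ∧ v ^ t = 1}
      one_mem' := ⟨H.one_mem, one_pow _⟩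
      mul_mem' := fun {a b} ha hb => ⟨H.mul_mem ha.1 hb.1, by
        rw [Commute.mul_pow (hcomm a ha.1 b hb.1), ha.2, hb.2, one_mul]⟩
      inv_mem' := fun {a} ha => ⟨H.inv_mem ha.1, by rw [inv_pow, ha.2, inv_one]⟩ }
  have hΩH : Ω ≤ H := fun v hv => hv.1
  have hΩp : IsPGroup t ↥Ω := fun v => ⟨1, Subtype.ext (by simpa using v.2.2)⟩
  have hΩn : E ≤ Subgroup.normalizer (Ω : Set G) := fun e he => Fusion.mem_normalizer_of_cj_le (by
    rintro _ ⟨v, hv, rfl⟩
    refine ⟨(Subgroup.mem_normalizer_iff.1 (hn.le_normalizer he) v).1 hv.1, ?_⟩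
    show (e * v * e⁻¹) ^ t = 1
    rw [conj_pow, hv.2, mul_one, mul_inv_cancel])
  have hc₀Ω : c₀ ∈ Ω := ⟨hc₀H, by rw [← hc₀o, pow_orderOf_eq_one]⟩
  have hΩle : Nat.card Ω ≤ t ^ 2 := by
    have h := hrk t ht (Ω.subgroupOf H) ⟨⟨fun a b => Subtype.ext (hab.is_comm.comm (a : ↥H) (b : ↥H))⟩⟩
      fun a ha => Subtype.ext ha.2
    rwa [Solv.card_subgroupOf hΩH] at h
  obtain ⟨j, hj⟩ := IsPGroup.iff_card.1 hΩp
  have hj2 : j ≤ 2 := (Nat.pow_le_pow_iff_right ht.one_lt).1 (hj ▸ hΩle)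
  have hj1 : 1 ≤ j := Nat.one_le_iff_ne_zero.2 fun h0 => hc₁ (Subgroup.mem_bot.1
    (Subgroup.card_eq_one.1 (by rw [hj, h0, pow_zero]) ▸ hc₀Ω))
  by_cases hj' : j = 1
  · exact hsmall (hn.card_dvd_line (by rw [hj, hj', pow_one]) hΩH hΩn)
  have hΩ : Nat.card Ω = t ^ 2 := by rw [hj]; congr 1; omega
  by_cases hdvd : Nat.card E ∣ t - 1
  · exact hsmall hdvd
  have hEtop : E ≠ ⊤ := fun h => hn.coatom.1 (top_le_iff.1 (h.ge.trans hn.compl.1))
  have htE : ¬ t ∣ Nat.card E := fun h => compl_pi hG hn.coatom (hn.H_eq ▸ hn.compl) ht h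
    ((sigmaCore_hall hG hn.coatom).1.2.1 t ht (htC.trans (Subgroup.card_dvd_of_le
      (layerC_le.trans (hn.U_le.trans hn.H_eq.le)))))
  have hEab : ∀ a ∈ E, ∀ b ∈ E, a * b = b * a := fun a ha b hb => by
    have h := commutator_centralizes hG hEtop hΩn hΩp (fun A hA hexpA => by
      have hle : A.map Ω.subtype ≤ Ω := Subgroup.map_subtype_le _
      have h1 := Subgroup.card_le_of_le hle
      rw [Subgroup.card_map_of_injective Ω.subtype_injective, hΩ] at h1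
      exact h1) (fun h0 => hc₁ (Subgroup.mem_bot.1 (h0 ▸ hc₀Ω))) htE
      (Subgroup.commutator_mem_commutator ha hb)
    by_contra hne
    refine hc₁ (hn.fpf ⁅a, b⁆ (Subgroup.commutator_le_self E (Subgroup.commutator_mem_commutator ha hb))
      (fun h0 => hne (commutatorElement_eq_one_iff_mul_comm.1 h0)) c₀ hc₀H ?_)
    exact (Subgroup.mem_centralizer_iff.1 h c₀ hc₀Ω).symm
  have hkey : ∀ s : ℕ, s.Prime → s ∣ g → ¬ s ∣ t - 1 := by
    intro s hs' hsg hst
    haveI := Fact.mk hs'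
    obtain ⟨A, hA⟩ := exists_sylIn (p := s) E
    obtain ⟨a, haA, haK⟩ : ∃ a ∈ A, a ∉ K := SetLike.not_le_iff_exists.1 fun hAK => hA.not_dvd (by
      refine hsg.trans ?_
      have h1 := Subgroup.relIndex_mul_relIndex A K E hAK hn.K_le
      have h2 := Subgroup.relIndex_mul_relIndex ⊥ K E bot_le hn.K_le
      rw [Subgroup.relIndex_bot_left, Subgroup.relIndex_bot_left, hge] at h2
      rw [← h1, Nat.eq_of_mul_eq_mul_left Nat.card_pos h2]
      exact dvd_mul_left _ _)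
    have haE : a ∈ E := hA.le haA
    let Λ := {W : Subgroup G // W ≤ Ω ∧ Nat.card W = t}
    letI : MulAction ↥(Subgroup.zpowers a) Λ :=
      { smul := fun x W => ⟨Fusion.cj W.1 (x : G), (Fusion.cj_mono W.2.1 _).trans
            (cj_eq_self (hΩn (Subgroup.zpowers_le.2 haE x.2))).le, by rw [Fusion.card_cj]; exact W.2.2⟩
        one_smul := fun W => Subtype.ext (Fusion.cj_one W.1)
        mul_smul := fun x y W => Subtype.ext (Fusion.cj_cj W.1 (y : G) (x : G)).symm }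
    obtain ⟨W₁, hW₁⟩ : (MulAction.fixedPoints ↥(Subgroup.zpowers a) Λ).Nonempty := by
      by_contra he
      have hmod := (hA.isPGroup.to_le (Subgroup.zpowers_le.2 haA)).card_modEq_card_fixedPoints (α := Λ)
      rw [Set.not_nonempty_iff_eq_empty] at he
      rw [he, Nat.card_coe_set_eq, Set.ncard_empty, card_lines hΩ (fun w hw => hw.2), Nat.modEq_zero_iff_dvd] at hmod
      have h2 : s ∣ 2 := by
        have := Nat.dvd_sub hmod hst
        rwa [show t + 1 - (t - 1) = 2 by have := ht.two_le; omega] at this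
      have hs2 : s = 2 := ((Nat.dvd_prime Nat.prime_two).1 h2).resolve_left hs'.ne_one
      exact Nat.not_even_iff_odd.2 (odd_subgroup hG E) (even_iff_two_dvd.2 (hs2 ▸ hsg.trans ⟨_, by rw [hge, mul_comm]⟩))
    have haW : a ∈ Subgroup.normalizer (W₁.1 : Set G) :=
      Fusion.mem_normalizer_iff_cj.2 (congrArg Subtype.val (hW₁ ⟨a, Subgroup.mem_zpowers a⟩))
    obtain ⟨b, hb, hbW⟩ : ∃ b ∈ E, Fusion.cj W₁.1 b ≠ W₁.1 := by
      by_contra hall
      push Not at hall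
      exact hdvd (hn.card_dvd_line W₁.2.2 (W₁.2.1.trans hΩH) fun e he => Fusion.mem_normalizer_iff_cj.2 (hall e he))
    have hnorm : ∀ x ∈ E, a ∈ Subgroup.normalizer (Fusion.cj W₁.1 x : Set G) := fun x hx => by
      refine Fusion.mem_normalizer_iff_cj.2 ?_
      rw [Fusion.cj_cj, hEab a haE x hx, ← Fusion.cj_cj, cj_eq_self haW]
    have hline : ∀ x ∈ E, Fusion.cj W₁.1 x ≤ Ω ∧ Nat.card ↥(Fusion.cj W₁.1 x) = t := fun x hx =>
      ⟨(Fusion.cj_mono W₁.2.1 x).trans (cj_eq_self (hΩn hx)).le, by rw [Fusion.card_cj]; exact W₁.2.2⟩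
    have hbb : Fusion.cj W₁.1 (b * b) ≠ W₁.1 := fun h => hbW (by
      have h1 : b * b ∈ Subgroup.normalizer (W₁.1 : Set G) := Fusion.mem_normalizer_iff_cj.2 h
      obtain ⟨k, hk⟩ := (odd_subgroup hG E).of_dvd_nat (Subgroup.orderOf_dvd_natCard E hb)
      refine cj_eq_self ?_
      rw [show b = (b * b) ^ (k + 1) by rw [← pow_two, ← pow_mul,
        show 2 * (k + 1) = orderOf b + 1 by omega, pow_succ, pow_orderOf_eq_one, one_mul]]
      exact pow_mem h1 _)
    have h12 : Fusion.cj W₁.1 b ≠ Fusion.cj W₁.1 (b * b) := fun h => hbW (by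
      have h1 := congrArg (fun X => Fusion.cj X b⁻¹) h
      simp only [← Fusion.cj_cj] at h1
      rwa [Fusion.cj_cj_inv, Fusion.cj_cj_inv, eq_comm] at h1)
    obtain ⟨n, hnv⟩ := normalizes_lines hΩ (fun v hv w hw => hcomm v hv.1 w hw.1) W₁.2 (hline b hb)
      (hline _ (E.mul_mem hb hb)) (Ne.symm hbW) (Ne.symm hbb) h12 haW (hnorm b hb) (hnorm _ (E.mul_mem hb hb))
    refine hn.notMem_meet hs.U_norm haE haK (layer_ti d hl hn (hn.compl.1 haE) hc₀ hc₁ ?_)
    rw [hnv c₀ hc₀Ω]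
    exact Subgroup.zpow_mem _ hc₀ n
  have hgE : g ∣ Nat.card E := ⟨_, by rw [hge, mul_comm]⟩
  have hgΩ : g ∣ (t + 1) * (t - 1) := by
    refine hgE.trans ?_
    have h := Solv.CITGroups.dvd_pred_of_free hΩn fun e he he1 => eq_bot_iff.2 fun v hv => Subgroup.mem_bot.2
      (hn.fpf e he he1 v hv.1.1 (Subgroup.mem_centralizer_singleton_iff.1 hv.2).symm)
    rw [hΩ] at h
    have h2 : t ^ 2 - 1 = (t + 1) * (t - 1) := by simpa using Nat.sq_sub_sq t 1
    rwa [h2] at h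
  have hco : g.Coprime (t - 1) := Nat.coprime_of_dvd hkey
  have hgt : g ∣ t + 1 := hco.dvd_of_dvd_mul_right hgΩ
  have hgodd : Odd g := (odd_subgroup hG E).of_dvd_nat hgE
  have htodd : Odd t := ht.odd_of_ne_two (Uniq.ne_two hG hΩp fun h0 => hc₁ (Subgroup.mem_bot.1 (h0 ▸ hc₀Ω)))
  have h2g : 2 * g ∣ t + 1 := Nat.Coprime.mul_dvd_of_dvd_of_dvd (Nat.coprime_two_left.2 hgodd)
    (even_iff_two_dvd.1 htodd.add_one) hgt
  have := Nat.le_of_dvd (Nat.succ_pos t) h2g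
  omega

end Cfsg.Agent.OddFT
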