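import Cfsg.Agent.Lib.OddChar.FT.FieldModule
import Cfsg.Agent.Lib.OddLocal.AppC.Parabolic

/-!
An abelian `w'`-group acting faithfully and without fixed points on an elementary abelian group of
order `w ^ q`, normalized by a fixed-point-free group of order `q`, is either a subgroup of the
multipliers of the field of order `w ^ q` prime to `w - 1`, or small.  A field configuration with
a complete group of multipliers is contradictory.
-/

set_option autoImplicit false
set_option linter.style.haveILetI false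

namespace Cfsg.Agent.OddFT

open Subgroup
open scoped IsMulCommutative

variable {G : Type*} [Group G]

/-- Conjugation on an abelian subgroup, written additively. -/
def normAct (P : Subgroup G) [IsMulCommutative P] :
    ↥(normalizer (P : Set G)) →* AddMonoid.End (Additive P) where
  toFun g :=
    { toFun := fun z => Additive.ofMul ⟨g.1 * (Additive.toMul z).1 * g.1⁻¹,
        (mem_normalizer_iff.mp g.2 _).mp (Additive.toMul z).2⟩
      map_zero' := Additive.toMul.injective (Subtype.ext (by simp))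
      map_add' := fun x z => Additive.toMul.injective (Subtype.ext (by
        show g.1 * ((Additive.toMul x).1 * (Additive.toMul z).1) * g.1⁻¹ = _
        simp [mul_assoc])) }
  map_one' := DFunLike.ext _ _ fun z => Additive.toMul.injective (Subtype.ext (by
    show (1 : G) * (Additive.toMul z).1 * (1 : G)⁻¹ = (Additive.toMul z).1
    simp))
  map_mul' a b := DFunLike.ext _ _ fun z => Additive.toMul.injective (Subtype.ext (by
    show (a.1 * b.1) * (Additive.toMul z).1 * (a.1 * b.1)⁻¹
      = a.1 * (b.1 * (Additive.toMul z).1 * b.1⁻¹) * a.1⁻¹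
    group))

/-- Conjugation of a subgroup of the normalizer on an abelian subgroup. -/
def subAct (P U : Subgroup G) [IsMulCommutative P] (hUP : U ≤ normalizer (P : Set G)) :
    U →* AddMonoid.End (Additive P) :=
  (normAct P).comp (Subgroup.inclusion hUP)

theorem subAct_eq_self {P U : Subgroup G} [IsMulCommutative P]
    (hUP : U ≤ normalizer (P : Set G)) (u : U) (v : Additive P) :
    subAct P U hUP u v = v ↔ u.1 * (Additive.toMul v).1 = (Additive.toMul v).1 * u.1 := by
  refine ⟨fun h => mul_inv_eq_iff_eq_mul.mp (congrArg (fun z => (Additive.toMul z).1) h), fun h => ?_⟩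
  exact Additive.toMul.injective (Subtype.ext (mul_inv_eq_iff_eq_mul.mpr h))

theorem subAct_faithful {P U : Subgroup G} [IsMulCommutative P]
    (hUP : U ≤ normalizer (P : Set G)) (hfaith : U ⊓ centralizer (P : Set G) = ⊥) (u : U)
    (hu : subAct P U hUP u = 1) : u = 1 := by
  refine Subtype.ext ?_
  have h1 : u.1 ∈ U ⊓ centralizer (P : Set G) := by
    refine ⟨u.2, mem_centralizer_iff.mpr fun x hx => ?_⟩
    exact ((subAct_eq_self hUP u (Additive.ofMul ⟨x, hx⟩)).mp (DFunLike.congr_fun hu _)).symm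
  rw [hfaith, mem_bot] at h1
  exact h1

/-- Either `U` is in the field of order `w ^ q`, or it is small. -/
theorem full_or_small [Finite G] {w q : ℕ} (hw : w.Prime) (hq : q.Prime) (hw2 : w ≠ 2)
    (hq2 : q ≠ 2) {P U K : Subgroup G} (hPe : Cfsg.IsElementaryAbelian w P)
    (hPc : Nat.card P = w ^ q) (hUab : IsMulCommutative U) (hUodd : Odd (Nat.card U))
    (hKc : Nat.card K = q) (hUP : U ≤ normalizer (P : Set G)) (hKP : K ≤ normalizer (P : Set G))
    (hKU : K ≤ normalizer (U : Set G))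
    (hfree : ∀ k ∈ K, k ≠ 1 → ∀ u ∈ U, k * u = u * k → u = 1)
    (hfaith : U ⊓ centralizer (P : Set G) = ⊥) (hCPU : P ⊓ centralizer (U : Set G) = ⊥) :
    (IsCyclic U ∧ Nat.card U ∣ (w ^ q - 1) / (w - 1) ∧ (Nat.card U).Coprime (w - 1) ∧
      ∀ u ∈ U, u ≠ 1 → ∀ p ∈ P, u * p = p * u → p = 1) ∨
    (4 * Nat.card U ≤ w ^ (q - 1) ∧ (∀ u ∈ U, u ^ (w - 1) = 1) ∧
      2 * (w - 1) * Nat.card U ≤ Nat.card {l : P →* ℂˣ // ∀ u ∈ U,
        (∀ (p : P) (h : u * p * u⁻¹ ∈ P), l ⟨_, h⟩ = l p) → u = 1}) := by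
  classical
  haveI : IsMulCommutative P := hPe.1
  haveI := hUab
  haveI := Fact.mk hq
  haveI : Fintype K := Fintype.ofFinite K
  let ρ := subAct P U hUP
  let τ := subAct P K hKP
  let c : K → U →* U := fun k =>
    { toFun := fun u => ⟨k.1 * u.1 * k.1⁻¹, (mem_normalizer_iff.mp (hKU k.2) _).mp u.2⟩
      map_one' := Subtype.ext (by simp)
      map_mul' := fun a b => Subtype.ext (by simp [mul_assoc]) }
  have hcρ : ∀ k u, τ k * ρ u * τ k⁻¹ = ρ (c k u) := fun k u => by
    refine DFunLike.ext _ _ fun v => Additive.toMul.injective (Subtype.ext ?_)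
    show k.1 * (u.1 * (k.1⁻¹ * (Additive.toMul v).1 * k.1⁻¹⁻¹) * u.1⁻¹) * k.1⁻¹
      = (k.1 * u.1 * k.1⁻¹) * (Additive.toMul v).1 * (k.1 * u.1 * k.1⁻¹)⁻¹
    group
  have hρfaith : ∀ u, ρ u = 1 → u = 1 := subAct_faithful hUP hfaith
  have hρinj : ∀ a b, ρ a = ρ b → a = b := fun a b h => mul_inv_eq_one.mp (hρfaith _ (by
    rw [map_mul, h, ← map_mul, mul_inv_cancel, map_one]))
  have hfreec : ∀ k, k ≠ 1 → ∀ u, c k u = u → u = 1 := fun k hk u h =>
    Subtype.ext (hfree k.1 k.2 (fun h1 => hk (Subtype.ext h1)) u.1 u.2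
      (mul_inv_eq_iff_eq_mul.mp (congrArg Subtype.val h)))
  have hnofix : ∀ v, (∀ u, ρ u v = v) → v = 0 := fun v h => by
    refine Additive.toMul.injective (Subtype.ext ?_)
    have h1 : (Additive.toMul v).1 ∈ P ⊓ centralizer (U : Set G) :=
      ⟨(Additive.toMul v).2, mem_centralizer_iff.mpr fun x hx => (subAct_eq_self hUP ⟨x, hx⟩ v).mp (h _)⟩
    rw [hCPU, mem_bot] at h1
    exact h1
  have hVc : Nat.card (Additive P) = w ^ q := hPc
  by_cases hirr : ∀ W : AddSubgroup (Additive P), (∀ u, ∀ v ∈ W, ρ u v ∈ W) → W = ⊥ ∨ W = ⊤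
  · left
    obtain ⟨h1, h2, h3, h4⟩ := FieldModule.field_case hw hq hVc ρ
      (fun g h => by rw [← map_mul, ← map_mul, mul_comm]) hρfaith (fun u ⟨n, hn⟩ => by
        haveI : Nontrivial K := Finite.one_lt_card_iff_nontrivial.mp (hKc ▸ hq.one_lt)
        obtain ⟨k, hk⟩ := exists_ne (1 : K)
        refine hfreec k hk u (hρinj _ _ (DFunLike.ext _ _ fun v => ?_))
        rw [← hcρ, hn v]
        show τ k (ρ u (τ k⁻¹ v)) = n • v
        rw [hn, map_zsmul, FieldModule.app_inv']) hirr
    refine ⟨h1, h2, h3, fun u hu hu1 p hp hcomm => ?_⟩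
    by_contra hp1
    refine hu1 (congrArg Subtype.val (h4 ⟨u, hu⟩ (Additive.ofMul ⟨p, hp⟩) (fun h0 => hp1 ?_)
      ((subAct_eq_self hUP _ _).mpr hcomm)))
    exact congrArg (fun z => ((Additive.toMul z : P) : G)) h0
  right
  have hsurj : ∀ k, k ≠ 1 → ∀ x, ∃ u, c k u = x * u := by
    intro k hk x
    have hi : Function.Injective (fun u => u⁻¹ * c k u) := by
      intro a b h
      refine mul_inv_eq_one.mp (hfreec k hk _ ?_)
      rw [map_mul, map_inv]
      have h1 : c k a = a * b⁻¹ * c k b := by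
        have h' : a * (a⁻¹ * c k a) = a * (b⁻¹ * c k b) := congrArg (a * ·) h
        rwa [mul_inv_cancel_left, ← mul_assoc] at h'
      rw [h1]; group
    obtain ⟨u, hu⟩ := (Finite.injective_iff_surjective.mp hi) x
    exact ⟨u, by rw [← hu, mul_comm, mul_inv_cancel_left]⟩
  have hprod : ∀ u, ∏ k, c k u = 1 := by
    intro u
    haveI : Nontrivial K := Finite.one_lt_card_iff_nontrivial.mp (hKc ▸ hq.one_lt)
    obtain ⟨l, hl⟩ := exists_ne (1 : K)
    refine hfreec l hl _ ?_
    rw [map_prod, ← Equiv.prod_comp (Equiv.mulLeft l) (fun k => c k u)]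
    refine Finset.prod_congr rfl fun k _ => Subtype.ext ?_
    show l.1 * (k.1 * u.1 * k.1⁻¹) * l.1⁻¹ = (l.1 * k.1) * u.1 * (l.1 * k.1)⁻¹
    group
  obtain ⟨h1, h2, h3⟩ := FieldModule.lines_case hw hq hw2 hq2 hKc hVc hUodd ρ τ
    (fun k => c k) hcρ hρfaith hnofix hsurj hprod hirr
  refine ⟨h1, fun u hu => congrArg Subtype.val (h2 ⟨u, hu⟩), h3.trans ?_⟩
  let Φ : AddChar (Additive P) ℂ → (P →* ℂˣ) := fun ψ =>
    (({ toFun := fun x => ψ (Additive.ofMul x)
        map_one' := ψ.map_zero_eq_one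
        map_mul' := fun a b => ψ.map_add_eq_mul (Additive.ofMul a) (Additive.ofMul b) } :
      P →* ℂ)).toHomUnits
  haveI : Finite (P →* ℂˣ) := inferInstance
  refine Nat.card_le_card_of_injective
    (fun ψ => ⟨Φ ψ.1, fun u hu h => congrArg Subtype.val (ψ.2 ⟨u, hu⟩ fun v => ?_)⟩) ?_
  · exact congrArg Units.val (h (Additive.toMul v) ((mem_normalizer_iff.mp (hUP hu) _).mp
      (Additive.toMul v).2))
  · intro a b h
    refine Subtype.ext (DFunLike.ext _ _ fun v => ?_)
    exact congrArg (fun f : P →* ℂˣ => ((f (Additive.toMul v) : ℂˣ) : ℂ)) (congrArg Subtype.val h)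

/-- A field configuration with a complete group of multipliers is contradictory. -/
theorem false_of_field_config [Finite G] {p q : ℕ} (hp : p.Prime) (hq : q.Prime) (hp2 : p ≠ 2)
    {P U Q Z : Subgroup G} {y : G} (hPe : Cfsg.IsElementaryAbelian p P)
    (hPc : Nat.card P = p ^ q) (hUP : U ≤ normalizer (P : Set G)) (hUab : IsMulCommutative U)
    (hfaith : U ⊓ centralizer (P : Set G) = ⊥) (hU : Nat.card U * (p - 1) = p ^ q - 1)
    (hcop : (Nat.card U).Coprime (p - 1)) (hQ : IsMulCommutative Q)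
    (hQp : (Nat.card Q).Coprime p) (hy : y ∈ Q) (hZP : Z ≤ P) (hZ : Nat.card Z = p)
    (hZQ : Z ≤ normalizer (Q : Set G))
    (hZU : ∀ z ∈ Z, y * z * y⁻¹ ∈ normalizer (U : Set G)) : False := by
  classical
  haveI : IsMulCommutative P := hPe.1
  haveI := hUab
  let ρ := subAct P U hUP
  have hρc : ∀ g h : U, ρ g * ρ h = ρ h * ρ g := fun g h => by rw [← map_mul, ← map_mul, mul_comm]
  have hVc : Nat.card (Additive P) = p ^ q := hPc
  have hfree := FieldModule.free_of_card hp hq hVc ρ (subAct_faithful hUP hfaith) ⟨_, hU.symm⟩ hcop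
  haveI : Nontrivial (Additive P) :=
    Finite.one_lt_card_iff_nontrivial.mp (hVc ▸ Nat.one_lt_pow hq.ne_zero hp.one_lt)
  obtain ⟨F, _, _, e, μ, he⟩ := Cfsg.Agent.Lie.AbelianField.exists_field ρ hρc
    (fun W hW => AppC.irreducible_of_fpf ρ hp hq hVc hU hcop hfree W hW)
  obtain ⟨s₀, hs₀⟩ : ∃ s₀ : Z, s₀ ≠ 1 := by
    haveI : Nontrivial Z := Finite.one_lt_card_iff_nontrivial.mp (hZ ▸ hp.one_lt)
    exact exists_ne 1
  set v₁ : Additive P := Additive.ofMul ⟨s₀.1, hZP s₀.2⟩ with hv₁
  have hc₀ : e v₁ ≠ 0 := by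
    intro h
    rw [map_eq_zero_iff e e.injective] at h
    exact hs₀ (Subtype.ext (congrArg (fun z => ((Additive.toMul z : P) : G)) h))
  let f : G → F := fun g => if h : g ∈ P then e (Additive.ofMul ⟨g, h⟩) / e v₁ else 0
  let ψ : G → F := fun g => if h : g ∈ U then μ ⟨g, h⟩ else 0
  have hf : ∀ (g : G) (h : g ∈ P), f g = e (Additive.ofMul ⟨g, h⟩) / e v₁ := fun g h => dif_pos h
  have hψ : ∀ (g : G) (h : g ∈ U), ψ g = μ ⟨g, h⟩ := fun g h => dif_pos h
  have hconj : ∀ u ∈ U, ∀ x ∈ P, u * x * u⁻¹ ∈ P := fun u hu x hx =>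
    (mem_normalizer_iff.mp (hUP hu) x).mp hx
  have hμ1 : ∀ a : U, μ a = 1 → a = 1 := by
    intro a ha
    refine hfree a v₁ (fun h => hc₀ (by rw [h, map_zero])) (e.injective ?_)
    rw [he, ha, one_mul]
  have hs1 : ∀ x ∈ P, f x = 1 → x = s₀.1 := by
    intro x hx h
    rw [hf x hx, div_eq_one_iff_eq hc₀] at h
    exact congrArg (fun z => ((Additive.toMul z : P) : G)) (e.injective h)
  refine AppC.Cfg.false_of
    ({ P := P, U := U, Q := Q, f := f, psi := ψ, y := y
       prime_p := hp, prime_q := hq, odd_p := hp2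
       card_F := by rw [← hVc, Nat.card_congr e.toEquiv, Nat.card_eq_fintype_card]
       bij := by
         refine ⟨fun _ _ => trivial, fun a ha b hb h => ?_, fun z _ => ?_⟩
         · rw [hf a ha, hf b hb, div_left_inj' hc₀] at h
           exact congrArg (fun z => ((Additive.toMul z : P) : G)) (e.injective h)
         · have hm : (Additive.toMul (e.symm (z * e v₁)) : P).1 ∈ P :=
             (Additive.toMul (e.symm (z * e v₁)) : P).2
           refine ⟨_, hm, ?_⟩
           rw [hf _ hm]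
           simp [hc₀]
       f_mul := fun x hx z hz => by
         rw [hf _ (P.mul_mem hx hz), hf x hx, hf z hz, ← add_div, ← map_add]
         rfl
       psi_ne := fun u hu h => by
         rw [hψ u hu] at h
         have := map_mul μ ⟨u, hu⟩ (⟨u, hu⟩ : U)⁻¹
         rw [mul_inv_cancel, map_one, h, zero_mul] at this
         exact one_ne_zero this
       conj_mem := hconj
       f_conj := fun u hu x hx => by
         rw [hf _ (hconj u hu x hx), hf x hx, hψ u hu, ← mul_div_assoc, ← he]
         rfl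
       psi_mul := fun u hu v hv => by
         rw [hψ _ (U.mul_mem hu hv), hψ u hu, hψ v hv, ← map_mul]
         rfl
       psi_inj := fun u hu v hv h => by
         rw [hψ u hu, hψ v hv] at h
         have h1 : μ (⟨u, hu⟩ * ⟨v, hv⟩⁻¹) = 1 := by
           rw [map_mul, h, ← map_mul, mul_inv_cancel, map_one]
         exact congrArg Subtype.val (mul_inv_eq_one.mp (hμ1 _ h1))
       card_U := hU, cop_U := hcop, comm_Q := hQ
       cop_Q := hQp
       y_mem := hy
       s_norm := fun x hx h => by rw [hs1 x hx h]; exact hZQ s₀.2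
       t_norm := fun x hx h => by rw [hs1 x hx h]; exact hZU _ s₀.2 } : AppC.Cfg G F p q)

end Cfsg.Agent.OddFT
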