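import Cfsg.Agent.Lib.OddChar.FT.Regions

/-!
Further facts about one side: congruences for `|U|` and the elements with a power in the `σ`-core.
-/

set_option autoImplicit false
set_option linter.unusedSectionVars false
set_option linter.unusedVariables false
set_option linter.style.haveILetI false

open Cfsg Cfsg.Agent.Char Cfsg.Agent.OddChar
open scoped ComplexConjugate Classical Pointwise

namespace Cfsg.Agent.OddFT

universe u

variable {G : Type u} [Group G] [Fintype G] {S K Z P U : Subgroup G}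

namespace Side

variable (h : Side S K Z P U)
include h

theorem card_U_modEq : Nat.card U ≡ 1 [MOD Nat.card K] := by
  haveI : Fact (Nat.card K).Prime := ⟨h.prime⟩
  have hn : ∀ k : K, ∀ x : U, (k : G) * x * (k : G)⁻¹ ∈ U := fun k x =>
    (Subgroup.mem_normalizer_iff.1 (h.U_norm k.2) x).1 x.2
  letI : MulAction K U :=
    { smul := fun k x => ⟨(k : G) * x * (k : G)⁻¹, hn k x⟩
      one_smul := fun x => Subtype.ext (by show (1 : G) * x * (1 : G)⁻¹ = x; simp)
      mul_smul := fun a b x => Subtype.ext (by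
        show ((a * b : K) : G) * x * ((a * b : K) : G)⁻¹ = (a : G) * ((b : G) * x * (b : G)⁻¹) * (a : G)⁻¹
        simp [mul_assoc]) }
  have hm := (IsPGroup.of_card (p := Nat.card K) (n := 1) (G := K) (pow_one _).symm).card_modEq_card_fixedPoints
    (α := U)
  have hfix : MulAction.fixedPoints K U = {1} := by
    ext x
    rw [Set.mem_singleton_iff, MulAction.mem_fixedPoints]
    constructor
    · intro hx
      obtain ⟨k, hk, hk1⟩ := K.bot_or_exists_ne_one.resolve_left fun e => h.prime.ne_one (by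
        rw [e]; exact Subgroup.card_bot)
      exact Subtype.ext (h.fpf k hk hk1 x x.2 (mul_inv_eq_iff_eq_mul.1 (congrArg Subtype.val (hx ⟨k, hk⟩))))
    · rintro rfl k
      exact Subtype.ext (show (k : G) * (1 : G) * (k : G)⁻¹ = 1 by simp)
  rwa [hfix, Nat.card_coe_set_eq, Set.ncard_singleton] at hm

theorem two_mul_K_lt_U : 2 * Nat.card K < Nat.card U := by
  have h1 := (Nat.modEq_iff_dvd' (Nat.card_pos (α := U))).1 h.card_U_modEq.symm
  obtain ⟨m, hm⟩ := h1
  obtain ⟨a, ha⟩ := h.odd_card U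
  obtain ⟨b, hb⟩ := h.odd_card K
  have hU1 : 1 < Nat.card U := (Subgroup.one_lt_card_iff_ne_bot _).2 h.U_ne
  rcases m with _ | _ | m
  · omega
  · omega
  · have : 2 * Nat.card K ≤ Nat.card K * (m + 1 + 1) := by nlinarith
    omega

/-- The conjugates of elements with a power in the core absorb their centralizers. -/
theorem conjSet_of_pow {g : G} {n : ℕ} (hg : g ^ n ∈ conjSet (sigmaSet S)) : g ∈ conjSet (sigmaSet S) := by
  obtain ⟨x, hx⟩ := hg
  rw [← conj_pow] at hx
  obtain ⟨-, m, hm, hm1⟩ := hx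
  refine ⟨x, centralizer_le_of_kappa h.minSimple h.coatom h.kappa_ne hm hm1 ?_, n * m,
    by rwa [pow_mul], by rwa [pow_mul]⟩
  rw [Subgroup.mem_centralizer_singleton_iff, ← pow_mul]
  exact (Commute.self_pow (x * g * x⁻¹) (n * m)).eq

/-- Off the conjugates of the elements with a power in the core the orders are prime to `|Z|`. -/
theorem coprime_order (hw : ∀ y : G, (orderOf y).Prime → orderOf y ∣ Nat.card Z → y ∈ conjSet (sigmaSet S))
    {g : G} (hg : g ∉ conjSet (sigmaSet S)) : (orderOf g).Coprime (Nat.card Z) := by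
  refine Nat.coprime_of_dvd fun r hr h1 h2 => hg (h.conjSet_of_pow (n := orderOf g / r) (hw _ ?_ ?_))
  · rw [orderOf_pow_orderOf_div (orderOf_pos g).ne' h1]; exact hr
  · rw [orderOf_pow_orderOf_div (orderOf_pos g).ne' h1]; exact h2

/-- If `U` acts freely the elements with a power in the core lie in it or in the hat. -/
theorem sigmaSet_cases (hP : sigmaCore S ≤ P)
    (hfree : ∀ c ∈ U, c ≠ 1 → ∀ p ∈ P, c * p = p * c → p = 1) {x : G} (hx : x ∈ sigmaSet S) :
    x ∈ (P : Set G) \ {1} ∨ x ∈ hatG K Z := by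
  obtain ⟨hxS, n, hn, hn1⟩ := hx
  replace hn := hP hn
  have hx1 : x ≠ 1 := fun e => hn1 (by rw [e, one_pow])
  by_cases hxP : x ∈ P
  · exact Or.inl ⟨hxP, hx1⟩
  right
  obtain ⟨p, hp, u, hu, k, hk, e⟩ := h.mul x hxS
  haveI : Fact (Nat.card K).Prime := ⟨h.prime⟩
  by_cases hk1 : k = 1
  · exfalso
    rw [hk1, mul_one] at e
    have hu1 : u ≠ 1 := fun e1 => hxP (by rw [e, e1, mul_one]; exact hp)
    have hpow : ∀ m : ℕ, ∃ p' ∈ P, x ^ m = p' * u ^ m := by
      intro m
      induction m with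
      | zero => exact ⟨1, P.one_mem, by simp⟩
      | succ m ih =>
        obtain ⟨p', hp', e'⟩ := ih
        refine ⟨p' * (u ^ m * p * (u ^ m)⁻¹), P.mul_mem hp' (h.P_conj (S.pow_mem (h.U_le hu) m) hp), ?_⟩
        rw [pow_succ, e', e, pow_succ]; group
    set N := Nat.card P with hN
    obtain ⟨p', hp', e'⟩ := hpow N
    have hoU : orderOf u ∣ Nat.card U := by
      have := orderOf_dvd_natCard (⟨u, hu⟩ : U)
      rwa [← Subgroup.orderOf_coe] at this
    have hco : (orderOf u).Coprime N := h.coUP.coprime_dvd_left hoU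
    have hu' : orderOf (u ^ N) = orderOf u := hco.orderOf_pow
    have hPu : ∀ m, u ^ m ∈ P → u ^ m = 1 := fun m hm =>
      h.P_inf_compl hm (Subgroup.mem_sup_left (U.pow_mem hu m)) rfl
    -- `x ^ N` has the order of `u ^ N`
    have hov : orderOf (x ^ N) = orderOf u := by
      refine Nat.dvd_antisymm ?_ ?_
      · obtain ⟨p'', hp'', e''⟩ := hpow (orderOf u)
        rw [pow_orderOf_eq_one, mul_one] at e''
        refine orderOf_dvd_of_pow_eq_one ?_
        rw [← pow_mul, mul_comm, pow_mul, e'']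
        exact congrArg Subtype.val (pow_card_eq_one' (x := (⟨p'', hp''⟩ : P)))
      · obtain ⟨p'', hp'', e''⟩ := hpow (N * orderOf (x ^ N))
        rw [pow_mul, pow_orderOf_eq_one] at e''
        have h1 : u ^ (N * orderOf (x ^ N)) = 1 := hPu _ (by
          have : u ^ (N * orderOf (x ^ N)) = p''⁻¹ := eq_inv_of_mul_eq_one_right e''.symm
          rw [this]; exact P.inv_mem hp'')
        exact hco.dvd_of_dvd_mul_left (orderOf_dvd_of_pow_eq_one h1)
    haveI := h.P_nil
    have hle : Subgroup.zpowers (x ^ N) ≤ P ⊔ Subgroup.zpowers (u ^ N) := Subgroup.zpowers_le.2 (by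
      rw [e']
      exact mul_mem (Subgroup.mem_sup_left hp') (Subgroup.mem_sup_right (Subgroup.mem_zpowers _)))
    obtain ⟨g, hg, hgA⟩ := Solv.sz_conj_rel P (Subgroup.zpowers (u ^ N)) (Subgroup.zpowers (x ^ N))
      (Subgroup.zpowers_le.2 (h.P_norm (S.pow_mem (h.U_le hu) N))) hle
      (by rw [Nat.card_zpowers, hu']; exact hco.symm)
      (by rw [Nat.card_zpowers, Nat.card_zpowers, hu', hov]) (Or.inl inferInstance)
    have hxN : x ^ N ∈ MulAut.conj g • Subgroup.zpowers (u ^ N) := hgA.ge (Subgroup.mem_zpowers _)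
    obtain ⟨c, hc, hcx⟩ := hxN
    have hcU : c ∈ U := Subgroup.zpowers_le.2 (U.pow_mem hu N) hc
    have hcx' : g * c * g⁻¹ = x ^ N := hcx
    have hc1 : c ≠ 1 := fun e1 => hu1 (orderOf_eq_one_iff.1 (by
      rw [← hov, ← hcx', e1, mul_one, mul_inv_cancel, orderOf_one]))
    refine hn1 ?_
    have hy : g⁻¹ * x ^ n * g ∈ P := P.mul_mem (P.mul_mem (P.inv_mem hg) hn) hg
    have h0 := hfree c hcU hc1 _ hy (by
      have hc' : c = g⁻¹ * x ^ N * g := by rw [← hcx']; group
      rw [hc']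
      calc g⁻¹ * x ^ N * g * (g⁻¹ * x ^ n * g) = g⁻¹ * (x ^ N * x ^ n) * g := by group
        _ = g⁻¹ * (x ^ n * x ^ N) * g := by rw [pow_mul_pow_comm_aux]
        _ = _ := by group)
    calc x ^ n = g * (g⁻¹ * x ^ n * g) * g⁻¹ := by group
      _ = 1 := by rw [h0]; group
  · -- the part of order `q`
    set m := Nat.card P * Nat.card U with hm
    have hcardS : Nat.card S = m * Nat.card K := by rw [h.card_eq]
    have hcoKm : (Nat.card K).Coprime m := Nat.Coprime.mul_right h.coKP h.coKU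
    have hxq : (x ^ m) ^ Nat.card K = 1 := by
      rw [← pow_mul, ← hcardS]
      exact congrArg Subtype.val (pow_card_eq_one' (x := (⟨x, hxS⟩ : S)))
    have hx1' : x ^ m ≠ 1 := by
      intro e1
      refine hk1 ?_
      have hPU : P ⊔ U ≤ S := sup_le h.P_le_S h.U_le
      haveI : ((P ⊔ U).subgroupOf S).Normal := by
        refine Subgroup.normal_subgroupOf_of_le_normalizer fun s hs => ?_
        have key : ∀ s ∈ S, ∀ y ∈ P ⊔ U, s * y * s⁻¹ ∈ P ⊔ U := by
          intro s hs y hy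
          obtain ⟨a, ha, v, hv, l, hl, rfl⟩ := h.mul s hs
          have hle' : P ⊔ U ≤ (P ⊔ U).comap (MulAut.conj (a * v * l)).toMonoidHom :=
            sup_le (fun z hz => Subgroup.mem_sup_left (h.P_conj hs hz)) fun z hz => by
              show a * v * l * z * (a * v * l)⁻¹ ∈ P ⊔ U
              rw [show a * v * l * z * (a * v * l)⁻¹ = a * (v * (l * z * l⁻¹) * v⁻¹) * a⁻¹ by group]
              exact mul_mem (mul_mem (Subgroup.mem_sup_left ha) (Subgroup.mem_sup_right
                (U.mul_mem (U.mul_mem hv ((Subgroup.mem_normalizer_iff.1 (h.U_norm hl) z).1 hz))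
                  (U.inv_mem hv)))) (inv_mem (Subgroup.mem_sup_left ha))
          exact hle' hy
        exact Subgroup.mem_normalizer_iff.2 fun y => ⟨key s hs y, fun hy => by
          simpa [mul_assoc] using key s⁻¹ (S.inv_mem hs) _ hy⟩
      set Q := (P ⊔ U).subgroupOf S
      have e2 : ((⟨x, hxS⟩ : S) : S ⧸ Q) = ((⟨k, h.K_le hk⟩ : S) : S ⧸ Q) := by
        have hpu : ((⟨p * u, hPU (Subgroup.mul_mem_sup hp hu)⟩ : S) : S ⧸ Q) = 1 :=
          (QuotientGroup.eq_one_iff _).2 (Subgroup.mem_subgroupOf.2 (Subgroup.mul_mem_sup hp hu))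
        rw [show (⟨x, hxS⟩ : S) = ⟨p * u, hPU (Subgroup.mul_mem_sup hp hu)⟩ * ⟨k, h.K_le hk⟩ from
          Subtype.ext (by simp [e]), QuotientGroup.mk_mul, hpu, one_mul]
      have hkm : k ^ m ∈ P ⊔ U := by
        have h3 : (((⟨k, h.K_le hk⟩ : S) ^ m : S) : S ⧸ Q) = 1 := by
          rw [QuotientGroup.mk_pow, ← e2, ← QuotientGroup.mk_pow]
          refine (QuotientGroup.eq_one_iff _).2 (Subgroup.mem_subgroupOf.2 ?_)
          rw [Subgroup.coe_pow]
          simp [e1]
        simpa [Q, Subgroup.mem_subgroupOf] using (QuotientGroup.eq_one_iff _).1 h3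
      have hkm1 : k ^ m = 1 := by
        obtain ⟨a, ha, b, hb, eab⟩ : ∃ a ∈ P, ∃ b ∈ U, k ^ m = a * b := by
          rw [← SetLike.mem_coe, Subgroup.coe_mul_of_right_le_normalizer_left _ _ (h.U_le.trans h.P_norm)] at hkm
          obtain ⟨a, ha, b, hb, e3⟩ := hkm
          exact ⟨a, ha, b, hb, e3.symm⟩
        have ha1 : a = 1 := h.P_inf_compl ha (x := k ^ m * b⁻¹)
          (mul_mem (Subgroup.mem_sup_right (K.pow_mem hk m)) (inv_mem (Subgroup.mem_sup_left hb))) (by rw [eab]; group)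
        rw [ha1, one_mul] at eab
        rw [← Subgroup.mem_bot, ← h.U_inf_K]
        exact ⟨eab ▸ hb, K.pow_mem hk m⟩
      exact orderOf_eq_one_iff.1 (Nat.eq_one_of_dvd_coprimes hcoKm.symm (orderOf_dvd_of_pow_eq_one hkm1)
        (orderOf_dvd_of_pow_eq_one (congrArg Subtype.val (pow_card_eq_one' (x := (⟨k, hk⟩ : K))))))
    have hord : orderOf (x ^ m) = Nat.card K := orderOf_eq_prime hxq hx1'
    have hsyl : ∀ A : Subgroup G, A ≤ S → Nat.card A = Nat.card K → Solv.IsSylIn (Nat.card K) A S := by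
      refine fun A hA hc => ⟨hA, ?_⟩
      rw [hc, hcardS, Nat.factorization_mul (Nat.mul_ne_zero Nat.card_pos.ne' Nat.card_pos.ne')
        Nat.card_pos.ne', Finsupp.add_apply, Nat.factorization_eq_zero_of_not_dvd, zero_add,
        h.prime.factorization_self, pow_one]
      exact fun hd => h.prime.ne_one (Nat.eq_one_of_dvd_coprimes hcoKm dvd_rfl hd)
    obtain ⟨y, hy, hyA⟩ := (hsyl (Subgroup.zpowers (x ^ m)) (Subgroup.zpowers_le.2 (S.pow_mem hxS m))
      (by rw [Nat.card_zpowers, hord])).exists_conj (hsyl K h.K_le rfl)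
    have hk0 : y * x ^ m * y⁻¹ ∈ K := hyA.le ⟨_, Subgroup.mem_zpowers _, rfl⟩
    have hk01 : y * x ^ m * y⁻¹ ≠ 1 := fun e1 => hx1' (conj_eq_one_iff.1 e1)
    set x' := y * x * y⁻¹ with hx'
    have hx'S : x' ∈ S := S.mul_mem (S.mul_mem hy hxS) (S.inv_mem hy)
    have hk0' : y * x ^ m * y⁻¹ = x' ^ m := by rw [hx', conj_pow]
    obtain ⟨a, ha, v, hv, l, hl, e'⟩ := h.mul x' hx'S
    set k0 := y * x ^ m * y⁻¹ with hk0def
    have hcomm : x' * k0 = k0 * x' := by rw [hk0']; exact (Commute.self_pow x' m).eq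
    haveI := isCyclic_of_prime_card (α := K) rfl
    have hKc : l * k0 = k0 * l :=
      congrArg Subtype.val ((IsCyclic.commGroup (α := K)).mul_comm ⟨l, hl⟩ ⟨k0, hk0⟩)
    have hav : k0 * (a * v) * k0⁻¹ = a * v := by
      have h5 : a * v * k0 = k0 * (a * v) := by
        refine mul_right_cancel (b := l) ?_
        calc a * v * k0 * l = a * v * l * k0 := by rw [mul_assoc, ← hKc, ← mul_assoc]
          _ = _ := by rw [← e', hcomm, e']; group
      rw [← h5, mul_inv_cancel_right]
    have hka : k0 * a * k0⁻¹ ∈ P := h.P_conj (h.K_le hk0) ha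
    have hkv : k0 * v * k0⁻¹ ∈ U := (Subgroup.mem_normalizer_iff.1 (h.U_norm hk0) v).1 hv
    have h6 : a⁻¹ * (k0 * a * k0⁻¹) = v * (k0 * v * k0⁻¹)⁻¹ := by
      calc a⁻¹ * (k0 * a * k0⁻¹) = a⁻¹ * (k0 * (a * v) * k0⁻¹) * (k0 * v * k0⁻¹)⁻¹ := by group
        _ = _ := by rw [hav]; group
    have h7 : a⁻¹ * (k0 * a * k0⁻¹) = 1 := h.P_inf_compl (P.mul_mem (P.inv_mem ha) hka)
      (Subgroup.mem_sup_left (U.mul_mem hv (U.inv_mem hkv))) h6
    have hv1 : v = 1 := h.fpf k0 hk0 hk01 v hv (mul_inv_eq_iff_eq_mul.1 (by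
      rw [h7] at h6
      exact (mul_inv_eq_one.1 h6.symm).symm))
    have haZ : a ∈ Z := h.fix.le ⟨ha, Subgroup.mem_centralizer_iff.2 fun k' hk'' => by
      have e1 : k0 * a = a * k0 := mul_inv_eq_iff_eq_mul.1 (inv_mul_eq_one.1 h7).symm
      obtain ⟨i, hi⟩ := mem_powers_of_prime_card (G := K) (g := ⟨k0, hk0⟩) (g' := ⟨k', hk''⟩) rfl
        (fun e1 => hk01 (congrArg Subtype.val e1))
      have e2 : k' = k0 ^ i := (congrArg Subtype.val hi).symm.trans (by simp)
      rw [e2]
      exact ((show Commute k0 a from e1).pow_left i).eq⟩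
    rw [hv1, mul_one] at e'
    refine ⟨y⁻¹, l, hl, a, haZ, fun el => hk01 ?_, fun ea => hn1 ?_, ?_⟩
    · refine h.P_inf_compl (x := k0) ?_ (Subgroup.mem_sup_right hk0) rfl
      rw [hk0', e', el, mul_one]
      exact P.pow_mem ha m
    · have hz : x' ^ n ∈ P := by rw [hx', conj_pow]; exact h.P_conj hy hn
      have h8 : x' ^ n = 1 := by
        refine h.P_inf_compl hz (x := l ^ n) (Subgroup.mem_sup_right (K.pow_mem hl n)) ?_
        rw [e', ea, one_mul]
      rw [hx', conj_pow] at h8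
      exact conj_eq_one_iff.1 h8
    · rw [h.comm_KZ hl haZ, ← e', hx']; group
where
  pow_mul_pow_comm_aux {x : G} {a b : ℕ} : x ^ a * x ^ b = x ^ b * x ^ a := (Commute.pow_pow_self x a b).eq

end Side

end Cfsg.Agent.OddFT
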