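import Cfsg.Agent.Lib.OddChar.FT.EndBase
import Cfsg.Agent.Lib.OddChar.FT.FullOrSmall
import Cfsg.Agent.Lib.OddChar.FT.FreeKernelGrp
import Cfsg.Agent.Lib.OddChar.FT.SideFacts
import Cfsg.Agent.Lib.Solv.FrobeniusFormula
import Cfsg.Agent.Lib.OddLocal.SupportSet

/-!
Group theory of the final configuration: `U` is complete or small, the order of the complement of the
neighbour, and the field configurations which are contradictory.
-/

set_option autoImplicit false
set_option linter.unusedSectionVars false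
set_option linter.unusedVariables false
set_option linter.style.haveILetI false

open Cfsg

namespace Cfsg.Agent.OddFT

open Cfsg.Agent.OddLocal Cfsg.Agent.OddLocal.Kappa Cfsg.Agent.OddLocal.Sig Cfsg.Agent.OddLocal.Uniq

universe u

variable {G : Type u} [Group G] [Fintype G] {S T K Z P Q U V L H E M H' E' : Subgroup G}

theorem conj_comm_cancel {a x : G} (h : a * x * a⁻¹ = x) : a * x = x * a := mul_inv_eq_iff_eq_mul.1 h

namespace EndSide

variable (h : EndSide S K Z P U)
include h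

theorem P_norm_U : U ≤ Subgroup.normalizer (P : Set G) := h.side.U_le.trans h.side.P_norm

/-- `U` acts faithfully on `P`. -/
theorem faithful : U ⊓ Subgroup.centralizer (P : Set G) = ⊥ := by
  refine le_bot_iff.1 fun x hx => ?_
  rw [← h.C_eq, mem_layerC (h.side.U_le.trans h.layer.norm)]
  refine ⟨hx.1, fun p hp => Subgroup.mem_bot.2 ?_⟩
  rw [Subgroup.mem_centralizer_iff.1 hx.2 p hp]
  group

theorem primeZ_ne_two : Nat.card Z ≠ 2 := fun e =>
  Nat.not_even_iff_odd.2 (h.side.odd_card Z) (by rw [e]; exact even_two)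

theorem primeK_ne_two : Nat.card K ≠ 2 := fun e =>
  Nat.not_even_iff_odd.2 (h.side.odd_card K) (by rw [e]; exact even_two)

/-- Either `U` is cyclic of order dividing `(w ^ q - 1) / (w - 1)`, or it is small of small exponent. -/
theorem cyclic_or_exponent :
    (IsCyclic U ∧ Nat.card U ∣ (Nat.card Z ^ Nat.card K - 1) / (Nat.card Z - 1) ∧
      (Nat.card U).Coprime (Nat.card Z - 1)) ∨
    (4 * Nat.card U ≤ Nat.card Z ^ (Nat.card K - 1) ∧ ∀ u ∈ U, u ^ (Nat.card Z - 1) = 1) := by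
  rcases full_or_small h.primeZ h.side.prime h.primeZ_ne_two h.primeK_ne_two h.elem h.side.card_P
    h.side.U_comm (h.side.odd_card U) rfl h.P_norm_U (h.side.K_le.trans h.side.P_norm) h.side.U_norm
    h.side.fpf h.faithful h.side.fixU with ⟨h1, h2, h3, -⟩ | ⟨h1, h2, -⟩
  · exact Or.inl ⟨h1, h2, h3⟩
  · exact Or.inr ⟨h1, h2⟩

/-- Either `U` is complete or it has at most a third of that order. -/
theorem full_or_proper :
    (IsCyclic U ∧ Nat.card U * (Nat.card Z - 1) = Nat.card Z ^ Nat.card K - 1 ∧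
      (Nat.card U).Coprime (Nat.card Z - 1)) ∨
    3 * (Nat.card U * (Nat.card Z - 1)) ≤ Nat.card Z ^ Nat.card K - 1 := by
  have hd : Nat.card Z - 1 ∣ Nat.card Z ^ Nat.card K - 1 := by
    simpa using Nat.sub_dvd_pow_sub_pow (Nat.card Z) 1 (Nat.card K)
  obtain ⟨c, hc⟩ := hd
  have hz : 0 < Nat.card Z - 1 := Nat.sub_pos_of_lt h.primeZ.one_lt
  rcases h.cyclic_or_exponent with ⟨h1, h2, h3⟩ | ⟨h1, -⟩
  · rw [hc, Nat.mul_div_cancel_left _ hz] at h2
    obtain ⟨d, hd⟩ := h2
    rcases (show d = 1 ∨ d ≠ 1 by omega) with rfl | hd1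
    · exact Or.inl ⟨h1, by rw [hc, hd, mul_one, mul_comm], h3⟩
    right
    have hodd : Odd d := by
      have hcodd : Odd c := by
        have hwo := h.side.odd_card Z
        have hq : Nat.card Z ^ Nat.card K = c * (Nat.card Z - 1) + 1 := by
          have := Nat.one_le_pow (Nat.card K) (Nat.card Z) h.primeZ.pos
          rw [mul_comm]; omega
        have hsum : (Nat.card Z ^ Nat.card K - 1) / (Nat.card Z - 1) =
            ∑ i ∈ Finset.range (Nat.card K), Nat.card Z ^ i := (Nat.geomSum_eq h.primeZ.two_le _).symm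
        rw [hc, Nat.mul_div_cancel_left _ hz] at hsum
        rw [hsum, Finset.odd_sum_iff_odd_card_odd, Finset.filter_true_of_mem fun i _ => hwo.pow,
          Finset.card_range]
        exact h.side.odd_card K
      exact Nat.Odd.of_mul_right (hd ▸ hcodd)
    have h3d : 3 ≤ d := by
      obtain ⟨j, rfl⟩ := hodd
      omega
    rw [hc, hd]
    calc 3 * (Nat.card U * (Nat.card Z - 1)) = (Nat.card Z - 1) * (Nat.card U * 3) := by ring
      _ ≤ _ := Nat.mul_le_mul_left _ (Nat.mul_le_mul_left _ h3d)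
  · right
    have hK : Nat.card Z ^ Nat.card K = Nat.card Z ^ (Nat.card K - 1) * Nat.card Z := by
      rw [← pow_succ, Nat.sub_add_cancel h.side.prime.pos]
    have h2 : 3 * Nat.card U * (Nat.card Z - 1) ≤ Nat.card Z ^ (Nat.card K - 1) * (Nat.card Z - 1) :=
      Nat.mul_le_mul_right _ (by omega)
    rw [Nat.mul_sub, Nat.mul_sub, mul_one, mul_one, ← hK] at h2
    have hpos := Nat.one_le_pow (Nat.card K - 1) (Nat.card Z) h.primeZ.pos
    rw [← mul_assoc, Nat.mul_sub, mul_one]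
    omega

theorem full_facts (hfull : Nat.card U * (Nat.card Z - 1) = Nat.card Z ^ Nat.card K - 1) :
    IsCyclic U ∧ (Nat.card U).Coprime (Nat.card Z - 1) := by
  rcases h.full_or_proper with ⟨h1, -, h3⟩ | h1
  · exact ⟨h1, h3⟩
  · have := Nat.one_lt_pow h.side.prime.ne_zero h.primeZ.one_lt
    omega

/-- A complete `U` has order `1` modulo `w`. -/
theorem coprime_full (hfull : Nat.card U * (Nat.card Z - 1) = Nat.card Z ^ Nat.card K - 1) :
    Nat.card U ≡ 1 [MOD Nat.card Z] := by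
  have hc := congrArg (fun n : ℕ => (n : ZMod (Nat.card Z))) hfull
  simp only [Nat.cast_mul, Nat.cast_sub h.primeZ.one_le, Nat.cast_sub (Nat.one_le_pow _ _ h.primeZ.pos),
    Nat.cast_pow, ZMod.natCast_self, Nat.cast_one, zero_pow h.side.prime.ne_zero] at hc
  rw [← ZMod.natCast_eq_natCast_iff, Nat.cast_one]
  linear_combination -hc

end EndSide

theorem Nbr.meet_Q (D : EndData S T K Z P Q U V) (hN : Nbr S K U T L H E) : E ⊓ Q = K := by
  have hG := hN.minSimple
  haveI : Fact (Nat.card K).Prime := ⟨D.sS.side.prime⟩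
  have hH : H ≠ ⊥ := fun h => by
    have hU := D.sS.side.U_ne
    exact hU (le_bot_iff.1 (h ▸ hN.U_le))
  have hHL : H ≤ L := hN.compl.2.1
  haveI : (H.subgroupOf L).Normal := Subgroup.normal_subgroupOf_of_le_normalizer (hN.H_eq ▸ le_normalizer_piCoreOf)
  haveI := OddChar.isZGroup_of_fpf (odd_subgroup hG L) (V := H.subgroupOf L) (U := E.subgroupOf L)
    (fun h0 => hH (le_bot_iff.1 fun x hx => by
      have : (⟨x, hHL hx⟩ : L) ∈ H.subgroupOf L := hx
      rw [h0, Subgroup.mem_bot] at this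
      exact Subgroup.mem_bot.2 (congrArg Subtype.val this)))
    (fun e he he1 v hv hev => Subtype.ext (hN.fpf (e : G) he (fun h0 => he1 (Subtype.ext h0)) (v : G) hv
      (congrArg Subtype.val hev)))
    (by
      rw [Solv.card_subgroupOf hN.compl.1, Solv.card_subgroupOf hHL, hN.H_eq]
      exact Nat.coprime_of_dvd fun q hq h2 h3 => compl_pi hG hN.coatom (hN.H_eq ▸ hN.compl) hq h2
        ((sigmaCore_hall hG hN.coatom).1.2.1 q hq h3))
  haveI : IsZGroup E := IsZGroup.of_injective (f := (Subgroup.subgroupOfEquivOfLe hN.compl.1).symm.toMonoidHom)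
    (MulEquiv.injective _)
  have hp : IsPGroup (Nat.card K) ((E ⊓ Q).subgroupOf E) := fun x =>
    ⟨1, Subtype.ext (Subtype.ext (by simpa using D.sT.elem.2 _ x.2.2))⟩
  haveI := hp.isCyclic_of_isZGroup
  have h1 : Nat.card ((E ⊓ Q).subgroupOf E) ∣ Nat.card K := by
    rw [← IsCyclic.exponent_eq_card]
    exact Monoid.exponent_dvd_of_forall_pow_eq_one fun x => Subtype.ext (Subtype.ext (by simpa using D.sT.elem.2 _ x.2.2))
  rw [Solv.card_subgroupOf inf_le_left] at h1
  exact (Subgroup.eq_of_le_of_card_ge (le_inf hN.K_le D.sT.side.Z_le) (Nat.le_of_dvd Nat.card_pos h1)).symm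

/-- The normalizer of `K` in `T` is `Q Z`. -/
theorem EndData.normalizer_le_QZ (D : EndData S T K Z P Q U V) {x : G} (hx : x ∈ T)
    (hxK : x ∈ Subgroup.normalizer (K : Set G)) : x ∈ Q ⊔ Z := by
  have hT := D.sT.side
  haveI : IsMulCommutative Q := D.sT.elem.1
  have hKQ : K ≤ Q := hT.Z_le
  have hQc : ∀ a ∈ Q, a ∈ Subgroup.centralizer (K : Set G) := fun a ha => Subgroup.mem_centralizer_iff.2
    fun k hk => congrArg Subtype.val (mul_comm' (⟨k, hKQ hk⟩ : Q) ⟨a, ha⟩)
  have hZc : ∀ z ∈ Z, z ∈ Subgroup.centralizer (K : Set G) := fun z hz => Subgroup.mem_centralizer_iff.2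
    fun k hk => (Subgroup.mem_centralizer_iff.1 (hT.fix.ge hk).2 z hz).symm
  let V0 := V ⊓ Subgroup.normalizer (K : Set G)
  have hV0Z : Z ≤ Subgroup.normalizer (V0 : Set G) := fun z hz => by
    refine Subgroup.mem_normalizer_iff.2 fun v => ?_
    have h1 := Subgroup.mem_normalizer_iff.1 (hT.U_norm hz) v
    have hzn := Subgroup.centralizer_le_normalizer _ (hZc z hz)
    constructor
    · intro hv; exact ⟨h1.1 hv.1, Subgroup.mul_mem _ (Subgroup.mul_mem _ hzn hv.2) (Subgroup.inv_mem _ hzn)⟩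
    · intro hv
      refine ⟨h1.2 hv.1, ?_⟩
      have := Subgroup.mul_mem _ (Subgroup.mul_mem _ (Subgroup.inv_mem _ hzn) hv.2) hzn
      simpa [mul_assoc] using this
  have hV0fpf : ∀ z ∈ Z, z ≠ 1 → ∀ v ∈ V0, z * v = v * z → v = 1 := fun z hz hz1 v hv e =>
    hT.fpf z hz hz1 v hv.1 e
  -- `V0` centralizes `K`
  have hV0c : V0 ≤ Subgroup.centralizer (K : Set G) := by
    obtain ⟨z, hz, hz1⟩ := Z.bot_or_exists_ne_one.resolve_left fun e => D.sS.primeZ.ne_one (by
      rw [e]; exact Subgroup.card_bot)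
    let φ : V0 → V0 := fun v => ⟨(v : G)⁻¹ * (z * v * z⁻¹),
      mul_mem (inv_mem v.2) ((Subgroup.mem_normalizer_iff.1 (hV0Z hz) v).1 v.2)⟩
    have hφ : Function.Injective φ := by
      intro a b hab
      have h1 : (a : G)⁻¹ * (z * a * z⁻¹) = (b : G)⁻¹ * (z * b * z⁻¹) := congrArg Subtype.val hab
      have h2 : z * ((a : G) * (b : G)⁻¹) * z⁻¹ = (a : G) * (b : G)⁻¹ := by
        calc z * ((a : G) * (b : G)⁻¹) * z⁻¹ = (a : G) * ((a : G)⁻¹ * (z * a * z⁻¹)) * (z * b * z⁻¹)⁻¹ := by group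
          _ = (a : G) * ((b : G)⁻¹ * (z * b * z⁻¹)) * (z * b * z⁻¹)⁻¹ := by rw [h1]
          _ = _ := by group
      exact Subtype.ext (mul_inv_eq_one.1 (hV0fpf z hz hz1 _ (mul_mem a.2 (inv_mem b.2)) (conj_comm_cancel h2)))
    intro w hw
    obtain ⟨v, hv⟩ := (Finite.injective_iff_surjective.1 hφ) ⟨w, hw⟩
    have hv' : (v : G)⁻¹ * (z * v * z⁻¹) = w := congrArg Subtype.val hv
    refine Subgroup.mem_centralizer_iff.2 fun k hk => ?_
    have hk' : (v : G) * k * (v : G)⁻¹ ∈ K := (Subgroup.mem_normalizer_iff.1 v.2.2 k).1 hk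
    have e1 : k * z = z * k := Subgroup.mem_centralizer_iff.1 (hZc z hz) k hk
    have e2 : (v : G) * k * (v : G)⁻¹ * z = z * ((v : G) * k * (v : G)⁻¹) :=
      Subgroup.mem_centralizer_iff.1 (hZc z hz) _ hk'
    have h3 : z * v * z⁻¹ * k * (z * v * z⁻¹)⁻¹ = (v : G) * k * (v : G)⁻¹ := by
      calc z * v * z⁻¹ * k * (z * v * z⁻¹)⁻¹ = z * v * z⁻¹ * (k * z) * ((v : G)⁻¹ * z⁻¹) := by group
        _ = z * v * z⁻¹ * (z * k) * ((v : G)⁻¹ * z⁻¹) := by rw [e1]
        _ = z * ((v : G) * k * (v : G)⁻¹) * z⁻¹ := by group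
        _ = _ := by rw [← e2, mul_inv_cancel_right]
    refine (conj_comm_cancel ?_).symm
    rw [← hv']
    calc (v : G)⁻¹ * (z * v * z⁻¹) * k * ((v : G)⁻¹ * (z * v * z⁻¹))⁻¹
        = (v : G)⁻¹ * (z * v * z⁻¹ * k * (z * v * z⁻¹)⁻¹) * v := by group
      _ = k := by rw [h3]; group
  -- so `V0` centralizes `Q`
  have hVT : V0 ⊔ Z ≤ T := sup_le (inf_le_left.trans hT.U_le) hT.K_le
  have hco : (Nat.card Q).Coprime (Nat.card ↥(V0 ⊔ Z)) :=
    ((Nat.Coprime.mul_left (hT.coUP.coprime_dvd_left (Subgroup.card_dvd_of_le inf_le_left)) hT.coKP).coprime_dvd_left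
      ⟨_, (Solv.card_sup_mul_card_inf' V0 Z hV0Z).symm⟩).symm
  have key := Solv.FrobFix.formula Q V0 Z (Solv.isSolvable_of_le hT.P_le_S (hT.minSimple.2.2.2 T hT.coatom.1))
    (hVT.trans hT.P_norm) hV0Z hV0fpf hco
  have hCV : Q ⊓ Subgroup.centralizer ((V0 ⊔ Z : Subgroup G) : Set G) = K := by
    refine le_antisymm ((inf_le_inf_left _ (Subgroup.centralizer_le (SetLike.coe_subset_coe.2 (le_sup_right : Z ≤ V0 ⊔ Z)))).trans hT.fix.le) fun k hk => ?_
    refine ⟨hKQ hk, ?_⟩
    have : V0 ⊔ Z ≤ Subgroup.centralizer (K : Set G) := sup_le hV0c hZc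
    exact Subgroup.mem_centralizer_iff.2 fun y hy => (Subgroup.mem_centralizer_iff.1 (this hy) k hk).symm
  rw [hCV, hT.fix, hT.card_P] at key
  have hQV0 : Q ⊓ Subgroup.centralizer (V0 : Set G) = Q := Subgroup.eq_of_le_of_card_ge inf_le_left (by
    rw [hT.card_P]
    exact (Nat.eq_of_mul_eq_mul_left (pow_pos Nat.card_pos _) key).le)
  have hV0 : V0 = ⊥ := le_bot_iff.1 fun v hv => by
    rw [← D.sT.faithful]
    exact ⟨hv.1, Subgroup.mem_centralizer_iff.2 fun a ha =>
      (Subgroup.mem_centralizer_iff.1 (inf_eq_left.1 hQV0 ha) v hv).symm⟩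
  obtain ⟨a, ha, v, hv, z, hz, rfl⟩ := hT.mul x hx
  have hvK : v ∈ Subgroup.normalizer (K : Set G) := by
    have h1 := mul_mem (mul_mem (inv_mem (Subgroup.centralizer_le_normalizer _ (hQc a ha))) hxK)
      (inv_mem (Subgroup.centralizer_le_normalizer _ (hZc z hz)))
    simpa [mul_assoc] using h1
  have hv1 : v = 1 := Subgroup.mem_bot.1 (hV0 ▸ (⟨hv, hvK⟩ : v ∈ V0))
  rw [hv1, mul_one]
  exact mul_mem (Subgroup.mem_sup_left ha) (Subgroup.mem_sup_right hz)

/-- The complement of the neighbour has order `q` or `q w`. -/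
theorem Nbr.end_index (D : EndData S T K Z P Q U V) (hN : Nbr S K U T L H E) :
    Nat.card E = Nat.card K ∨
      (Nat.card E = Nat.card K * Nat.card Z ∧ ∃ y ∈ Q, ∀ z ∈ Z, y * z * y⁻¹ ∈ E) := by
  have hT := D.sT.side
  haveI : Fact (Nat.card K).Prime := ⟨D.sS.side.prime⟩
  have hEQn : E ≤ Subgroup.normalizer (Q : Set G) := hN.E_le.trans hT.P_norm
  have hEK : E ≤ Subgroup.normalizer (K : Set G) := fun e he => by
    have := hN.meet_Q D
    rw [Subgroup.mem_normalizer_iff]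
    intro x
    rw [← this]
    constructor
    · intro hx; exact ⟨E.mul_mem (E.mul_mem he hx.1) (E.inv_mem he), (Subgroup.mem_normalizer_iff.1 (hEQn he) x).1 hx.2⟩
    · intro hx
      refine ⟨?_, (Subgroup.mem_normalizer_iff.1 (hEQn he) x).2 hx.2⟩
      have := E.mul_mem (E.mul_mem (E.inv_mem he) hx.1) he
      simpa [mul_assoc] using this
  have hEQZ : E ≤ Q ⊔ Z := fun e he => D.normalizer_le_QZ (hN.E_le he) (hEK he)
  have hZQ : Z ≤ Subgroup.normalizer (Q : Set G) := hT.K_le.trans hT.P_norm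
  have hcoQZ : (Nat.card Q).Coprime (Nat.card Z) := hT.coKP.symm
  have hQE : Nat.card ↥(Q ⊔ E) ∣ Nat.card Q * Nat.card Z :=
    (Subgroup.card_dvd_of_le (sup_le le_sup_left hEQZ)).trans ⟨_, (Solv.card_sup_mul_card_inf' Q Z hZQ).symm⟩
  have hc : Nat.card ↥(Q ⊔ E) * Nat.card K = Nat.card Q * Nat.card E := by
    have := Solv.card_sup_mul_card_inf' Q E hEQn
    rwa [inf_comm, hN.meet_Q D] at this
  obtain ⟨d, hd⟩ := Subgroup.card_dvd_of_le hN.K_le
  have hdZ : d ∣ Nat.card Z := by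
    rw [hd, mul_left_comm, mul_comm (Nat.card ↥(Q ⊔ E))] at hc
    rw [Nat.eq_of_mul_eq_mul_left Nat.card_pos hc] at hQE
    exact Nat.dvd_of_mul_dvd_mul_left Nat.card_pos hQE
  rcases (Nat.dvd_prime D.sS.primeZ).1 hdZ with rfl | rfl
  · exact Or.inl (by rw [hd, mul_one])
  refine Or.inr ⟨hd, ?_⟩
  haveI : Fact (Nat.card Z).Prime := ⟨D.sS.primeZ⟩
  obtain ⟨x, hx⟩ := exists_prime_orderOf_dvd_card' (Nat.card Z) (G := E) (hd ▸ dvd_mul_left _ _)
  have hW : Nat.card (Subgroup.zpowers (x : G)) = Nat.card Z := by rw [Nat.card_zpowers, Subgroup.orderOf_coe, hx]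
  obtain ⟨y, hy, hyW⟩ := Solv.sz_conj_rel Q Z (Subgroup.zpowers (x : G)) hZQ
    (Subgroup.zpowers_le.2 (hEQZ x.2)) hcoQZ hW
    (Or.inl (Solv.isSolvable_of_le hT.P_le_S (hT.minSimple.2.2.2 T hT.coatom.1)))
  refine ⟨y, hy, fun z hz => ?_⟩
  refine Subgroup.zpowers_le.2 x.2 (hyW ▸ ?_)
  exact Subgroup.smul_mem_pointwise_smul z (MulAut.conj y) Z hz

namespace EndData

/-- A complete `U` normalized by a complement of order `q w` is impossible. -/
theorem field_false (D : EndData S T K Z P Q U V) (hN : Nbr S K U T L H E)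
    (hfull : Nat.card U * (Nat.card Z - 1) = Nat.card Z ^ Nat.card K - 1)
    (hE : Nat.card E = Nat.card K * Nat.card Z) (hnorm : E ≤ Subgroup.normalizer (U : Set G)) : False := by
  have hS := D.sS.side
  rcases hN.end_index D with h | ⟨-, y, hy, hyE⟩
  · rw [hE, Nat.mul_eq_left hS.prime.ne_zero] at h
    exact D.sS.primeZ.ne_one h
  exact false_of_field_config D.sS.primeZ hS.prime D.sS.primeZ_ne_two D.sS.elem hS.card_P D.sS.P_norm_U hS.U_comm
    D.sS.faithful hfull (D.sS.full_facts hfull).2 D.sT.elem.1 D.sT.side.coKP.symm hy hS.Z_le rfl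
    (D.sT.side.K_le.trans D.sT.side.P_norm) fun z hz => hnorm (hyE z hz)

/-- The same when `U` is the whole core of the neighbour. -/
theorem field_false_of_eq (D : EndData S T K Z P Q U V) (hN : Nbr S K U T L H E)
    (hfull : Nat.card U * (Nat.card Z - 1) = Nat.card Z ^ Nat.card K - 1)
    (hE : Nat.card E = Nat.card K * Nat.card Z) (h : Nat.card H = Nat.card U) : False := by
  have e : U = H := Subgroup.eq_of_le_of_card_ge hN.U_le h.le
  exact D.field_false hN hfull hE (e ▸ hN.le_normalizer)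

/-- The same when the core of the neighbour is cyclic. -/
theorem field_false_of_cyclic (D : EndData S T K Z P Q U V) (hN : Nbr S K U T L H E)
    (hfull : Nat.card U * (Nat.card Z - 1) = Nat.card Z ^ Nat.card K - 1)
    (hE : Nat.card E = Nat.card K * Nat.card Z) (hc : IsCyclic H) : False := by
  refine D.field_false hN hfull hE fun e he => ?_
  have hmem : ∀ f ∈ E, ∀ u ∈ U, f * u * f⁻¹ ∈ U := by
    intro f hf u hu
    have hH : ∀ x ∈ H, f * x * f⁻¹ ∈ H := fun x hx => (Subgroup.mem_normalizer_iff.1 (hN.le_normalizer hf) x).1 hx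
    let σ : H →* H :=
      { toFun := fun x => ⟨f * x * f⁻¹, hH x x.2⟩
        map_one' := Subtype.ext (show f * (1 : G) * f⁻¹ = 1 by group)
        map_mul' := fun a b => Subtype.ext (show f * ((a : G) * b) * f⁻¹ = f * a * f⁻¹ * (f * b * f⁻¹) by group) }
    haveI := hc
    obtain ⟨m, hm⟩ := MonoidHom.map_cyclic σ
    have h1 : f * u * f⁻¹ = u ^ m := congrArg Subtype.val (hm ⟨u, hN.U_le hu⟩)
    exact h1 ▸ U.zpow_mem hu m
  refine Subgroup.mem_normalizer_iff.2 fun u => ⟨hmem e he u, fun hu => ?_⟩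
  have := hmem e⁻¹ (inv_mem he) _ hu
  simpa [mul_assoc] using this

/-- The two neighbours are not conjugate. -/
theorem neighbour_conj_false (D : EndData S T K Z P Q U V) (hlt : Nat.card K < Nat.card Z)
    (hN : Nbr S K U T L H E) (hM : Nbr T Z V S M H' E')
    (hfull : Nat.card U * (Nat.card Z - 1) = Nat.card Z ^ Nat.card K - 1)
    (hE : Nat.card E = Nat.card K * Nat.card Z) (hH' : Nat.card H' = Nat.card V) (g : G)
    (hg : Fusion.cj L g = M) : False := by
  have hVH : V = H' := Subgroup.eq_of_le_of_card_ge hM.U_le hH'.le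
  have e : Fusion.cj H g = V := by
    rw [hVH, hM.H_eq, ← hg, Support.sigmaCore_cj hN.minSimple hN.coatom g, ← hN.H_eq]
  let φ : H ≃* V := (Subgroup.equivMapOfInjective H (MulAut.conj g).toMonoidHom (MulAut.conj g).injective).trans
    (MulEquiv.subgroupCongr e)
  rcases D.sT.cyclic_or_exponent with ⟨hc, -, -⟩ | ⟨-, hexp⟩
  · haveI := hc
    exact D.field_false_of_cyclic hN hfull hE (isCyclic_of_surjective φ.symm.toMonoidHom φ.symm.surjective)
  · haveI := (D.sS.full_facts hfull).1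
    obtain ⟨u, hu⟩ := IsCyclic.exists_ofOrder_eq_natCard (α := U)
    have h1 : φ ⟨u, hN.U_le u.2⟩ ^ (Nat.card K - 1) = 1 :=
      Subtype.ext (hexp _ (φ ⟨u, hN.U_le u.2⟩).2)
    rw [← map_pow, map_eq_one_iff φ φ.injective] at h1
    have h2 : Nat.card U ∣ Nat.card K - 1 :=
      hu ▸ orderOf_dvd_of_pow_eq_one (Subtype.ext (congrArg Subtype.val h1 : _))
    have h3 := Nat.le_of_dvd (Nat.sub_pos_of_lt D.sS.side.prime.one_lt) h2
    have := D.sS.side.two_mul_K_lt_U
    omega

end EndData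

end Cfsg.Agent.OddFT
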