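import Cfsg.Agent.Lib.OddChar.FT.EndKillSmall

/-!
The final configuration with `|E| = |K| |Z|` and a large neighbour.
-/

set_option autoImplicit false
set_option linter.unusedSectionVars false
set_option linter.unusedVariables false
set_option linter.style.haveILetI false

open Cfsg Cfsg.Agent.Char Cfsg.Agent.OddChar Cfsg.Agent.OddLocal
open scoped ComplexConjugate Classical

namespace Cfsg.Agent.OddFT

universe u

variable {G : Type u} [Group G] [Fintype G] {S T K Z P Q U V L H E : Subgroup G}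

theorem big_numeric {M m uM PM um Pm : ℝ} (hM : 5 ≤ M) (hm : 3 ≤ m) (huM : (M - 1) * uM ≤ PM)
    (hum : (m - 1) * um ≤ Pm) (hPM : 0 < PM) (hPm : 0 < Pm) (h7M : 7 ≤ uM) (h7m : 7 ≤ um)
    (h : M * (1 - uM / PM - 1 / uM) + m * (1 - um / Pm - 1 / um) ≤ M / 4) : False := by
  have h1 : uM / PM ≤ 1 / 4 := by
    rw [div_le_iff₀ hPM]
    have := mul_le_mul_of_nonneg_right (show 4 ≤ M - 1 by linarith) (show 0 ≤ uM by linarith)
    linarith
  have h2 : um / Pm ≤ 1 / 2 := by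
    rw [div_le_iff₀ hPm]
    have := mul_le_mul_of_nonneg_right (show 2 ≤ m - 1 by linarith) (show 0 ≤ um by linarith)
    linarith
  have h3 : 1 / uM ≤ 1 / 7 := one_div_le_one_div_of_le (by norm_num) h7M
  have h4 : 1 / um ≤ 1 / 7 := one_div_le_one_div_of_le (by norm_num) h7m
  have h5 : M * (17 / 28) ≤ M * (1 - uM / PM - 1 / uM) := mul_le_mul_of_nonneg_left (by linarith) (by linarith)
  have h6 : 0 ≤ m * (1 - um / Pm - 1 / um) := mul_nonneg (by linarith) (by linarith)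
  linarith

theorem big_rest {A B F a b : ℤ} {k m : ℕ} (hk : 1 ≤ k) (hm : 1 ≤ m) (hc : (a + b - 1) ^ 2 = 1)
    (hF : F = 1 + 2 * (m : ℤ) * (b * B) + (2 * (k : ℤ) * (a * A) +
      2 * (k : ℤ) * (2 * m) * ((a + b - 1) * (A + B - 1)))) : 2 ≤ A ^ 2 + B ^ 2 + F ^ 2 := by
  have hF0 : F ≠ 0 := by
    intro e
    rw [hF] at e
    have h2 : (2 : ℤ) ∣ 1 := ⟨-((m : ℤ) * (b * B) + ((k : ℤ) * (a * A) +
      (k : ℤ) * (2 * m) * ((a + b - 1) * (A + B - 1)))), by linear_combination e⟩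
    norm_num at h2
  have hF2 : 1 ≤ F ^ 2 := Int.add_one_le_iff.2 (sq_pos_of_ne_zero hF0)
  rcases eq_or_ne A 0 with hA0 | hA0
  · rcases eq_or_ne B 0 with hB0 | hB0
    · subst hA0 hB0
      have e : F = 1 - 4 * ((k : ℤ) * m) * (a + b - 1) := by rw [hF]; ring
      have h16 : 1 ≤ (k : ℤ) * m := by exact_mod_cast Nat.mul_le_mul hk hm
      rcases sq_eq_one_iff.1 hc with h | h <;> rw [e, h] <;> nlinarith
    · have h1 : 1 ≤ B ^ 2 := Int.add_one_le_iff.2 (sq_pos_of_ne_zero hB0)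
      linarith [sq_nonneg A]
  · have h1 : 1 ≤ A ^ 2 := Int.add_one_le_iff.2 (sq_pos_of_ne_zero hA0)
    linarith [sq_nonneg B]

variable [Fintype L]

/-- The counting when all coordinates of `τ β` on the grid are units. -/
theorem kill_big (D : EndData S T K Z P Q U V) (W : Grid K Z) (hN : Nbr S K U T L H E)
    (he : Nat.card E = Nat.card K * Nat.card Z)
    (hbig : 4 * Nat.card K * Nat.card Z * min (Nat.card K) (Nat.card Z) ≤ Nat.card H)
    {ζ : L → ℂ} (hζ : ζ ∈ famF L H) (hζ1 : ζ 1 = (Nat.card E : ℂ)) {φ : (L → ℂ) → G → ℂ}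
    (hφ : Fam (tauL L) (famF L H) φ) {z : (↥K →* ℂˣ) → (↥Z →* ℂˣ) → ℤ} (hd : BetaData L H E W φ ζ 0 z)
    {a b : ℤ} (hza : ∀ i : ↥K →* ℂˣ, i ≠ 1 → z i 1 = a) (hzb : ∀ j : ↥Z →* ℂˣ, j ≠ 1 → z 1 j = b)
    (ha : a ^ 2 = 1) (hb : b ^ 2 = 1) (hc : (a + b - 1) ^ 2 = 1)
    (htight : tauL L (betaL L H ζ) = (∑ i, ∑ j, (z i j : ℂ) • W.eta i j) - φ ζ) : False := by
  have hs := D.sS.side
  have hq3 := hs.three_le_K
  have hw3 := hs.three_le_Z
  have hZ : Z ≤ sigmaCore S := hs.Z_le.trans hs.P_le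
  have hXh : ∀ g ∈ tildeL L, g ∉ hatG K Z := fun g hg =>
    hN.tilde_not_hat hZ (fun a ha b hb => W.comm ha hb) hg
  have hXP : ∀ g ∈ tildeL L, g ∉ regP P := fun g hg => hN.tilde_not_regP (Or.inl hs.P_le) hg
  have hXQ : ∀ g ∈ tildeL L, g ∉ regP Q := fun g hg => hN.tilde_not_regP (Or.inr D.sT.side.P_le) hg
  have hrest : ∀ g, g ∉ tildeL L → g ∉ hatG K Z → g ∉ regP P → g ∉ regP Q → 2 ≤ triAt W (φ ζ) g := by
    intro g hgX hgh hgP hgQ
    obtain ⟨A, B, hA, hB, hAB⟩ := D.exists_values W hgP hgQ hgh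
    rw [triAt_const W _ (by omega) (by omega) hA hB]
    have h0 := congrFun htight g
    rw [hN.tau_beta_zero hζ hζ1 hgX] at h0
    simp only [Pi.sub_apply, Finset.sum_apply, Pi.smul_apply, smul_eq_mul] at h0
    rw [grid_sum_eq (fun i j => (z i j : ℂ) * W.eta i j g) (A := (a : ℂ) * A) (B := (b : ℂ) * B)
      (C := ((a + b - 1 : ℤ) : ℂ) * ((A + B - 1 : ℤ) : ℂ))
      (fun i hi => by rw [hza i hi, hA i hi]) (fun j hj => by rw [hzb j hj, hB j hj])
      (fun i j hi hj => by rw [hd.add i j, hza i hi, hzb j hj, hAB i j hi hj]), hd.corner, W.one, W.card_left,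
      W.card_right, nsmul_eq_mul, nsmul_eq_mul, nsmul_eq_mul, Nat.cast_mul, Nat.cast_sub Nat.card_pos,
      Nat.cast_sub Nat.card_pos, Int.cast_one, Nat.cast_one, mul_one] at h0
    obtain ⟨k, hk⟩ := hs.odd_card K
    obtain ⟨m, hm⟩ := hs.odd_card Z
    rw [hk, hm] at h0
    clear htight
    set F : ℤ := 1 + 2 * (m : ℤ) * (b * B) + (2 * (k : ℤ) * (a * A) +
      2 * (k : ℤ) * (2 * m) * ((a + b - 1) * (A + B - 1))) with hF
    have hFv : φ ζ g = (F : ℂ) := by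
      rw [hF]
      push_cast at h0 ⊢
      linear_combination h0
    rw [hFv, Complex.norm_intCast, sq_abs]
    have hz : (2 : ℤ) ≤ A ^ 2 + B ^ 2 + F ^ 2 := big_rest (by omega) (by omega) hc hF
    have hz' : (2 : ℝ) ≤ (A : ℝ) ^ 2 + (B : ℝ) ^ 2 + (F : ℝ) ^ 2 := by exact_mod_cast hz
    linarith
  set mT : ℝ := ((Nat.card H : ℝ) - 1) / Nat.card L with hmT
  have htilde : 2 * mT + (Nat.card L : ℝ)⁻¹ * ((Nat.card L : ℝ) - (Nat.card E : ℝ) ^ 2) ≤
      tri W (φ ζ) (tildeL L) := by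
    have hA : mT ≤ (∑ i ∈ Finset.univ.erase (1 : ↥K →* ℂˣ), dens (tildeL L) (W.eta i 1)) /
        ((Nat.card K : ℝ) - 1) := by
      rw [le_div_iff₀ (sub_pos.2 (by exact_mod_cast (by omega : 1 < Nat.card K))), mul_comm,
        ← W.card_erase_left, ← nsmul_eq_mul, ← Finset.sum_const]
      refine Finset.sum_le_sum fun i hi => (le_of_eq ?_).trans (hN.dens_eta_ge hζ hζ1 hφ hd hZ i 1)
      rw [hza i (Finset.mem_erase.1 hi).1, ← Int.cast_pow, ha, Int.cast_one, mul_one]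
    have hB : mT ≤ (∑ j ∈ Finset.univ.erase (1 : ↥Z →* ℂˣ), dens (tildeL L) (W.eta 1 j)) /
        ((Nat.card Z : ℝ) - 1) := by
      rw [le_div_iff₀ (sub_pos.2 (by exact_mod_cast (by omega : 1 < Nat.card Z))), mul_comm,
        ← W.card_erase_right, ← nsmul_eq_mul, ← Finset.sum_const]
      refine Finset.sum_le_sum fun j hj => (le_of_eq ?_).trans (hN.dens_eta_ge hζ hζ1 hφ hd hZ 1 j)
      rw [hzb j (Finset.mem_erase.1 hj).1, ← Int.cast_pow, hb, Int.cast_one, mul_one]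
    have hF := hN.dens_zeta_ge hζ hζ1 hφ hd
    simp only [Int.cast_zero, mul_zero, zero_mul, sub_zero, ne_eq, OfNat.ofNat_ne_zero, not_false_eq_true,
      zero_pow, add_zero] at hF
    simp only [tri]
    linarith
  have hmain := D.tri_count W hXh hXP hXQ (φ ζ) htilde hrest
  rw [(hφ.signed ζ hζ).self, Complex.one_re] at hmain
  have hmX := hN.meas_tilde_le
  set q : ℝ := (Nat.card K : ℝ) with hq
  set w : ℝ := (Nat.card Z : ℝ) with hw
  set hh : ℝ := (Nat.card H : ℝ) with hhh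
  set uu : ℝ := (Nat.card U : ℝ) with huu
  set vv : ℝ := (Nat.card V : ℝ) with hvv
  have hL : (Nat.card L : ℝ) = q * w * hh := by
    rw [hq, hw, hhh, ← hN.card_mul, he]
    push_cast
    rfl
  have hE : (Nat.card E : ℝ) = q * w := by
    rw [hq, hw, he, Nat.cast_mul]
  have hq0 : 0 < q := Nat.cast_pos.2 Nat.card_pos
  have hw0 : 0 < w := Nat.cast_pos.2 Nat.card_pos
  have hu0 : 0 < uu := Nat.cast_pos.2 Nat.card_pos
  have hv0 : 0 < vv := Nat.cast_pos.2 Nat.card_pos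
  have hh0 : 0 < hh := Nat.cast_pos.2 Nat.card_pos
  have hP0 : (0 : ℝ) < Nat.card P := Nat.cast_pos.2 Nat.card_pos
  have hQ0 : (0 : ℝ) < Nat.card Q := Nat.cast_pos.2 Nat.card_pos
  have hmP : meas (regP P) ≤ 1 / (uu * q) := by
    rw [D.sS.meas_reg]
    refine div_le_div_of_nonneg_right ?_ (by positivity)
    linarith [show (0 : ℝ) ≤ 1 / (Nat.card P : ℝ) by positivity]
  have hmQ : meas (regP Q) ≤ 1 / (vv * w) := by
    rw [D.sT.meas_reg]
    refine div_le_div_of_nonneg_right ?_ (by positivity)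
    linarith [show (0 : ℝ) ≤ 1 / (Nat.card Q : ℝ) by positivity]
  have key : w * (1 - uu / Nat.card P - 1 / uu) + q * (1 - vv / Nat.card Q - 1 / vv) ≤ (q * w) ^ 2 / hh := by
    have e : (1 - uu / Nat.card P) / q + (1 - vv / Nat.card Q) / w +
        (Nat.card L : ℝ)⁻¹ * ((Nat.card L : ℝ) - (Nat.card E : ℝ) ^ 2) - 1 - 1 / (uu * q) - 1 / (vv * w) =
        (w * (1 - uu / Nat.card P - 1 / uu) + q * (1 - vv / Nat.card Q - 1 / vv) - (q * w) ^ 2 / hh) / (q * w) := by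
      rw [hL, hE]
      field_simp
      ring
    have h1 : (w * (1 - uu / Nat.card P - 1 / uu) + q * (1 - vv / Nat.card Q - 1 / vv) - (q * w) ^ 2 / hh) /
        (q * w) ≤ 0 := by linarith
    rw [div_le_iff₀ (by positivity), zero_mul] at h1
    linarith
  have hu7 : (7 : ℝ) ≤ uu := by
    have := hs.two_mul_K_lt_U
    show (7 : ℝ) ≤ (Nat.card U : ℝ)
    exact_mod_cast (by omega : 7 ≤ Nat.card U)
  have hv7 : (7 : ℝ) ≤ vv := by
    have := D.sT.side.two_mul_K_lt_U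
    show (7 : ℝ) ≤ (Nat.card V : ℝ)
    exact_mod_cast (by omega : 7 ≤ Nat.card V)
  have hodd : ∀ X : Subgroup G, Odd (Nat.card X) := hs.odd_card
  obtain ⟨k, hk⟩ := hodd K
  obtain ⟨m, hm⟩ := hodd Z
  rcases Nat.lt_or_gt_of_ne D.card_K_ne with hlt | hlt
  · have hb4 : 4 * q * w * q ≤ hh := by
      rw [min_eq_left hlt.le] at hbig
      have h1 := (Nat.cast_le (α := ℝ)).2 hbig
      push_cast at h1
      exact h1
    have hle : (q * w) ^ 2 / hh ≤ w / 4 := by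
      rw [div_le_div_iff₀ hh0 (by norm_num)]
      have := mul_le_mul_of_nonneg_left hb4 hw0.le
      linarith
    exact big_numeric (by exact_mod_cast (by omega : 5 ≤ Nat.card Z)) (by exact_mod_cast hq3)
      D.sS.card_U_bound D.sT.card_U_bound hP0 hQ0 hu7 hv7 (key.trans hle)
  · have hb4 : 4 * q * w * w ≤ hh := by
      rw [min_eq_right hlt.le] at hbig
      have h1 := (Nat.cast_le (α := ℝ)).2 hbig
      push_cast at h1
      exact h1
    have hle : (q * w) ^ 2 / hh ≤ q / 4 := by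
      rw [div_le_div_iff₀ hh0 (by norm_num)]
      have := mul_le_mul_of_nonneg_left hb4 hq0.le
      linarith
    refine big_numeric (by exact_mod_cast (by omega : 5 ≤ Nat.card K)) (by exact_mod_cast hw3)
      D.sT.card_U_bound D.sS.card_U_bound hQ0 hP0 hv7 hu7 (le_trans (le_of_eq ?_) (key.trans hle))
    exact add_comm _ _

omit [Fintype L] in
/-- A large neighbour with `|E| = |K| |Z|` is bounded by one of the two sides. -/
theorem nbr_big (D : EndData S T K Z P Q U V) (W : Grid K Z) (hN : Nbr S K U T L H E)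
    (he : Nat.card E = Nat.card K * Nat.card Z)
    (hbig : 4 * Nat.card K * Nat.card Z * min (Nat.card K) (Nat.card Z) ≤ Nat.card H) :
    Nat.card H - 1 ≤ Nat.card Z * (Nat.card U - 1) ∨ Nat.card H - 1 ≤ Nat.card K * (Nat.card V - 1) := by
  haveI : Fintype L := Fintype.ofFinite _
  have hs := D.sS.side
  have hq3 := hs.three_le_K
  have hw3 := hs.three_le_Z
  have hZ : Z ≤ sigmaCore S := hs.Z_le.trans hs.P_le
  obtain ⟨ζ, hζ, hζ1⟩ := hN.exists_zeta
  obtain ⟨φ, hφ, -⟩ := hN.exists_fam hZ W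
  obtain ⟨c, z, hd⟩ := hN.exists_betaData hζ hζ1 hφ hZ W
  obtain ⟨n, hev, hn2, hnH, hn⟩ := hN.exists_quot
  obtain ⟨j, hj⟩ := D.sS.layer.exists_layerJ
  obtain ⟨i, hi⟩ := D.sT.layer.exists_layerJ
  have hi1 := hi.1
  have hj1 := hj.1
  set a := z i 1 with hadef
  set b := z 1 j with hbdef
  rcases Int.even_or_odd b with hb | hb
  · left
    have h := hN.bound_of_even_right hζ hζ1 hφ D hd hj1 hb
    rw [he, div_le_div_iff₀ (Nat.cast_pos.2 (by positivity)) (Nat.cast_pos.2 Nat.card_pos), Nat.cast_mul] at h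
    have hK : (0 : ℝ) < Nat.card K := Nat.cast_pos.2 Nat.card_pos
    have h1 : ((Nat.card H : ℝ) - 1) ≤ (Nat.card Z : ℝ) * ((Nat.card U : ℝ) - 1) := by
      refine le_of_mul_le_mul_right ?_ hK
      linarith
    have h' : ((Nat.card H - 1 : ℕ) : ℝ) ≤ ((Nat.card Z * (Nat.card U - 1) : ℕ) : ℝ) := by
      rw [Nat.cast_mul, Nat.cast_sub Nat.card_pos, Nat.cast_sub Nat.card_pos, Nat.cast_one]
      exact h1
    exact_mod_cast h'
  rcases Int.even_or_odd a with ha | ha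
  · right
    have h := hN.bound_of_even_left hζ hζ1 hφ D hd hi1 ha
    rw [he, div_le_div_iff₀ (Nat.cast_pos.2 (by positivity)) (Nat.cast_pos.2 Nat.card_pos), Nat.cast_mul] at h
    have hZ0 : (0 : ℝ) < Nat.card Z := Nat.cast_pos.2 Nat.card_pos
    have h1 : ((Nat.card H : ℝ) - 1) ≤ (Nat.card K : ℝ) * ((Nat.card V : ℝ) - 1) := by
      refine le_of_mul_le_mul_right ?_ hZ0
      linarith
    have h' : ((Nat.card H - 1 : ℕ) : ℝ) ≤ ((Nat.card K * (Nat.card V - 1) : ℕ) : ℝ) := by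
      rw [Nat.cast_mul, Nat.cast_sub Nat.card_pos, Nat.cast_sub Nat.card_pos, Nat.cast_one]
      exact h1
    exact_mod_cast h'
  exfalso
  have hza : ∀ k : ↥K →* ℂˣ, k ≠ 1 → z k 1 = a := fun k hk => hd.left_const hs.prime k i hk hi1
  have hzb : ∀ l : ↥Z →* ℂˣ, l ≠ 1 → z 1 l = b := fun l hl => hd.right_const D.sS.primeZ l j hl hj1
  have hsum : (∑ k, ∑ l, (z k l : ℝ) ^ 2) =
      1 + ((Nat.card Z : ℝ) - 1) * (b : ℝ) ^ 2 + (((Nat.card K : ℝ) - 1) * (a : ℝ) ^ 2 +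
        ((Nat.card K : ℝ) - 1) * ((Nat.card Z : ℝ) - 1) * ((a + b - 1 : ℤ) : ℝ) ^ 2) := by
    rw [grid_sum_eq (fun k l => (z k l : ℝ) ^ 2) (A := (a : ℝ) ^ 2) (B := (b : ℝ) ^ 2)
      (C := ((a + b - 1 : ℤ) : ℝ) ^ 2)
      (fun k hk => by rw [hza k hk]) (fun l hl => by rw [hzb l hl])
      (fun k l hk hl => by rw [hd.add k l, hza k hk, hzb l hl]),
      hd.corner, W.card_left, W.card_right, nsmul_eq_mul, nsmul_eq_mul, nsmul_eq_mul, Nat.cast_mul,
      Nat.cast_sub Nat.card_pos, Nat.cast_sub Nat.card_pos, Nat.cast_one, Int.cast_one, one_pow]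
  have hen := hd.energy
  rw [hsum, hn, he] at hen
  have hint : ((Nat.card Z : ℤ) - 1) * b ^ 2 + (((Nat.card K : ℤ) - 1) * a ^ 2 +
      ((Nat.card K : ℤ) - 1) * ((Nat.card Z : ℤ) - 1) * (a + b - 1) ^ 2) + ((n : ℤ) * c ^ 2 - 2 * c) ≤
      (Nat.card K : ℤ) * Nat.card Z - 1 := by
    rw [← Int.cast_le (R := ℝ)]
    push_cast at hen ⊢
    linarith
  have hq : (2 : ℤ) ≤ (Nat.card K : ℤ) - 1 := by
    have : (3 : ℤ) ≤ Nat.card K := by exact_mod_cast hq3
    linarith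
  have hw : (2 : ℤ) ≤ (Nat.card Z : ℤ) - 1 := by
    have : (3 : ℤ) ≤ Nat.card Z := by exact_mod_cast hw3
    linarith
  have hsq : ∀ x : ℤ, Odd x → 1 ≤ x ^ 2 := fun x hx => by
    have h0 : x ≠ 0 := by rintro rfl; simp at hx
    nlinarith [mul_self_pos.2 h0]
  have ha1 := hsq a ha
  have hb1 := hsq b hb
  have hc1 := hsq (a + b - 1) ((ha.add_odd hb).sub_odd odd_one)
  have hn' : (2 : ℤ) ≤ n := by exact_mod_cast hn2
  have hc0 : 0 ≤ (n : ℤ) * c ^ 2 - 2 * c := by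
    rcases le_or_gt c 0 with h | h
    · nlinarith [sq_nonneg c]
    · nlinarith
  have e1 := mul_nonneg (show 0 ≤ (Nat.card Z : ℤ) - 1 by linarith) (sub_nonneg.2 hb1)
  have e2 := mul_nonneg (show 0 ≤ (Nat.card K : ℤ) - 1 by linarith) (sub_nonneg.2 ha1)
  have e3 := mul_nonneg (mul_nonneg (show 0 ≤ (Nat.card K : ℤ) - 1 by linarith)
    (show 0 ≤ (Nat.card Z : ℤ) - 1 by linarith)) (sub_nonneg.2 hc1)
  have hb2 : b ^ 2 = 1 := by
    have : ((Nat.card Z : ℤ) - 1) * (b ^ 2 - 1) = 0 := by linarith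
    exact sub_eq_zero.1 ((mul_eq_zero.1 this).resolve_left (by linarith))
  have ha2 : a ^ 2 = 1 := by
    have : ((Nat.card K : ℤ) - 1) * (a ^ 2 - 1) = 0 := by linarith
    exact sub_eq_zero.1 ((mul_eq_zero.1 this).resolve_left (by linarith))
  have hc2 : (a + b - 1) ^ 2 = 1 := by
    have : ((Nat.card K : ℤ) - 1) * ((Nat.card Z : ℤ) - 1) * ((a + b - 1) ^ 2 - 1) = 0 := by linarith
    exact sub_eq_zero.1 ((mul_eq_zero.1 this).resolve_left (mul_ne_zero (by linarith) (by linarith)))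
  have hnc : (n : ℤ) * c ^ 2 - 2 * c = 0 := by linarith
  obtain rfl : c = 0 := by
    by_contra hcne
    have h1 : (n : ℤ) * c = 2 := mul_right_cancel₀ hcne (by linear_combination hnc)
    have hcpos : 0 < c := by
      by_contra h
      nlinarith
    have h2 : (n : ℤ) * 1 ≤ (n : ℤ) * c := mul_le_mul_of_nonneg_left (by omega) (by positivity)
    have hn22 : n = 2 := by omega
    rw [hn22, he] at hnH
    have h3 : 3 ≤ min (Nat.card K) (Nat.card Z) := le_min hq3 hw3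
    have h4 := Nat.mul_le_mul_left (4 * Nat.card K * Nat.card Z) h3
    have h5 : 9 ≤ Nat.card K * Nat.card Z := Nat.mul_le_mul hq3 hw3
    have h6 : 4 * Nat.card K * Nat.card Z * 3 = 12 * (Nat.card K * Nat.card Z) := by ring
    omega
  refine kill_big D W hN he hbig hζ hζ1 hφ hd hza hzb ha2 hb2 hc2 ?_
  rw [hN.tau_beta_tight hζ hζ1 hφ hd (by
    rw [hsum, he, ← Int.cast_pow, ← Int.cast_pow, ← Int.cast_pow, ha2, hb2, hc2]
    push_cast
    linarith), Finset.sum_eq_single ζ (fun x hx hne => by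
      rw [hd.fam x (hN.mem_famFin.1 hx), if_neg hne]; simp)
    (fun h => absurd (hN.mem_famFin.2 hζ) h), hd.fam ζ hζ, if_pos rfl, hζ1, div_self hN.E_card_ne]
  simp [sub_eq_add_neg]

end Cfsg.Agent.OddFT
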