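import Cfsg.Agent.Lib.OddChar.FT.Numeric

/-!
The numerical facts of the case analysis of the final configuration.
-/

set_option autoImplicit false

namespace Cfsg.Agent.OddFT

theorem full_lower {u w q : ℕ} (hw : 2 ≤ w) (hq : 2 ≤ q) (h : u * (w - 1) = w ^ q - 1) :
    w ^ (q - 1) + 1 ≤ u := by
  by_contra hlt
  push Not at hlt
  have h1 : u * (w - 1) ≤ w ^ (q - 1) * (w - 1) := Nat.mul_le_mul_right _ (by omega)
  have h2 : w ^ (q - 1) * (w - 1) + w ^ (q - 1) = w ^ q := by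
    rw [← Nat.mul_succ, Nat.succ_eq_add_one, Nat.sub_add_cancel (by omega), ← pow_succ,
      Nat.sub_add_cancel (by omega)]
  have h3 : w ≤ w ^ (q - 1) := Nat.le_self_pow (by omega) w
  omega

theorem full_gt {u w q : ℕ} (hq : Odd q) (hw : Odd w) (h3 : 3 ≤ q) (hlt : q < w)
    (hfull : u * (w - 1) = w ^ q - 1) : 2 * q * w < u := by
  have hu := full_lower (by omega) (by omega) hfull
  obtain ⟨a, ha⟩ := hq
  obtain ⟨b, hb⟩ := hw
  rcases Nat.lt_or_ge q 5 with h | h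
  · obtain rfl : q = 3 := by omega
    obtain ⟨x, rfl⟩ : ∃ x, w = x + 1 := ⟨w - 1, by omega⟩
    have h1 : (x + 1) ^ 3 - 1 = ((x + 1) ^ 2 + (x + 1) + 1) * x := by
      refine Nat.sub_eq_of_eq_add ?_
      ring
    rw [h1, Nat.add_sub_cancel] at hfull
    have h2 := Nat.eq_of_mul_eq_mul_right (by omega) hfull
    nlinarith [Nat.mul_le_mul_right (x + 1) (show 5 ≤ x + 1 by omega)]
  · have h1 : w ^ 4 ≤ w ^ (q - 1) := Nat.pow_le_pow_right (by omega) (by omega)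
    have h2 : 2 * q * w ≤ 2 * w ^ 2 := by nlinarith
    have h3 : 2 * w ^ 2 ≤ w ^ 4 := by
      have : 2 ≤ w ^ 2 := by nlinarith
      calc 2 * w ^ 2 ≤ w ^ 2 * w ^ 2 := Nat.mul_le_mul_right _ this
        _ = w ^ 4 := by ring
    omega

theorem sq_lt_of_full {u v w q : ℕ} (hq : Odd q) (hw : Odd w) (h3 : 3 ≤ q) (hlt : q < w)
    (hu : w ^ (q - 1) + 1 ≤ u) (hv : 2 * w * u < v) : q * w * (q * w + 1) + 1 < v := by
  obtain ⟨a, ha⟩ := hq
  obtain ⟨b, hb⟩ := hw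
  have hwu : 2 * w * (w ^ (q - 1) + 1) ≤ 2 * w * u := Nat.mul_le_mul_left _ hu
  rcases Nat.lt_or_ge q 5 with h | h
  · obtain rfl : q = 3 := by omega
    have : 2 * w * (w ^ 2 + 1) ≤ 2 * w * u := hwu
    nlinarith [Nat.mul_le_mul_right (w * w) (show 5 ≤ w by omega)]
  · have h1 : w ^ 5 ≤ w ^ q := Nat.pow_le_pow_right (by omega) h
    have h2 : w * w ^ (q - 1) = w ^ q := by rw [← pow_succ', Nat.sub_add_cancel (by omega)]
    have h4 : q * w ≤ w ^ 2 := by nlinarith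
    have h5 : q * w * (q * w + 1) ≤ w ^ 2 * (w ^ 2 + 1) := Nat.mul_le_mul h4 (by omega)
    have h6 : w ^ 2 * (w ^ 2 + 1) + 1 ≤ 2 * w ^ 5 := by
      have e : w ^ 5 = w * w ^ 4 := by ring
      have e2 : w ^ 2 * (w ^ 2 + 1) = w ^ 4 + w ^ 2 := by ring
      have h7 : w ^ 2 ≤ w ^ 4 := Nat.pow_le_pow_right (by omega) (by norm_num)
      have h8 : 5 * w ^ 4 ≤ w * w ^ 4 := Nat.mul_le_mul_right _ (by omega)
      have h9 : 1 ≤ w ^ 4 := Nat.one_le_pow _ _ (by omega)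
      omega
    nlinarith

theorem small_lt_full {u v w q : ℕ} (hq : Odd q) (hw : Odd w) (h3 : 3 ≤ q) (hlt : q < w)
    (hu : 3 * (u * (w - 1)) ≤ w ^ q - 1) (hv : q ^ (w - 1) + 1 ≤ v) : w * (u - 1) < q * (v - 1) := by
  have hp := pow_le_two_mul hq hw h3 hlt
  obtain ⟨x, rfl⟩ : ∃ x, w = x + 1 := ⟨w - 1, by omega⟩
  rw [Nat.add_sub_cancel] at hu hv hp
  have hw3 : 4 ≤ x := by
    obtain ⟨b, hb⟩ := hw
    obtain ⟨a, ha⟩ := hq
    omega
  have h1 : 2 * ((x + 1) * u) ≤ 3 * (u * x) := by nlinarith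
  have h2 : (x + 1) * (u - 1) ≤ (x + 1) * u := Nat.mul_le_mul_left _ (Nat.sub_le _ _)
  have h4 : q ^ x ≤ v - 1 := by omega
  have h5 : 3 * q ^ x ≤ q * (v - 1) := Nat.mul_le_mul h3 h4
  have h6 : 1 ≤ q ^ x := Nat.one_le_pow _ _ (by omega)
  omega

theorem mult_big {q w n u : ℕ} (hcop : q.Coprime w) (hq : Odd q) (hw : Odd w) (hn : Odd n) (hud : u ∣ n)
    (hne : n ≠ u) (hnm : q * w ∣ n - 1) (huq : u ≡ 1 [MOD q]) (huw : u ≡ 1 [MOD w]) :
    (2 * q * w + 1) * u ≤ n := by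
  obtain ⟨m, hm⟩ := hud
  have hn1 : 1 ≤ n := hn.pos
  have hnq : n ≡ 1 [MOD q * w] := ((Nat.modEq_iff_dvd' hn1).2 hnm).symm
  have hmq : m ≡ 1 [MOD q] := by
    have := (Nat.ModEq.mul_right m huq)
    rw [one_mul, ← hm] at this
    exact this.symm.trans (hnq.of_dvd (dvd_mul_right _ _))
  have hmw : m ≡ 1 [MOD w] := by
    have := (Nat.ModEq.mul_right m huw)
    rw [one_mul, ← hm] at this
    exact this.symm.trans (hnq.of_dvd (dvd_mul_left _ _))
  have hmm : m ≡ 1 [MOD q * w] := (Nat.modEq_and_modEq_iff_modEq_mul hcop).1 ⟨hmq, hmw⟩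
  have hm0 : 1 ≤ m := Nat.pos_of_ne_zero fun h => by rw [h, mul_zero] at hm; omega
  obtain ⟨t, ht⟩ := (Nat.modEq_iff_dvd' hm0).1 hmm.symm
  have hmodd : Odd m := (Nat.odd_mul.1 (hm ▸ hn)).2
  have ht2 : 2 ≤ t := by
    rcases t with _ | _ | t
    · exfalso
      apply hne
      have : m = 1 := by omega
      rw [hm, this, mul_one]
    · exfalso
      obtain ⟨a, ha⟩ := hmodd
      obtain ⟨b, hb⟩ := Nat.odd_mul.2 ⟨hq, hw⟩
      omega
    · omega
  have : 2 * q * w + 1 ≤ m := by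
    have h1 : 2 * (q * w) ≤ q * w * t := by nlinarith
    have : 2 * q * w = 2 * (q * w) := by ring
    omega
  rw [hm, mul_comm u m]
  exact Nat.mul_le_mul_right _ this

theorem mult_one {q w n v : ℕ} (hn : Odd n) (hw : Odd w) (hvd : v ∣ n) (hnm : w ∣ n - 1)
    (hvw : v ≡ 1 [MOD w]) (hlt : q < w) (hv : 2 ≤ v) (hle : n - 1 ≤ q * (v - 1)) : n = v := by
  obtain ⟨m, hm⟩ := hvd
  have hnq : n ≡ 1 [MOD w] := ((Nat.modEq_iff_dvd' hn.pos).2 hnm).symm
  have hmw : m ≡ 1 [MOD w] := by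
    have := (Nat.ModEq.mul_right m hvw)
    rw [one_mul, ← hm] at this
    exact this.symm.trans hnq
  have hm0 : 1 ≤ m := Nat.pos_of_ne_zero fun h => by
    rw [h, mul_zero] at hm
    subst hm
    simp at hn
  obtain ⟨t, ht⟩ := (Nat.modEq_iff_dvd' hm0).1 hmw.symm
  rcases t with _ | t
  · have : m = 1 := by omega
    rw [hm, this, mul_one]
  · exfalso
    have h1 : w ≤ m - 1 := by rw [ht]; exact Nat.le_mul_of_pos_right _ (Nat.succ_pos _)
    have h2 : (q + 1) * v ≤ v * m := by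
      rw [mul_comm v m]
      exact Nat.mul_le_mul_right _ (by omega)
    have h3 : (q + 1) * v = q * v + v := by ring
    have h4 : q * (v - 1) ≤ q * v := Nat.mul_le_mul_left _ (Nat.sub_le _ _)
    omega

end Cfsg.Agent.OddFT
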