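import Cfsg.Agent.Lib.OddChar.FT.NbrBeta
import Cfsg.Agent.Lib.OddLocal.KappaCover

/-!
Two nonconjugate neighbours: a parity argument bounds one of them.
-/

set_option autoImplicit false
set_option linter.unusedSectionVars false
set_option linter.unusedVariables false
set_option linter.style.haveILetI false

open Cfsg Cfsg.Agent.Char Cfsg.Agent.OddChar Cfsg.Agent.OddLocal
open scoped ComplexConjugate Classical

namespace Cfsg.Agent.OddFT

universe u

variable {G : Type u} [Group G] [Fintype G] {S K U T L H E S' K' U' T' M H' E' : Subgroup G}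

theorem Nbr.tilde_disjoint (hN : Nbr S K U T L H E) (hM : Nbr S' K' U' T' M H' E')
    (hne : ∀ g : G, M ≠ Fusion.cj L g) {g : G} (h1 : g ∈ tildeL L) : g ∉ tildeL M := by
  intro h2
  have key : ∀ {S K U T L H E : Subgroup G} (h : Nbr S K U T L H E), g ∈ tildeL L →
      g ∈ tildeOf L ((sigmaCore L : Set G) \ {1}) := by
    rintro S K U T L H E h ⟨a, ha, u, hu, x, e⟩
    rw [h.typeA_eq, h.H_eq] at ha
    exact ⟨a, ha, u, hu, x⁻¹, by rw [← e]; group⟩
  exact Set.eq_empty_iff_forall_notMem.1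
    (Kappa.tilde_disjoint' hN.minSimple hN.coatom hM.coatom hne) g ⟨key hN h1, key hM h2⟩

theorem signed_inner_one {f : G → ℂ} (hf : IsSigned G f)
    (hne : ¬ (f = (fun _ => 1) ∨ f = -(fun _ => 1))) : classInner f (fun _ => 1) = 0 := by
  rcases hf.inner_cases (Or.inl isIrrCharacter_one : IsSigned G fun _ => (1 : ℂ)) with h | h | h
  · exact h
  · exact absurd (Or.inl h) hne
  · exact absurd (Or.inr h) hne

theorem classInner_eq_zero_of_disjoint {f h : G → ℂ} (hfh : ∀ g, f g ≠ 0 → h g = 0) :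
    classInner f h = 0 := by
  rw [classInner, Finset.sum_eq_zero, mul_zero]
  intro g _
  by_cases hg : f g = 0
  · simp [hg]
  · simp [hfh g hg]

/-- A member of the family of `M` with odd product with `τ β` of `L` bounds `M`. -/
theorem Nbr.bound_of_odd [Fintype L] [Fintype M] (hN : Nbr S K U T L H E) (hM : Nbr S' K' U' T' M H' E')
    (hne : ∀ g : G, M ≠ Fusion.cj L g) {ζ : L → ℂ} (hζ : ζ ∈ famF L H) (hζ1 : ζ 1 = (Nat.card E : ℂ))
    {ζ' : M → ℂ} (hζ' : ζ' ∈ famF M H') (hζ1' : ζ' 1 = (Nat.card E' : ℂ)) {ψ : (M → ℂ) → G → ℂ}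
    (hψ : Fam (tauL M) (famF M H') ψ) {z : ℤ}
    (hz : classInner (tauL L (betaL L H ζ)) (ψ ζ') = z) (hz0 : z ≠ 0) :
    Nat.card H' - 1 ≤ Nat.card E' * (Nat.card E + 1) := by
  set T0 := tauL L (betaL L H ζ) with hT0
  have hgen : IsGeneralizedCharacter G T0 := hN.tau_beta_gen hζ hζ1
  choose co hco using fun x : {x // x ∈ famFin M H'} =>
    gen_inner_int hgen (hψ.signed x (hM.mem_famFin.1 x.2)).gen
  have hE' := hM.E_card_ne
  have hval : ∀ x : {x // x ∈ famFin M H'}, (co x : ℂ) = (z : ℂ) * ((x : M → ℂ) 1 / (Nat.card E' : ℂ)) := by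
    intro x
    have hx := hM.mem_famFin.1 x.2
    have h0 : classInner T0 (tauL M (ζ' 1 • (x : M → ℂ) - (x : M → ℂ) 1 • ζ')) = 0 :=
      classInner_eq_zero_of_disjoint fun g hg => dadeIsometry_eq_zero hM.dade
        (hN.tilde_disjoint hM hne (by_contra fun h => hg (hN.tau_beta_zero hζ hζ1 h)))
    rw [hψ.diff x hx ζ' hζ', classInner_sub_right, classInner_smul_right, classInner_smul_right, hco, hz, hζ1',
      Complex.conj_natCast, conj_char_one (irr_isCharacter (hM.fam_irr hx))] at h0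
    field_simp
    linear_combination h0
  have hb := bessel (Finset.univ : Finset {x // x ∈ famFin M H'}) (fun x => ψ x)
    (fun x _ => hψ.signed x (hM.mem_famFin.1 x.2))
    (fun x _ y _ hxy => hψ.orth x (hM.mem_famFin.1 x.2) y (hM.mem_famFin.1 y.2) fun e => hxy (Subtype.ext e))
    hgen co fun x _ => hco x
  rw [hN.tau_beta_norm hζ hζ1] at hb
  have hsum : ((∑ x : {x // x ∈ famFin M H'}, (co x : ℝ) ^ 2 : ℝ) : ℂ) =
      (((z : ℝ) ^ 2 * (((Nat.card H' : ℝ) - 1) / Nat.card E') : ℝ) : ℂ) := by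
    push_cast
    rw [← hM.sum_fam_sq hζ' hζ1', Finset.mul_sum, ← Finset.sum_coe_sort (famFin M H')]
    exact Finset.sum_congr rfl fun x _ => by rw [hval]; ring
  rw [Complex.ofReal_inj.1 hsum] at hb
  simp only [Complex.add_re, Complex.natCast_re, Complex.one_re] at hb
  have hz2 : (1 : ℝ) ≤ (z : ℝ) ^ 2 := by
    have h2 : (1 : ℤ) ≤ z ^ 2 := by nlinarith [mul_self_pos.2 hz0]
    exact_mod_cast h2
  have hH1 : 1 ≤ Nat.card H' := Nat.card_pos
  have hpos : (0 : ℝ) ≤ ((Nat.card H' : ℝ) - 1) / Nat.card E' :=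
    div_nonneg (sub_nonneg.2 (by exact_mod_cast hH1)) (Nat.cast_nonneg _)
  have hle : ((Nat.card H' : ℝ) - 1) / Nat.card E' ≤ (Nat.card E : ℝ) + 1 :=
    le_trans (le_mul_of_one_le_left hpos hz2) hb
  rw [div_le_iff₀ (Nat.cast_pos.2 Nat.card_pos)] at hle
  have hle' : ((Nat.card H' - 1 : ℕ) : ℝ) ≤ ((Nat.card E' * (Nat.card E + 1) : ℕ) : ℝ) := by
    push_cast [hH1]
    linarith
  exact_mod_cast hle'

/-- One of two nonconjugate neighbours is small. -/
theorem two_nbr_bound (hN : Nbr S K U T L H E) (hM : Nbr S' K' U' T' M H' E')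
    (hne : ∀ g : G, M ≠ Fusion.cj L g) :
    Nat.card H' - 1 ≤ Nat.card E' * (Nat.card E + 1) ∨ Nat.card H - 1 ≤ Nat.card E * (Nat.card E' + 1) := by
  haveI : Fintype L := Fintype.ofFinite _
  haveI : Fintype M := Fintype.ofFinite _
  have hne' : ∀ g : G, L ≠ Fusion.cj M g := fun g e => hne g⁻¹ (by rw [e, Fusion.cj_cj_inv])
  obtain ⟨ζ, hζ, hζ1⟩ := hN.exists_zeta
  obtain ⟨ζ', hζ', hζ1'⟩ := hM.exists_zeta
  obtain ⟨φ, hφ⟩ := hN.exists_fam_basic
  obtain ⟨ψ, hψ⟩ := hM.exists_fam_basic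
  set T0 := tauL L (betaL L H ζ) with hT0
  set T1 := tauL M (betaL M H' ζ') with hT1
  have g0 : IsGeneralizedCharacter G T0 := hN.tau_beta_gen hζ hζ1
  have g1 : IsGeneralizedCharacter G T1 := hM.tau_beta_gen hζ' hζ1'
  obtain ⟨a, ha⟩ := gen_inner_int g0 (hψ.signed ζ' hζ').gen
  obtain ⟨b, hb⟩ := gen_inner_int g1 (hφ.signed ζ hζ).gen
  have h01 : classInner T0 T1 = 0 := classInner_eq_zero_of_disjoint fun g hg =>
    hM.tau_beta_zero hζ' hζ1' (hN.tilde_disjoint hM hne (by_contra fun h => hg (hN.tau_beta_zero hζ hζ1 h)))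
  -- the two families are orthogonal
  have horth : classInner (φ ζ) (ψ ζ') = 0 := by
    obtain ⟨hζc, hne1⟩ := hN.fam_conj hζ
    obtain ⟨hζc', hne2⟩ := hM.fam_conj hζ'
    have e : classInner (φ ζ - φ (conjFun ζ)) (ψ ζ' - ψ (conjFun ζ')) = 0 := by
      have d1 := hφ.diff ζ hζ _ hζc
      rw [hN.conjFun_one hζ, ← smul_sub, ← smul_sub, tauL, dade_smul] at d1
      have d2 := hψ.diff ζ' hζ' _ hζc'
      rw [hM.conjFun_one hζ', ← smul_sub, ← smul_sub, tauL, dade_smul] at d2
      rw [← smul_right_injective _ (hN.fam_one hζ).2 d1, ← smul_right_injective _ (hM.fam_one hζ').2 d2]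
      exact classInner_eq_zero_of_disjoint fun g hg => dadeIsometry_eq_zero hM.dade
        (hN.tilde_disjoint hM hne (by_contra fun h => hg (dadeIsometry_eq_zero hN.dade h)))
    have hc1 := hN.fam_cj hφ hζ
    have hc2 := hM.fam_cj hψ hζ'
    rw [← hc1, ← hc2, classInner_sub_left, classInner_sub_right, classInner_sub_right, classInner_cj] at e
    rcases (hφ.signed ζ hζ).inner_cases (hψ.signed ζ' hζ') with h | h | h
    · exact h
    · exfalso
      have o1 : classInner (cj (ψ ζ')) (ψ ζ') = 0 := by rw [hc2]; exact hψ.orth _ hζc' _ hζ' hne2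
      have o2 : classInner (ψ ζ') (cj (ψ ζ')) = 0 := by rw [hc2]; exact hψ.orth _ hζ' _ hζc' hne2.symm
      rw [h, o1, o2, (hψ.signed ζ' hζ').self, map_one] at e
      norm_num at e
    · exfalso
      have o1 : classInner (cj (ψ ζ')) (ψ ζ') = 0 := by rw [hc2]; exact hψ.orth _ hζc' _ hζ' hne2
      have o2 : classInner (ψ ζ') (cj (ψ ζ')) = 0 := by rw [hc2]; exact hψ.orth _ hζ' _ hζc' hne2.symm
      rw [h, cj_neg, classInner_neg_left, classInner_neg_left, classInner_neg_left, o1, o2,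
        (hψ.signed ζ' hζ').self, map_neg, map_one] at e
      norm_num at e
  have r0 := hN.tau_beta_real hζ hζ1 hφ
  have r1 := hM.tau_beta_real hζ' hζ1' hψ
  have i0 : classInner (T0 + φ ζ) (fun _ => 1) = ((1 : ℤ) : ℂ) := by
    rw [classInner_add_left, hN.tau_beta_one hζ hζ1, signed_inner_one (hφ.signed ζ hζ) ?_]
    · simp
    · intro e
      have h := hN.fam_cj hφ hζ
      rcases e with e | e
      · have h2 := hφ.orth ζ hζ _ (hN.fam_conj hζ).1 (hN.fam_conj hζ).2.symm
        rw [← h, e, show cj (fun _ : G => (1 : ℂ)) = fun _ => 1 from funext fun g => by simp,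
          irr_self isIrrCharacter_one] at h2
        exact one_ne_zero h2
      · have h2 := hφ.orth ζ hζ _ (hN.fam_conj hζ).1 (hN.fam_conj hζ).2.symm
        rw [← h, e, cj_neg, classInner_neg_left, classInner_neg_right,
          show cj (fun _ : G => (1 : ℂ)) = fun _ => 1 from funext fun g => by simp,
          irr_self isIrrCharacter_one, neg_neg] at h2
        exact one_ne_zero h2
  have i1 : classInner (T1 + ψ ζ') (fun _ => 1) = ((1 : ℤ) : ℂ) := by
    rw [classInner_add_left, hM.tau_beta_one hζ' hζ1', signed_inner_one (hψ.signed ζ' hζ') ?_]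
    · simp
    · intro e
      have h := hM.fam_cj hψ hζ'
      rcases e with e | e
      · have h2 := hψ.orth ζ' hζ' _ (hM.fam_conj hζ').1 (hM.fam_conj hζ').2.symm
        rw [← h, e, show cj (fun _ : G => (1 : ℂ)) = fun _ => 1 from funext fun g => by simp,
          irr_self isIrrCharacter_one] at h2
        exact one_ne_zero h2
      · have h2 := hψ.orth ζ' hζ' _ (hM.fam_conj hζ').1 (hM.fam_conj hζ').2.symm
        rw [← h, e, cj_neg, classInner_neg_left, classInner_neg_right,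
          show cj (fun _ : G => (1 : ℂ)) = fun _ => 1 from funext fun g => by simp,
          irr_self isIrrCharacter_one, neg_neg] at h2
        exact one_ne_zero h2
  have hi : classInner (T0 + φ ζ) (T1 + ψ ζ') = ((a + b : ℤ) : ℂ) := by
    rw [classInner_add_left, classInner_add_right, classInner_add_right, h01, horth, ha,
      ← classInner_symm T1 (φ ζ), hb, map_intCast]
    push_cast
    ring
  have hp := parity hN.minSimple.1 (gen_add g0 (hφ.signed ζ hζ).gen) (gen_add g1 (hψ.signed ζ' hζ').gen) r0 r1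
    i0 i1 hi
  rw [one_mul] at hp
  obtain ⟨k, hk⟩ := hp
  rcases eq_or_ne a 0 with rfl | ha0
  · right
    exact hM.bound_of_odd hN hne' hζ' hζ1' hζ hζ1 hφ hb (by omega)
  · left
    exact hN.bound_of_odd hM hne hζ hζ1 hζ' hζ1' hψ ha ha0

end Cfsg.Agent.OddFT
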