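import Cfsg.Agent.Lib.OddChar.FT.EndPair
import Cfsg.Agent.Lib.OddChar.FT.EndTwo
import Cfsg.Agent.Lib.OddChar.FT.EndNum
import Cfsg.Agent.Lib.OddChar.FT.EndGroup
import Cfsg.Agent.Lib.OddChar.FT.EndKillBig

/-!
The final configuration does not exist.
-/

set_option autoImplicit false
set_option linter.unusedSectionVars false
set_option linter.unusedVariables false
set_option linter.style.haveILetI false

open Cfsg Cfsg.Agent.Char Cfsg.Agent.OddChar Cfsg.Agent.OddLocal
open scoped ComplexConjugate Classical

namespace Cfsg.Agent.OddFT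

universe u

variable {G : Type u} [Group G] [Fintype G] {S T K Z P Q U V : Subgroup G}

/-- The final configuration with `|K| < |Z|` does not exist. -/
theorem end_false (d : Kappa.Duo S K U T) (D : EndData S T K Z P Q U V) (W : Grid K Z)
    (hlt : Nat.card K < Nat.card Z)
    (hT : Kappa.Duo T Z V S ∨ Nat.card K * (Nat.card V - 1) ≤ Nat.card Z * (Nat.card U - 1)) : False := by
  obtain ⟨L, H, E, hN⟩ := exists_nbr d
  set q := Nat.card K with hq
  set w := Nat.card Z with hw
  set u := Nat.card U with hu
  set v := Nat.card V with hv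
  set h := Nat.card H with hh
  have hsS := D.sS.side
  have hsT := D.sT.side
  have hqodd : Odd q := hsS.odd_card K
  have hwodd : Odd w := hsS.odd_card Z
  have hq3 : 3 ≤ q := hsS.three_le_K
  have hw5 : 5 ≤ w := by
    obtain ⟨a, ha⟩ := hqodd
    obtain ⟨b, hb⟩ := hwodd
    omega
  have hcop : q.Coprime w := (Nat.coprime_primes hsS.prime D.sS.primeZ).2 hlt.ne
  have hu2 : 2 * q < u := hsS.two_mul_K_lt_U
  have hv2 : 2 * w < v := hsT.two_mul_K_lt_U
  -- the case `E = K` of `L`
  have hEK : Nat.card E ≠ q := fun he => by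
    have := (nbr_small D W hN he).1
    omega
  obtain ⟨hE, -⟩ := (hN.end_index D).resolve_left hEK
  have huH : u ∣ h := Subgroup.card_dvd_of_le hN.U_le
  have hhodd : Odd h := hsS.odd_card H
  have hdvd : q * w ∣ h - 1 := hE ▸ hN.card_E_dvd
  -- the neighbour of `T`
  have hM : Kappa.Duo T Z V S → ∃ M H' E', Nbr T Z V S M H' E' ∧
      ((Nat.card E' = w ∧ (Nat.card H' - 1) * q ≤ w * (u - 1)) ∨
        Nat.card E' = w * q) := fun hd => by
    obtain ⟨M, H', E', hM⟩ := exists_nbr hd
    refine ⟨M, H', E', hM, ?_⟩
    rcases hM.end_index D.swap with he | ⟨he, -⟩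
    · exact Or.inl ⟨he, (nbr_small D.swap W.swap hM he).2⟩
    · exact Or.inr he
  rcases D.sS.full_or_proper with ⟨-, hfull, -⟩ | hprop
  · -- `U` is complete
    have hulow := full_lower (by omega) (by omega) hfull
    have hugt : 2 * q * w < u := full_gt hqodd hwodd hq3 hlt hfull
    by_cases heq : h = u
    · exact D.field_false_of_eq hN hfull hE heq
    have hbig : (2 * q * w + 1) * u ≤ h :=
      mult_big hcop hqodd hwodd hhodd huH heq hdvd hsS.card_U_modEq (D.sS.coprime_full hfull)
    have hb4 : 4 * q * w * min q w ≤ h := by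
      rw [min_eq_left hlt.le]
      calc 4 * q * w * q = 2 * q * w * (2 * q) := by ring
        _ ≤ (2 * q * w + 1) * u := Nat.mul_le_mul (by omega) hu2.le
        _ ≤ h := hbig
    have hnleft : ¬ h - 1 ≤ w * (u - 1) := by
      intro hle
      have h1 : (w + 1) * u ≤ (2 * q * w + 1) * u := Nat.mul_le_mul_right _ (by nlinarith)
      have h2 : (w + 1) * u = w * u + u := by ring
      have h3 : w * (u - 1) ≤ w * u := Nat.mul_le_mul_left _ (Nat.sub_le _ _)
      omega
    have hright : h - 1 ≤ q * (v - 1) := (nbr_big D W hN hE hb4).resolve_left hnleft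
    have hv' : 2 * w * u < v := by
      by_contra hcon
      push Not at hcon
      have h1 : q * v ≤ q * (2 * w * u) := Nat.mul_le_mul_left _ hcon
      have h2 : (2 * q * w + 1) * u = q * (2 * w * u) + u := by ring
      have h3 : q * (v - 1) + q = q * v := by
        rw [← Nat.mul_succ, Nat.succ_eq_add_one, Nat.sub_add_cancel (by omega)]
      omega
    rcases hT with hd | hres
    · obtain ⟨M, H', E', hM', hcase⟩ := hM hd
      have hvH : v ≤ Nat.card H' := Subgroup.card_le_of_le hM'.U_le
      have hvd : v ∣ Nat.card H' := Subgroup.card_dvd_of_le hM'.U_le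
      rcases hcase with ⟨-, hle⟩ | he'
      · have h1 : (v - 1) * q ≤ w * (u - 1) := le_trans (Nat.mul_le_mul_right _ (by omega)) hle
        have h2 : (v - 1) * 1 ≤ (v - 1) * q := Nat.mul_le_mul_left _ (by omega)
        have h3 : w * (u - 1) ≤ w * u := Nat.mul_le_mul_left _ (Nat.sub_le _ _)
        have h4 : 2 * w * u = 2 * (w * u) := by ring
        have h5 : 1 ≤ w * u := by nlinarith
        omega
      · have hb4' : 4 * w * q * min w q ≤ Nat.card H' := by
          rw [min_eq_right hlt.le]
          calc 4 * w * q * q ≤ 2 * w * (2 * q * w) := by nlinarith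
            _ ≤ 2 * w * u := Nat.mul_le_mul_left _ hugt.le
            _ ≤ Nat.card H' := by omega
        have hk : Nat.card H' = v := by
          refine mult_one (hsS.odd_card H') hwodd hvd ((dvd_mul_right w q).trans (he' ▸ hM'.card_E_dvd))
            hsT.card_U_modEq hlt (by omega) ?_
          rcases nbr_big D.swap W.swap hM' he' hb4' with h1 | h1
          · exact h1
          · have h3 : w * (u - 1) ≤ w * u := Nat.mul_le_mul_left _ (Nat.sub_le _ _)
            have h4 : 2 * w * u = 2 * (w * u) := by ring
            have h5 : 2 ≤ w * u := by nlinarith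
            change Nat.card H' - 1 ≤ w * (u - 1) at h1
            omega
        by_cases hc : ∃ g : G, Fusion.cj L g = M
        · obtain ⟨g, hg⟩ := hc
          exact D.neighbour_conj_false hlt hN hM' hfull hE hk g hg
        push Not at hc
        have hsq := sq_lt_of_full hqodd hwodd hq3 hlt hulow hv'
        have hwq : w * q = q * w := mul_comm _ _
        rcases two_nbr_bound hN hM' (fun g e => hc g e.symm) with h1 | h1
        · rw [hk, he', hE, hwq] at h1
          have h2 : v ≤ q * w * (q * w + 1) + 1 := Nat.sub_le_iff_le_add.1 h1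
          exact absurd hsq (not_lt.2 h2)
        · rw [he', hE, hwq] at h1
          have h2 : h ≤ q * w * (q * w + 1) + 1 := Nat.sub_le_iff_le_add.1 h1
          have h3 : 2 * q * w + 1 ≤ u := hugt
          nlinarith [Nat.mul_le_mul_left (2 * q * w + 1) h3]
    · exact hnleft (hright.trans hres)
  · -- `U` is not complete
    rcases D.sT.full_or_proper with ⟨-, hfullV, -⟩ | hpropV
    swap
    · exact pair_proper_false D W hlt hprop hpropV
    have hvlow := full_lower (q := w) (w := q) (by omega) (by omega) hfullV
    have hsmall : w * (u - 1) < q * (v - 1) := small_lt_full hqodd hwodd hq3 hlt hprop hvlow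
    rcases hT with hd | hres
    swap
    · omega
    obtain ⟨M, H', E', hM', hcase⟩ := hM hd
    have hvH : v ≤ Nat.card H' := Subgroup.card_le_of_le hM'.U_le
    rcases hcase with ⟨-, hle⟩ | he'
    · have h1 : q * (v - 1) ≤ (Nat.card H' - 1) * q := by
        rw [mul_comm]
        exact Nat.mul_le_mul_right _ (by omega)
      omega
    · by_cases heq : Nat.card H' = v
      · exact D.swap.field_false_of_eq hM' hfullV he' heq
      have hbig : (2 * w * q + 1) * v ≤ Nat.card H' :=
        mult_big hcop.symm hwodd hqodd (hsS.odd_card H') (Subgroup.card_dvd_of_le hM'.U_le) heq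
          (he' ▸ hM'.card_E_dvd) hsT.card_U_modEq (D.sT.coprime_full hfullV)
      have hb4' : 4 * w * q * min w q ≤ Nat.card H' := by
        rw [min_eq_right hlt.le]
        calc 4 * w * q * q ≤ 2 * w * q * (2 * w) := by nlinarith
          _ ≤ (2 * w * q + 1) * v := Nat.mul_le_mul (by omega) hv2.le
          _ ≤ Nat.card H' := hbig
      have h4 : (q + 1) * v ≤ (2 * w * q + 1) * v := Nat.mul_le_mul_right _ (by nlinarith)
      have h5 : (q + 1) * v = q * v + v := by ring
      have h6 : q * (v - 1) ≤ q * v := Nat.mul_le_mul_left _ (Nat.sub_le _ _)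
      rcases nbr_big D.swap W.swap hM' he' hb4' with h1 | h1
      · change Nat.card H' - 1 ≤ q * (v - 1) at h1
        omega
      · change Nat.card H' - 1 ≤ w * (u - 1) at h1
        omega

end Cfsg.Agent.OddFT
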