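import Cfsg.Agent.Lib.OddChar.FT.EndNbr
import Cfsg.Agent.Lib.OddChar.FT.SideFacts
import Cfsg.Agent.Lib.Char.Linear

/-!
The final configuration with `|E| = |K|`: the neighbour is bounded by the other side.
-/

set_option autoImplicit false
set_option linter.unusedSectionVars false
set_option linter.unusedVariables false
set_option linter.style.haveILetI false

open Cfsg Cfsg.Agent.Char Cfsg.Agent.OddChar Cfsg.Agent.OddLocal
open scoped ComplexConjugate Classical

namespace Cfsg.Agent.OddFT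

universe u

variable {G : Type u} [Group G] [Fintype G] {S T K Z P Q U V L H E : Subgroup G}

theorem EndData.card_K_ne (D : EndData S T K Z P Q U V) : Nat.card K ≠ Nat.card Z := fun e => by
  have h1 := D.sS.side.coKP
  rw [D.sS.side.card_P, e] at h1
  exact D.sS.primeZ.ne_one (Nat.eq_one_of_dvd_coprimes h1 dvd_rfl (dvd_pow_self _ Nat.card_pos.ne'))

namespace Nbr

variable (hN : Nbr S K U T L H E) [Fintype L]
include hN

/-- Over an abelian `H` every member of the family has degree `|E|`. -/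
theorem fam_degree (hc : ∀ a ∈ H, ∀ b ∈ H, a * b = b * a) {x : L → ℂ} (hx : x ∈ famF L H) :
    x 1 = (Nat.card E : ℂ) := by
  obtain ⟨θ, hθ, -, -, rfl⟩ := hx
  have h1 : θ 1 = 1 := forall_linear_iff_comm.1 (fun a b => Subtype.ext (Subtype.ext
    (hc _ (Subgroup.mem_subgroupOf.1 a.2) _ (Subgroup.mem_subgroupOf.1 b.2)))) ⟨θ, hθ⟩
  rw [indFun_one, h1, mul_one, hN.index_eq]

/-- The number of members. -/
theorem fam_card (hdeg : ∀ x ∈ famF L H, x 1 = (Nat.card E : ℂ)) {n : ℕ}
    (hn : ((Nat.card H : ℝ) - 1) / Nat.card E = n) : (famFin L H).card = n := by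
  obtain ⟨ζ, hζ, hζ1⟩ := hN.exists_zeta
  have h := hN.sum_fam_sq hζ hζ1
  rw [Finset.sum_congr rfl (g := fun _ => (1 : ℂ)) fun x hx => by
    rw [hdeg x (hN.mem_famFin.1 hx), div_self hN.E_card_ne, one_pow]] at h
  have h' : ((famFin L H).card : ℂ) = ((n : ℝ) : ℂ) := by
    rw [← hn]
    push_cast
    simpa using h
  exact_mod_cast h'

/-- With all degrees equal the members sum to `-1` on `H` away from the identity. -/
theorem fam_sum (hdeg : ∀ x ∈ famF L H, x 1 = (Nat.card E : ℂ)) {a : L} (ha : (a : G) ∈ typeA L) :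
    ∑ x ∈ famFin L H, x a = -1 := by
  haveI : Fintype (H.subgroupOf L) := Fintype.ofFinite _
  obtain ⟨haH, ha1⟩ := hN.mem_typeA.1 ha
  set reg : H.subgroupOf L → ℂ := fun y => if y = 1 then (Nat.card (H.subgroupOf L) : ℂ) else 0 with hreg
  set g : H.subgroupOf L → ℂ := (fun y : H.subgroupOf L => ∑ x ∈ famFin L H, x (y : L)) +
    (fun _ : H.subgroupOf L => (1 : ℂ)) - reg with hg
  have hzero : g = 0 := by
    refine classFun_eq_zero (fun y w => ?_) fun θ => ?_
    · have e1 : ∀ x ∈ famFin L H, x (((w * y * w⁻¹ : H.subgroupOf L) : L)) = x (y : L) := fun x hx =>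
        hN.fam_class (hN.mem_famFin.1 hx) (y : L) (w : L)
      have e2 : reg (w * y * w⁻¹) = reg y := by simp [hreg, conj_eq_one_iff]
      simp only [hg, Pi.sub_apply, Pi.add_apply, e2, Finset.sum_congr rfl e1]
    · have hr : classInner reg (θ : H.subgroupOf L → ℂ) = (deg (θ : H.subgroupOf L → ℂ) : ℂ) := by
        rw [classInner, Finset.sum_eq_single (1 : H.subgroupOf L) (fun x _ hx => by simp [hreg, hx])
          (fun h => absurd (Finset.mem_univ _) h)]
        simp only [hreg, if_pos]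
        rw [char_one_eq_deg (irr_isCharacter θ.2), Complex.conj_natCast]
        field_simp
      have hf : (fun y : H.subgroupOf L => ∑ x ∈ famFin L H, x (y : L)) =
          ∑ x ∈ famFin L H, fun y : H.subgroupOf L => x (y : L) := funext fun y => by rw [Finset.sum_apply]
      have hfr : ∀ x ∈ famFin L H, classInner (θ : H.subgroupOf L → ℂ) (fun y => x (y : L)) =
          classInner (indFun (H.subgroupOf L) (θ : H.subgroupOf L → ℂ)) x := fun x hx =>
        (Char.frobenius _ _ (hN.fam_class (hN.mem_famFin.1 hx))).symm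
      have hθg : classInner (θ : H.subgroupOf L → ℂ) g = 0 := by
        rw [hg, classInner_sub_right, classInner_add_right, hf, classInner_sum_right, Finset.sum_congr rfl hfr,
          ← classInner_symm reg, hr, Complex.conj_natCast]
        by_cases hθ : (θ : H.subgroupOf L → ℂ) = fun _ => 1
        · rw [hθ, irr_self isIrrCharacter_one, Finset.sum_eq_zero fun x hx => by
            rw [← classInner_symm x, hN.inner_fam_indOne (hN.mem_famFin.1 hx), map_zero],
            show deg (fun _ : H.subgroupOf L => (1 : ℂ)) = 1 by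
              have := char_one_eq_deg (irr_isCharacter (isIrrCharacter_one (G := H.subgroupOf L)))
              exact_mod_cast this.symm]
          simp
        · have hmem : indFun (H.subgroupOf L) (θ : H.subgroupOf L → ℂ) ∈ famF L H :=
            ⟨θ, θ.2, hθ, fun a ha => by rw [show a = 1 from Subtype.ext (Subgroup.mem_bot.1 ha)], rfl⟩
          have h1 : (θ : H.subgroupOf L → ℂ) 1 = 1 := by
            have := hdeg _ hmem
            rw [indFun_one, hN.index_eq] at this
            exact mul_left_cancel₀ hN.E_card_ne (this.trans (mul_one _).symm)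
          have hd : (deg (θ : H.subgroupOf L → ℂ) : ℂ) = 1 := by
            rw [← char_one_eq_deg (irr_isCharacter θ.2), h1]
          rw [Finset.sum_congr rfl fun x hx => hN.fam_inner hmem (hN.mem_famFin.1 hx), Finset.sum_ite_eq,
            if_pos (hN.mem_famFin.2 hmem), irr_orth θ.2 isIrrCharacter_one, if_neg hθ, hd]
          ring
      rw [← classInner_symm (θ : H.subgroupOf L → ℂ) g, hθg, map_zero]
  have e := congrFun hzero ⟨a, Subgroup.mem_subgroupOf.2 haH⟩
  have hne : (⟨a, Subgroup.mem_subgroupOf.2 haH⟩ : H.subgroupOf L) ≠ 1 := fun e' =>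
    ha1 (congrArg (fun z : H.subgroupOf L => ((z : L) : G)) e')
  simp only [hg, hreg, Pi.sub_apply, Pi.add_apply, if_neg hne, sub_zero, Pi.zero_apply] at e
  linear_combination e

end Nbr

theorem small_numeric {q w u v P Q : ℝ} (hw : 3 ≤ w) (hcase : 5 ≤ q ∨ (q = 3 ∧ 5 ≤ w ∧ 243 ≤ Q))
    (hu : (w - 1) * u ≤ P) (hv : (q - 1) * v ≤ Q) (hP : 0 < P) (hQ : 0 < Q) (hu0 : 0 ≤ u)
    (hv2 : 2 * w + 1 ≤ v) (h : q * (1 - v / Q - 1 / v) ≤ w * u / P) : False := by
  have hv0 : 0 < v := by linarith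
  have h1 : w * u / P ≤ w / (w - 1) := by
    rw [div_le_div_iff₀ hP (by linarith), mul_assoc, mul_comm u]
    exact mul_le_mul_of_nonneg_left hu (by linarith)
  rcases hcase with h5 | ⟨rfl, h5, h243⟩
  · have h2 : w / (w - 1) ≤ 3 / 2 := by
      rw [div_le_div_iff₀ (by linarith) (by norm_num)]
      linarith
    have h3 : v / Q ≤ 1 / 4 := by
      rw [div_le_iff₀ hQ]
      have := mul_le_mul_of_nonneg_right (show 4 ≤ q - 1 by linarith) hv0.le
      linarith
    have h4 : 1 / v ≤ 1 / 7 := one_div_le_one_div_of_le (by norm_num) (by linarith)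
    have h6 : 5 * (17 / 28) ≤ q * (1 - v / Q - 1 / v) :=
      mul_le_mul h5 (by linarith) (by norm_num) (by linarith)
    linarith
  · have h2 : w / (w - 1) ≤ 5 / 4 := by
      rw [div_le_div_iff₀ (by linarith) (by norm_num)]
      linarith
    rcases le_or_gt v 27 with hv27 | hv27
    · have h3 : v / Q ≤ 1 / 9 := by
        rw [div_le_iff₀ hQ]
        linarith
      have h4 : 1 / v ≤ 1 / 11 := one_div_le_one_div_of_le (by norm_num) (by linarith)
      linarith
    · have h3 : v / Q ≤ 1 / 2 := by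
        rw [div_le_iff₀ hQ]
        linarith
      have h4 : 1 / v ≤ 1 / 27 := one_div_le_one_div_of_le (by norm_num) hv27.le
      linarith

variable [Fintype L]

/-- The counting when `Γ` is the sum of the family and `τ β` has a row of ones. -/
theorem kill_small (D : EndData S T K Z P Q U V) (W : Grid K Z) (hN : Nbr S K U T L H E)
    (he : Nat.card E = Nat.card K) (hUH : Nat.card H = Nat.card U) {ζ : L → ℂ} (hζ : ζ ∈ famF L H)
    (hζ1 : ζ 1 = (Nat.card E : ℂ)) {φ : (L → ℂ) → G → ℂ} (hφ : Fam (tauL L) (famF L H) φ)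
    (hdeg : ∀ x ∈ famF L H, x 1 = (Nat.card E : ℂ))
    (hΓ : ∀ j, j ≠ 1 → D.sS.layer.gamma W j = ∑ x ∈ famFin L H, φ x)
    (hβ : ∀ (g : G) (A : ℤ), (∀ i : ↥K →* ℂˣ, i ≠ 1 → W.eta i 1 g = A) →
      tauL L (betaL L H ζ) g = 1 + ((Nat.card K : ℂ) - 1) * A - φ ζ g) : False := by
  have hs := D.sS.side
  have hq3 := hs.three_le_K
  have hw3 := hs.three_le_Z
  obtain ⟨n, hev, hn2, -, hn⟩ := hN.exists_quot
  have hcard := hN.fam_card hdeg hn
  obtain ⟨j, hj⟩ := D.sS.layer.exists_layerJ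
  have hZ : Z ≤ sigmaCore S := hs.Z_le.trans hs.P_le
  have hXh : ∀ g ∈ tildeL L, g ∉ hatG K Z := fun g hg =>
    hN.tilde_not_hat hZ (fun a ha b hb => W.comm ha hb) hg
  have hXP : ∀ g ∈ tildeL L, g ∉ regP P := fun g hg => hN.tilde_not_regP (Or.inl hs.P_le) hg
  have hXQ : ∀ g ∈ tildeL L, g ∉ regP Q := fun g hg => hN.tilde_not_regP (Or.inr D.sT.side.P_le) hg
  have hBval : ∀ g, g ∉ regP P → g ∉ hatG K Z → ∀ B : ℤ, (∀ l : ↥Z →* ℂˣ, l ≠ 1 → W.eta 1 l g = B) →
      (B : ℂ) = 1 + ∑ x ∈ famFin L H, φ x g := fun g hgP hgh B hB => by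
    rw [← hB j hj.1, D.sS.eta_eq W hj.1 hgP hgh, hΓ j hj.1, Finset.sum_apply]
  have hrest : ∀ g, g ∉ tildeL L → g ∉ hatG K Z → g ∉ regP P → g ∉ regP Q → 2 ≤ triAt W (0 : G → ℂ) g := by
    intro g hgX hgh hgP hgQ
    obtain ⟨A, B, hA, hB, -⟩ := D.exists_values W hgP hgQ hgh
    rw [triAt_const W _ (by omega) (by omega) hA hB]
    have h0 := hβ g A hA
    rw [hN.tau_beta_zero hζ hζ1 hgX] at h0
    have hφx : ∀ x ∈ famFin L H, φ x g = φ ζ g := fun x hx => by
      have h := hN.outside hφ hζ (hN.mem_famFin.1 hx) hgX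
      rw [hζ1, hdeg x (hN.mem_famFin.1 hx)] at h
      exact mul_left_cancel₀ hN.E_card_ne h
    have hBe := hBval g hgP hgh B hB
    rw [Finset.sum_congr rfl hφx, Finset.sum_const, hcard, nsmul_eq_mul] at hBe
    have hBi : B = 1 + (n : ℤ) * (1 + ((Nat.card K : ℤ) - 1) * A) := by
      have : (B : ℂ) = ((1 + (n : ℤ) * (1 + ((Nat.card K : ℤ) - 1) * A) : ℤ) : ℂ) := by
        push_cast
        linear_combination hBe + (n : ℂ) * h0
      exact_mod_cast this
    have hB0 : B ≠ 0 := by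
      intro e
      obtain ⟨k, hk⟩ := hev
      rw [e, hk] at hBi
      push_cast at hBi
      have h2 : (2 : ℤ) ∣ 1 := ⟨-((k : ℤ) * (1 + ((Nat.card K : ℤ) - 1) * A)), by linear_combination -hBi⟩
      norm_num at h2
    have hz : (2 : ℤ) ≤ A ^ 2 + B ^ 2 := by
      rcases eq_or_ne A 0 with hA0 | hA0
      · subst hA0
        have : (3 : ℤ) ≤ B := by
          rw [hBi]
          push_cast
          omega
        nlinarith
      · nlinarith [mul_self_pos.2 hA0, mul_self_pos.2 hB0]
    have hz' : (2 : ℝ) ≤ (A : ℝ) ^ 2 + (B : ℝ) ^ 2 := by exact_mod_cast hz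
    linarith [sq_nonneg ‖(0 : G → ℂ) g‖]
  have htilde : ∀ g ∈ tildeL L, (1 : ℝ) ≤ triAt W (0 : G → ℂ) g := by
    intro g hg
    have hgh := hXh g hg
    have hgP := hXP g hg
    have hgQ := hXQ g hg
    obtain ⟨a, ha, v, hv, x, e⟩ := hg
    obtain ⟨A, B, hA, hB, -⟩ := D.exists_values W hgP hgQ hgh
    rw [triAt_const W _ (by omega) (by omega) hA hB]
    set a' : L := ⟨a, hN.dade.subset ha⟩ with ha'
    have h0 := hβ g A hA
    rw [show tauL L (betaL L H ζ) g = betaL L H ζ a' from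
      dadeIsometry_apply hN.dade (hN.beta_class hζ hζ1) ha hv e, betaL, Pi.sub_apply, hN.indOne_apply,
      if_pos (hN.mem_typeA.1 ha).1] at h0
    have hφx : ∀ y ∈ famFin L H, φ y g = y a' + (φ ζ g - ζ a') := fun y hy => by
      have hy' := hN.mem_famFin.1 hy
      have h := congrFun (hφ.diff y hy' ζ hζ) g
      rw [show tauL L (ζ 1 • y - y 1 • ζ) g = (ζ 1 • y - y 1 • ζ) a' from
        dadeIsometry_apply hN.dade (hN.diff_class hy' hζ) ha hv e] at h
      simp only [Pi.sub_apply, Pi.smul_apply, smul_eq_mul, hζ1, hdeg y hy'] at h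
      refine mul_left_cancel₀ hN.E_card_ne ?_
      linear_combination -h
    have hBe := hBval g hgP hgh B hB
    rw [Finset.sum_congr rfl hφx, Finset.sum_add_distrib, hN.fam_sum hdeg (a := a') ha, Finset.sum_const, hcard,
      nsmul_eq_mul] at hBe
    have hBi : B = (n : ℤ) * (1 - (Nat.card K : ℤ) + ((Nat.card K : ℤ) - 1) * A) := by
      have : (B : ℂ) = (((n : ℤ) * (1 - (Nat.card K : ℤ) + ((Nat.card K : ℤ) - 1) * A) : ℤ) : ℂ) := by
        rw [he] at h0
        push_cast
        linear_combination hBe + (n : ℂ) * h0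
      exact_mod_cast this
    have hz : (1 : ℤ) ≤ A ^ 2 + B ^ 2 := by
      rcases eq_or_ne A 0 with hA0 | hA0
      · subst hA0
        have hB0 : B ≠ 0 := by
          rw [hBi, mul_zero, add_zero]
          exact mul_ne_zero (by omega) (by omega)
        nlinarith [mul_self_pos.2 hB0]
      · nlinarith [mul_self_pos.2 hA0, sq_nonneg B]
    have hz' : (1 : ℝ) ≤ (A : ℝ) ^ 2 + (B : ℝ) ^ 2 := by exact_mod_cast hz
    linarith [sq_nonneg ‖(0 : G → ℂ) g‖]
  have hmain := D.tri_count W hXh hXP hXQ 0 (le_tri W 0 htilde) hrest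
  rw [classInner_zero_left, Complex.zero_re] at hmain
  have hmX := hN.meas_tilde_le
  rw [← hN.card_mul, hUH, he, Nat.cast_mul] at hmX
  set q : ℝ := (Nat.card K : ℝ) with hq
  set w : ℝ := (Nat.card Z : ℝ) with hw
  set uu : ℝ := (Nat.card U : ℝ) with huu
  set vv : ℝ := (Nat.card V : ℝ) with hvv
  have hq0 : 0 < q := Nat.cast_pos.2 Nat.card_pos
  have hw0 : 0 < w := Nat.cast_pos.2 Nat.card_pos
  have hu0 : 0 < uu := Nat.cast_pos.2 Nat.card_pos
  have hv0 : 0 < vv := Nat.cast_pos.2 Nat.card_pos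
  have hP0 : (0 : ℝ) < Nat.card P := Nat.cast_pos.2 Nat.card_pos
  have hQ0 : (0 : ℝ) < Nat.card Q := Nat.cast_pos.2 Nat.card_pos
  have hmP : meas (regP P) ≤ 1 / (uu * q) := by
    rw [D.sS.meas_reg]
    refine div_le_div_of_nonneg_right ?_ (by positivity)
    linarith [show (0 : ℝ) ≤ 1 / (Nat.card P : ℝ) by positivity]
  have hmQ : meas (regP Q) ≤ 1 / (vv * w) := by
    rw [D.sT.meas_reg]
    refine div_le_div_of_nonneg_right ?_ (by positivity)
    linarith [show (0 : ℝ) ≤ 1 / (Nat.card Q : ℝ) by positivity]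
  have hsum : (1 - uu / Nat.card P) / q + (1 - vv / Nat.card Q) / w ≤
      (uu - 1) / (q * uu) + 1 / (uu * q) + 1 / (vv * w) := by linarith
  have key : q * (1 - vv / Nat.card Q - 1 / vv) ≤ w * uu / Nat.card P := by
    have e : (1 - uu / Nat.card P) / q + (1 - vv / Nat.card Q) / w -
        ((uu - 1) / (q * uu) + 1 / (uu * q) + 1 / (vv * w)) =
        (q * (1 - vv / Nat.card Q - 1 / vv) - w * uu / Nat.card P) / (q * w) := by
      field_simp
      ring
    have h1 : (q * (1 - vv / Nat.card Q - 1 / vv) - w * uu / Nat.card P) / (q * w) ≤ 0 := by linarith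
    rw [div_le_iff₀ (by positivity), zero_mul] at h1
    linarith
  refine small_numeric (by exact_mod_cast hw3) ?_ D.sS.card_U_bound D.sT.card_U_bound hP0 hQ0 hu0.le
    ?_ key
  · rcases hs.five_le with h5 | h5
    · exact Or.inl (by exact_mod_cast h5)
    · rcases Nat.lt_or_ge (Nat.card K) 5 with h | h
      · obtain ⟨k, hk⟩ := hs.odd_card K
        have hK3 : Nat.card K = 3 := by omega
        refine Or.inr ⟨by exact_mod_cast hK3, by exact_mod_cast h5, ?_⟩
        rw [D.sT.side.card_P, hK3]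
        have : 3 ^ 5 ≤ 3 ^ Nat.card Z := Nat.pow_le_pow_right (by norm_num) h5
        exact_mod_cast (by simpa using this)
      · exact Or.inl (by exact_mod_cast h)
  · have := D.sT.side.two_mul_K_lt_U
    exact_mod_cast (by omega : 2 * Nat.card Z + 1 ≤ Nat.card V)

omit [Fintype L] in
/-- A neighbour with `|E| = |K|` is bounded by the other side. -/
theorem nbr_small (D : EndData S T K Z P Q U V) (W : Grid K Z) (hN : Nbr S K U T L H E)
    (he : Nat.card E = Nat.card K) :
    Nat.card Z < Nat.card K ∧ (Nat.card H - 1) * Nat.card Z ≤ Nat.card K * (Nat.card V - 1) := by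
  haveI : Fintype L := Fintype.ofFinite _
  have hs := D.sS.side
  have hq3 := hs.three_le_K
  have hw3 := hs.three_le_Z
  have hZ : Z ≤ sigmaCore S := hs.Z_le.trans hs.P_le
  obtain ⟨ζ, hζ, hζ1⟩ := hN.exists_zeta
  obtain ⟨n, hev, hn2, hnH, hn⟩ := hN.exists_quot
  obtain ⟨j, hj⟩ := D.sS.layer.exists_layerJ
  obtain ⟨i, hi⟩ := D.sT.layer.exists_layerJ
  have hi1 := hi.1
  have hj1 := hj.1
  -- the possible coordinates
  have hsum : ∀ (c : ℤ) φ z, BetaData L H E W φ ζ c z → (∑ k, ∑ l, (z k l : ℝ) ^ 2) =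
      1 + ((Nat.card Z : ℝ) - 1) * (z 1 j : ℝ) ^ 2 + (((Nat.card K : ℝ) - 1) * (z i 1 : ℝ) ^ 2 +
        ((Nat.card K : ℝ) - 1) * ((Nat.card Z : ℝ) - 1) * ((z i 1 + z 1 j - 1 : ℤ) : ℝ) ^ 2) := by
    intro c φ z hd
    rw [grid_sum_eq (fun k l => (z k l : ℝ) ^ 2) (A := (z i 1 : ℝ) ^ 2) (B := (z 1 j : ℝ) ^ 2)
      (C := ((z i 1 + z 1 j - 1 : ℤ) : ℝ) ^ 2)
      (fun k hk => by rw [hd.left_const hs.prime k i hk hi1])
      (fun l hl => by rw [hd.right_const D.sS.primeZ l j hl hj1])
      (fun k l hk hl => by rw [hd.add k l, hd.left_const hs.prime k i hk hi1, hd.right_const D.sS.primeZ l j hl hj1]),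
      hd.corner, W.card_left, W.card_right, nsmul_eq_mul, nsmul_eq_mul, nsmul_eq_mul, Nat.cast_mul,
      Nat.cast_sub Nat.card_pos, Nat.cast_sub Nat.card_pos, Nat.cast_one, Int.cast_one, one_pow]
  have hcases : ∀ (c : ℤ) φ z, BetaData L H E W φ ζ c z →
      (z i 1 = 0 ∧ Nat.card Z < Nat.card K) ∨ (z i 1 = 1 ∧ z 1 j = 0 ∧ (n : ℤ) * c ^ 2 - 2 * c = 0) := by
    intro c φ z hd
    have hen := hd.energy
    rw [hsum c φ z hd, hn, he] at hen
    set a := z i 1
    set b := z 1 j
    have hint : ((Nat.card Z : ℤ) - 1) * b ^ 2 + (((Nat.card K : ℤ) - 1) * a ^ 2 +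
        ((Nat.card K : ℤ) - 1) * ((Nat.card Z : ℤ) - 1) * (a + b - 1) ^ 2) + ((n : ℤ) * c ^ 2 - 2 * c) ≤
        (Nat.card K : ℤ) - 1 := by
      rw [← Int.cast_le (R := ℝ)]
      push_cast at hen ⊢
      linarith
    have hq : (3 : ℤ) ≤ Nat.card K := by exact_mod_cast hq3
    have hw : (3 : ℤ) ≤ Nat.card Z := by exact_mod_cast hw3
    have hn' : (2 : ℤ) ≤ n := by exact_mod_cast hn2
    have hc : 0 ≤ (n : ℤ) * c ^ 2 - 2 * c := by
      rcases le_or_gt c 0 with h | h
      · nlinarith [sq_nonneg c]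
      · nlinarith
    rcases eq_or_ne b 0 with hb | hb
    · right
      have h1 : ((Nat.card K : ℤ) - 1) * (a ^ 2 + ((Nat.card Z : ℤ) - 1) * (a - 1) ^ 2) ≤
          ((Nat.card K : ℤ) - 1) * 1 := by
        rw [hb] at hint
        nlinarith
      have h2 := le_of_mul_le_mul_left h1 (by linarith)
      have h3 : (a - 1) ^ 2 = 0 := by
        by_contra h
        have : 0 < (a - 1) ^ 2 := lt_of_le_of_ne (sq_nonneg _) (Ne.symm h)
        nlinarith [sq_nonneg a]
      have ha : a = 1 := sub_eq_zero.1 (pow_eq_zero_iff two_ne_zero |>.1 h3)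
      refine ⟨ha, hb, ?_⟩
      rw [ha, hb] at hint
      linarith
    · left
      have hb2 : 1 ≤ b ^ 2 := by nlinarith [mul_self_pos.2 hb]
      have h1 : ((Nat.card K : ℤ) - 1) * (a ^ 2 + ((Nat.card Z : ℤ) - 1) * (a + b - 1) ^ 2) <
          ((Nat.card K : ℤ) - 1) * 1 := by nlinarith
      have h2 := lt_of_mul_lt_mul_left h1 (by linarith)
      have hnn : 0 ≤ ((Nat.card Z : ℤ) - 1) * (a + b - 1) ^ 2 := mul_nonneg (by linarith) (sq_nonneg _)
      have ha : a = 0 := by
        by_contra h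
        have h' : (0 : ℤ) < a ^ 2 := sq_pos_of_ne_zero h
        linarith [Int.add_one_le_iff.2 h']
      have h3 : ((Nat.card Z : ℤ) - 1) * 1 ≤ (Nat.card K : ℤ) - 1 := by
        have e1 := mul_le_mul_of_nonneg_left hb2 (show (0 : ℤ) ≤ (Nat.card Z : ℤ) - 1 by linarith)
        have e2 := mul_nonneg (show (0 : ℤ) ≤ (Nat.card K : ℤ) - 1 by linarith) (sq_nonneg a)
        have e3 := mul_nonneg (show (0 : ℤ) ≤ (Nat.card K : ℤ) - 1 by linarith) hnn
        linarith
      refine ⟨ha, lt_of_le_of_ne ?_ (Ne.symm D.card_K_ne)⟩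
      exact_mod_cast (show (Nat.card Z : ℤ) ≤ Nat.card K by linarith)
  obtain ⟨φ, hφ, -⟩ := hN.exists_fam hZ W
  obtain ⟨c, z, hd⟩ := hN.exists_betaData hζ hζ1 hφ hZ W
  rcases hcases c φ z hd with ⟨ha, hlt⟩ | ⟨ha, hb, hc⟩
  · refine ⟨hlt, ?_⟩
    have h := hN.bound_of_even_left hζ hζ1 hφ D hd hi1 (by rw [ha]; exact Even.zero)
    rw [he, div_le_div_iff₀ (Nat.cast_pos.2 Nat.card_pos) (Nat.cast_pos.2 Nat.card_pos)] at h
    have h' : (((Nat.card H - 1) * Nat.card Z : ℕ) : ℝ) ≤ ((Nat.card K * (Nat.card V - 1) : ℕ) : ℝ) := by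
      rw [Nat.cast_mul, Nat.cast_mul, Nat.cast_sub Nat.card_pos, Nat.cast_sub Nat.card_pos, Nat.cast_one]
      linarith
    exact_mod_cast h'
  exfalso
  -- `H = U`
  have hHU := hN.bound_of_even_right hζ hζ1 hφ D hd hj1 (by rw [hb]; exact Even.zero)
  rw [he, div_le_div_iff_of_pos_right (Nat.cast_pos.2 Nat.card_pos)] at hHU
  have hHU' : H = U := (Subgroup.eq_of_le_of_card_ge hN.U_le (by
    have : (Nat.card H : ℝ) ≤ Nat.card U := by linarith
    exact_mod_cast this)).symm
  have hcardHU : Nat.card H = Nat.card U := by rw [hHU']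
  have hdeg : ∀ x ∈ famF L H, x 1 = (Nat.card E : ℂ) := fun x hx =>
    hN.fam_degree (fun a ha b hb => congrArg Subtype.val
      (hs.U_comm.is_comm.comm (⟨a, hHU' ▸ ha⟩ : U) ⟨b, hHU' ▸ hb⟩)) hx
  have hcard := hN.fam_card hdeg hn
  -- the case `c = 0`
  have main : ∀ φ, Fam (tauL L) (famF L H) φ → ∀ z, BetaData L H E W φ ζ 0 z → z i 1 = 1 → z 1 j = 0 →
      False := by
    intro φ hφ z hd ha hb
    obtain ⟨s, hle, heq, -, hpar⟩ := hN.gamma_coord hζ hζ1 hφ D.sS W
      (fun g hg => hN.tilde_not_regP (Or.inl hs.P_le) hg)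
      (fun g hg => hN.tilde_not_hat hZ (fun a ha b hb => W.comm ha hb) hg)
      (fun a ha => hN.fam_orth_eta hφ hZ W ha) hj1
    obtain ⟨hin, hpar'⟩ := hpar _ (hd.eta 1 j)
    rw [hb] at hin hpar'
    have hs0 : s ≠ 0 := by
      rintro rfl
      obtain ⟨m, hm⟩ := hpar'
      omega
    have hnu : ((Nat.card U : ℝ) - 1) / Nat.card K = (n : ℝ) := by rw [← hcardHU, ← he, hn]
    rw [hn, hnu] at hle heq
    have hs2 : (s : ℝ) ^ 2 = 1 := by
      have h1 : (1 : ℤ) ≤ s ^ 2 := by nlinarith [mul_self_pos.2 hs0]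
      have h1' : (1 : ℝ) ≤ (s : ℝ) ^ 2 := by exact_mod_cast h1
      have hnR : (0 : ℝ) < (n : ℝ) := by exact_mod_cast (by omega : 0 < n)
      nlinarith
    have hΓ := heq (by rw [hs2, one_mul])
    rw [Finset.sum_congr rfl fun x hx => by
      rw [hdeg x (hN.mem_famFin.1 hx), div_self hN.E_card_ne, mul_one]] at hΓ
    have hs1 : s = 1 := by
      rw [hΓ, classInner_sum_left, Finset.sum_eq_single ζ] at hin
      · rw [classInner_smul_left, ← classInner_symm (tauL L (betaL L H ζ)), hd.fam ζ hζ, if_pos rfl, hζ1,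
          div_self hN.E_card_ne] at hin
        simp only [Int.cast_zero, zero_sub, mul_one, map_neg, map_one, mul_neg] at hin
        exact_mod_cast neg_injective hin
      · intro x hx hne
        rw [classInner_smul_left, ← classInner_symm (tauL L (betaL L H ζ)), hd.fam x (hN.mem_famFin.1 hx),
          if_neg hne]
        simp
      · exact fun h => absurd (hN.mem_famFin.2 hζ) h
    refine kill_small D W hN he hcardHU hζ hζ1 hφ hdeg (fun l hl => ?_) fun g A hA => ?_
    · rw [D.sS.layer.gamma_indep W (D.sS.mem_J.2 hl) hj, hΓ, hs1]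
      simp
    · have htight := hN.tau_beta_tight hζ hζ1 hφ hd (by
        rw [hsum 0 φ z hd, he, ha, hb]
        push_cast
        linarith)
      have hv := congrFun htight g
      simp only [Pi.add_apply, Finset.sum_apply, Pi.smul_apply, smul_eq_mul] at hv
      rw [Finset.sum_eq_single ζ (fun x hx hne => by
        rw [hd.fam x (hN.mem_famFin.1 hx), if_neg hne]; simp)
        (fun h => absurd (hN.mem_famFin.2 hζ) h), hd.fam ζ hζ, if_pos rfl, hζ1, div_self hN.E_card_ne,
        grid_sum_eq (fun k l => (z k l : ℂ) * W.eta k l g) (A := (A : ℂ)) (B := 0) (C := 0)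
          (fun k hk => by rw [hd.left_const hs.prime k i hk hi1, ha, hA k hk]; simp)
          (fun l hl => by rw [hd.right_const D.sS.primeZ l j hl hj1, hb]; simp)
          (fun k l hk hl => by
            rw [hd.add k l, hd.left_const hs.prime k i hk hi1, hd.right_const D.sS.primeZ l j hl hj1, ha, hb]
            simp), hd.corner, W.one, W.card_left] at hv
      rw [hv]
      simp only [smul_zero, add_zero, mul_zero, nsmul_eq_mul, Nat.cast_sub (Nat.card_pos (α := K)), Nat.cast_one]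
      push_cast
      ring
  rcases eq_or_ne c 0 with rfl | hc0
  · exact main φ hφ z hd ha hb
  -- two members only
  have hnc : (n : ℤ) * c = 2 := mul_right_cancel₀ hc0 (by linear_combination hc)
  have hc1 : 0 < c := by
    by_contra h
    nlinarith
  have hn22 : n = 2 := by
    have h1 : (n : ℤ) * 1 ≤ (n : ℤ) * c := mul_le_mul_of_nonneg_left (by omega) (by positivity)
    omega
  subst hn22
  obtain rfl : c = 1 := by omega
  obtain ⟨hζc, hne⟩ := hN.fam_conj hζ
  have hpair : famFin L H = {ζ, conjFun ζ} := by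
    refine (Finset.eq_of_subset_of_card_le ?_ ?_).symm
    · intro x hx
      rcases Finset.mem_insert.1 hx with rfl | hx
      · exact hN.mem_famFin.2 hζ
      · rw [Finset.mem_singleton.1 hx]; exact hN.mem_famFin.2 hζc
    · rw [hcard, Finset.card_pair hne.symm]
  obtain ⟨φ', hφ', -, hswap⟩ := hN.exists_swap hζ hζ1 hφ fun x hx => by
    have := hN.mem_famFin.2 hx
    rw [hpair] at this
    simpa using this
  obtain ⟨c', z', hd'⟩ := hN.exists_betaData hζ hζ1 hφ' hZ W
  have hold := hd.fam ζ hζ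
  rw [if_pos rfl, hζ1, div_self hN.E_card_ne, mul_one] at hold
  have hnew := hswap 1 hold
  rw [hd'.fam ζ hζ, if_pos rfl, hζ1, div_self hN.E_card_ne, mul_one, sub_left_inj] at hnew
  obtain rfl : c' = 0 := by
    rw [show ((1 - 1 : ℤ) : ℂ) = ((0 : ℤ) : ℂ) by norm_num] at hnew
    exact_mod_cast hnew
  have hz : ∀ k l, z' k l = z k l := fun k l => by
    exact_mod_cast (hd'.eta k l).symm.trans (hd.eta k l)
  exact main φ' hφ' z' hd' (by rw [hz, ha]) (by rw [hz, hb])

end Cfsg.Agent.OddFT
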