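import Cfsg.Agent.Lib.OddChar.FT.EndBase

/-!
The counting for the pair: one of `U`, `V` is complete.
-/

set_option autoImplicit false
set_option linter.unusedSectionVars false
set_option linter.unusedVariables false
set_option linter.style.haveILetI false

open Cfsg Cfsg.Agent.Char Cfsg.Agent.OddChar Cfsg.Agent.OddLocal
open scoped ComplexConjugate Classical

namespace Cfsg.Agent.OddFT

universe u

variable {G : Type u} [Group G] [Fintype G]

theorem dens_sum {ι : Type*} (s : Set G) (t : Finset ι) (f : ι → G → ℂ) :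
    ∑ i ∈ t, dens s (f i) = (Nat.card G : ℝ)⁻¹ * ∑ g : G with g ∈ s, ∑ i ∈ t, ‖f i g‖ ^ 2 := by
  simp only [dens]
  rw [← Finset.mul_sum, Finset.sum_comm]

theorem meas_mul_le_dens_sum {ι : Type*} (s : Set G) (t : Finset ι) (f : ι → G → ℂ) {c : ℝ}
    (h : ∀ g ∈ s, c ≤ ∑ i ∈ t, ‖f i g‖ ^ 2) : c * meas s ≤ ∑ i ∈ t, dens s (f i) := by
  rw [dens_sum, ← dens_one, dens, mul_left_comm]
  refine mul_le_mul_of_nonneg_left ?_ (by positivity)
  rw [Finset.mul_sum]
  exact Finset.sum_le_sum fun g hg => by simpa using h g (Finset.mem_filter.1 hg).2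

theorem sum_norm_one_add {A : Type u} [Group A] [Fintype A] [Fintype (A →* ℂˣ)]
    (hab : ∀ a b : A, a * b = b * a) {a : A} (ha : a ≠ 1) :
    ∑ i ∈ Finset.univ.erase (1 : A →* ℂˣ), ‖1 + (i a : ℂ)‖ ^ 2 = 2 * (Nat.card A : ℝ) - 4 := by
  have hc : commutator A = ⊥ := by
    rw [commutator_def, Subgroup.commutator_eq_bot_iff_le_centralizer]
    exact fun x _ y _ => hab y x
  have hcard : (Fintype.card (A →* ℂˣ) : ℝ) = Nat.card A := by
    rw [← Nat.card_eq_fintype_card, card_hom_units, hc, Subgroup.index_bot]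
  have hs : ∑ i : A →* ℂˣ, (i a : ℂ) = 0 := by
    rw [sum_hom_eq, if_neg]
    rw [hc, Subgroup.mem_bot]
    exact ha
  have hre : ∑ i : A →* ℂˣ, (i a : ℂ).re = 0 := by
    rw [← Complex.re_sum, hs, Complex.zero_re]
  have hexp : ∀ i : A →* ℂˣ, ‖1 + (i a : ℂ)‖ ^ 2 = 2 + 2 * (i a : ℂ).re := fun i => by
    have h1 : ‖(i a : ℂ)‖ ^ 2 = 1 := by
      rw [Complex.norm_eq_one_of_pow_eq_one (n := Nat.card A) (by
        rw [← Units.val_pow_eq_pow_val, ← map_pow, pow_card_eq_one', map_one, Units.val_one]) Nat.card_pos.ne',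
        one_pow]
    rw [Complex.sq_norm, Complex.normSq_apply] at h1 ⊢
    simp
    linarith
  have htot : ∑ i : A →* ℂˣ, ‖1 + (i a : ℂ)‖ ^ 2 = 2 * (Nat.card A : ℝ) := by
    rw [Finset.sum_congr rfl fun i _ => hexp i, Finset.sum_add_distrib, Finset.sum_const, Finset.card_univ,
      ← Finset.mul_sum, hre, nsmul_eq_mul, hcard]
    ring
  rw [← Finset.sum_erase_add _ _ (Finset.mem_univ (1 : A →* ℂˣ))] at htot
  simp only [MonoidHom.one_apply, Units.val_one] at htot
  rw [show ‖(1 : ℂ) + 1‖ ^ 2 = 4 by rw [one_add_one_eq_two, Complex.norm_ofNat]; norm_num] at htot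
  linarith

variable {S T K Z P Q U V : Subgroup G}

theorem Grid.card_erase_left (W : Grid K Z) :
    ((Finset.univ.erase (1 : ↥K →* ℂˣ)).card : ℝ) = (Nat.card K : ℝ) - 1 := by
  rw [Finset.card_erase_of_mem (Finset.mem_univ _), Finset.card_univ, W.card_left,
    Nat.cast_sub Nat.card_pos, Nat.cast_one]

theorem Grid.card_erase_right (W : Grid K Z) :
    ((Finset.univ.erase (1 : ↥Z →* ℂˣ)).card : ℝ) = (Nat.card Z : ℝ) - 1 := by
  rw [Finset.card_erase_of_mem (Finset.mem_univ _), Finset.card_univ, W.card_right,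
    Nat.cast_sub Nat.card_pos, Nat.cast_one]

/-- The counting for the pair. -/
theorem pair_bound (D : EndData S T K Z P Q U V) (W : Grid K Z) (hw : 5 ≤ Nat.card Z) :
    (4 : ℝ) ≤ 4 * (Nat.card Z : ℝ) * Nat.card U / Nat.card P + 2 * (Nat.card K : ℝ) * Nat.card V / Nat.card Q +
      (Nat.card K : ℝ) / Nat.card V := by
  have hq3 := D.sS.side.three_le_K
  set I := Finset.univ.erase (1 : ↥K →* ℂˣ) with hI
  set J := Finset.univ.erase (1 : ↥Z →* ℂˣ) with hJ
  set t := I ×ˢ J with ht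
  set A : (↥K →* ℂˣ) × (↥Z →* ℂˣ) → G → ℂ := fun p => W.eta p.1 1 with hA
  set B : (↥K →* ℂˣ) × (↥Z →* ℂˣ) → G → ℂ := fun p => W.eta 1 p.2 + W.eta p.1 p.2 with hB
  set h : Set G := hatG K Z with hh
  set sP : Set G := regP P with hsP
  set sQ : Set G := regP Q with hsQ
  set R : Set G := (h ∪ sP ∪ sQ)ᶜ with hR
  set q : ℝ := (Nat.card K : ℝ) with hq
  set w : ℝ := (Nat.card Z : ℝ) with hwdef
  have hq0 : 0 < q - 1 := by
    have : (3 : ℝ) ≤ q := by rw [hq]; exact_mod_cast hq3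
    linarith
  have hw0 : 0 < w - 1 := by
    have : (5 : ℝ) ≤ w := by rw [hwdef]; exact_mod_cast hw
    linarith
  have hcI : (I.card : ℝ) = q - 1 := W.card_erase_left
  have hcJ : (J.card : ℝ) = w - 1 := W.card_erase_right
  have hct : (t.card : ℝ) = (q - 1) * (w - 1) := by rw [ht, Finset.card_product, Nat.cast_mul, hcI, hcJ]
  have hKcomm : ∀ a b : K, a * b = b * a := fun a b => by
    haveI : Fact (Nat.card K).Prime := ⟨D.sS.side.prime⟩
    haveI := isCyclic_of_prime_card (α := K) rfl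
    exact (IsCyclic.commGroup (α := K)).mul_comm a b
  have hPh : ∀ g ∈ sP, g ∉ h := fun g hg => regP_disjoint_hat W D.sS.side.coKP D.sS.side.prime hg
  have hQh : ∀ g ∈ sQ, g ∉ h := fun g hg hgh =>
    regP_disjoint_hat W.swap D.sT.side.coKP D.sT.side.prime hg (by rwa [W.hatG_comm])
  have hcoPQ : (Nat.card P).Coprime (Nat.card Q) := by
    rw [D.sS.side.card_P, D.sT.side.card_P]
    refine Nat.Coprime.pow _ _ ((Nat.coprime_primes D.sS.primeZ D.sS.side.prime).2 fun e => ?_)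
    have h1 := D.sS.side.coKP
    rw [D.sS.side.card_P, e] at h1
    have h2 := Nat.eq_one_of_dvd_coprimes h1 dvd_rfl (dvd_pow_self _ (Nat.card_pos.ne'))
    exact D.sS.side.prime.ne_one h2
  have hPQ : ∀ g ∈ sP, g ∉ sQ := fun g hg => regP_disjoint hcoPQ hg
  -- the total
  have htot : ∑ p ∈ t, dens h (A p) + ∑ p ∈ t, dens sP (A p) + ∑ p ∈ t, dens sQ (A p) + ∑ p ∈ t, dens R (A p) +
      (∑ p ∈ t, dens h (B p) + ∑ p ∈ t, dens sP (B p) + ∑ p ∈ t, dens sQ (B p) + ∑ p ∈ t, dens R (B p)) =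
      3 * ((q - 1) * (w - 1)) := by
    have hsplit : ∀ f : G → ℂ, dens h f + dens sP f + dens sQ f + dens R f = (classInner f f).re := fun f => by
      rw [← dens_compl (h ∪ sP ∪ sQ) f, dens_union (s := h ∪ sP) (t := sQ) ?_, dens_union (s := h) (t := sP) ?_]
      · exact fun g hg hg' => hPh g hg' hg
      · rintro g (hg | hg) hg'
        · exact hQh g hg' hg
        · exact hPQ g hg hg'
    rw [← Finset.sum_add_distrib, ← Finset.sum_add_distrib, ← Finset.sum_add_distrib, ← Finset.sum_add_distrib,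
      ← Finset.sum_add_distrib, ← Finset.sum_add_distrib, ← Finset.sum_add_distrib,
      Finset.sum_congr rfl (g := fun _ => (3 : ℝ)) fun p hp => ?_, Finset.sum_const, nsmul_eq_mul, hct]
    · ring
    · obtain ⟨h1, h2⟩ := Finset.mem_product.1 hp
      rw [hsplit, hsplit, hA, hB, (W.signed p.1 1).self, classInner_add_left, classInner_add_right,
        classInner_add_right, (W.signed 1 p.2).self, (W.signed p.1 p.2).self,
        W.orth _ _ _ _ (Or.inl (Finset.mem_erase.1 h1).1.symm), W.orth _ _ _ _ (Or.inl (Finset.mem_erase.1 h1).1)]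
      norm_num
  -- the hat
  have hhat : (w - 1) * (3 * q - 5) * meas h ≤ ∑ p ∈ t, dens h (A p) + ∑ p ∈ t, dens h (B p) := by
    have hg : ∀ g ∈ h, (w - 1) * (3 * q - 5) = ∑ p ∈ t, ‖A p g‖ ^ 2 + ∑ p ∈ t, ‖B p g‖ ^ 2 := by
      rintro g ⟨x, a, ha, b, hb, ha1, hb1, rfl⟩
      have hv : ∀ i j, W.eta i j (x * (a * b) * x⁻¹) = (i ⟨a, ha⟩ : ℂ) * (j ⟨b, hb⟩ : ℂ) := fun i j => by
        rw [isClassFunction_genChar (W.eta_gen i j) (a * b) x]
        exact W.onHat i j ⟨a, ha⟩ ⟨b, hb⟩ (fun e => ha1 (congrArg Subtype.val e))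
          (fun e => hb1 (congrArg Subtype.val e))
      have hn : ∀ {X : Subgroup G} (i : ↥X →* ℂˣ) (y : X), ‖(i y : ℂ)‖ = 1 := fun {X} i y =>
        Complex.norm_eq_one_of_pow_eq_one (n := Nat.card X) (by
          rw [← Units.val_pow_eq_pow_val, ← map_pow, pow_card_eq_one', map_one, Units.val_one]) Nat.card_pos.ne'
      rw [← Finset.sum_add_distrib, ht, Finset.sum_product, Finset.sum_comm,
        Finset.sum_congr rfl (g := fun _ => 3 * q - 5) fun j _ => ?_, Finset.sum_const, nsmul_eq_mul, hcJ]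
      rw [Finset.sum_congr rfl (g := fun i => 1 + ‖1 + (i ⟨a, ha⟩ : ℂ)‖ ^ 2) fun i _ => ?_, Finset.sum_add_distrib,
        Finset.sum_const, nsmul_eq_mul, mul_one, hcI,
        sum_norm_one_add hKcomm (fun e => ha1 (congrArg Subtype.val e))]
      · rw [hq]; ring
      · simp only [hA, hB, Pi.add_apply, hv, MonoidHom.one_apply, Units.val_one, mul_one, one_mul, hn, one_pow]
        rw [show (j ⟨b, hb⟩ : ℂ) + (i ⟨a, ha⟩ : ℂ) * (j ⟨b, hb⟩ : ℂ) = (1 + (i ⟨a, ha⟩ : ℂ)) * (j ⟨b, hb⟩ : ℂ) by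
          ring, norm_mul, hn, mul_one]
    rw [dens_sum, dens_sum, ← mul_add, ← Finset.sum_add_distrib,
      Finset.sum_congr rfl fun g hg' => (hg g (Finset.mem_filter.1 hg').2).symm, Finset.sum_const, nsmul_eq_mul,
      meas, Set.ncard_eq_toFinset_card']
    refine le_of_eq ?_
    rw [Set.filter_mem_univ_eq_toFinset]
    ring
  -- the rest
  have hrest : (q - 1) * (w - 1) * meas R ≤ ∑ p ∈ t, dens R (A p) + ∑ p ∈ t, dens R (B p) := by
    have hr : ∀ g ∈ R, (q - 1) * (w - 1) ≤ ∑ p ∈ t, ‖A p g‖ ^ 2 + ∑ p ∈ t, ‖B p g‖ ^ 2 := by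
      intro g hg
      simp only [hR, Set.mem_compl_iff, Set.mem_union, not_or] at hg
      obtain ⟨a, b, hi, hj, hij⟩ := D.exists_values W hg.1.2 hg.2 hg.1.1
      rw [← Finset.sum_add_distrib, ← hct, show (t.card : ℝ) = ∑ _p ∈ t, (1 : ℝ) by simp]
      refine Finset.sum_le_sum fun p hp => ?_
      obtain ⟨h1, h2⟩ := Finset.mem_product.1 hp
      simp only [hA, hB, Pi.add_apply, hi _ (Finset.mem_erase.1 h1).1, hj _ (Finset.mem_erase.1 h2).1,
        hij _ _ (Finset.mem_erase.1 h1).1 (Finset.mem_erase.1 h2).1]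
      rw [← Int.cast_add, Complex.norm_intCast, Complex.norm_intCast, sq_abs, sq_abs]
      have : (1 : ℤ) ≤ a ^ 2 + (b + (a + b - 1)) ^ 2 := by
        rcases eq_or_ne a 0 with rfl | ha
        · have hne : b + (0 + b - 1) ≠ 0 := by omega
          have h2 := mul_self_pos.2 hne
          nlinarith
        · have h2 := mul_self_pos.2 ha
          nlinarith [sq_nonneg (b + (a + b - 1))]
      exact_mod_cast this
    rw [dens_sum, dens_sum, ← mul_add, ← Finset.sum_add_distrib, ← dens_one, dens, mul_left_comm]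
    refine mul_le_mul_of_nonneg_left ?_ (by positivity)
    rw [Finset.mul_sum]
    exact Finset.sum_le_sum fun g hg => by
      simp only [Finset.mem_filter] at hg
      simpa using hr g hg.2
  -- the conjugates of `P`
  have hP : (q - 1) * ((w - 1) * (4 * (1 - (Nat.card U : ℝ) / Nat.card P) / q)) + (q - 1) * (w - 1) * meas sP ≤
      ∑ p ∈ t, dens sP (B p) + ∑ p ∈ t, dens sP (A p) := by
    refine add_le_add ?_ ?_
    · rw [ht, Finset.sum_product, ← hcI, ← nsmul_eq_mul, ← Finset.sum_const]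
      refine Finset.sum_le_sum fun i hi => ?_
      have h1 := D.sS.dens_shift W (Y := W.eta i 1 - fun _ => 1) (isGenChar_sub (W.eta_gen i 1) gen_one) 2 hw
      refine (le_of_eq ?_).trans (h1.trans (le_of_eq (Finset.sum_congr rfl fun j _ => dens_congr fun g hg => ?_)))
      · rw [hq, hwdef]; norm_num
      · simp only [hB, Pi.add_apply, Pi.sub_apply, Pi.smul_apply, smul_eq_mul, Nat.cast_ofNat,
          W.outside i j g (hPh g hg)]
        ring
    · rw [← hct, ← nsmul_eq_mul, ← Finset.sum_const]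
      exact Finset.sum_le_sum fun p hp => D.sS.dens_cross W (D.sS.side.odd_card K)
        (Finset.mem_erase.1 (Finset.mem_product.1 hp).1).1
  -- the conjugates of `Q`
  have hQ : (w - 1) * ((q - 1) * ((1 - (Nat.card V : ℝ) / Nat.card Q) / w)) * 2 ≤
      ∑ p ∈ t, dens sQ (A p) + ∑ p ∈ t, dens sQ (B p) := by
    have hs : 2 * 1 + 1 ≤ Nat.card K := by omega
    have key : ∀ (Y : (↥Z →* ℂˣ) → G → ℂ), (∀ j, IsGeneralizedCharacter G (Y j)) →
        (w - 1) * ((q - 1) * ((1 - (Nat.card V : ℝ) / Nat.card Q) / w)) ≤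
          ∑ j ∈ J, ∑ i ∈ I, dens sQ (((1 : ℕ) : ℂ) • W.eta i 1 + Y j) := by
      intro Y hY
      rw [← hcJ, ← nsmul_eq_mul, ← Finset.sum_const]
      refine Finset.sum_le_sum fun j _ => ?_
      refine (le_of_eq ?_).trans (D.sT.dens_shift W.swap (hY j) 1 hs)
      rw [hq, hwdef]; norm_num
    rw [mul_two, ht, Finset.sum_product, Finset.sum_product]
    refine add_le_add ?_ ?_
    · refine (key (fun _ => fun _ => 0) fun _ => ⟨fun _ => 1, fun _ => 1, irr_isCharacter isIrrCharacter_one,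
        irr_isCharacter isIrrCharacter_one, by funext; simp⟩).trans (le_of_eq ?_)
      rw [Finset.sum_comm]
      exact Finset.sum_congr rfl fun i _ => Finset.sum_congr rfl fun j _ => dens_congr fun g _ => by simp [hA]
    · refine (key (fun j => W.eta 1 j + W.eta 1 j - fun _ => 1) fun j =>
        isGenChar_sub (gen_add (W.eta_gen 1 j) (W.eta_gen 1 j)) gen_one).trans (le_of_eq ?_)
      rw [Finset.sum_comm]
      refine Finset.sum_congr rfl fun i _ => Finset.sum_congr rfl fun j _ => dens_congr fun g hg => ?_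
      simp only [hB, Pi.add_apply, Pi.sub_apply, Pi.smul_apply, smul_eq_mul, Nat.cast_one,
        W.outside i j g (hQh g hg)]
      ring
  -- the measures
  have hmR : 1 - meas h - meas sP - meas sQ ≤ meas R := by
    have h1 := meas_compl (h ∪ sP ∪ sQ)
    rw [← hR] at h1
    linarith [meas_union_le (h ∪ sP) sQ, meas_union_le h sP]
  have hmh : meas h = (q - 1) * (w - 1) / (q * w) := W.meas_hat
  have hmQ : meas sQ ≤ 1 / ((Nat.card V : ℝ) * w) := by
    rw [hsQ, D.sT.meas_reg, hwdef]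
    refine div_le_div_of_nonneg_right ?_ (by positivity)
    linarith [show (0 : ℝ) ≤ 1 / (Nat.card Q : ℝ) by positivity]
  have hmR' := mul_le_mul_of_nonneg_left hmR (mul_nonneg hq0.le hw0.le)
  have hmQ' := mul_le_mul_of_nonneg_left hmQ (mul_nonneg hq0.le hw0.le)
  have hmain : (w - 1) * (3 * q - 5) * meas h + (q - 1) * (w - 1) * (1 - meas h - 1 / ((Nat.card V : ℝ) * w)) +
      (q - 1) * ((w - 1) * (4 * (1 - (Nat.card U : ℝ) / Nat.card P) / q)) +
      (w - 1) * ((q - 1) * ((1 - (Nat.card V : ℝ) / Nat.card Q) / w)) * 2 ≤ 3 * ((q - 1) * (w - 1)) := by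
    linarith
  rw [hmh] at hmain
  have hqp : (0 : ℝ) < q := by linarith
  have hwp : (0 : ℝ) < w := by linarith
  have hV : (0 : ℝ) < Nat.card V := Nat.cast_pos.2 Nat.card_pos
  have hPp : (0 : ℝ) < Nat.card P := Nat.cast_pos.2 Nat.card_pos
  have hQp : (0 : ℝ) < Nat.card Q := Nat.cast_pos.2 Nat.card_pos
  have e : (w - 1) * (3 * q - 5) * ((q - 1) * (w - 1) / (q * w)) +
      (q - 1) * (w - 1) * (1 - (q - 1) * (w - 1) / (q * w) - 1 / ((Nat.card V : ℝ) * w)) +
      (q - 1) * ((w - 1) * (4 * (1 - (Nat.card U : ℝ) / Nat.card P) / q)) +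
      (w - 1) * ((q - 1) * ((1 - (Nat.card V : ℝ) / Nat.card Q) / w)) * 2 - 3 * ((q - 1) * (w - 1)) =
      (q - 1) * (w - 1) / (q * w) * (4 - (4 * w * Nat.card U / Nat.card P + 2 * q * Nat.card V / Nat.card Q +
        q / Nat.card V)) := by
    field_simp
    ring
  have hle : (q - 1) * (w - 1) / (q * w) * (4 - (4 * w * Nat.card U / Nat.card P +
      2 * q * Nat.card V / Nat.card Q + q / Nat.card V)) ≤ 0 := by linarith
  have hpos : 0 < (q - 1) * (w - 1) / (q * w) := by positivity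
  have h4 : 4 - (4 * w * Nat.card U / Nat.card P + 2 * q * Nat.card V / Nat.card Q + q / Nat.card V) ≤ 0 := by
    by_contra hcon
    exact absurd hle (not_le.2 (mul_pos hpos (not_le.1 hcon)))
  linarith

/-- In the final configuration one of the two is complete. -/
theorem pair_proper_false (D : EndData S T K Z P Q U V) (W : Grid K Z) (hlt : Nat.card K < Nat.card Z)
    (hu : 3 * (Nat.card U * (Nat.card Z - 1)) ≤ Nat.card Z ^ Nat.card K - 1)
    (hv : 3 * (Nat.card V * (Nat.card K - 1)) ≤ Nat.card K ^ Nat.card Z - 1) : False := by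
  have hq3 := D.sS.side.three_le_K
  have hw : 5 ≤ Nat.card Z := by
    obtain ⟨a, ha⟩ := D.sS.side.odd_card Z
    obtain ⟨b, hb⟩ := D.sS.side.odd_card K
    omega
  have hb := pair_bound D W hw
  have hv2 := D.sT.side.two_mul_K_lt_U
  rw [← D.sS.side.card_P] at hu
  rw [← D.sT.side.card_P] at hv
  have hu' : 3 * ((Nat.card U : ℝ) * ((Nat.card Z : ℝ) - 1)) ≤ Nat.card P := by
    have h1 : ((3 * (Nat.card U * (Nat.card Z - 1)) : ℕ) : ℝ) ≤ Nat.card P := by
      exact_mod_cast hu.trans (Nat.sub_le _ _)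
    rwa [Nat.cast_mul, Nat.cast_mul, Nat.cast_sub Nat.card_pos, Nat.cast_one, Nat.cast_ofNat] at h1
  have hv' : 3 * ((Nat.card V : ℝ) * ((Nat.card K : ℝ) - 1)) ≤ Nat.card Q := by
    have h1 : ((3 * (Nat.card V * (Nat.card K - 1)) : ℕ) : ℝ) ≤ Nat.card Q := by
      exact_mod_cast hv.trans (Nat.sub_le _ _)
    rwa [Nat.cast_mul, Nat.cast_mul, Nat.cast_sub Nat.card_pos, Nat.cast_one, Nat.cast_ofNat] at h1
  have hw5 : (5 : ℝ) ≤ Nat.card Z := by exact_mod_cast hw
  have hq3' : (3 : ℝ) ≤ Nat.card K := by exact_mod_cast hq3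
  have hlt' : (Nat.card K : ℝ) ≤ Nat.card Z := by exact_mod_cast hlt.le
  have hv2' : 2 * (Nat.card Z : ℝ) ≤ Nat.card V := by exact_mod_cast hv2.le
  have hP : (0 : ℝ) < Nat.card P := Nat.cast_pos.2 Nat.card_pos
  have hQ : (0 : ℝ) < Nat.card Q := Nat.cast_pos.2 Nat.card_pos
  have hV : (0 : ℝ) < Nat.card V := Nat.cast_pos.2 Nat.card_pos
  have h1 : 4 * (Nat.card Z : ℝ) * Nat.card U / Nat.card P ≤ 5 / 3 := by
    rw [div_le_iff₀ hP]
    nlinarith [mul_nonneg (show (0 : ℝ) ≤ (Nat.card Z : ℝ) - 5 by linarith) (Nat.cast_nonneg' (α := ℝ) (Nat.card U))]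
  have h2 : 2 * (Nat.card K : ℝ) * Nat.card V / Nat.card Q ≤ 1 := by
    rw [div_le_one hQ]
    nlinarith [mul_nonneg (show (0 : ℝ) ≤ (Nat.card K : ℝ) - 3 by linarith) hV.le]
  have h3 : (Nat.card K : ℝ) / Nat.card V ≤ 1 / 2 := by
    rw [div_le_iff₀ hV]
    linarith
  linarith

end Cfsg.Agent.OddFT
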