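import Cfsg.Agent.Lib.OddChar.FT.EndBase
import Cfsg.Agent.Lib.OddChar.FT.EndPair

/-!
The final configuration against a neighbour: the coordinates of `Γ` on the coherent family of the neighbour,
their parity, and the counting over the five regions.
-/

set_option autoImplicit false
set_option linter.unusedSectionVars false
set_option linter.unusedVariables false
set_option linter.style.haveILetI false

open Cfsg Cfsg.Agent.Char Cfsg.Agent.OddChar Cfsg.Agent.OddLocal
open scoped ComplexConjugate Classical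

namespace Cfsg.Agent.OddFT

universe u

variable {G : Type u} [Group G] [Fintype G]

/-- A double sum of a function that is constant on the three parts of the grid. -/
theorem grid_sum_eq {I J M : Type*} [Fintype I] [Fintype J] [One I] [One J] [DecidableEq I] [DecidableEq J]
    [AddCommMonoid M] (f : I → J → M) {A B C : M} (hA : ∀ i, i ≠ 1 → f i 1 = A) (hB : ∀ j, j ≠ 1 → f 1 j = B)
    (hC : ∀ i j, i ≠ 1 → j ≠ 1 → f i j = C) :
    ∑ i, ∑ j, f i j = f 1 1 + (Fintype.card J - 1) • B + ((Fintype.card I - 1) • A +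
      ((Fintype.card I - 1) * (Fintype.card J - 1)) • C) := by
  have hrow1 : ∑ j, f 1 j = f 1 1 + (Fintype.card J - 1) • B := by
    rw [← Finset.add_sum_erase _ _ (Finset.mem_univ (1 : J)),
      Finset.sum_congr rfl fun j hj => hB j (Finset.mem_erase.1 hj).1, Finset.sum_const,
      Finset.card_erase_of_mem (Finset.mem_univ _), Finset.card_univ]
  have hrow : ∀ i, i ≠ 1 → ∑ j, f i j = A + (Fintype.card J - 1) • C := fun i hi => by
    rw [← Finset.add_sum_erase _ _ (Finset.mem_univ (1 : J)), hA i hi,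
      Finset.sum_congr rfl fun j hj => hC i j hi (Finset.mem_erase.1 hj).1, Finset.sum_const,
      Finset.card_erase_of_mem (Finset.mem_univ _), Finset.card_univ]
  rw [← Finset.add_sum_erase _ _ (Finset.mem_univ (1 : I)), hrow1,
    Finset.sum_congr rfl fun i hi => hrow i (Finset.mem_erase.1 hi).1, Finset.sum_const,
    Finset.card_erase_of_mem (Finset.mem_univ _), Finset.card_univ, smul_add, mul_nsmul]
  congr 1
  rw [← mul_nsmul, ← mul_nsmul, Nat.mul_comm]

variable {S T K Z P Q U V L H E : Subgroup G}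

namespace Nbr

variable (hN : Nbr S K U T L H E)
include hN

/-- The quotient `(|H| - 1) / |E|` is even and at least two. -/
theorem exists_quot : ∃ n : ℕ, Even n ∧ 2 ≤ n ∧ Nat.card H - 1 = Nat.card E * n ∧
    ((Nat.card H : ℝ) - 1) / Nat.card E = n := by
  obtain ⟨n, hn⟩ := hN.card_E_dvd
  have hG := hN.minSimple.1
  have hoH : Odd (Nat.card H) := hG.of_dvd_nat (Subgroup.card_subgroup_dvd_card H)
  have hoE : Odd (Nat.card E) := hG.of_dvd_nat (Subgroup.card_subgroup_dvd_card E)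
  have hH1 : 1 < Nat.card H := (Subgroup.one_lt_card_iff_ne_bot _).2 hN.H_ne
  have hev : Even n := by
    obtain ⟨k, hk⟩ := hoH
    have h2 : Even (Nat.card E * n) := ⟨k, by omega⟩
    exact (Nat.even_mul.1 h2).resolve_left (Nat.not_even_iff_odd.2 hoE)
  have hn0 : n ≠ 0 := by
    rintro rfl
    omega
  refine ⟨n, hev, by obtain ⟨k, hk⟩ := hev; omega, hn, ?_⟩
  rw [div_eq_iff (Nat.cast_ne_zero.2 Nat.card_pos.ne'), ← Nat.cast_mul, mul_comm n, ← hn,
    Nat.cast_sub hH1.le, Nat.cast_one]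

/-- The measure of the support of the neighbour. -/
theorem meas_tilde_le : meas (tildeL L) ≤ ((Nat.card H : ℝ) - 1) / Nat.card L := by
  rw [← dens_one, dens_dadeSet hN.dade (f := fun _ => (1 : ℂ)) fun _ _ => rfl]
  have e : ∀ a : G, avgSq (supportR L) (fun _ => (1 : ℂ)) a = 1 := fun a => by
    rw [avgSq]
    simp only [norm_one, one_pow, Finset.sum_const, nsmul_eq_mul, mul_one]
    rw [← Fintype.card_subtype, ← Nat.card_eq_fintype_card]
    exact inv_mul_cancel₀ (Nat.cast_ne_zero.2 Nat.card_pos.ne')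
  rw [Finset.sum_congr rfl fun a _ => e a, Finset.sum_const, nsmul_eq_mul, mul_one, inv_mul_eq_div]
  refine div_le_div_of_nonneg_right ?_ (Nat.cast_nonneg _)
  have h1 : (Finset.univ.filter fun a : G => a ∈ typeA L) =
      (Finset.univ.filter fun a : G => a ∈ H).erase 1 := by
    ext a
    simp [hN.mem_typeA, and_comm]
  rw [h1, Finset.card_erase_of_mem (by simp), Nat.cast_sub (Finset.card_pos.2 ⟨1, by simp⟩),
    ← Fintype.card_subtype, ← Nat.card_eq_fintype_card, Nat.cast_one]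

theorem tilde_not_regP {X : Subgroup G} (hX : X ≤ sigmaCore S ∨ X ≤ sigmaCore T) {g : G}
    (hg : g ∈ tildeL L) : g ∉ regP X := hN.tilde_not_conj hX hg

variable [Fintype L] {ζ : L → ℂ} (hζ : ζ ∈ famF L H) (hζ1 : ζ 1 = (Nat.card E : ℂ))
  {φ : (L → ℂ) → G → ℂ} (hφ : Fam (tauL L) (famF L H) φ)
include hζ hζ1 hφ

/-- `Γ` of a side with support apart from that of the neighbour. -/
theorem gamma_coord {S' K' Z' P' U' : Subgroup G} (h' : EndSide S' K' Z' P' U') (W : Grid K' Z')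
    (hP : ∀ g ∈ tildeL L, g ∉ regP P') (hh : ∀ g ∈ tildeL L, g ∉ hatG K' Z')
    (horth : ∀ a ∈ famF L H, ∀ i j, classInner (φ a) (W.eta i j) = 0) {j : ↥Z' →* ℂˣ} (hj : j ≠ 1) :
    ∃ s : ℤ, (s : ℝ) ^ 2 * (((Nat.card H : ℝ) - 1) / Nat.card E) ≤ ((Nat.card U' : ℝ) - 1) / Nat.card K' ∧
      ((s : ℝ) ^ 2 * (((Nat.card H : ℝ) - 1) / Nat.card E) = ((Nat.card U' : ℝ) - 1) / Nat.card K' →
        h'.layer.gamma W j = ∑ x ∈ famFin L H, ((s : ℂ) * (x 1 / Nat.card E)) • φ x) ∧
      (∀ x ∈ famF L H, classInner (h'.layer.gamma W j) (φ x) = (s : ℂ) * (x 1 / Nat.card E)) ∧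
      ∀ b : ℤ, classInner (tauL L (betaL L H ζ)) (W.eta 1 j) = b →
        classInner (h'.layer.gamma W j) (tauL L (betaL L H ζ)) = (b : ℂ) - 1 ∧ Even (b - 1 + s) := by
  have hJ := h'.mem_J.2 hj
  set hl := h'.layer with hhl
  set Γ := hl.gamma W j with hΓ
  have hΓgen : IsGeneralizedCharacter G Γ := hl.gamma_gen W j
  set B := indFun S' (hl.beta j) with hB
  have hBT : ∀ α : L → ℂ, classInner (tauL L α) B = 0 := fun α => by
    rw [classInner, Finset.sum_eq_zero, mul_zero]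
    intro g _
    by_cases hg : g ∈ tildeL L
    · have hz : B g = 0 := hl.ind_beta_zero hJ (h'.reg_eq ▸ hP g hg) (hh g hg)
      rw [hz, map_zero, mul_zero]
    · rw [show tauL L α g = 0 from dadeIsometry_eq_zero hN.dade hg, zero_mul]
  have hsplit : ∀ f : G → ℂ, classInner f Γ = classInner f B - classInner f (W.eta 1 1) + classInner f (W.eta 1 j) :=
    fun f => by rw [hΓ, W.one, IsLayer.gamma, classInner_add_right, classInner_sub_right]
  have hφΓ : ∀ x ∈ famF L H, classInner (φ x) Γ = classInner (φ x) B := fun x hx => by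
    rw [hsplit, horth x hx, horth x hx]
    ring
  obtain ⟨s, hs⟩ := gen_inner_int hΓgen (hφ.signed ζ hζ).gen
  have hsc : classInner (φ ζ) B = (s : ℂ) := by
    rw [← hφΓ ζ hζ, ← classInner_symm Γ, hs, map_intCast]
  have hE := hN.E_card_ne
  have hcoord : ∀ x ∈ famF L H, classInner Γ (φ x) = (s : ℂ) * (x 1 / Nat.card E) := by
    intro x hx
    obtain ⟨m, hm⟩ := gen_inner_int hΓgen (hφ.signed x hx).gen
    have hmc : classInner (φ x) B = (m : ℂ) := by
      rw [← hφΓ x hx, ← classInner_symm Γ, hm, map_intCast]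
    have h0 := hBT (ζ 1 • x - x 1 • ζ)
    rw [hφ.diff x hx ζ hζ, classInner_sub_left, classInner_smul_left, classInner_smul_left, hmc, hsc, hζ1] at h0
    rw [hm]
    field_simp
    linear_combination h0
  have hc : ∀ a : L → ℂ, ∃ m : ℤ, a ∈ famFin L H → classInner Γ (φ a) = m := fun a =>
    if ha : a ∈ famFin L H then
      (gen_inner_int hΓgen (hφ.signed a (hN.mem_famFin.1 ha)).gen).imp fun m e _ => e
    else ⟨0, fun h => absurd h ha⟩
  choose co hco using hc
  obtain ⟨hle, heq⟩ := hl.gamma_bessel W hJ (famFin L H) φ (fun a ha => hφ.signed a (hN.mem_famFin.1 ha))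
    (fun a ha b hb hab => hφ.orth a (hN.mem_famFin.1 ha) b (hN.mem_famFin.1 hb) hab)
    (fun a ha => horth a (hN.mem_famFin.1 ha)) co hco
  have hval : ∀ a ∈ famFin L H, (co a : ℂ) = (s : ℂ) * (a 1 / Nat.card E) := fun a ha => by
    rw [← hco a ha, hcoord a (hN.mem_famFin.1 ha)]
  have hsum : ∑ a ∈ famFin L H, (co a : ℝ) ^ 2 = (s : ℝ) ^ 2 * (((Nat.card H : ℝ) - 1) / Nat.card E) := by
    refine Complex.ofReal_injective ?_
    push_cast
    rw [← hN.sum_fam_sq hζ hζ1, Finset.mul_sum]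
    exact Finset.sum_congr rfl fun a ha => by rw [hval a ha]; ring
  have hnu : hl.nu = ((Nat.card U' : ℝ) - 1) / Nat.card K' := by
    rw [IsLayer.nu, h'.card_C, Nat.cast_one, div_one]
  rw [hsum, hnu] at hle heq
  refine ⟨s, hle, fun e => ?_, hcoord, fun b hb => ?_⟩
  · rw [show Γ = _ from (heq e).2]
    exact Finset.sum_congr rfl fun a ha => by rw [hval a ha]
  · set T0 := tauL L (betaL L H ζ) with hT0
    have hT0gen : IsGeneralizedCharacter G T0 := hN.tau_beta_gen hζ hζ1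
    have h1 : classInner T0 Γ = (b : ℂ) - 1 := by
      rw [hsplit, hBT, W.one, hN.tau_beta_one hζ hζ1, hb]
      ring
    have h2 : classInner Γ T0 = (b : ℂ) - 1 := by rw [← gen_inner_real hT0gen hΓgen, h1]
    refine ⟨h2, ?_⟩
    have h3 : classInner Γ (T0 + φ ζ) = ((b - 1 + s : ℤ) : ℂ) := by
      rw [classInner_add_right, h2, hs]
      push_cast
      ring
    exact even_inner hN.minSimple.1 hΓgen (gen_add hT0gen (hφ.signed ζ hζ).gen) (hl.cj_gamma W hJ)
      (hN.tau_beta_real hζ hζ1 hφ) (hl.gamma_inner_one W hJ) h3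

variable {c : ℤ} {W : Grid K Z} {z : (↥K →* ℂˣ) → (↥Z →* ℂˣ) → ℤ}

/-- An even coordinate on the row of `Z` bounds `H` by `U`. -/
theorem bound_of_even_right (D : EndData S T K Z P Q U V) (hd : BetaData L H E W φ ζ c z) {j : ↥Z →* ℂˣ}
    (hj : j ≠ 1) (hb : Even (z 1 j)) :
    ((Nat.card H : ℝ) - 1) / Nat.card E ≤ ((Nat.card U : ℝ) - 1) / Nat.card K := by
  have hZ : Z ≤ sigmaCore S := D.sS.side.Z_le.trans D.sS.side.P_le
  obtain ⟨s, hle, -, -, hpar⟩ := hN.gamma_coord hζ hζ1 hφ D.sS W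
    (fun g hg => hN.tilde_not_regP (Or.inl D.sS.side.P_le) hg)
    (fun g hg => hN.tilde_not_hat hZ (fun a ha b hb => W.comm ha hb) hg)
    (fun a ha => hN.fam_orth_eta hφ hZ W ha) hj
  obtain ⟨-, he⟩ := hpar _ (hd.eta 1 j)
  have hs : s ≠ 0 := by
    rintro rfl
    obtain ⟨k, hk⟩ := hb
    obtain ⟨m, hm⟩ := he
    omega
  have h1 : (1 : ℝ) ≤ (s : ℝ) ^ 2 := by
    have : (1 : ℤ) ≤ s ^ 2 := by nlinarith [mul_self_pos.2 hs]
    exact_mod_cast this
  obtain ⟨n, -, -, -, hn⟩ := hN.exists_quot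
  rw [hn] at hle ⊢
  exact (le_mul_of_one_le_left (Nat.cast_nonneg _) h1).trans hle

/-- An even coordinate on the column of `K` bounds `H` by `V`. -/
theorem bound_of_even_left (D : EndData S T K Z P Q U V) (hd : BetaData L H E W φ ζ c z) {i : ↥K →* ℂˣ}
    (hi : i ≠ 1) (ha : Even (z i 1)) :
    ((Nat.card H : ℝ) - 1) / Nat.card E ≤ ((Nat.card V : ℝ) - 1) / Nat.card Z := by
  have hZ : Z ≤ sigmaCore S := D.sS.side.Z_le.trans D.sS.side.P_le
  obtain ⟨s, hle, -, -, hpar⟩ := hN.gamma_coord hζ hζ1 hφ D.sT W.swap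
    (fun g hg => hN.tilde_not_regP (Or.inr D.sT.side.P_le) hg)
    (fun g hg => by
      rw [W.hatG_comm]
      exact hN.tilde_not_hat hZ (fun a ha b hb => W.comm ha hb) hg)
    (fun a ha k l => hN.fam_orth_eta hφ hZ W ha l k) hi
  obtain ⟨-, he⟩ := hpar _ (hd.eta i 1)
  have hs : s ≠ 0 := by
    rintro rfl
    obtain ⟨k, hk⟩ := ha
    obtain ⟨m, hm⟩ := he
    omega
  have h1 : (1 : ℝ) ≤ (s : ℝ) ^ 2 := by
    have : (1 : ℤ) ≤ s ^ 2 := by nlinarith [mul_self_pos.2 hs]
    exact_mod_cast this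
  obtain ⟨n, -, -, -, hn⟩ := hN.exists_quot
  rw [hn] at hle ⊢
  exact (le_mul_of_one_le_left (Nat.cast_nonneg _) h1).trans hle

end Nbr

/-- The averaged mean square of the row, the column and one further function. -/
noncomputable def tri (W : Grid K Z) (f : G → ℂ) (X : Set G) : ℝ :=
  (∑ i ∈ Finset.univ.erase (1 : ↥K →* ℂˣ), dens X (W.eta i 1)) / ((Nat.card K : ℝ) - 1) +
    (∑ j ∈ Finset.univ.erase (1 : ↥Z →* ℂˣ), dens X (W.eta 1 j)) / ((Nat.card Z : ℝ) - 1) + dens X f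

/-- The pointwise form of `tri`. -/
noncomputable def triAt (W : Grid K Z) (f : G → ℂ) (g : G) : ℝ :=
  (∑ i ∈ Finset.univ.erase (1 : ↥K →* ℂˣ), ‖W.eta i 1 g‖ ^ 2) / ((Nat.card K : ℝ) - 1) +
    (∑ j ∈ Finset.univ.erase (1 : ↥Z →* ℂˣ), ‖W.eta 1 j g‖ ^ 2) / ((Nat.card Z : ℝ) - 1) + ‖f g‖ ^ 2

theorem le_tri (W : Grid K Z) (f : G → ℂ) {X : Set G} {c : ℝ} (h : ∀ g ∈ X, c ≤ triAt W f g) :
    c * meas X ≤ tri W f X := by
  have e : tri W f X = (Nat.card G : ℝ)⁻¹ * ∑ g : G with g ∈ X, triAt W f g := by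
    simp only [tri, triAt, dens_sum, Finset.sum_add_distrib, mul_add, dens]
    congr 1
    congr 1 <;> rw [← Finset.sum_div, ← Finset.mul_sum, Finset.sum_comm, mul_div_assoc]
  rw [e, ← dens_one, dens, mul_left_comm]
  refine mul_le_mul_of_nonneg_left ?_ (by positivity)
  rw [Finset.mul_sum]
  exact Finset.sum_le_sum fun g hg => by simpa using h g (Finset.mem_filter.1 hg).2

theorem tri_nonneg (W : Grid K Z) (f : G → ℂ) (X : Set G) (hK : 1 ≤ Nat.card K) (hZ : 1 ≤ Nat.card Z) :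
    0 ≤ tri W f X := by
  have h1 : (0 : ℝ) ≤ (Nat.card K : ℝ) - 1 := sub_nonneg.2 (by exact_mod_cast hK)
  have h2 : (0 : ℝ) ≤ (Nat.card Z : ℝ) - 1 := sub_nonneg.2 (by exact_mod_cast hZ)
  exact add_nonneg (add_nonneg (div_nonneg (Finset.sum_nonneg fun i _ => dens_nonneg _ _) h1)
    (div_nonneg (Finset.sum_nonneg fun i _ => dens_nonneg _ _) h2)) (dens_nonneg _ _)

/-- Constant values give their squares. -/
theorem triAt_const (W : Grid K Z) (f : G → ℂ) {g : G} {A B : ℤ} (hK : 2 ≤ Nat.card K) (hZ : 2 ≤ Nat.card Z)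
    (hA : ∀ i : ↥K →* ℂˣ, i ≠ 1 → W.eta i 1 g = A) (hB : ∀ j : ↥Z →* ℂˣ, j ≠ 1 → W.eta 1 j g = B) :
    triAt W f g = (A : ℝ) ^ 2 + (B : ℝ) ^ 2 + ‖f g‖ ^ 2 := by
  have h1 : (Nat.card K : ℝ) - 1 ≠ 0 := sub_ne_zero.2 (by norm_cast; omega)
  have h2 : (Nat.card Z : ℝ) - 1 ≠ 0 := sub_ne_zero.2 (by norm_cast; omega)
  have eA : ∑ i ∈ Finset.univ.erase (1 : ↥K →* ℂˣ), ‖W.eta i 1 g‖ ^ 2 = ((Nat.card K : ℝ) - 1) * (A : ℝ) ^ 2 := by
    rw [Finset.sum_congr rfl fun i hi => by
      rw [hA i (Finset.mem_erase.1 hi).1, Complex.norm_intCast, sq_abs], Finset.sum_const, nsmul_eq_mul,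
      W.card_erase_left]
  have eB : ∑ j ∈ Finset.univ.erase (1 : ↥Z →* ℂˣ), ‖W.eta 1 j g‖ ^ 2 = ((Nat.card Z : ℝ) - 1) * (B : ℝ) ^ 2 := by
    rw [Finset.sum_congr rfl fun j hj => by
      rw [hB j (Finset.mem_erase.1 hj).1, Complex.norm_intCast, sq_abs], Finset.sum_const, nsmul_eq_mul,
      W.card_erase_right]
  rw [triAt, eA, eB, mul_div_cancel_left₀ _ h1, mul_div_cancel_left₀ _ h2]

/-- The counting over the five regions. -/
theorem EndData.tri_count (D : EndData S T K Z P Q U V) (W : Grid K Z) {X : Set G}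
    (hXh : ∀ g ∈ X, g ∉ hatG K Z) (hXP : ∀ g ∈ X, g ∉ regP P) (hXQ : ∀ g ∈ X, g ∉ regP Q) (f : G → ℂ)
    {cX : ℝ} (hcX : cX ≤ tri W f X)
    (hR : ∀ g, g ∉ X → g ∉ hatG K Z → g ∉ regP P → g ∉ regP Q → 2 ≤ triAt W f g) :
    (1 - (Nat.card U : ℝ) / Nat.card P) / Nat.card K + (1 - (Nat.card V : ℝ) / Nat.card Q) / Nat.card Z + cX ≤
      2 * meas X + meas (regP P) + meas (regP Q) + (classInner f f).re := by
  have hq3 := D.sS.side.three_le_K
  have hw3 := D.sS.side.three_le_Z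
  set q : ℝ := (Nat.card K : ℝ) with hq
  set w : ℝ := (Nat.card Z : ℝ) with hw
  have hq1 : 0 < q - 1 := by
    have : (3 : ℝ) ≤ q := by rw [hq]; exact_mod_cast hq3
    linarith
  have hw1 : 0 < w - 1 := by
    have : (3 : ℝ) ≤ w := by rw [hw]; exact_mod_cast hw3
    linarith
  set h : Set G := hatG K Z with hh
  set sP : Set G := regP P with hsP
  set sQ : Set G := regP Q with hsQ
  set R : Set G := (X ∪ h ∪ sP ∪ sQ)ᶜ with hRdef
  have hPh : ∀ g ∈ sP, g ∉ h := fun g hg => regP_disjoint_hat W D.sS.side.coKP D.sS.side.prime hg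
  have hQh : ∀ g ∈ sQ, g ∉ h := fun g hg hgh =>
    regP_disjoint_hat W.swap D.sT.side.coKP D.sT.side.prime hg (by rwa [W.hatG_comm])
  have hcoPQ : (Nat.card P).Coprime (Nat.card Q) := by
    rw [D.sS.side.card_P, D.sT.side.card_P]
    refine Nat.Coprime.pow _ _ ((Nat.coprime_primes D.sS.primeZ D.sS.side.prime).2 fun e => ?_)
    have h1 := D.sS.side.coKP
    rw [D.sS.side.card_P, e] at h1
    have h2 := Nat.eq_one_of_dvd_coprimes h1 dvd_rfl (dvd_pow_self _ (Nat.card_pos.ne'))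
    exact D.sS.side.prime.ne_one h2
  have hsplit : ∀ F : G → ℂ,
      dens X F + dens h F + dens sP F + dens sQ F + dens R F = (classInner F F).re := fun F => by
    rw [← dens_compl (X ∪ h ∪ sP ∪ sQ) F, dens_union (s := X ∪ h ∪ sP) (t := sQ) ?_,
      dens_union (s := X ∪ h) (t := sP) ?_, dens_union (s := X) (t := h) hXh]
    · rintro g (hg | hg) hg'
      · exact hXP g hg hg'
      · exact hPh g hg' hg
    · rintro g ((hg | hg) | hg) hg'
      · exact hXQ g hg hg'
      · exact hQh g hg' hg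
      · exact regP_disjoint hcoPQ hg hg'
  have htot : tri W f X + tri W f h + tri W f sP + tri W f sQ + tri W f R = 2 + (classInner f f).re := by
    have eA : ∑ i ∈ Finset.univ.erase (1 : ↥K →* ℂˣ), (dens X (W.eta i 1) + dens h (W.eta i 1) +
        dens sP (W.eta i 1) + dens sQ (W.eta i 1) + dens R (W.eta i 1)) = q - 1 := by
      rw [Finset.sum_congr rfl (g := fun _ => (1 : ℝ)) fun i _ => by
        rw [hsplit, (W.signed i 1).self, Complex.one_re], Finset.sum_const, nsmul_eq_mul, mul_one,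
        W.card_erase_left]
    have eB : ∑ j ∈ Finset.univ.erase (1 : ↥Z →* ℂˣ), (dens X (W.eta 1 j) + dens h (W.eta 1 j) +
        dens sP (W.eta 1 j) + dens sQ (W.eta 1 j) + dens R (W.eta 1 j)) = w - 1 := by
      rw [Finset.sum_congr rfl (g := fun _ => (1 : ℝ)) fun j _ => by
        rw [hsplit, (W.signed 1 j).self, Complex.one_re], Finset.sum_const, nsmul_eq_mul, mul_one,
        W.card_erase_right]
    simp only [Finset.sum_add_distrib] at eA eB
    have e1 := congrArg (fun t => t / (q - 1)) eA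
    have e2 := congrArg (fun t => t / (w - 1)) eB
    simp only [add_div, div_self hq1.ne', div_self hw1.ne'] at e1 e2
    simp only [tri, ← hq, ← hw]
    linarith [hsplit f]
  have hhat : 2 * meas h ≤ tri W f h := by
    refine le_tri W f ?_
    rintro g ⟨x, a, ha, b, hb, ha1, hb1, rfl⟩
    have hn : ∀ i j, ‖W.eta i j (x * (a * b) * x⁻¹)‖ ^ 2 = 1 := fun i j => by
      rw [isClassFunction_genChar (W.eta_gen i j) (a * b) x, show W.eta i j (a * b) = _ from
        W.onHat i j ⟨a, ha⟩ ⟨b, hb⟩ (fun e => ha1 (congrArg Subtype.val e)) (fun e => hb1 (congrArg Subtype.val e)),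
        norm_mul, Complex.norm_eq_one_of_pow_eq_one (n := Nat.card K) (by
          rw [← Units.val_pow_eq_pow_val, ← map_pow, pow_card_eq_one', map_one, Units.val_one]) Nat.card_pos.ne',
        Complex.norm_eq_one_of_pow_eq_one (n := Nat.card Z) (by
          rw [← Units.val_pow_eq_pow_val, ← map_pow, pow_card_eq_one', map_one, Units.val_one]) Nat.card_pos.ne']
      norm_num
    rw [triAt, Finset.sum_congr rfl fun i _ => hn i 1, Finset.sum_congr rfl fun j _ => hn 1 j, Finset.sum_const,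
      Finset.sum_const, nsmul_eq_mul, nsmul_eq_mul, W.card_erase_left, W.card_erase_right, mul_one, mul_one,
      div_self hq1.ne', div_self hw1.ne']
    linarith [sq_nonneg ‖f (x * (a * b) * x⁻¹)‖]
  have hrest : 2 * meas R ≤ tri W f R := le_tri W f fun g hg => by
    simp only [hRdef, Set.mem_compl_iff, Set.mem_union, not_or] at hg
    exact hR g hg.1.1.1 hg.1.1.2 hg.1.2 hg.2
  have hP : (1 - (Nat.card U : ℝ) / Nat.card P) / q + meas sP ≤ tri W f sP := by
    have hA : meas sP ≤ (∑ i ∈ Finset.univ.erase (1 : ↥K →* ℂˣ), dens sP (W.eta i 1)) / (q - 1) := by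
      rw [le_div_iff₀ hq1, mul_comm, ← W.card_erase_left, ← nsmul_eq_mul, ← Finset.sum_const]
      exact Finset.sum_le_sum fun i hi => D.sS.dens_cross W (D.sS.side.odd_card K) (Finset.mem_erase.1 hi).1
    have hB : (1 - (Nat.card U : ℝ) / Nat.card P) / q ≤
        (∑ j ∈ Finset.univ.erase (1 : ↥Z →* ℂˣ), dens sP (W.eta 1 j)) / (w - 1) := by
      rw [le_div_iff₀ hw1, mul_comm]
      refine (le_of_eq ?_).trans ((D.sS.dens_shift W (Y := 0) isGenChar_zero 1 (by omega)).trans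
        (le_of_eq (Finset.sum_congr rfl fun j _ => ?_)))
      · rw [hq, hw]; norm_num
      · simp [hsP]
    simp only [tri, ← hq, ← hw]
    linarith [dens_nonneg sP f]
  have hQ : (1 - (Nat.card V : ℝ) / Nat.card Q) / w + meas sQ ≤ tri W f sQ := by
    have hB : meas sQ ≤ (∑ j ∈ Finset.univ.erase (1 : ↥Z →* ℂˣ), dens sQ (W.eta 1 j)) / (w - 1) := by
      rw [le_div_iff₀ hw1, mul_comm, ← W.card_erase_right, ← nsmul_eq_mul, ← Finset.sum_const]
      exact Finset.sum_le_sum fun j hj =>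
        D.sT.dens_cross W.swap (D.sS.side.odd_card Z) (Finset.mem_erase.1 hj).1
    have hA : (1 - (Nat.card V : ℝ) / Nat.card Q) / w ≤
        (∑ i ∈ Finset.univ.erase (1 : ↥K →* ℂˣ), dens sQ (W.eta i 1)) / (q - 1) := by
      rw [le_div_iff₀ hq1, mul_comm]
      refine (le_of_eq ?_).trans ((D.sT.dens_shift W.swap (Y := 0) isGenChar_zero 1 (by omega)).trans
        (le_of_eq (Finset.sum_congr rfl fun i _ => ?_)))
      · rw [hq, hw]; norm_num
      · simp [hsQ, W.eta_swap]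
    simp only [tri, ← hq, ← hw]
    linarith [dens_nonneg sQ f]
  have hmR : 1 - meas X - meas h - meas sP - meas sQ ≤ meas R := by
    have h1 := meas_compl (X ∪ h ∪ sP ∪ sQ)
    rw [← hRdef] at h1
    linarith [meas_union_le (X ∪ h ∪ sP) sQ, meas_union_le (X ∪ h) sP, meas_union_le X h]
  linarith

end Cfsg.Agent.OddFT
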