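import Cfsg.Agent.Lib.Lie.AbelianField
import Cfsg.Agent.Lib.Perm.GenTuples
import Mathlib.Analysis.Fourier.FiniteAbelian.PontryaginDuality

/-!
An abelian group of automorphisms of an elementary abelian group of order `w ^ q`, normalized by a
group of prime order `q` which moves all of its elements: it either lies in a field of order
`w ^ q`, or diagonalizes with respect to `q` lines which are permuted cyclically.
-/

set_option autoImplicit false
set_option linter.style.haveILetI false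
set_option linter.unusedSectionVars false

namespace Cfsg.Agent.OddFT.FieldModule

variable {V : Type*} [AddCommGroup V] [Finite V] {U : Type*} [Group U]

theorem app_mul (ρ : U →* AddMonoid.End V) (a b : U) (v : V) : ρ (a * b) v = ρ a (ρ b v) := by
  rw [map_mul]; rfl

theorem app_inv (ρ : U →* AddMonoid.End V) (a : U) (v : V) : ρ a⁻¹ (ρ a v) = v := by
  rw [← app_mul, inv_mul_cancel, map_one]; rfl

theorem app_inv' (ρ : U →* AddMonoid.End V) (a : U) (v : V) : ρ a (ρ a⁻¹ v) = v := by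
  rw [← app_mul, mul_inv_cancel, map_one]; rfl

/-- The elements fixing a subgroup pointwise. -/
def fixer (ρ : U →* AddMonoid.End V) (M : AddSubgroup V) : Subgroup U where
  carrier := {u | ∀ v ∈ M, ρ u v = v}
  one_mem' := fun v _ => by rw [map_one]; rfl
  mul_mem' := fun {a b} ha hb v hv => by rw [app_mul, hb v hv, ha v hv]
  inv_mem' := fun {a} ha v hv => by
    conv_lhs => rw [← ha v hv]
    exact app_inv ρ a v

/-- An element of prime order `r`, with `r` primitive for `w ^ q - 1`, fixes no non-zero vector. -/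
theorem eq_one_of_fixed {w q r : ℕ} (hw : w.Prime) (hq : q.Prime) (hV : Nat.card V = w ^ q)
    (ρ : U →* AddMonoid.End V) (hr : r.Prime) (hr1 : r ∣ w ^ q - 1) (hr2 : ¬ r ∣ w - 1)
    {h : U} (hh : orderOf h = r) {v : V} (hv : v ≠ 0) (hfix : ρ h v = v) : ρ h = 1 := by
  classical
  let T : V →+ V := ρ h
  let W : AddSubgroup V := (T - AddMonoidHom.id V).range
  have hTW : ∀ x ∈ W, T x ∈ W := by
    rintro x ⟨y, rfl⟩
    exact ⟨T y, by simp⟩
  have hker : ∀ x ∈ W, T x = x → x = 0 := by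
    rintro x ⟨y, hy⟩ hx
    have hy' : T y = y + x := by rw [← hy]; simp
    have hi : ∀ i : ℕ, ρ (h ^ i) y = y + i • x := by
      intro i
      induction i with
      | zero => simp [AddMonoid.End.coe_one]
      | succ i ih =>
        rw [pow_succ', app_mul, ih]
        show T (y + i • x) = _
        rw [map_add, map_nsmul, hy', hx, add_assoc, succ_nsmul']
    have h1 := hi r
    rw [← hh, pow_orderOf_eq_one, map_one, hh] at h1
    have h2 : r • x = 0 := by
      have : y + r • x = y := h1.symm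
      simpa using this
    have h3 : (w ^ q) • x = 0 := by rw [← hV]; exact card_nsmul_eq_zero'
    have hcop : r.Coprime (w ^ q) := by
      refine Nat.Coprime.pow_right _ ((Nat.coprime_primes hr hw).mpr ?_)
      rintro rfl
      have h4 : r ∣ r ^ q := dvd_pow_self r hq.ne_zero
      have h5 := Nat.dvd_sub h4 hr1
      rw [Nat.sub_sub_self (Nat.one_le_pow _ _ hr.pos)] at h5
      exact hr.not_dvd_one h5
    have hd := Nat.eq_one_of_dvd_coprimes hcop (addOrderOf_dvd_iff_nsmul_eq_zero.mpr h2)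
      (addOrderOf_dvd_iff_nsmul_eq_zero.mpr h3)
    exact AddMonoid.addOrderOf_eq_one_iff.mp hd
  obtain ⟨e, heq, he⟩ : ∃ e ≤ q, Nat.card W = w ^ e :=
    (Nat.dvd_prime_pow hw).mp (hV ▸ W.card_addSubgroup_dvd_card)
  rcases Nat.eq_zero_or_pos e with rfl | he0
  · refine AddMonoidHom.ext fun x => ?_
    have h1 : (T - AddMonoidHom.id V) x ∈ W := ⟨x, rfl⟩
    rw [AddSubgroup.eq_bot_of_card_eq W (by simpa using he), AddSubgroup.mem_bot] at h1
    exact sub_eq_zero.mp h1
  rcases Nat.eq_or_lt_of_le heq with rfl | hlt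
  · exfalso
    refine hv (hker v ?_ hfix)
    rw [AddSubgroup.eq_top_of_card_eq W (by rw [he, hV])]
    exact AddSubgroup.mem_top v
  exfalso
  let A := Subgroup.zpowers h
  let X := {x : W // x ≠ 0}
  have hst : ∀ a : A, ∀ x ∈ W, ρ a.1 x ∈ W := by
    rintro ⟨a, ha⟩ x hx
    let S : Submonoid U := { carrier := {g | ∀ y ∈ W, ρ g y ∈ W}
                             one_mem' := fun y hy => by rw [map_one]; exact hy
                             mul_mem' := fun {a b} ha hb y hy => by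
                               rw [app_mul]; exact ha _ (hb _ hy) }
    haveI : Finite A := (isOfFinOrder_iff_pow_eq_one.mpr ⟨r, hr.pos, hh ▸ pow_orderOf_eq_one h⟩).finite_zpowers.to_subtype
    obtain ⟨n, rfl⟩ : a ∈ Submonoid.powers h :=
      (isOfFinOrder_iff_pow_eq_one.mpr ⟨r, hr.pos, hh ▸ pow_orderOf_eq_one h⟩).mem_powers_iff_mem_zpowers.mpr ha
    exact S.pow_mem (show h ∈ S from hTW) n x hx
  have hne : ∀ (a : A) (x : X), (⟨ρ a.1 x.1.1, hst a _ x.1.2⟩ : W) ≠ 0 := by
    intro a x e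
    refine x.2 (Subtype.ext ?_)
    have e' : ρ a.1 x.1.1 = 0 := congrArg Subtype.val e
    have h1 := app_inv ρ a.1 x.1.1
    rw [e', map_zero] at h1
    exact h1.symm
  let _ : MulAction A X :=
    { smul := fun a x => ⟨_, hne a x⟩
      one_smul := fun x => Subtype.ext (Subtype.ext (by
        show ρ 1 x.1.1 = x.1.1; rw [map_one]; rfl))
      mul_smul := fun a b x => Subtype.ext (Subtype.ext (app_mul ρ a.1 b.1 x.1.1)) }
  have hAc : Nat.card A = r := by rw [Nat.card_zpowers, hh]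
  haveI : Finite A := Nat.finite_of_card_ne_zero (hAc ▸ hr.ne_zero)
  have hdvd := Cfsg.Agent.Perm.card_dvd_of_free (A := A) (X := X) (fun a x e => by
    by_contra ha
    haveI := Fact.mk hr
    have hmem : (⟨h, Subgroup.mem_zpowers h⟩ : A) ∈ Subgroup.zpowers a :=
      mem_zpowers_of_prime_card hAc ha
    have hx1 : ∀ v ∈ AddSubgroup.zmultiples x.1.1, ρ a.1 v = v := by
      rintro v ⟨n, rfl⟩
      show ρ a.1 (n • x.1.1) = n • x.1.1
      rw [map_zsmul, show ρ a.1 x.1.1 = x.1.1 from congrArg (fun z : X => z.1.1) e]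
    have hsub : Subgroup.zpowers a ≤
        (fixer ρ (AddSubgroup.zmultiples x.1.1)).comap A.subtype :=
      Subgroup.zpowers_le.mpr hx1
    exact x.2 (Subtype.ext (hker _ x.1.2
      (hsub hmem _ (AddSubgroup.mem_zmultiples _)))))
  have hX : Nat.card X = w ^ e - 1 := by
    have : Fintype W := Fintype.ofFinite _
    rw [Nat.card_eq_fintype_card, Fintype.card_subtype_compl, Fintype.card_subtype_eq,
      ← Nat.card_eq_fintype_card, he]
  rw [hX, hAc] at hdvd
  have h3 := Nat.dvd_gcd hdvd hr1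
  rw [Nat.pow_sub_one_gcd_pow_sub_one,
    show Nat.gcd e q = 1 from Nat.coprime_comm.mp
      (hq.coprime_iff_not_dvd.mpr (fun h => absurd (Nat.le_of_dvd he0 h) (by omega))),
    pow_one] at h3
  exact hr2 h3

/-- A faithful group whose order divides `w ^ q - 1` and is prime to `w - 1` is fixed-point-free. -/
theorem free_of_card [Finite U] {w q : ℕ} (hw : w.Prime) (hq : q.Prime)
    (hV : Nat.card V = w ^ q) (ρ : U →* AddMonoid.End V) (hfaith : ∀ u, ρ u = 1 → u = 1)
    (hU : Nat.card U ∣ w ^ q - 1) (hcop : (Nat.card U).Coprime (w - 1))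
    (u : U) (v : V) (hv : v ≠ 0) (hfix : ρ u v = v) : u = 1 := by
  by_contra hu
  obtain ⟨r, hr, hrd⟩ := Nat.exists_prime_and_dvd (mt orderOf_eq_one_iff.mp hu)
  have hh : orderOf (u ^ (orderOf u / r)) = r := by
    rw [orderOf_pow_of_dvd (Nat.ne_of_gt (Nat.div_pos (Nat.le_of_dvd (orderOf_pos u) hrd) hr.pos))
      (Nat.div_dvd_of_dvd hrd), Nat.div_div_self hrd (orderOf_pos u).ne']
  have hru : r ∣ Nat.card U := hrd.trans (orderOf_dvd_natCard u)
  have hfix' : ρ (u ^ (orderOf u / r)) v = v := by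
    have h1 : u ∈ fixer ρ (AddSubgroup.zmultiples v) := by
      rintro x ⟨n, rfl⟩
      show ρ u (n • v) = n • v
      rw [map_zsmul, hfix]
    exact pow_mem h1 _ v (AddSubgroup.mem_zmultiples v)
  have h2 := hfaith _ (eq_one_of_fixed hw hq hV ρ hr (hru.trans hU)
    (fun h => hr.not_dvd_one (hcop ▸ Nat.dvd_gcd hru h)) hh hv hfix')
  rw [h2, orderOf_one] at hh
  exact hr.one_lt.ne hh

/-- The irreducible case. -/
theorem field_case [Finite U] {w q : ℕ} (hw : w.Prime) (hq : q.Prime) (hV : Nat.card V = w ^ q)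
    (ρ : U →* AddMonoid.End V) (hc : ∀ g h, ρ g * ρ h = ρ h * ρ g)
    (hfaith : ∀ u, ρ u = 1 → u = 1)
    (hscalar : ∀ u, (∃ n : ℤ, ∀ v, ρ u v = n • v) → u = 1)
    (hirr : ∀ W : AddSubgroup V, (∀ u : U, ∀ v ∈ W, ρ u v ∈ W) → W = ⊥ ∨ W = ⊤) :
    IsCyclic U ∧ Nat.card U ∣ (w ^ q - 1) / (w - 1) ∧ (Nat.card U).Coprime (w - 1) ∧
      ∀ u v, v ≠ 0 → ρ u v = v → u = 1 := by
  classical
  haveI : Nontrivial V :=
    Finite.one_lt_card_iff_nontrivial.mp (hV ▸ Nat.one_lt_pow hq.ne_zero hw.one_lt)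
  obtain ⟨F, _, _, e, μ, he⟩ := Cfsg.Agent.Lie.AbelianField.exists_field ρ hc hirr
  have hF : Fintype.card F = w ^ q := by
    rw [← hV, Nat.card_congr e.toEquiv, Nat.card_eq_fintype_card]
  haveI := Fact.mk hw
  haveI : CharP F w := charP_of_card_eq_prime_pow hF
  have hμ1 : ∀ a : U, μ a = 1 → a = 1 := fun a ha =>
    hfaith a (DFunLike.ext _ _ fun v => e.injective ((he a v).trans (by rw [ha, one_mul]; rfl)))
  have hμinj : Function.Injective μ := by
    intro a b h
    have h1 : μ (a * b⁻¹) = 1 := by rw [map_mul, h, ← map_mul, mul_inv_cancel, map_one]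
    exact mul_inv_eq_one.mp (hμ1 _ h1)
  have hdvd : Nat.card U ∣ w ^ q - 1 := by
    have h1 : Function.Injective μ.toHomUnits := fun a b h =>
      hμinj (by simpa [MonoidHom.coe_toHomUnits] using congrArg Units.val h)
    have h2 := Subgroup.card_dvd_of_injective μ.toHomUnits h1
    rwa [Nat.card_units, Nat.card_eq_fintype_card (α := F), hF] at h2
  have hfree : ∀ u v, v ≠ 0 → ρ u v = v → u = 1 := by
    intro u v hv h
    refine hμ1 u ?_
    have h1 := congrArg e h
    rw [he] at h1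
    exact (mul_eq_right₀ (fun h0 => hv ((map_eq_zero_iff e e.injective).mp h0))).mp h1
  have hcop : (Nat.card U).Coprime (w - 1) := by
    refine Nat.coprime_of_dvd fun r hr h1 h2 => ?_
    haveI := Fact.mk hr
    obtain ⟨u, hu⟩ := exists_prime_orderOf_dvd_card' r h1
    have h3 : u ^ (w - 1) = 1 := orderOf_dvd_iff_pow_eq_one.mp (hu ▸ h2)
    have h4 : μ u ^ w = μ u := by
      have h5 : μ u ^ (w - 1) = 1 := by rw [← map_pow, h3, map_one]
      calc μ u ^ w = μ u ^ (w - 1) * μ u := by rw [← pow_succ, Nat.sub_add_cancel hw.one_le]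
        _ = μ u := by rw [h5, one_mul]
    rw [← Subfield.mem_bot_iff_pow_eq_self] at h4
    obtain ⟨n, hn⟩ : ∃ n : ℤ, (n : F) = μ u := by
      have hle : (⊥ : Subfield F) ≤ (ZMod.castHom (dvd_refl w) F).fieldRange := bot_le
      obtain ⟨z, hz⟩ := RingHom.mem_fieldRange.mp (hle h4)
      refine ⟨(z.val : ℤ), ?_⟩
      rw [← hz, Int.cast_natCast, ← map_natCast (ZMod.castHom (dvd_refl w) F), ZMod.natCast_zmod_val]
    have h6 := hscalar u ⟨n, fun v => e.injective (by rw [he, map_zsmul, zsmul_eq_mul, hn])⟩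
    rw [h6, orderOf_one] at hu
    exact hr.one_lt.ne hu
  refine ⟨isCyclic_of_injective_ringHom μ hμinj, ?_, hcop, hfree⟩
  obtain ⟨N, hN⟩ := Nat.sub_one_dvd_pow_sub_one w q
  rw [hN, Nat.mul_div_cancel_left _ (Nat.sub_pos_of_lt hw.one_lt)]
  exact hcop.dvd_of_dvd_mul_left (hN ▸ hdvd)

section Lines

variable {K : Type*} [Group K]

/-- An invariant subgroup with no smaller non-zero invariant subgroup. -/
def IsMinimalInv (ρ : U →* AddMonoid.End V) (M : AddSubgroup V) : Prop :=
  M ≠ ⊥ ∧ (∀ u, ∀ v ∈ M, ρ u v ∈ M) ∧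
    ∀ W : AddSubgroup V, W ≤ M → (∀ u, ∀ v ∈ W, ρ u v ∈ W) → W = ⊥ ∨ W = M

/-- If every multiplier killing `M` kills its image under `τ k`, then `τ k` does not move the
action of `U` on `M`. -/
theorem conj_eq_of_kill {w q d : ℕ} (hw : w.Prime) (hq : q.Prime) (ρ : U →* AddMonoid.End V)
    (hc : ∀ g h, ρ g * ρ h = ρ h * ρ g) (τ : K →* AddMonoid.End V)
    (hnorm : ∀ k u, ∃ u', τ k * ρ u * τ k⁻¹ = ρ u') {M : AddSubgroup V} (hM : IsMinimalInv ρ M)
    (hMc : Nat.card M = w ^ d) (hdq : d < q) (k : K) (hk : k ^ q = 1)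
    (hkill : ∀ r ∈ Subring.closure (Set.range ρ), (∀ v ∈ M, r v = 0) → ∀ v ∈ M, r (τ k v) = 0) :
    ∀ u, ∀ v ∈ M, (τ k * ρ u * τ k⁻¹ : AddMonoid.End V) v = ρ u v := by
  classical
  set R : Subring (AddMonoid.End V) := Subring.closure (Set.range ρ) with hR
  have hd0 : 0 < d := by
    by_contra h
    exact hM.1 (AddSubgroup.eq_bot_of_card_eq M (by rw [hMc, Nat.le_zero.mp (not_lt.mp h), pow_zero]))
  haveI : Nontrivial M :=
    Finite.one_lt_card_iff_nontrivial.mp (hMc ▸ Nat.one_lt_pow hd0.ne' hw.one_lt)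
  have hrM : ∀ r : R, ∀ v ∈ M, (r : AddMonoid.End V) v ∈ M := by
    rintro ⟨r, hr⟩
    induction hr using Subring.closure_induction with
    | mem x hx => obtain ⟨u, rfl⟩ := hx; exact hM.2.1 u
    | zero => intro v _; exact zero_mem _
    | one => intro v hv; exact hv
    | add x y _ _ hx hy => intro v hv; exact add_mem (hx v hv) (hy v hv)
    | neg x _ hx => intro v hv; exact neg_mem (hx v hv)
    | mul x y _ _ hx hy => intro v hv; exact hx _ (hy v hv)
  let ρM : U →* AddMonoid.End M :=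
    { toFun := fun u =>
        { toFun := fun v => ⟨ρ u v, hM.2.1 u v v.2⟩
          map_zero' := Subtype.ext (map_zero (ρ u))
          map_add' := fun x y => Subtype.ext (map_add (ρ u) x.1 y.1) }
      map_one' := AddMonoidHom.ext fun v => Subtype.ext (by
        show ρ 1 v.1 = v.1; rw [map_one]; rfl)
      map_mul' := fun a b => AddMonoidHom.ext fun v => Subtype.ext (app_mul ρ a b v.1) }
  obtain ⟨F, _, _, e, μ, he⟩ := Cfsg.Agent.Lie.AbelianField.exists_field ρM
    (fun g h => AddMonoidHom.ext fun v => Subtype.ext (DFunLike.congr_fun (hc g h) v.1))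
    (fun W hW => by
      rcases hM.2.2 (W.map M.subtype) (AddSubgroup.map_subtype_le W) (fun u v hv => by
        obtain ⟨x, hx, rfl⟩ := hv
        exact ⟨ρM u x, hW u x hx, rfl⟩) with h | h
      · exact Or.inl ((AddSubgroup.map_eq_bot_iff_of_injective _ Subtype.coe_injective).mp h)
      · refine Or.inr (AddSubgroup.map_injective (f := M.subtype) Subtype.coe_injective ?_)
        rw [h, ← AddMonoidHom.range_eq_map, AddSubgroup.range_subtype])
  have hF : Fintype.card F = w ^ d := by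
    rw [← hMc, Nat.card_congr e.toEquiv, Nat.card_eq_fintype_card]
  haveI := Fact.mk hw
  haveI : CharP F w := charP_of_card_eq_prime_pow hF
  let v0 : M := e.symm 1
  let π0 : R → F := fun r => e ⟨(r : AddMonoid.End V) v0.1, hrM r _ v0.2⟩
  have hlin : ∀ r : R, ∀ v : M,
      e ⟨(r : AddMonoid.End V) v.1, hrM r _ v.2⟩ = π0 r * e v := by
    rintro ⟨r, hr⟩
    suffices h : ∃ z : F, ∀ (v : M) (h : r v.1 ∈ M), e ⟨r v.1, h⟩ = z * e v by
      obtain ⟨z, hz⟩ := h
      intro v
      show e _ = e _ * e v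
      rw [hz v, hz v0, show e v0 = 1 from e.apply_symm_apply 1, mul_one]
    induction hr using Subring.closure_induction with
    | mem x hx =>
      obtain ⟨u, rfl⟩ := hx
      exact ⟨μ u, fun v _ => he u v⟩
    | zero => exact ⟨0, fun v _ => by rw [zero_mul]; exact map_zero e⟩
    | one => exact ⟨1, fun v _ => by rw [one_mul]; rfl⟩
    | add x y hx' hy' hx hy =>
      obtain ⟨a, ha⟩ := hx
      obtain ⟨b, hb⟩ := hy
      refine ⟨a + b, fun v _ => ?_⟩
      rw [add_mul, ← ha v (hrM ⟨x, hx'⟩ _ v.2), ← hb v (hrM ⟨y, hy'⟩ _ v.2), ← map_add]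
      rfl
    | neg x hx' hx =>
      obtain ⟨a, ha⟩ := hx
      refine ⟨-a, fun v _ => ?_⟩
      rw [neg_mul, ← ha v (hrM ⟨x, hx'⟩ _ v.2), ← map_neg]
      rfl
    | mul x y hx' hy' hx hy =>
      obtain ⟨a, ha⟩ := hx
      obtain ⟨b, hb⟩ := hy
      refine ⟨a * b, fun v _ => ?_⟩
      rw [mul_assoc, ← hb v (hrM ⟨y, hy'⟩ _ v.2),
        ← ha ⟨_, hrM ⟨y, hy'⟩ _ v.2⟩ (hrM ⟨x, hx'⟩ _ (hrM ⟨y, hy'⟩ _ v.2))]
      rfl
  let π : R →+* F :=
    { toFun := π0
      map_one' := e.apply_symm_apply 1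
      map_mul' := fun x y => hlin x ⟨(y : AddMonoid.End V) v0.1, hrM y _ v0.2⟩
      map_zero' := map_zero e
      map_add' := fun x y => map_add e ⟨(x : AddMonoid.End V) v0.1, hrM x _ v0.2⟩
        ⟨(y : AddMonoid.End V) v0.1, hrM y _ v0.2⟩ }
  have hsurj : Function.Surjective π := by
    intro z
    let W : AddSubgroup V :=
      (AddMonoidHom.mk' (fun r : R => (r : AddMonoid.End V) v0.1) (fun _ _ => rfl)).range
    rcases hM.2.2 W (by rintro _ ⟨r, rfl⟩; exact hrM r _ v0.2) (fun u v hv => by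
      obtain ⟨r, rfl⟩ := hv
      exact ⟨⟨ρ u, Subring.subset_closure ⟨u, rfl⟩⟩ * r, rfl⟩) with h | h
    · have h1 : v0.1 ∈ W := ⟨1, rfl⟩
      rw [h, AddSubgroup.mem_bot] at h1
      have h2 : e v0 = 1 := e.apply_symm_apply 1
      rw [show v0 = 0 from Subtype.ext h1, map_zero] at h2
      exact absurd h2 zero_ne_one
    · obtain ⟨r, hr⟩ : (e.symm z).1 ∈ W := h.symm ▸ (e.symm z).2
      exact ⟨r, by show e _ = z; rw [← e.apply_symm_apply z]; exact congrArg e (Subtype.ext hr)⟩
  -- conjugation by `τ k`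
  have hkk : τ k * τ k⁻¹ = 1 := by rw [← map_mul, mul_inv_cancel, map_one]
  let S : AddMonoid.End V →+* AddMonoid.End V :=
    { toFun := fun r => τ k⁻¹ * r * τ k
      map_one' := by rw [mul_one, ← map_mul, inv_mul_cancel, map_one]
      map_mul' := fun x y => by
        simp only [mul_assoc]
        rw [← mul_assoc (τ k) (τ k⁻¹), hkk, one_mul]
      map_zero' := by rw [mul_zero, zero_mul]
      map_add' := fun x y => by rw [mul_add, add_mul] }
  have hSR : ∀ r ∈ R, S r ∈ R := by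
    intro r hr
    have h1 : R ≤ R.comap S := Subring.closure_le.mpr (by
      rintro _ ⟨u, rfl⟩
      obtain ⟨u', hu'⟩ := hnorm k⁻¹ u
      rw [inv_inv] at hu'
      exact Subring.subset_closure ⟨u', hu'.symm⟩)
    exact h1 hr
  let SR : R →+* R := (S.comp R.subtype).codRestrict R (fun r => hSR r r.2)
  have hker : RingHom.ker π ≤ RingHom.ker (π.comp SR) := by
    intro r hr
    have hz : ∀ v ∈ M, (r : AddMonoid.End V) v = 0 := by
      intro v hv
      have h2 := hlin r ⟨v, hv⟩
      rw [show π0 r = 0 from hr, zero_mul] at h2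
      exact congrArg Subtype.val ((map_eq_zero_iff e e.injective).mp h2)
    show e ⟨τ k⁻¹ ((r : AddMonoid.End V) (τ k v0.1)), _⟩ = 0
    rw [map_eq_zero_iff e e.injective]
    exact Subtype.ext (by
      show τ k⁻¹ ((r : AddMonoid.End V) (τ k v0.1)) = 0
      rw [hkill r r.2 hz _ v0.2, map_zero])
  let θ : F →+* F := π.liftOfSurjective hsurj ⟨π.comp SR, hker⟩
  have hθ : ∀ r, θ (π r) = π (SR r) := fun r =>
    RingHom.liftOfRightInverse_comp_apply π _ _ ⟨π.comp SR, hker⟩ r
  letI : Algebra (ZMod w) F := ZMod.algebra F w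
  let θe : F ≃ₐ[ZMod w] F := AlgEquiv.ofRingEquiv
    (f := RingEquiv.ofBijective θ (Finite.injective_iff_bijective.mp θ.injective))
    (fun n => RingHom.congr_fun
      (Subsingleton.elim (θ.comp (algebraMap (ZMod w) F)) (algebraMap (ZMod w) F)) n)
  have hfr : Module.finrank (ZMod w) F = d := by
    have h1 := Module.natCard_eq_pow_finrank (K := ZMod w) (V := F)
    rw [Nat.card_zmod, Nat.card_eq_fintype_card, hF] at h1
    exact (Nat.pow_right_injective hw.two_le h1).symm
  have hj : orderOf θe ≤ d := by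
    have h1 := orderOf_le_card_univ (x := θe)
    have h2 := AlgEquiv.card_le (F := ZMod w) (K := F)
    omega
  intro u v hv
  obtain ⟨u', hu'⟩ := hnorm k u
  let r0 : R := ⟨ρ u', Subring.subset_closure ⟨u', rfl⟩⟩
  have hiter : ∀ n : ℕ, θ^[n] (π r0) = π (SR^[n] r0) := by
    intro n
    induction n with
    | zero => rfl
    | succ n ih => rw [Function.iterate_succ_apply', Function.iterate_succ_apply', ih, hθ]
  have hSn : ∀ (n : ℕ) (r : R), ((SR^[n] r : R) : AddMonoid.End V) =
      τ (k ^ n)⁻¹ * (r : AddMonoid.End V) * τ (k ^ n) := by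
    intro n
    induction n with
    | zero => intro r; simp
    | succ n ih =>
      intro r
      rw [Function.iterate_succ_apply]
      rw [ih (SR r)]
      show τ (k ^ n)⁻¹ * (τ k⁻¹ * (r : AddMonoid.End V) * τ k) * τ (k ^ n) = _
      rw [pow_succ', mul_inv_rev, map_mul, map_mul]
      simp only [mul_assoc]
  have hpq : Function.IsPeriodicPt θ q (π r0) := by
    show θ^[q] (π r0) = π r0
    rw [hiter]
    congr 1
    refine Subtype.ext ?_
    rw [hSn, hk, inv_one, map_one, one_mul, mul_one]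
  have hpj : Function.IsPeriodicPt θ (orderOf θe) (π r0) := by
    show θ^[orderOf θe] (π r0) = π r0
    have h1 := congrArg (fun f : F ≃ₐ[ZMod w] F => f (π r0)) (pow_orderOf_eq_one θe)
    simp only [AlgEquiv.coe_pow, AlgEquiv.one_apply] at h1
    exact h1
  have h1 := hpq.gcd hpj
  rw [show Nat.gcd q (orderOf θe) = 1 from hq.coprime_iff_not_dvd.mpr (fun h =>
    absurd (Nat.le_of_dvd (orderOf_pos θe) h) (by omega))] at h1
  have h2 : π (SR r0) = π r0 := by rw [← hθ]; exact h1
  have h3 : e ⟨(SR r0 : AddMonoid.End V) v, hrM (SR r0) v hv⟩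
      = e ⟨(r0 : AddMonoid.End V) v, hrM r0 v hv⟩ := by
    rw [hlin (SR r0) ⟨v, hv⟩, hlin r0 ⟨v, hv⟩]
    exact congrArg (fun z => z * e ⟨v, hv⟩) h2
  have h4 : (S (ρ u')) v = ρ u' v := congrArg Subtype.val (e.injective h3)
  have h5 : S (ρ u') = ρ u := by
    show τ k⁻¹ * ρ u' * τ k = ρ u
    rw [← hu', ← mul_assoc, ← mul_assoc, ← map_mul, inv_mul_cancel, map_one, one_mul, mul_assoc,
      ← map_mul, inv_mul_cancel, map_one, mul_one]
  rw [h5] at h4
  rw [hu', ← h4]

/-- The character of an invariant line. -/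
theorem line_char {w : ℕ} [Fact w.Prime] (ρ : U →* AddMonoid.End V) {M : AddSubgroup V}
    (hMc : Nat.card M = w) (hMi : ∀ u, ∀ v ∈ M, ρ u v ∈ M) :
    ∃ ν : U →* (ZMod w)ˣ, ∀ u, ν u = 1 ↔ u ∈ fixer ρ M := by
  classical
  haveI : Nontrivial M :=
    Finite.one_lt_card_iff_nontrivial.mp (hMc ▸ (Fact.out : w.Prime).one_lt)
  obtain ⟨g, hg⟩ := exists_ne (0 : M)
  have hord : addOrderOf g.1 = w := by
    rw [AddSubgroup.addOrderOf_coe]
    refine ((Fact.out : w.Prime).eq_one_or_self_of_dvd _ (hMc ▸ addOrderOf_dvd_natCard g)).resolve_left ?_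
    exact fun h => hg (AddMonoid.addOrderOf_eq_one_iff.mp h)
  have hspan : ∀ v ∈ M, ∃ n : ℤ, n • g.1 = v := by
    intro v hv
    obtain ⟨n, hn⟩ : (⟨v, hv⟩ : M) ∈ AddSubgroup.zmultiples g :=
      mem_zmultiples_of_prime_card hMc hg
    exact ⟨n, congrArg Subtype.val hn⟩
  have huniq : ∀ n m : ℤ, n • g.1 = m • g.1 → (n : ZMod w) = m := by
    intro n m h
    rw [ZMod.intCast_eq_intCast_iff_dvd_sub, ← hord, addOrderOf_dvd_iff_zsmul_eq_zero, sub_zsmul, h]
    simp
  choose n hn using fun u => hspan _ (hMi u _ g.2)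
  let μ : U →* ZMod w :=
    { toFun := fun u => (n u : ZMod w)
      map_one' := by
        have h := huniq (n 1) 1 (by rw [hn 1, one_zsmul, map_one]; rfl)
        simpa using h
      map_mul' := fun a b => by
        rw [← Int.cast_mul]
        refine huniq _ _ ?_
        rw [hn, app_mul, ← hn b, map_zsmul, ← hn a, ← mul_zsmul', mul_comm] }
  refine ⟨μ.toHomUnits, fun u => ⟨fun h v hv => ?_, fun h => ?_⟩⟩
  · have h1 : (n u : ZMod w) = ((1 : ℤ) : ZMod w) := by
      rw [Int.cast_one]; exact congrArg Units.val h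
    rw [ZMod.intCast_eq_intCast_iff_dvd_sub, ← hord, addOrderOf_dvd_iff_zsmul_eq_zero,
      sub_zsmul, hn, one_zsmul] at h1
    obtain ⟨m, rfl⟩ := hspan v hv
    rw [map_zsmul]
    congr 1
    rw [add_neg_eq_zero] at h1
    exact h1.symm
  · refine Units.ext ?_
    show (n u : ZMod w) = 1
    rw [← Int.cast_one]
    exact huniq _ _ (by rw [hn, one_zsmul]; exact h _ g.2)

end Lines

/-- The reducible case: the module is a sum of `q` lines permuted regularly by `K`. -/
theorem lines_case {V : Type*} [AddCommGroup V] [Finite V] {U : Type*} [CommGroup U] [Finite U]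
    {K : Type*} [Group K] [Fintype K] {w q : ℕ} (hw : w.Prime) (hq : q.Prime) (hw2 : w ≠ 2)
    (hq2 : q ≠ 2) (hK : Nat.card K = q) (hV : Nat.card V = w ^ q) (hUodd : Odd (Nat.card U))
    (ρ : U →* AddMonoid.End V) (τ : K →* AddMonoid.End V) (c : K → U → U)
    (hcρ : ∀ k u, τ k * ρ u * τ k⁻¹ = ρ (c k u)) (hfaith : ∀ u, ρ u = 1 → u = 1)
    (hnofix : ∀ v, (∀ u, ρ u v = v) → v = 0)
    (hsurj : ∀ k, k ≠ 1 → ∀ x, ∃ u, c k u = x * u) (hprod : ∀ u, ∏ k, c k u = 1)
    (hred : ¬ ∀ W : AddSubgroup V, (∀ u : U, ∀ v ∈ W, ρ u v ∈ W) → W = ⊥ ∨ W = ⊤) :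
    4 * Nat.card U ≤ w ^ (q - 1) ∧ (∀ u : U, u ^ (w - 1) = 1) ∧
      2 * (w - 1) * Nat.card U ≤
        Nat.card {ψ : AddChar V ℂ // ∀ u, (∀ v, ψ (ρ u v) = ψ v) → u = 1} := by
  classical
  haveI := Fact.mk hw
  have hρc : ∀ g h, ρ g * ρ h = ρ h * ρ g := fun g h => by rw [← map_mul, ← map_mul, mul_comm]
  have hτ : ∀ (k : K) (v : V), τ k⁻¹ (τ k v) = v := fun k v => app_inv τ k v
  have hτ' : ∀ (k : K) (v : V), τ k (τ k⁻¹ v) = v := fun k v => app_inv' τ k v
  have hcv : ∀ k u v, τ k (ρ u (τ k⁻¹ v)) = ρ (c k u) v := fun k u v => by rw [← hcρ]; rfl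
  -- a minimal invariant subgroup
  obtain ⟨W0, hW0i, hW0⟩ : ∃ W : AddSubgroup V, (∀ u : U, ∀ v ∈ W, ρ u v ∈ W) ∧
      ¬ (W = ⊥ ∨ W = ⊤) := by
    by_contra h
    push Not at h
    exact hred h
  rw [not_or] at hW0
  obtain ⟨M, ⟨hMi, hMb⟩, hMmin⟩ := Set.exists_min_image
    {W : AddSubgroup V | (∀ u : U, ∀ v ∈ W, ρ u v ∈ W) ∧ W ≠ ⊥} (fun W => Nat.card W)
    (Set.toFinite _) ⟨W0, hW0i, hW0.1⟩
  have hM : IsMinimalInv ρ M := ⟨hMb, hMi, fun W hW hWi => (em (W = ⊥)).imp_right fun hWb =>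
    AddSubgroup.eq_of_le_of_card_ge hW (hMmin W ⟨hWi, hWb⟩)⟩
  obtain ⟨d, hdq, hd⟩ : ∃ d < q, Nat.card M = w ^ d := by
    obtain ⟨d, hdq, hd⟩ := (Nat.dvd_prime_pow hw).mp (hV ▸ M.card_addSubgroup_dvd_card)
    refine ⟨d, lt_of_le_of_ne hdq ?_, hd⟩
    rintro rfl
    refine hW0.2 (AddSubgroup.eq_top_of_le_card W0 ?_)
    rw [hV, ← hd]
    exact hMmin W0 ⟨hW0i, hW0.1⟩
  have hd0 : 0 < d := by
    by_contra h
    exact hMb (AddSubgroup.eq_bot_of_card_eq M (by rw [hd, Nat.le_zero.mp (not_lt.mp h), pow_zero]))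
  -- its images
  let Mk : K → AddSubgroup V := fun k => M.map (τ k : V →+ V)
  have hmem : ∀ k v, v ∈ Mk k ↔ τ k⁻¹ v ∈ M := by
    intro k v
    refine ⟨?_, fun h => ⟨_, h, hτ' k v⟩⟩
    rintro ⟨m, hm, rfl⟩
    show τ k⁻¹ (τ k m) ∈ M
    rwa [hτ]
  have hMkc : ∀ k, Nat.card (Mk k) = w ^ d := fun k => by
    refine (AddSubgroup.card_map_of_injective (f := (τ k : V →+ V)) (fun a b h => ?_)).trans hd
    exact (hτ k a).symm.trans ((congrArg (fun x => τ k⁻¹ x) h).trans (hτ k b))
  have hconj : ∀ k u v, τ k⁻¹ (ρ u v) = ρ (c k⁻¹ u) (τ k⁻¹ v) := by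
    intro k u v
    rw [← hcv, inv_inv, hτ']
  have hMkm : ∀ k, IsMinimalInv ρ (Mk k) := by
    intro k
    refine ⟨?_, fun u v hv => ?_, fun W hW hWi => ?_⟩
    · intro h
      have h1 := hMkc k
      rw [h, AddSubgroup.card_bot] at h1
      exact absurd h1.symm (Nat.one_lt_pow hd0.ne' hw.one_lt).ne'
    · rw [hmem, hconj] at *
      exact hMi _ _ hv
    · rcases hM.2.2 (W.comap (τ k : V →+ V)) (fun m hm => by
          have h1 : τ k⁻¹ (τ k m) ∈ M := (hmem k _).mp (hW hm)
          rwa [hτ] at h1) (fun u m hm => by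
          show τ k (ρ u m) ∈ W
          have hm' : τ k m ∈ W := hm
          have h1 := hWi (c k u) _ hm'
          rwa [← hcv, hτ] at h1) with h | h
      · refine Or.inl ((AddSubgroup.eq_bot_iff_forall _).mpr fun v hv => ?_)
        have h1 : τ k⁻¹ v ∈ W.comap (τ k : V →+ V) := by
          show τ k (τ k⁻¹ v) ∈ W
          rwa [hτ']
        rw [h, AddSubgroup.mem_bot] at h1
        rw [← hτ' k v, h1, map_zero]
      · refine Or.inr (le_antisymm hW fun v hv => ?_)
        have h1 : τ k⁻¹ v ∈ W.comap (τ k : V →+ V) := h.symm ▸ (hmem k v).mp hv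
        have h2 : τ k (τ k⁻¹ v) ∈ W := h1
        rwa [hτ'] at h2
  let R : Subring (AddMonoid.End V) := Subring.closure (Set.range ρ)
  have hRc : ∀ r ∈ R, ∀ u, ρ u * r = r * ρ u := by
    intro r hr u
    have h1 : R ≤ Subring.centralizer {ρ u} := Subring.closure_le.mpr (by
      rintro _ ⟨u', rfl⟩
      exact Subring.mem_centralizer_iff.mpr (fun g hg => by rw [Set.mem_singleton_iff.mp hg, hρc]))
    exact Subring.mem_centralizer_iff.mp (h1 hr) _ rfl
  have hRR : ∀ r ∈ R, ∀ s ∈ R, s * r = r * s := by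
    intro r hr s hs
    have h1 : R ≤ Subring.centralizer {r} := Subring.closure_le.mpr (by
      rintro _ ⟨u', rfl⟩
      exact Subring.mem_centralizer_iff.mpr (fun g hg => by rw [Set.mem_singleton_iff.mp hg, hRc r hr]))
    exact (Subring.mem_centralizer_iff.mp (h1 hs) _ rfl).symm
  -- different images are separated
  have hsep : ∀ i j, i ≠ j → ∃ r ∈ R, (∀ v ∈ Mk i, r v = 0) ∧
      ∀ v ∈ Mk j, r v = 0 → v = 0 := by
    intro i j hij
    by_contra hcon
    push Not at hcon
    have hne : j * i⁻¹ ≠ 1 := fun h => hij (mul_inv_eq_one.mp h).symm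
    have hkill : ∀ r ∈ R, (∀ v ∈ Mk i, r v = 0) →
        ∀ v ∈ Mk i, r (τ (j * i⁻¹) v) = 0 := by
      intro r hr hz v hv
      obtain ⟨v1, hv1, hr1, hv10⟩ := hcon r hr hz
      let Z : AddSubgroup V := Mk j ⊓ AddMonoidHom.ker (r : V →+ V)
      rcases (hMkm j).2.2 Z inf_le_left (fun u x hx => by
        refine ⟨(hMkm j).2.1 u x hx.1, ?_⟩
        show r (ρ u x) = 0
        have h1 : ρ u (r x) = r (ρ u x) := DFunLike.congr_fun (hRc r hr u) x
        rw [← h1, show r x = 0 from hx.2, map_zero]) with h | h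
      · have h1 : v1 ∈ Z := ⟨hv1, hr1⟩
        rw [h, AddSubgroup.mem_bot] at h1
        exact absurd h1 hv10
      · have h1 : τ (j * i⁻¹) v ∈ Mk j := by
          rw [hmem, ← app_mul, ← mul_assoc, inv_mul_cancel, one_mul]
          exact (hmem i v).mp hv
        rw [← h] at h1
        exact h1.2
    have hfix := conj_eq_of_kill hw hq ρ hρc τ (fun k u => ⟨_, hcρ k u⟩) (hMkm i) (hMkc i) hdq
      (j * i⁻¹) (hK ▸ pow_card_eq_one') hkill
    refine (hMkm i).1 ((AddSubgroup.eq_bot_iff_forall _).mpr fun v hv => hnofix v fun x => ?_)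
    obtain ⟨u, hu⟩ := hsurj _ hne x
    have h1 : ρ u⁻¹ v ∈ Mk i := (hMkm i).2.1 _ _ hv
    have h2 := hfix u _ h1
    rw [hcρ, hu, app_mul, app_inv'] at h2
    exact h2
  have hsel : ∀ (j : K) (s : Finset K), j ∉ s → ∃ r ∈ R,
      (∀ i ∈ s, ∀ v ∈ Mk i, r v = 0) ∧ ∀ v ∈ Mk j, r v = 0 → v = 0 := by
    intro j s
    induction s using Finset.induction with
    | empty => exact fun _ => ⟨1, one_mem _, fun i hi => by simp at hi, fun v _ h => h⟩
    | insert a s _ ih =>
      intro hj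
      rw [Finset.mem_insert, not_or] at hj
      obtain ⟨r, hr, hr1, hr2⟩ := ih hj.2
      obtain ⟨r', hr', hr1', hr2'⟩ := hsep a j (Ne.symm hj.1)
      refine ⟨r' * r, mul_mem hr' hr, fun i hi v hv => ?_, fun v hv h => ?_⟩
      · rcases Finset.mem_insert.mp hi with rfl | hi
        · rw [hRR r hr r' hr']
          show r (r' v) = 0
          rw [hr1' v hv, map_zero]
        · show r' (r v) = 0
          rw [hr1 i hi v hv, map_zero]
      · refine hr2 v hv (hr2' _ ?_ h)
        have h1 : R ≤ ({ carrier := {g : AddMonoid.End V | ∀ x ∈ Mk j, g x ∈ Mk j}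
                         one_mem' := fun x hx => hx
                         mul_mem' := fun ha hb x hx => ha _ (hb _ hx)
                         zero_mem' := fun x _ => zero_mem _
                         add_mem' := fun ha hb x hx => add_mem (ha x hx) (hb x hx)
                         neg_mem' := fun ha x hx => neg_mem (ha x hx) } :
            Subring (AddMonoid.End V)) :=
          Subring.closure_le.mpr (by rintro _ ⟨u, rfl⟩; exact (hMkm j).2.1 u)
        exact h1 hr v hv
  let E : (∀ k, Mk k) →+ V :=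
    { toFun := fun x => ∑ k, (x k : V)
      map_zero' := Finset.sum_eq_zero fun k _ => rfl
      map_add' := fun x y => by rw [← Finset.sum_add_distrib]; rfl }
  have hinj : Function.Injective E := by
    rw [injective_iff_map_eq_zero]
    intro x hx
    funext j
    obtain ⟨r, -, hr1, hr2⟩ := hsel j (Finset.univ.erase j) (by simp)
    refine Subtype.ext (hr2 _ (x j).2 ?_)
    have h1 : r (∑ k, (x k : V)) = 0 := (congrArg r hx).trans (map_zero r)
    rw [map_sum, Finset.sum_eq_single j (fun k _ hk =>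
      hr1 k (Finset.mem_erase.mpr ⟨hk, Finset.mem_univ k⟩) _ (x k).2)
      (fun h => absurd (Finset.mem_univ j) h)] at h1
    exact h1
  have hcard : Nat.card (∀ k, Mk k) = w ^ (d * q) := by
    rw [Nat.card_pi, Finset.prod_congr rfl (fun k _ => hMkc k), Finset.prod_const,
      Finset.card_univ, ← Nat.card_eq_fintype_card, hK, ← pow_mul]
  have hd1 : d = 1 := by
    have h1 := Nat.card_le_card_of_injective E hinj
    rw [hcard, hV] at h1
    have h2 := (Nat.pow_le_pow_iff_right hw.one_lt).mp h1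
    have h3 : d * q ≤ 1 * q := by omega
    have := Nat.le_of_mul_le_mul_right h3 hq.pos
    omega
  subst hd1
  simp only [pow_one] at hd hMkc
  have hbij : Function.Bijective E :=
    Function.Injective.bijective_of_nat_card_le hinj (by rw [hcard, hV, one_mul])
  -- the characters of the lines
  choose ν hν using fun k => line_char ρ (hMkc k) (hMkm k).2.1
  have hall : ∀ u, (∀ k, ν k u = 1) → u = 1 := by
    intro u h
    refine hfaith u (DFunLike.ext _ _ fun v => ?_)
    obtain ⟨x, rfl⟩ := hbij.2 v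
    show ρ u (∑ k, (x k : V)) = ∑ k, (x k : V)
    rw [map_sum]
    exact Finset.sum_congr rfl fun k _ => (hν k u).mp (h k) _ (x k).2
  have hM1 : Mk 1 = M := by
    ext v
    rw [hmem, inv_one, map_one]
    rfl
  have hother : ∀ u, (∀ k, k ≠ 1 → ν k u = 1) → u = 1 := by
    intro u h
    refine hall u fun k => ?_
    rcases eq_or_ne k 1 with rfl | hk
    · have h1 : ∏ l, ν 1 (c l u) = 1 := by rw [← map_prod, hprod, map_one]
      rw [Finset.prod_eq_single 1 (fun l _ hl => (hν 1 _).mpr fun v hv => by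
          have h2 : τ l⁻¹ v ∈ Mk l⁻¹ := by
            rw [hmem, inv_inv, hτ', ← hM1]
            exact hv
          rw [← hcv, (hν _ u).mp (h _ (inv_ne_one.mpr hl)) _ h2, hτ'])
        (fun h => absurd (Finset.mem_univ (1 : K)) h)] at h1
      have h3 : c 1 u = u := by
        have h4 : ρ (c 1 u) = ρ u := by rw [← hcρ, inv_one, map_one, one_mul, mul_one]
        refine mul_inv_eq_one.mp (hfaith _ ?_)
        rw [map_mul, h4, ← map_mul, mul_inv_cancel, map_one]
      rwa [h3] at h1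
    · exact h k hk
  let J := {k : K // k ≠ 1}
  have hJ : Fintype.card J = q - 1 := by
    rw [Fintype.card_subtype_compl, Fintype.card_subtype_eq, ← Nat.card_eq_fintype_card, hK]
  have hUle : 2 ^ (q - 1) * Nat.card U ≤ (w - 1) ^ (q - 1) := by
    have hi : Function.Injective (fun u => fun k : J => (⟨ν k.1 u, u, rfl⟩ : (ν k.1).range)) := by
      intro a b h
      refine mul_inv_eq_one.mp (hother _ fun k hk => ?_)
      rw [map_mul, map_inv, mul_inv_eq_one]
      exact congrArg Subtype.val (congrFun h ⟨k, hk⟩)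
    have h1 := Nat.card_le_card_of_injective _ hi
    rw [Nat.card_pi] at h1
    calc 2 ^ (q - 1) * Nat.card U ≤ 2 ^ (q - 1) * ∏ k : J, Nat.card (ν k.1).range :=
          Nat.mul_le_mul_left _ h1
      _ = ∏ k : J, 2 * Nat.card (ν k.1).range := by
          rw [Finset.prod_mul_distrib, Finset.prod_const, Finset.card_univ, hJ]
      _ ≤ ∏ _k : J, (w - 1) := Finset.prod_le_prod' fun k _ => by
          have h2 : Nat.card (ν k.1).range ∣ w - 1 := by
            have := Subgroup.card_subgroup_dvd_card (ν k.1).range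
            rwa [Nat.card_eq_fintype_card (α := (ZMod w)ˣ), ZMod.card_units] at this
          have h3 : Odd (Nat.card (ν k.1).range) :=
            hUodd.of_dvd_nat (Subgroup.card_range_dvd _)
          refine Nat.le_of_dvd (Nat.sub_pos_of_lt hw.one_lt) ?_
          refine Nat.Coprime.mul_dvd_of_dvd_of_dvd (Nat.coprime_two_left.mpr h3) ?_ h2
          obtain ⟨t, ht⟩ := hw.odd_of_ne_two hw2
          exact ⟨t, by omega⟩
      _ = (w - 1) ^ (q - 1) := by rw [Finset.prod_const, Finset.card_univ, hJ]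
  have hq3 : 2 ≤ q - 1 := by have := hq.two_le; omega
  refine ⟨?_, fun u => hall _ fun k => by rw [map_pow, ZMod.units_pow_card_sub_one_eq_one], ?_⟩
  · calc 4 * Nat.card U ≤ 2 ^ (q - 1) * Nat.card U :=
          Nat.mul_le_mul_right _ (Nat.pow_le_pow_right (by norm_num) hq3 : 2 ^ 2 ≤ 2 ^ (q - 1))
      _ ≤ (w - 1) ^ (q - 1) := hUle
      _ ≤ w ^ (q - 1) := Nat.pow_le_pow_left (Nat.sub_le w 1) _
  haveI : Fintype V := Fintype.ofFinite V
  let e := (AddEquiv.ofBijective E hbij).symm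
  let C := fun k => {χ : AddChar (Mk k) ℂ // χ ≠ 1}
  have hC : ∀ k, Nat.card (C k) = w - 1 := fun k => by
    haveI : Fintype (Mk k) := Fintype.ofFinite _
    rw [Nat.card_eq_fintype_card, Fintype.card_subtype_compl, Fintype.card_subtype_eq,
      AddChar.card_eq, ← Nat.card_eq_fintype_card, hMkc k]
  let Ψ : (∀ k, C k) → AddChar V ℂ := fun χ =>
    { toFun := fun v => ∏ k, (χ k).1 ((e v) k)
      map_zero_eq_one' := Finset.prod_eq_one fun k _ => by
        rw [map_zero]; exact (χ k).1.map_zero_eq_one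
      map_add_eq_mul' := fun a b => by
        rw [← Finset.prod_mul_distrib]
        refine Finset.prod_congr rfl fun k _ => ?_
        rw [map_add]
        exact (χ k).1.map_add_eq_mul _ _ }
  have hΨ : ∀ χ j (m : Mk j), Ψ χ m.1 = (χ j).1 m := by
    intro χ j m
    have he : e m.1 = Pi.single j m := by
      apply hinj
      show E (e m.1) = _
      refine ((AddEquiv.ofBijective E hbij).apply_symm_apply m.1).trans ?_
      show m.1 = ∑ k, ((Pi.single (M := fun k => Mk k) j m) k : V)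
      rw [Finset.sum_eq_single j (fun k _ hk => by rw [Pi.single_eq_of_ne hk]; rfl)
        (fun h => absurd (Finset.mem_univ j) h), Pi.single_eq_same]
    show ∏ k, (χ k).1 ((e m.1) k) = _
    rw [he, Finset.prod_eq_single j
      (fun k _ hk => by rw [Pi.single_eq_of_ne hk]; exact (χ k).1.map_zero_eq_one)
      (fun h => absurd (Finset.mem_univ j) h), Pi.single_eq_same]
  have hfree : ∀ χ u, (∀ v, Ψ χ (ρ u v) = Ψ χ v) → u = 1 := by
    intro χ u h
    refine hall u fun k => (hν k u).mpr fun v hv => ?_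
    by_contra hne
    have hmem' : ρ u v - v ∈ Mk k := sub_mem ((hMkm k).2.1 u v hv) hv
    have hker : (χ k).1 ⟨_, hmem'⟩ = 1 := by
      rw [← hΨ χ k ⟨_, hmem'⟩, AddChar.map_sub_eq_div, h v, div_self]
      exact ((Group.isUnit (Multiplicative.ofAdd v)).map (Ψ χ).toMonoidHom).ne_zero
    refine (χ k).2 (DFunLike.ext _ _ fun x => ?_)
    have hx : x ∈ AddSubgroup.zmultiples (⟨_, hmem'⟩ : Mk k) :=
      mem_zmultiples_of_prime_card (hMkc k) (fun h0 => hne (sub_eq_zero.mp (congrArg Subtype.val h0)))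
    obtain ⟨m, rfl⟩ := hx
    show (χ k).1 (m • _) = 1
    rw [AddChar.map_zsmul_eq_zpow, hker, one_zpow]
  have hΨi : Function.Injective (fun χ => (⟨Ψ χ, hfree χ⟩ :
      {ψ : AddChar V ℂ // ∀ u, (∀ v, ψ (ρ u v) = ψ v) → u = 1})) := by
    intro a b h
    funext k
    refine Subtype.ext (DFunLike.ext _ _ fun m => ?_)
    rw [← hΨ a k m, ← hΨ b k m]
    exact DFunLike.congr_fun (congrArg Subtype.val h) m.1
  refine le_trans ?_ (Nat.card_le_card_of_injective _ hΨi)
  rw [Nat.card_pi, Finset.prod_congr rfl (fun k _ => hC k), Finset.prod_const, Finset.card_univ,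
    ← Nat.card_eq_fintype_card, hK]
  calc 2 * (w - 1) * Nat.card U = (w - 1) * (2 * Nat.card U) := by ring
    _ ≤ (w - 1) * (2 ^ (q - 1) * Nat.card U) :=
        Nat.mul_le_mul_left _ (Nat.mul_le_mul_right _ (Nat.le_self_pow (by omega) 2))
    _ ≤ (w - 1) * (w - 1) ^ (q - 1) := Nat.mul_le_mul_left _ hUle
    _ = (w - 1) ^ q := by rw [← pow_succ', Nat.sub_add_cancel hq.one_le]

end Cfsg.Agent.OddFT.FieldModule
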