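import Cfsg.Agent.Lib.OddChar.FT.NbrCoh
import Cfsg.Agent.Lib.OddLocal.FittingParts
import Cfsg.Agent.Lib.Char.CoherenceDescent

/-!
Averages over the cosets `a R(a)` of the neighbour: they are the member of the family plus a constant, and
their mean square bounds the mean square on the support from below.
-/

set_option autoImplicit false
set_option linter.unusedSectionVars false
set_option linter.unusedVariables false
set_option linter.style.haveILetI false

open Cfsg Cfsg.Agent.Char Cfsg.Agent.OddChar Cfsg.Agent.OddLocal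
open scoped ComplexConjugate

namespace Cfsg.Agent.OddFT

universe u

variable {G : Type u} [Group G] [Fintype G]

open Classical in
/-- The mean of `X` over the coset `a R(a)`. -/
noncomputable def dadeAvg (R : G → Subgroup G) (X : G → ℂ) (a : G) : ℂ :=
  (Nat.card (R a) : ℂ)⁻¹ * ∑ u : G with u ∈ R a, X (a * u)

theorem norm_dadeAvg_sq_le (R : G → Subgroup G) (X : G → ℂ) (a : G) :
    ‖dadeAvg R X a‖ ^ 2 ≤ avgSq R X a := by
  classical
  set s := Finset.univ.filter fun u : G => u ∈ R a with hs
  have hcard : (s.card : ℝ) = Nat.card (R a) := by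
    rw [hs, Nat.card_eq_fintype_card, Fintype.card_subtype]
  have hpos : (0 : ℝ) < Nat.card (R a) := Nat.cast_pos.2 Nat.card_pos
  have h1 : ‖∑ u ∈ s, X (a * u)‖ ^ 2 ≤ (Nat.card (R a) : ℝ) * ∑ u ∈ s, ‖X (a * u)‖ ^ 2 := by
    rw [← hcard]
    exact (pow_le_pow_left₀ (norm_nonneg _) (norm_sum_le _ _) 2).trans (sq_sum_le_card_mul_sum_sq)
  calc ‖dadeAvg R X a‖ ^ 2 = ((Nat.card (R a) : ℝ)⁻¹) ^ 2 * ‖∑ u ∈ s, X (a * u)‖ ^ 2 := by
        rw [dadeAvg, norm_mul, mul_pow, norm_inv, Complex.norm_natCast]
    _ ≤ ((Nat.card (R a) : ℝ)⁻¹) ^ 2 * ((Nat.card (R a) : ℝ) * ∑ u ∈ s, ‖X (a * u)‖ ^ 2) :=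
        mul_le_mul_of_nonneg_left h1 (by positivity)
    _ = avgSq R X a := by
        rw [avgSq]
        field_simp
        rfl

/-- Functions agreeing on the support of the first argument have the same inner products with it. -/
theorem classInner_congr_right {α f h : G → ℂ} (e : ∀ x, α x ≠ 0 → f x = h x) :
    classInner α f = classInner α h := by
  unfold classInner
  congr 1
  refine Finset.sum_congr rfl fun x _ => ?_
  by_cases hx : α x = 0
  · simp [hx]
  · rw [e x hx]

/-- The function induced from the trivial character of `H`, less a member of the family. -/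
noncomputable def betaL (L H : Subgroup G) [Fintype L] (ζ : L → ℂ) : L → ℂ :=
  indFun (H.subgroupOf L) (fun _ => 1) - ζ

namespace Nbr

variable {S K U T L H E Z : Subgroup G} (hN : Nbr S K U T L H E)
include hN

theorem H_ne : H ≠ ⊥ := hN.H_eq ▸ FitParts.sigmaCore_ne_bot hN.minSimple hN.coatom

theorem E_card_ne : (Nat.card E : ℂ) ≠ 0 := Nat.cast_ne_zero.2 Nat.card_pos.ne'

open Classical in
theorem dens_tilde {X : G → ℂ} (hX : IsClassFunction G X) :
    (Nat.card L : ℝ)⁻¹ * ∑ a : G with a ∈ typeA L, ‖dadeAvg (supportR L) X a‖ ^ 2 ≤ dens (tildeL L) X := by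
  classical
  rw [dens_dadeSet hN.dade hX]
  exact mul_le_mul_of_nonneg_left (Finset.sum_le_sum fun a _ => norm_dadeAvg_sq_le _ _ _) (by positivity)

theorem avg_conj {X : G → ℂ} (hX : IsClassFunction G X) {a l : G} (ha : a ∈ typeA L) (hl : l ∈ L) :
    dadeAvg (supportR L) X (l * a * l⁻¹) = dadeAvg (supportR L) X a :=
  coset_avg_conj hN.dade ha hl hX

variable [Fintype L]

/-- The inner product with a Dade image is the inner product with the averages. -/
theorem inner_tauL {α : L → ℂ} (hα : IsClassFunction L α) (hs : ∀ x : L, (x : G) ∉ typeA L → α x = 0)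
    {X : G → ℂ} (hX : IsClassFunction G X) :
    classInner (tauL L α) X = classInner α (fun x => dadeAvg (supportR L) X x) := by
  classical
  refine classInner_dade hN.dade hα hs hX fun a _ => ?_
  rw [finsum_mem_eq_finite_toFinset_sum _ (Set.toFinite _), dadeAvg]
  refine congrArg _ (Finset.sum_congr ?_ fun _ _ => rfl)
  ext; simp

theorem exists_zeta : ∃ ζ ∈ famF L H, ζ 1 = (Nat.card E : ℂ) := by
  haveI := hN.normal
  haveI := hN.nilpotent
  haveI : Group.IsNilpotent (H.subgroupOf L) :=
    Group.nilpotent_of_mulEquiv (Subgroup.subgroupOfEquivOfLe hN.H_le).symm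
  haveI : Fintype (H.subgroupOf L) := Fintype.ofFinite _
  have hne : H.subgroupOf L ≠ ⊥ := fun h => hN.H_ne (by
    rw [← Subgroup.map_subgroupOf_eq_of_le hN.H_le, h, Subgroup.map_bot])
  obtain ⟨ζ, hζ, h1⟩ := iia_exists_linear (H.subgroupOf L) inferInstance (A := (⊥ : Subgroup L))
    (bot_lt_iff_ne_bot.2 hne)
  exact ⟨ζ, hζ, h1.trans (congrArg Nat.cast hN.index_eq)⟩

/-- The function induced from the trivial character of `H` on `H`. -/
theorem indOne_apply (x : L) :
    indFun (H.subgroupOf L) (fun _ => (1 : ℂ)) x =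
      open Classical in if (x : G) ∈ H then (Nat.card E : ℂ) else 0 := by
  classical
  have hn := hN.normal
  have hmem : ∀ y : L, y⁻¹ * x * y ∈ H.subgroupOf L ↔ (x : G) ∈ H := fun y => by
    rw [← Subgroup.mem_subgroupOf (h := x)]
    refine ⟨fun h => ?_, fun h => by simpa using hn.conj_mem _ h y⁻¹⟩
    have := hn.conj_mem _ h y
    rwa [show y * (y⁻¹ * x * y) * y⁻¹ = x by group] at this
  split_ifs with hx
  · rw [indFun, Finset.sum_congr rfl (g := fun _ => (1 : ℂ)) fun y _ => by
      rw [extendByZero_mem _ _ ((hmem y).2 hx)], Finset.sum_const, Finset.card_univ, nsmul_eq_mul,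
      mul_one, ← Nat.card_eq_fintype_card, ← hN.index_eq, ← (H.subgroupOf L).index_mul_card]
    push_cast
    have : (Nat.card (H.subgroupOf L) : ℂ) ≠ 0 := Nat.cast_ne_zero.2 Nat.card_pos.ne'
    field_simp
  · rw [indFun, Finset.sum_eq_zero fun y _ => extendByZero_not_mem _ _ fun h => hx ((hmem y).1 h),
      mul_zero]

theorem fam_ne_one {a : L → ℂ} (ha : a ∈ famF L H) : a ≠ fun _ => 1 := fun e =>
  (hN.fam_conj ha).2 (funext fun x => by simp [conjFun, e])

theorem fam_inner {a b : L → ℂ} (ha : a ∈ famF L H) (hb : b ∈ famF L H) [Decidable (a = b)] :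
    classInner a b = if a = b then 1 else 0 := by
  rw [irr_orth (hN.fam_irr ha) (hN.fam_irr hb)]
  split_ifs <;> rfl

theorem inner_one_indOne :
    classInner (indFun (H.subgroupOf L) (fun _ => (1 : ℂ))) (fun _ => 1) = 1 := by
  haveI : Fintype (H.subgroupOf L) := Fintype.ofFinite _
  rw [frobenius (H.subgroupOf L) _ (χ := fun _ : L => (1 : ℂ)) (fun _ _ => rfl)]
  exact irr_self isIrrCharacter_one

theorem inner_fam_indOne {a : L → ℂ} (ha : a ∈ famF L H) :
    classInner a (indFun (H.subgroupOf L) (fun _ => (1 : ℂ))) = 0 := by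
  classical
  haveI : Fintype (H.subgroupOf L) := Fintype.ofFinite _
  obtain ⟨θ, hθ, hθ1, -, rfl⟩ := ha
  rw [frobenius (H.subgroupOf L) θ (isClassFunction_indFun _ _)]
  have e : (fun h : H.subgroupOf L => indFun (H.subgroupOf L) (fun _ => (1 : ℂ)) (h : L)) =
      (Nat.card E : ℂ) • fun _ => (1 : ℂ) := funext fun h => by
    rw [hN.indOne_apply, if_pos (Subgroup.mem_subgroupOf.1 h.2)]
    simp
  rw [e, classInner_smul_right, irr_orth hθ isIrrCharacter_one, if_neg hθ1, mul_zero]

section Beta

variable {ζ : L → ℂ} (hζ : ζ ∈ famF L H) (hζ1 : ζ 1 = (Nat.card E : ℂ))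
include hζ hζ1

theorem beta_class : IsClassFunction L (betaL L H ζ) := fun x y => by
  simp only [betaL, Pi.sub_apply, isClassFunction_indFun _ _ x y, hN.fam_class hζ x y]

theorem beta_support {x : L} (hx : (x : G) ∉ typeA L) : betaL L H ζ x = 0 := by
  classical
  rw [betaL, Pi.sub_apply, hN.indOne_apply]
  by_cases h1 : x = 1
  · subst h1
    rw [if_pos (by simp), hζ1, sub_self]
  have hxH : (x : G) ∉ H := fun h => hx (hN.mem_typeA.2 ⟨h, fun e => h1 (Subtype.ext e)⟩)
  rw [if_neg hxH, hN.fam_support hζ hxH, sub_zero]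

theorem beta_gen : IsGeneralizedCharacter L (betaL L H ζ) :=
  isGenChar_sub (gen_of_char (isCharacter_indFun _ isCharacter_one))
    (gen_of_char (irr_isCharacter (hN.fam_irr hζ)))

theorem inner_beta_one : classInner (betaL L H ζ) (fun _ => 1) = 1 := by
  rw [betaL, classInner_sub_left, hN.inner_one_indOne, irr_orth (hN.fam_irr hζ) isIrrCharacter_one,
    if_neg (hN.fam_ne_one hζ), sub_zero]

theorem inner_beta_fam {a : L → ℂ} (ha : a ∈ famF L H) [Decidable (a = ζ)] :
    classInner (betaL L H ζ) a = -(if a = ζ then 1 else 0) := by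
  classical
  rw [betaL, classInner_sub_left, ← classInner_symm a, hN.inner_fam_indOne ha, map_zero, zero_sub,
    hN.fam_inner hζ ha]
  by_cases h : a = ζ
  · simp [h]
  · simp [h, Ne.symm h]

/-- The averages of a class function with the same inner products as `ξ` on the differences. -/
theorem avg_eq {ξ : L → ℂ} (hξ : IsClassFunction L ξ) {X : G → ℂ} (hX : IsClassFunction G X)
    (h : ∀ a ∈ famF L H, ∀ b ∈ famF L H,
      classInner (tauL L (b 1 • a - a 1 • b)) X = classInner (b 1 • a - a 1 • b) ξ)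
    {a : L} (ha : (a : G) ∈ typeA L) :
    dadeAvg (supportR L) X a =
      ξ a + (classInner X (tauL L (betaL L H ζ)) - classInner ξ (betaL L H ζ)) := by
  classical
  haveI : Fintype (H.subgroupOf L) := Fintype.ofFinite _
  set Δ : L → ℂ := fun x => if (x : G) ∈ typeA L then dadeAvg (supportR L) X x - ξ x else 0 with hΔ
  have hiff : ∀ x y : L, ((y * x * y⁻¹ : L) : G) ∈ typeA L ↔ (x : G) ∈ typeA L := fun x y => by
    refine ⟨fun h => ?_, fun h => hN.dade.conj_mem _ y.2 _ h⟩
    have h2 := hN.dade.conj_mem _ (L.inv_mem y.2) _ h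
    simp only [Subgroup.coe_mul, Subgroup.coe_inv] at h2
    rwa [show (y : G)⁻¹ * ((y : G) * x * (y : G)⁻¹) * (y : G)⁻¹⁻¹ = x by group] at h2
  have hΔcl : IsClassFunction L Δ := fun x y => by
    simp only [hΔ, hiff x y]
    split_ifs with hx
    · rw [Subgroup.coe_mul, Subgroup.coe_mul, Subgroup.coe_inv, hN.avg_conj hX hx y.2, hξ x y]
    · rfl
  -- the inner products with functions supported on the support
  have key : ∀ α : L → ℂ, IsClassFunction L α → (∀ x : L, (x : G) ∉ typeA L → α x = 0) →
      classInner (tauL L α) X = classInner α ξ + classInner α Δ := fun α hα hs => by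
    rw [hN.inner_tauL hα hs hX, ← classInner_add_right]
    refine classInner_congr_right fun x hx => ?_
    have hxA : (x : G) ∈ typeA L := by_contra fun h => hx (hs x h)
    simp only [Pi.add_apply, hΔ, if_pos hxA]
    ring
  have hdiff : ∀ b ∈ famF L H, (Nat.card E : ℂ) * classInner b Δ = b 1 * classInner ζ Δ := fun b hb => by
    have e := key _ (hN.diff_class hb hζ) fun x hx => hN.diff_support hb hζ hx
    rw [h b hb ζ hζ] at e
    have e' : classInner (ζ 1 • b - b 1 • ζ) Δ = 0 := by linear_combination -e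
    rw [classInner_sub_left, classInner_smul_left, classInner_smul_left, hζ1] at e'
    linear_combination e'
  -- the restriction to `H`
  set f : H.subgroupOf L → ℂ := fun x => Δ x with hf
  set γ : ℂ := conj (classInner ζ Δ) with hγ
  set c₀ : ℂ := classInner f (fun _ => 1) - γ with hc₀
  set reg : H.subgroupOf L → ℂ := fun x => if x = 1 then (Nat.card (H.subgroupOf L) : ℂ) else 0 with hreg
  have hreg' : ∀ θ : IrrCharacter (H.subgroupOf L),
      classInner reg (θ : H.subgroupOf L → ℂ) = (deg (θ : H.subgroupOf L → ℂ) : ℂ) := fun θ => by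
    rw [classInner, Finset.sum_eq_single (1 : H.subgroupOf L) (fun x _ hx => by simp [hreg, hx])
      (fun h => absurd (Finset.mem_univ _) h)]
    simp only [hreg, if_pos]
    rw [char_one_eq_deg (irr_isCharacter θ.2), Complex.conj_natCast]
    field_simp
  have hzero : f - γ • reg - c₀ • (fun _ => (1 : ℂ)) = 0 := by
    refine classFun_eq_zero (fun x y => ?_) fun θ => ?_
    · have e1 : f (y * x * y⁻¹) = f x := hΔcl (x : L) (y : L)
      have e2 : reg (y * x * y⁻¹) = reg x := by simp [hreg, conj_eq_one_iff]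
      simp only [Pi.sub_apply, Pi.smul_apply, e1, e2]
    rw [classInner_sub_left, classInner_sub_left, classInner_smul_left, classInner_smul_left, hreg']
    by_cases hθ : (θ : H.subgroupOf L → ℂ) = fun _ => 1
    · have hd : (deg (θ : H.subgroupOf L → ℂ) : ℂ) = 1 := by
        rw [← char_one_eq_deg (irr_isCharacter θ.2), hθ]
      rw [hd, hθ, irr_self isIrrCharacter_one, hc₀]
      ring
    · have hmem : indFun (H.subgroupOf L) (θ : H.subgroupOf L → ℂ) ∈ famF L H :=
        ⟨θ, θ.2, hθ, fun a ha => by rw [show a = 1 from Subtype.ext (Subgroup.mem_bot.1 ha)], rfl⟩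
      have e := hdiff _ hmem
      rw [indFun_one, hN.index_eq, Char.frobenius _ _ hΔcl, char_one_eq_deg (irr_isCharacter θ.2),
        mul_assoc] at e
      have e' := congrArg conj (mul_left_cancel₀ hN.E_card_ne e)
      rw [classInner_symm, map_mul, Complex.conj_natCast, ← hγ] at e'
      rw [irr_orth isIrrCharacter_one θ.2, if_neg (fun h => hθ h.symm),
        show classInner f (θ : H.subgroupOf L → ℂ) = _ from e']
      ring
  have hconst : ∀ x : L, (x : G) ∈ typeA L → Δ x = c₀ := fun x hx => by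
    obtain ⟨hxH, hx1⟩ := hN.mem_typeA.1 hx
    have e := congrFun hzero ⟨x, Subgroup.mem_subgroupOf.2 hxH⟩
    have hne : (⟨x, Subgroup.mem_subgroupOf.2 hxH⟩ : H.subgroupOf L) ≠ 1 := fun e' =>
      hx1 (congrArg (fun z : H.subgroupOf L => ((z : L) : G)) e')
    simp only [Pi.sub_apply, Pi.smul_apply, hreg, if_neg hne, smul_eq_mul, mul_zero, sub_zero, mul_one,
      Pi.zero_apply, hf] at e
    exact sub_eq_zero.1 e
  -- the constant
  have hβ := key _ (hN.beta_class hζ hζ1) fun x hx => hN.beta_support hζ hζ1 hx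
  have hβΔ : classInner (betaL L H ζ) Δ = conj c₀ := by
    rw [classInner_congr_right (h := c₀ • fun _ => (1 : ℂ)) fun x hx => ?_, classInner_smul_right,
      hN.inner_beta_one hζ hζ1, mul_one]
    rw [hconst x (by_contra fun h => hx (hN.beta_support hζ hζ1 h))]
    simp
  have hc := congrArg conj hβ
  rw [map_add, classInner_symm, classInner_symm, hβΔ, Complex.conj_conj] at hc
  have e := hconst a ha
  simp only [hΔ, if_pos ha] at e
  linear_combination e - hc

/-- A class function whose inner products with the family are proportional to the degrees has constant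
averages. -/
theorem avg_const {φ : (L → ℂ) → G → ℂ} (hφ : Fam (tauL L) (famF L H) φ) {X : G → ℂ}
    (hX : IsClassFunction G X) {κ : ℂ} (hκ : ∀ a ∈ famF L H, classInner (φ a) X = κ * a 1)
    {x : G} (hx : x ∈ typeA L) :
    dadeAvg (supportR L) X x = classInner X (tauL L (betaL L H ζ)) := by
  have h := hN.avg_eq hζ hζ1 (ξ := 0) (fun _ _ => rfl) hX (fun a ha b hb => by
    rw [hφ.diff a ha b hb, classInner_sub_left, classInner_smul_left, classInner_smul_left, hκ a ha,
      hκ b hb, ← classInner_symm (0 : L → ℂ), classInner_zero_left, map_zero]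
    ring) (a := ⟨x, hN.dade.subset hx⟩) hx
  rw [classInner_zero_left, Pi.zero_apply, zero_add, sub_zero] at h
  exact h

/-- The averages of the grid are constant. -/
theorem avg_eta {φ : (L → ℂ) → G → ℂ} (hφ : Fam (tauL L) (famF L H) φ) (hZ : Z ≤ sigmaCore S)
    (W : Grid K Z) (i : ↥K →* ℂˣ) (j : ↥Z →* ℂˣ) {x : G} (hx : x ∈ typeA L) :
    dadeAvg (supportR L) (W.eta i j) x = classInner (W.eta i j) (tauL L (betaL L H ζ)) :=
  hN.avg_const hζ hζ1 hφ (isClassFunction_genChar (W.eta_gen i j)) (κ := 0)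
    (fun a ha => by rw [hN.fam_orth_eta hφ hZ W ha, zero_mul]) hx

/-- The averages of a member of the family are that member of `L` plus a constant. -/
theorem avg_fam {φ : (L → ℂ) → G → ℂ} (hφ : Fam (tauL L) (famF L H) φ) {b : L → ℂ}
    (hb : b ∈ famF L H) [Decidable (b = ζ)] {x : L} (hx : (x : G) ∈ typeA L) :
    dadeAvg (supportR L) (φ b) x =
      b x + (classInner (φ b) (tauL L (betaL L H ζ)) + if b = ζ then 1 else 0) := by
  classical
  have key : ∀ a ∈ famF L H, classInner (φ a) (φ b) = classInner a b := fun a ha => by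
    rw [hN.fam_inner ha hb]
    split_ifs with h
    · rw [h, (hφ.signed b hb).self]
    · exact hφ.orth a ha b hb h
  have h := hN.avg_eq hζ hζ1 (hN.fam_class hb) (isClassFunction_genChar (hφ.signed b hb).gen)
    (fun a ha c hc => by
      rw [hφ.diff a ha c hc, classInner_sub_left, classInner_smul_left, classInner_smul_left, key a ha,
        key c hc, classInner_sub_left, classInner_smul_left, classInner_smul_left]) hx
  rw [h, ← classInner_symm (betaL L H ζ) b, hN.inner_beta_fam hζ hζ1 hb]
  split_ifs <;> simp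

open Classical in
/-- The mean square of `ζ + c` on `H \ {1}`. -/
theorem sum_sq_zeta_add (c : ℝ) :
    ∑ a ∈ (Finset.univ.filter fun a : L => (a : G) ∈ typeA L), ‖ζ a + (c : ℂ)‖ ^ 2 =
      (Nat.card L : ℝ) - (Nat.card E : ℝ) ^ 2 - 2 * c * Nat.card E + c ^ 2 * ((Nat.card H : ℝ) - 1) := by
  classical
  have hmem : ∀ a : L, (a : G) ∈ typeA L ↔ a ∈ H.subgroupOf L ∧ a ≠ 1 := fun a => by
    rw [hN.mem_typeA, Subgroup.mem_subgroupOf]
    exact and_congr_right fun _ => not_congr OneMemClass.coe_eq_one
  set s := Finset.univ.filter fun a : L => a ∈ H.subgroupOf L with hs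
  have hsplit : ∀ f : L → ℝ, (∀ a : L, a ∉ H.subgroupOf L → f a = 0) →
      ∑ a ∈ (Finset.univ.filter fun a : L => (a : G) ∈ typeA L), f a = (∑ a : L, f a) - f 1 := fun f hf => by
    rw [eq_sub_iff_add_eq, ← Finset.sum_subset (Finset.subset_univ s) fun a _ ha => hf a (by simpa [hs] using ha),
      ← Finset.sum_erase_add s _ (show (1 : L) ∈ s by simp [hs])]
    congr 1
    refine Finset.sum_congr ?_ fun _ _ => rfl
    ext a
    simp [hs, hmem, and_comm]
  have hcard : (∑ a ∈ (Finset.univ.filter fun a : L => (a : G) ∈ typeA L), (1 : ℝ)) = (Nat.card H : ℝ) - 1 := by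
    have h := hsplit (fun a => if a ∈ H.subgroupOf L then (1 : ℝ) else 0) (fun a ha => if_neg ha)
    rw [Finset.sum_congr rfl fun a ha => if_pos ((hmem a).1 (Finset.mem_filter.1 ha).2).1,
      Finset.sum_boole, if_pos (one_mem _)] at h
    rw [h, ← Solv.card_subgroupOf hN.H_le, Nat.card_eq_fintype_card, Fintype.card_subtype]
  have hnorm : ∑ a : L, ‖ζ a‖ ^ 2 = (Nat.card L : ℝ) := by
    have h := congrArg Complex.re (irr_self (hN.fam_irr hζ))
    rw [classInner_self_re, Complex.ofReal_re, Complex.one_re,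
      inv_mul_eq_one₀ (Nat.cast_ne_zero.2 Nat.card_pos.ne')] at h
    exact h.symm
  have hre : ∑ a : L, (ζ a).re = 0 := by
    have h := irr_orth (hN.fam_irr hζ) (isIrrCharacter_one (G := L))
    rw [if_neg (hN.fam_ne_one hζ), classInner, mul_eq_zero] at h
    have h' := congrArg Complex.re (h.resolve_left (by simp))
    simpa using h'
  have hvan : ∀ a : L, a ∉ H.subgroupOf L → ζ a = 0 := fun a ha =>
    hN.fam_support hζ fun h => ha (Subgroup.mem_subgroupOf.2 h)
  have hexp : ∀ a : L, ‖ζ a + (c : ℂ)‖ ^ 2 = ‖ζ a‖ ^ 2 + 2 * c * (ζ a).re + c ^ 2 * 1 := fun a => by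
    rw [Complex.sq_norm, Complex.sq_norm, Complex.normSq_apply, Complex.normSq_apply]
    simp
    ring
  rw [Finset.sum_congr rfl fun a _ => hexp a, Finset.sum_add_distrib, Finset.sum_add_distrib,
    ← Finset.mul_sum, ← Finset.mul_sum, hcard, hsplit (fun a => ‖ζ a‖ ^ 2) (fun a ha => by simp [hvan a ha]),
    hsplit (fun a => (ζ a).re) (fun a ha => by simp [hvan a ha]), hnorm, hre, hζ1]
  simp
  ring

end Beta

end Nbr

end Cfsg.Agent.OddFT
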