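import Cfsg.Agent.Lib.OddChar.FT.SideFacts
import Cfsg.Agent.Lib.OddChar.FT.NbrAvg

/-!
The averages of `τ β` on the support of the neighbour of a layer with `C ≠ 1`.
-/

set_option autoImplicit false
set_option linter.unusedSectionVars false
set_option linter.unusedVariables false
set_option linter.style.haveILetI false

open Cfsg Cfsg.Agent.Char Cfsg.Agent.OddChar Cfsg.Agent.OddLocal
open scoped ComplexConjugate Classical Pointwise

namespace Cfsg.Agent.OddFT

universe u

variable {G : Type u} [Group G] [Fintype G]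

/-- An element of `P C` of order prime to `|P|` is conjugate under `P` into `C`. -/
theorem exists_conj_factor {P C : Subgroup G} (hC : C ≤ Subgroup.normalizer (P : Set G))
    (hco : (Nat.card C).Coprime (Nat.card P)) (hsol : Group.IsSolvable P) {p c : G} (hp : p ∈ P) (hc : c ∈ C)
    (ho : (orderOf (p * c)).Coprime (Nat.card P)) : ∃ g ∈ P, g * (p * c) * g⁻¹ ∈ C := by
  have hpow : ∀ m : ℕ, ∃ p' ∈ P, (p * c) ^ m = p' * c ^ m := by
    intro m
    induction m with
    | zero => exact ⟨1, P.one_mem, by simp⟩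
    | succ m ih =>
      obtain ⟨p', hp', e⟩ := ih
      refine ⟨p' * (c ^ m * p * (c ^ m)⁻¹), P.mul_mem hp'
        ((Subgroup.mem_normalizer_iff.1 (hC (C.pow_mem hc m)) p).1 hp), ?_⟩
      rw [pow_succ, e, pow_succ]; group
  have hdis : P ⊓ C = ⊥ := Subgroup.inf_eq_bot_of_coprime hco.symm
  have hoC : orderOf c ∣ Nat.card C := Subgroup.orderOf_dvd_natCard _ hc
  have hov : orderOf (p * c) = orderOf c := by
    refine Nat.dvd_antisymm ?_ ?_
    · obtain ⟨p'', hp'', e⟩ := hpow (orderOf c)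
      rw [pow_orderOf_eq_one, mul_one] at e
      have h1 : (p * c) ^ orderOf c = 1 := by
        refine orderOf_eq_one_iff.1 (Nat.eq_one_of_dvd_coprimes ho (orderOf_pow_dvd _) ?_)
        exact e ▸ Subgroup.orderOf_dvd_natCard _ hp''
      exact orderOf_dvd_of_pow_eq_one h1
    · obtain ⟨p'', hp'', e⟩ := hpow (orderOf (p * c))
      rw [pow_orderOf_eq_one] at e
      refine orderOf_dvd_of_pow_eq_one ?_
      rw [← Subgroup.mem_bot, ← hdis]
      refine ⟨?_, C.pow_mem hc _⟩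
      rw [eq_inv_of_mul_eq_one_right e.symm]
      exact P.inv_mem hp''
  have hle : Subgroup.zpowers (p * c) ≤ P ⊔ Subgroup.zpowers c := Subgroup.zpowers_le.2
    (mul_mem (Subgroup.mem_sup_left hp) (Subgroup.mem_sup_right (Subgroup.mem_zpowers c)))
  obtain ⟨g, hg, hgA⟩ := Solv.sz_conj_rel P (Subgroup.zpowers c) (Subgroup.zpowers (p * c))
    ((Subgroup.zpowers_le.2 hc).trans hC) hle
    (by rw [Nat.card_zpowers]; exact (hco.coprime_dvd_left hoC).symm)
    (by rw [Nat.card_zpowers, Nat.card_zpowers, hov]) (Or.inl hsol)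
  obtain ⟨d, hd, hdx⟩ := hgA.ge (Subgroup.mem_zpowers (p * c))
  have hdx' : g * d * g⁻¹ = p * c := hdx
  refine ⟨g⁻¹, P.inv_mem hg, ?_⟩
  rw [← hdx']
  simpa [mul_assoc] using Subgroup.zpowers_le.2 hc hd

variable {S K U T L H E Z P N : Subgroup G} {r : ℕ}

/-- The group facts about a layer with `C ≠ 1` and the neighbour. -/
structure FreeHyp (S K P U N L : Subgroup G) : Prop where
  fix : ∀ c ∈ layerC P U N, c ≠ 1 → ∀ p ∈ P, ∃ d ∈ P, d * c = c * d ∧ d⁻¹ * p ∈ N
  cent : ∀ c ∈ layerC P U N, c ≠ 1 → Subgroup.centralizer ({c} : Set G) ≤ S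
  ti : ∀ x ∈ L, ∀ c ∈ layerC P U N, c ≠ 1 → x * c * x⁻¹ ∈ layerC P U N → x ∈ U ⊔ K

variable (hN : Nbr S K U T L H E) (hl : IsLayer S K Z P U N r)
include hN hl

theorem FreeHyp.mem_typeA {c : G} (hc : c ∈ layerC P U N) (hc1 : c ≠ 1) : c ∈ typeA L :=
  hN.mem_typeA.2 ⟨hN.U_le (hl.C_le hc), hc1⟩

theorem FreeHyp.meet_H {x : G} (hxS : x ∈ S) (hxH : x ∈ H) : x ∈ U := by
  have hx : x ∈ U ⊔ K := hN.meet.le ⟨hxS, hN.H_le hxH⟩
  rw [sup_comm, ← SetLike.mem_coe, Subgroup.coe_mul_of_left_le_normalizer_right _ _ hl.side.U_norm] at hx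
  obtain ⟨k, hk, u, hu, rfl⟩ := hx
  have hk1 : k = 1 := by
    rw [← Subgroup.mem_bot, ← hN.compl.2.2.1]
    exact ⟨hN.K_le hk, by simpa using H.mul_mem hxH (H.inv_mem (hN.U_le hu))⟩
  simpa [hk1] using hu

theorem FreeHyp.supportR_eq (hF : FreeHyp S K P U N L) {c : G} (hc : c ∈ layerC P U N) (hc1 : c ≠ 1) :
    supportR L c = P ⊓ Subgroup.centralizer ({c} : Set G) := by
  have hA := FreeHyp.mem_typeA hN hl hc hc1
  refine le_antisymm (fun v hv => ?_) fun p hp => ?_
  · have hvC := hN.dade.le_centralizer c hA hv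
    obtain ⟨p, hp, u, hu, k, hk, e⟩ := hl.side.mul v (hF.cent c hc hc1 hvC)
    have hcv : v * c * v⁻¹ = c := by
      rw [Subgroup.mem_centralizer_singleton_iff.1 hvC, mul_inv_cancel_right]
    set c' := k * c * k⁻¹ with hc'
    have hc'U : c' ∈ U := hl.C_le (hl.C_conj hk hc)
    have h1 : p * c' * p⁻¹ = c := by
      rw [e] at hcv
      calc p * c' * p⁻¹ = p * (u * c' * u⁻¹) * p⁻¹ := by rw [hl.side.comm_U hu hc'U, mul_inv_cancel_right]
        _ = c := by
          rw [hc']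
          calc p * (u * (k * c * k⁻¹) * u⁻¹) * p⁻¹ = p * u * k * c * (p * u * k)⁻¹ := by group
            _ = c := hcv
    have h2 : c'⁻¹ * p * c' * p⁻¹ = c'⁻¹ * c := by
      calc c'⁻¹ * p * c' * p⁻¹ = c'⁻¹ * (p * c' * p⁻¹) := by group
        _ = _ := by rw [h1]
    have h3 : c'⁻¹ * p * c' * p⁻¹ = 1 := by
      refine hl.side.P_inf_compl (P.mul_mem ?_ (P.inv_mem hp))
        (Subgroup.mem_sup_left (U.mul_mem (U.inv_mem hc'U) (hl.C_le hc))) h2
      simpa using hl.side.P_conj (S.inv_mem (hl.side.U_le hc'U)) hp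
    have hcc : c' = c := by
      rw [h3] at h2
      exact inv_mul_eq_one.1 h2.symm
    have hk1 : k = 1 := by
      by_contra hk1
      exact hc1 (hl.side.fpf k hk hk1 c (hl.C_le hc) (mul_inv_eq_iff_eq_mul.1 hcc))
    rw [hk1, mul_one] at e
    rw [hcc] at h1
    have hpc : p * c = c * p := mul_inv_eq_iff_eq_mul.1 h1
    have hu1 : u = 1 := by
      have hn : (p * u) ^ Nat.card (supportR L c) = 1 :=
        e ▸ congrArg Subtype.val (pow_card_eq_one' (x := (⟨v, hv⟩ : supportR L c)))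
      have hpow : ∀ m : ℕ, ∃ p' ∈ P, (p * u) ^ m = p' * u ^ m := by
        intro m
        induction m with
        | zero => exact ⟨1, P.one_mem, by simp⟩
        | succ m ih =>
          obtain ⟨p', hp', e'⟩ := ih
          refine ⟨p' * (u ^ m * p * (u ^ m)⁻¹), P.mul_mem hp'
            (hl.side.P_conj (S.pow_mem (hl.side.U_le hu) m) hp), ?_⟩
          rw [pow_succ, e', pow_succ]; group
      obtain ⟨p', hp', e'⟩ := hpow (Nat.card (supportR L c))
      rw [hn] at e'
      have hun : u ^ Nat.card (supportR L c) = 1 := hl.side.P_inf_compl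
        (by rw [eq_inv_of_mul_eq_one_right e'.symm]; exact P.inv_mem hp') (Subgroup.mem_sup_left (U.pow_mem hu _)) rfl
      have huL : u ∈ L ⊓ Subgroup.centralizer ({c} : Set G) :=
        ⟨hN.H_le (hN.U_le hu), Subgroup.mem_centralizer_singleton_iff.2 (hl.side.comm_U hu (hl.C_le hc))⟩
      exact orderOf_eq_one_iff.1 (Nat.eq_one_of_dvd_coprimes (hN.dade.coprime c hA c hA)
        (orderOf_dvd_of_pow_eq_one hun) (Subgroup.orderOf_dvd_natCard _ huL))
    rw [e, hu1, mul_one]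
    exact ⟨hp, Subgroup.mem_centralizer_singleton_iff.2 hpc⟩
  · have hp' : p ∈ supportR L c ⊔ (L ⊓ Subgroup.centralizer ({c} : Set G)) := by
      rw [hN.dade.sup_eq c hA]; exact hp.2
    have hn : L ⊓ Subgroup.centralizer ({c} : Set G) ≤ Subgroup.normalizer (supportR L c : Set G) := fun x hx =>
      Subgroup.mem_normalizer_iff.2 fun y => ⟨fun hy => hN.dade.conj_mem_H c hA x hx.2 y hy, fun hy => by
        have := hN.dade.conj_mem_H c hA x⁻¹ (inv_mem hx.2) _ hy
        simpa [mul_assoc] using this⟩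
    rw [← SetLike.mem_coe, Subgroup.coe_mul_of_right_le_normalizer_left _ _ hn] at hp'
    obtain ⟨v, hv, x, hx, e⟩ := hp'
    have hvC := hN.dade.le_centralizer c hA hv
    have hxU : x ∈ U := FreeHyp.meet_H hN hl (hF.cent c hc hc1 hx.2) (hN.centralizer_le (hN.U_le (hl.C_le hc)) hc1 hx)
    -- the left-to-right inclusion
    have hvP : v ∈ P := by
      obtain ⟨a, ha, w, hw, k, hk, e'⟩ := hl.side.mul v (hF.cent c hc hc1 hvC)
      have : x = 1 → v ∈ P := fun hx1 => by
        have e1 : v = p := by simpa [hx1] using e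
        exact e1 ▸ hp.1
      by_contra hvP
      have hpv : v ^ Nat.card (supportR L c) = 1 :=
        congrArg Subtype.val (pow_card_eq_one' (x := (⟨v, hv⟩ : supportR L c)))
      have e2 : v = p * x⁻¹ := eq_mul_inv_of_mul_eq e
      have hpow : ∀ m : ℕ, ∃ p' ∈ P, (p * x⁻¹) ^ m = p' * x⁻¹ ^ m := by
        intro m
        induction m with
        | zero => exact ⟨1, P.one_mem, by simp⟩
        | succ m ih =>
          obtain ⟨p', hp', e3⟩ := ih
          refine ⟨p' * (x⁻¹ ^ m * p * (x⁻¹ ^ m)⁻¹), P.mul_mem hp'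
            (hl.side.P_conj (S.pow_mem (S.inv_mem (hl.side.U_le hxU)) m) hp.1), ?_⟩
          rw [pow_succ, e3, pow_succ]; group
      obtain ⟨p', hp'', e3⟩ := hpow (Nat.card (supportR L c))
      rw [← e2, hpv] at e3
      have hxn : x⁻¹ ^ Nat.card (supportR L c) = 1 := hl.side.P_inf_compl
        (by rw [eq_inv_of_mul_eq_one_right e3.symm]; exact P.inv_mem hp'')
        (Subgroup.mem_sup_left (U.pow_mem (U.inv_mem hxU) _)) rfl
      have hxL : x⁻¹ ∈ L ⊓ Subgroup.centralizer ({c} : Set G) := inv_mem hx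
      exact hvP (this (inv_eq_one.1 (orderOf_eq_one_iff.1 (Nat.eq_one_of_dvd_coprimes (hN.dade.coprime c hA c hA)
        (orderOf_dvd_of_pow_eq_one hxn) (Subgroup.orderOf_dvd_natCard _ hxL)))))
    have hx1 : x = 1 := hl.side.P_inf_compl (p := x) (by
      have e1 : x = v⁻¹ * p := eq_inv_mul_of_mul_eq e
      rw [e1]
      exact P.mul_mem (P.inv_mem hvP) hp.1) (Subgroup.mem_sup_left hxU) rfl
    have e1 : v = p := by simpa [hx1] using e
    exact e1 ▸ hv

/-- An element of the support is not a conjugate of an element with a power in the core. -/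
theorem FreeHyp.notMem_sigmaSet {a : G} (ha : a ∈ typeA L) : a ∉ sigmaSet S := by
  rintro ⟨-, n, hn, hn1⟩
  obtain ⟨t, ht, htd⟩ := Nat.exists_prime_and_dvd fun h => hn1 (orderOf_eq_one_iff.1 h)
  have hσ : t ∈ sigma L := by
    by_contra hσ
    refine Sig.not_dvd_piCoreOf (M := L) ht hσ (htd.trans ((orderOf_pow_dvd n).trans (Subgroup.orderOf_dvd_natCard _ ?_)))
    have := (hN.mem_typeA.1 ha).1
    rw [hN.H_eq] at this
    exact this
  exact (hN.not_dvd_core_S ht hσ).1 (htd.trans (Subgroup.orderOf_dvd_natCard _ hn))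

/-- The average of `τ β` at an element of `C`. -/
theorem FreeHyp.avg_C (hF : FreeHyp S K P U N L) {j : ↥Z →* ℂˣ} (hj : j ∈ layerJ Z N) {c : G}
    (hc : c ∈ layerC P U N) (hc1 : c ≠ 1) :
    dadeAvg (supportR L) (indFun S (hl.beta j)) c = (Nat.card U : ℂ) / Nat.card ↥(layerC P U N) := by
  have hR := hF.supportR_eq hN hl hc hc1
  set D := (P ⊓ Subgroup.centralizer ({c} : Set G)).subgroupOf P with hD
  have hcard : Nat.card D = Nat.card (supportR L c) := by
    rw [hR, hD]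
    exact Nat.card_congr (Subgroup.subgroupOfEquivOfLe inf_le_left).toEquiv
  have hmem : ∀ v : G, v ∈ supportR L c → v ∈ P ⊓ Subgroup.centralizer ({c} : Set G) := fun v hv => hR.le hv
  have hsum : ∑ v : G with v ∈ supportR L c, indFun S (hl.beta j) (c * v) =
      ∑ d : D, hl.beta j ⟨(d : P) * (⟨c, hc⟩ : ↥(layerC P U N)),
        S.mul_mem (hl.side.P_le_S (d : P).2) (hl.side.U_le (hl.C_le hc))⟩ := by
    refine Finset.sum_bij' (fun v hv => (⟨⟨v, (hmem v (Finset.mem_filter.1 hv).2).1⟩,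
        Subgroup.mem_subgroupOf.2 (hmem v (Finset.mem_filter.1 hv).2)⟩ : D))
      (fun d _ => ((d : P) : G)) (fun _ _ => Finset.mem_univ _)
      (fun d _ => Finset.mem_filter.2 ⟨Finset.mem_univ _, hR.ge (Subgroup.mem_subgroupOf.1 d.2)⟩)
      (fun _ _ => rfl) (fun _ _ => rfl) fun v hv => ?_
    have hvm : v ∈ P ⊓ Subgroup.centralizer ({c} : Set G) := hmem v (Finset.mem_filter.1 hv).2
    have hcomm : v * c = c * v := Subgroup.mem_centralizer_singleton_iff.1 hvm.2
    have hcS : c ∈ S := hl.side.U_le (hl.C_le hc)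
    show indFun S (hl.beta j) (c * v) = hl.beta j ⟨v * c, _⟩
    rw [← hcomm]
    by_cases hv1 : v = 1
    · subst hv1
      rw [hl.side.sigmaSet_isTI.ind_eq_zero (hl.beta_supp hj.2) fun y hy => ?_, hl.beta_supp hj.2 _ ?_]
      · show (1 : G) * c ∉ sigmaSet S
        rw [one_mul]
        exact FreeHyp.notMem_sigmaSet hN hl (FreeHyp.mem_typeA hN hl hc hc1)
      · rw [one_mul] at hy
        obtain ⟨hyS, n, hn, hn1⟩ := hy
        obtain ⟨t, ht, htd⟩ := Nat.exists_prime_and_dvd fun h => hn1 (orderOf_eq_one_iff.1 h)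
        have hσ : t ∈ sigma L := by
          by_contra hσ
          refine Sig.not_dvd_piCoreOf (M := L) ht hσ (htd.trans ((orderOf_pow_dvd n).trans ?_))
          rw [show orderOf (y * c * y⁻¹) = orderOf c from (MulAut.conj y).orderOf_eq c]
          refine Subgroup.orderOf_dvd_natCard _ ?_
          have := hN.U_le (hl.C_le hc)
          rw [hN.H_eq] at this
          exact this
        exact (hN.not_dvd_core_S ht hσ).1 (htd.trans (Subgroup.orderOf_dvd_natCard _ hn))
    · refine (congrArg _ ?_).trans (hl.side.sigmaSet_isTI.ind_apply (hl.beta_class j) (hl.beta_supp hj.2)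
        (a := ⟨v * c, S.mul_mem (hl.side.P_le_S hvm.1) hcS⟩) ⟨S.mul_mem (hl.side.P_le_S hvm.1) hcS, orderOf c, ?_⟩)
      · rfl
      · show (v * c) ^ orderOf c ∈ sigmaCore S ∧ (v * c) ^ orderOf c ≠ 1
        rw [(show Commute v c from hcomm).mul_pow, pow_orderOf_eq_one, mul_one]
        refine ⟨Subgroup.pow_mem _ (hl.side.P_le hvm.1) _, fun h1 => hv1 ?_⟩
        exact orderOf_eq_one_iff.1 (Nat.eq_one_of_dvd_coprimes
          (hl.side.coUP.coprime_dvd_left (Subgroup.orderOf_dvd_natCard _ (hl.C_le hc)))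
          (orderOf_dvd_of_pow_eq_one h1) (Subgroup.orderOf_dvd_natCard _ hvm.1))
  have hfix := hl.beta_fixed_sum hj ⟨c, hc⟩ D fun p => by
    obtain ⟨d, hd, hdc, hdN⟩ := hF.fix c hc hc1 p p.2
    exact ⟨⟨d, hd⟩, Subgroup.mem_subgroupOf.2 ⟨hd, Subgroup.mem_centralizer_singleton_iff.2 hdc⟩, hdN⟩
  rw [dadeAvg, hsum, hfix, ← hcard]
  have hD0 : (Nat.card D : ℂ) ≠ 0 := Nat.cast_ne_zero.2 Nat.card_pos.ne'
  field_simp

/-- The average of `τ β` vanishes off the conjugates of `C`. -/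
theorem FreeHyp.avg_zero (hcomm : ∀ a ∈ K, ∀ b ∈ Z, a * b = b * a) {j : ↥Z →* ℂˣ}
    (hj : j ∈ layerJ Z N) {a : G} (ha : a ∈ typeA L)
    (hno : ∀ x ∈ L, x * a * x⁻¹ ∉ layerC P U N) : dadeAvg (supportR L) (indFun S (hl.beta j)) a = 0 := by
  rw [dadeAvg, Finset.sum_eq_zero fun v hv => ?_, mul_zero]
  replace hv := (Finset.mem_filter.1 hv).2
  by_contra hne
  have hex : ∃ y : G, ∃ hy : y * (a * v) * y⁻¹ ∈ S, hl.beta j ⟨_, hy⟩ ≠ 0 := by
    by_contra hcon
    push Not at hcon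
    refine hne ?_
    unfold indFun
    rw [Finset.sum_eq_zero fun y _ => ?_, mul_zero]
    by_cases hy : y⁻¹ * (a * v) * y ∈ S
    · rw [extendByZero_mem S _ hy]
      have := hcon y⁻¹ (by simpa using hy)
      simpa using this
    · exact extendByZero_not_mem S _ hy
  obtain ⟨y, hy, hb⟩ := hex
  have htilde : a * v ∈ tildeL L := ⟨a, ha, v, hv, 1, by simp⟩
  rcases hl.beta_supp_cases hj.2 hb with ⟨u, hu, p, hp, c, hc, -, e⟩ | hhat
  · obtain ⟨k, hk1, hk2⟩ := Nat.chineseRemainder (dade_coprime_order hN.dade ha ha) 0 1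
    have hk : (a * v) ^ k = a := by
      rw [(dade_commute hN.dade ha hv).mul_pow]
      have e1 : a ^ k = a := by
        conv_rhs => rw [← pow_one a]
        exact pow_eq_pow_iff_modEq.2 hk2
      have e2 : v ^ k = 1 := orderOf_dvd_iff_pow_eq_one.1
        ((Subgroup.orderOf_dvd_natCard _ hv).trans (Nat.modEq_zero_iff_dvd.1 hk1))
      rw [e1, e2, mul_one]
    set z := u * y with hz
    have e3 : z * a * z⁻¹ = (p * c) ^ k := by
      rw [← e]
      show z * a * z⁻¹ = (u * (y * (a * v) * y⁻¹) * u⁻¹) ^ k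
      rw [show u * (y * (a * v) * y⁻¹) * u⁻¹ = z * (a * v) * z⁻¹ by rw [hz]; group, conj_pow, hk]
    obtain ⟨p', hp', e4⟩ := hl.mul_pow_mem hp hc k
    have ho : (orderOf (p' * c ^ k)).Coprime (Nat.card P) := by
      rw [← e4, ← e3, show orderOf (z * a * z⁻¹) = orderOf a from (MulAut.conj z).orderOf_eq a]
      refine Nat.coprime_of_dvd fun t ht h1 h2 => ?_
      have hσ : t ∈ sigma L := by
        by_contra hσ
        refine Sig.not_dvd_piCoreOf (M := L) ht hσ (h1.trans (Subgroup.orderOf_dvd_natCard _ ?_))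
        have := (hN.mem_typeA.1 ha).1
        rw [hN.H_eq] at this
        exact this
      exact (hN.not_dvd_core_S ht hσ).1 (h2.trans (Subgroup.card_dvd_of_le hl.side.P_le))
    haveI := hl.side.P_nil
    obtain ⟨g, hg, hgC⟩ := exists_conj_factor ((hl.C_le.trans hl.side.U_le).trans hl.side.P_norm)
      (hl.side.coUP.coprime_dvd_left (Subgroup.card_dvd_of_le hl.C_le)) inferInstance hp'
      (Subgroup.pow_mem _ hc k) ho
    rw [← e4, ← e3] at hgC
    have hgC' : (g * z) * a * (g * z)⁻¹ ∈ layerC P U N := by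
      rwa [show (g * z) * a * (g * z)⁻¹ = g * (z * a * z⁻¹) * g⁻¹ by group]
    have hne1 : (g * z) * a * (g * z)⁻¹ ≠ 1 := fun h1 => (hN.mem_typeA.1 ha).2 (conj_eq_one_iff.1 h1)
    obtain ⟨x, hx, hxe⟩ := hN.dade.fusion a ha (g * z) (FreeHyp.mem_typeA hN hl hgC' hne1)
    exact hno x hx (hxe ▸ hgC')
  · obtain ⟨w, a', ha', b', hb', ha1, hb1, e⟩ := hhat
    refine hN.tilde_not_hat (hl.side.Z_le.trans hl.side.P_le) hcomm htilde
      ⟨y⁻¹ * w, a', ha', b', hb', ha1, hb1, ?_⟩
    have e' : y * (a * v) * y⁻¹ = w * (a' * b') * w⁻¹ := e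
    calc a * v = y⁻¹ * (y * (a * v) * y⁻¹) * y := by group
      _ = _ := by rw [e']; group

end Cfsg.Agent.OddFT
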