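import Cfsg.Agent.Lib.OddChar.FT.NbrBeta
import Cfsg.Agent.Lib.OddChar.FT.SideFacts

/-!
The coordinates on the family of the character induced from a subgroup of `H` with controlled fusion.
-/

set_option autoImplicit false
set_option linter.unusedSectionVars false
set_option linter.unusedVariables false
set_option linter.style.haveILetI false

open Cfsg Cfsg.Agent.Char Cfsg.Agent.OddChar Cfsg.Agent.OddLocal
open scoped ComplexConjugate Classical

namespace Cfsg.Agent.OddFT

universe u

variable {G : Type u} [Group G] [Fintype G]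

/-- The scalar product with a function supported on the conjugates of a set with controlled fusion. -/
theorem IsTI.inner_conjSet {M : Subgroup G} {X : Set G} (hT : IsTI M X) {F : G → ℂ}
    (hF : IsClassFunction G F) :
    classInner (fun g => if g ∈ conjSet X then (1 : ℂ) else 0) F =
      (Nat.card M : ℂ)⁻¹ * ∑ x ∈ (Finset.univ : Finset M).filter (fun x : M => (x : G) ∈ X), conj (F (x : G)) := by
  set α : M → ℂ := fun x => if (x : G) ∈ X then 1 else 0 with hα
  have hs : ∀ x : M, (x : G) ∉ X → α x = 0 := fun x hx => if_neg hx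
  have hαc : IsClassFunction M α := fun a b => by
    simp only [hα]
    refine if_congr ⟨fun h => ?_, fun h => ?_⟩ rfl rfl
    · have := hT.conj_mem _ (M.inv_mem b.2) _ h
      simpa [mul_assoc] using this
    · have := hT.conj_mem _ b.2 _ h
      simpa using this
  have hind : indFun M α = fun g => if g ∈ conjSet X then 1 else 0 := by
    funext g
    split_ifs with hg
    · obtain ⟨x, hx⟩ := hg
      rw [← (isClassFunction_indFun M α) g x,
        show x * g * x⁻¹ = ((⟨_, hT.subset _ hx⟩ : M) : G) from rfl, hT.ind_apply hαc hs hx, hα]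
      exact if_pos hx
    · exact hT.ind_eq_zero hs fun y hy => hg ⟨y, hy⟩
  have e := Char.frobenius M α hF
  rw [hind] at e
  rw [e, classInner, Finset.sum_filter]
  congr 1
  refine Finset.sum_congr rfl fun x _ => ?_
  simp only [hα]
  split_ifs <;> simp

namespace Nbr

variable {S K U T L H E : Subgroup G} (hN : Nbr S K U T L H E) [Fintype L]
include hN

theorem inner_indOne_self :
    classInner (indFun (H.subgroupOf L) fun _ => (1 : ℂ)) (indFun (H.subgroupOf L) fun _ => 1) =
      (Nat.card E : ℂ) := by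
  rw [Char.frobenius _ _ (isClassFunction_indFun _ _),
    show (fun h : H.subgroupOf L => indFun (H.subgroupOf L) (fun _ => (1 : ℂ)) (h : L)) =
      (Nat.card E : ℂ) • fun _ => (1 : ℂ) from funext fun h => by
        rw [hN.indOne_apply, if_pos (Subgroup.mem_subgroupOf.1 h.2)]; simp,
    classInner_smul_right, irr_self isIrrCharacter_one, Complex.conj_natCast, mul_one]

/-- A class function supported on `H` is a combination of the family and `Ind 1`. -/
theorem supported_decomp {f : L → ℂ} (hf : IsClassFunction L f) (hs : ∀ x : L, (x : G) ∉ H → f x = 0) :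
    f = (∑ x ∈ famFin L H, classInner f x • x) +
      (classInner f (indFun (H.subgroupOf L) fun _ => (1 : ℂ)) / Nat.card E) •
        indFun (H.subgroupOf L) (fun _ => (1 : ℂ)) := by
  set I := indFun (H.subgroupOf L) (fun _ => (1 : ℂ)) with hI
  set lam := classInner f I / (Nat.card E : ℂ) with hlam
  set h0 := f - (∑ x ∈ famFin L H, classInner f x • x) - lam • I with hh0
  have hsupp : ∀ x : L, (x : G) ∉ H → h0 x = 0 := fun x hx => by
    simp only [hh0, Pi.sub_apply, Finset.sum_apply, Pi.smul_apply, smul_eq_mul, hs x hx, hI, hN.indOne_apply,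
      if_neg hx, mul_zero, sub_zero, zero_sub, neg_eq_zero]
    exact Finset.sum_eq_zero fun a ha => by rw [hN.fam_support (hN.mem_famFin.1 ha) hx, mul_zero]
  have hcl : IsClassFunction L h0 := fun x y => by
    simp only [hh0, Pi.sub_apply, Finset.sum_apply, Pi.smul_apply, hf x y,
      isClassFunction_indFun (H.subgroupOf L) (fun _ => (1 : ℂ)) x y, hI]
    congr 2
    exact Finset.sum_congr rfl fun a ha => by rw [hN.fam_class (hN.mem_famFin.1 ha) x y]
  have hfam : ∀ a ∈ famF L H, classInner h0 a = 0 := fun a ha => by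
    rw [hh0, classInner_sub_left, classInner_sub_left, classInner_sum_left, classInner_smul_left, hI,
      ← classInner_symm a (indFun _ _), hN.inner_fam_indOne ha, map_zero, mul_zero, sub_zero,
      Finset.sum_eq_single a (fun b hb hne => by
        rw [classInner_smul_left, hN.fam_inner (hN.mem_famFin.1 hb) ha, if_neg hne, mul_zero])
        (fun h => absurd (hN.mem_famFin.2 ha) h), classInner_smul_left, hN.fam_inner ha ha, if_pos rfl, mul_one,
      sub_self]
  have hone : classInner h0 I = 0 := by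
    rw [hh0, classInner_sub_left, classInner_sub_left, classInner_sum_left, classInner_smul_left, hI,
      hN.inner_indOne_self, Finset.sum_eq_zero (fun a ha => by
        rw [classInner_smul_left, hN.inner_fam_indOne (hN.mem_famFin.1 ha), mul_zero]), sub_zero, ← hI, hlam,
      div_mul_cancel₀ _ hN.E_card_ne, sub_self]
  have hzero : (fun x : H.subgroupOf L => h0 x) = 0 := by
    refine classFun_eq_zero (fun x y => hcl (x : L) (y : L)) fun θ => ?_
    rw [← classInner_symm (θ : H.subgroupOf L → ℂ), ← Char.frobenius _ _ hcl]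
    by_cases hθ : (θ : H.subgroupOf L → ℂ) = fun _ => 1
    · rw [hθ, classInner_symm, ← hI, hone]
    · rw [classInner_symm, hfam _ ⟨θ, θ.2, hθ,
        fun a ha => by rw [show a = 1 from Subtype.ext (Subgroup.mem_bot.1 ha)], rfl⟩]
  have h00 : h0 = 0 := funext fun x => by
    by_cases hx : (x : G) ∈ H
    · exact congrFun hzero ⟨x, Subgroup.mem_subgroupOf.2 hx⟩
    · exact hsupp x hx
  rw [hh0, sub_sub, sub_eq_zero] at h00
  exact h00

variable {C : Subgroup G} (hCH : C ≤ H) (hKC : K ≤ Subgroup.normalizer (C : Set G))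
include hCH hKC

/-- The multiplicity of the trivial character of `C` in the members is divisible by `|K|`. -/
theorem inner_ind_dvd {a : L → ℂ} (ha : a ∈ famF L H) :
    ∃ m : ℤ, classInner a (indFun (C.subgroupOf L) fun _ => (1 : ℂ)) = (Nat.card K : ℂ) * m := by
  haveI := hN.normal
  have hac := hN.fam_class ha
  obtain ⟨θ, hθ, -, -, rfl⟩ := ha
  set C' := C.subgroupOf L with hC'
  have hCH' : C' ≤ (H.subgroupOf L) := fun x hx => hCH hx
  have hθc : IsCharacter (H.subgroupOf L) θ := irr_isCharacter hθ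
  set K' := K.subgroupOf L with hK'
  have hconj : ∀ (y : L) (x : L), x ∈ (H.subgroupOf L) → y * x * y⁻¹ ∈ (H.subgroupOf L) := fun y x hx => hN.normal.conj_mem x hx y
  let φ : L → C' →* (H.subgroupOf L) := fun y => MonoidHom.mk' (fun c => (⟨y * (c : L) * y⁻¹, hconj y _ (hCH' c.2)⟩ : (H.subgroupOf L)))
    fun c d => Subtype.ext (by simp [mul_assoc])
  choose m hm using fun y : L =>
    (show ∃ m : ℤ, classInner (fun c => θ (φ y c)) (fun _ => (1 : ℂ)) = m from
      gen_inner_int (gen_of_char (isCharacter_comp (φ y) hθc)) gen_one)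
  -- invariance on the cosets of `H K`
  have hH : ∀ y : L, ∀ x ∈ (H.subgroupOf L), m (y * x) = m y := by
    intro y x hx
    have e : (fun c => θ (φ (y * x) c)) = fun c => θ (φ y c) := funext fun c => by
      rw [show φ (y * x) c = ⟨y * x * y⁻¹, hconj y x hx⟩ * φ y c * (⟨y * x * y⁻¹, hconj y x hx⟩ : (H.subgroupOf L))⁻¹ from
        Subtype.ext (by simp [φ, mul_assoc]), isClassFunction_character hθc]
    have h1 := hm (y * x)
    rw [e, hm y] at h1
    exact_mod_cast h1.symm
  have hK : ∀ y : L, ∀ k ∈ K', m (y * k) = m y := by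
    intro y k hk
    have hk1 : ∀ k ∈ K', ∀ c ∈ C', k * c * k⁻¹ ∈ C' := fun k hk c hc => Subgroup.mem_subgroupOf.2 (by
      have := (Subgroup.mem_normalizer_iff.1 (hKC (Subgroup.mem_subgroupOf.1 hk)) (c : G)).1
        (Subgroup.mem_subgroupOf.1 hc)
      simpa using this)
    have e3 : classInner (fun c => θ (φ (y * k) c)) (fun _ => 1) = classInner (fun c => θ (φ y c)) (fun _ => 1) := by
      simp only [classInner, map_one, mul_one]
      congr 1
      refine Fintype.sum_equiv
        { toFun := fun c : C' => (⟨k * c * k⁻¹, hk1 k hk c c.2⟩ : C')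
          invFun := fun c : C' => (⟨k⁻¹ * c * k, by simpa using hk1 k⁻¹ (K'.inv_mem hk) c c.2⟩ : C')
          left_inv := fun c => Subtype.ext (by simp [mul_assoc])
          right_inv := fun c => Subtype.ext (by simp [mul_assoc]) } _ _ fun c => ?_
      exact congrArg θ (Subtype.ext (by simp [φ, mul_assoc]))
    rw [hm (y * k), hm y] at e3
    exact_mod_cast e3
  set M := (H.subgroupOf L) ⊔ K' with hMdef
  have hM : ∀ y : L, ∀ x ∈ M, m (y * x) = m y := by
    intro y x hx
    rw [hMdef, ← SetLike.mem_coe, Subgroup.coe_mul_of_right_le_normalizer_left _ _ (fun z _ => by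
      rw [Subgroup.normalizer_eq_top]; trivial)] at hx
    obtain ⟨h1, hh1, k, hk, rfl⟩ := hx
    rw [← mul_assoc, hK _ k hk, hH y h1 hh1]
  have hMcard : Nat.card M = Nat.card (H.subgroupOf L) * Nat.card K := by
    have h1 := Solv.card_sup_mul_card_inf' (H.subgroupOf L) K' (fun z _ => by rw [Subgroup.normalizer_eq_top]; trivial)
    have hinf : (H.subgroupOf L) ⊓ K' = ⊥ := by
      rw [Subgroup.eq_bot_iff_forall]
      intro x hx
      refine Subtype.ext (Subgroup.mem_bot.1 ?_)
      rw [← hN.compl.2.2.1]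
      exact ⟨hN.K_le (Subgroup.mem_subgroupOf.1 hx.2), Subgroup.mem_subgroupOf.1 hx.1⟩
    rw [hinf, Subgroup.card_bot, mul_one, hK',
      Solv.card_subgroupOf (hN.K_le.trans hN.compl.1)] at h1
    exact h1
  refine ⟨∑ q : L ⧸ M, m q.out, ?_⟩
  have hsum : (∑ y : L, (m y : ℂ)) = (Nat.card M : ℂ) * ∑ q : L ⧸ M, (m q.out : ℂ) := by
    rw [← Finset.sum_fiberwise Finset.univ (fun y : L => (y : L ⧸ M)), Finset.mul_sum]
    refine Finset.sum_congr rfl fun q _ => ?_
    have e : ∀ y ∈ Finset.univ.filter (fun y : L => (y : L ⧸ M) = q), (m y : ℂ) = (m q.out : ℂ) := by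
      intro y hy
      have hy' : q.out⁻¹ * y ∈ M := QuotientGroup.eq.1 (by rw [QuotientGroup.out_eq', (Finset.mem_filter.1 hy).2])
      have := hM q.out _ hy'
      rw [mul_inv_cancel_left] at this
      exact_mod_cast this
    rw [Finset.sum_congr rfl e, Finset.sum_const, nsmul_eq_mul]
    congr 1
    rw [← Fintype.card_subtype, ← Nat.card_eq_fintype_card]
    refine congrArg Nat.cast (Nat.card_congr (?_ : {y : L // (y : L ⧸ M) = q} ≃ M))
    exact
      { toFun := fun y => ⟨q.out⁻¹ * y.1, QuotientGroup.eq.1 (by rw [QuotientGroup.out_eq', y.2])⟩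
        invFun := fun x => ⟨q.out * x, by rw [QuotientGroup.mk_mul_of_mem _ x.2, QuotientGroup.out_eq']⟩
        left_inv := fun y => Subtype.ext (by simp)
        right_inv := fun x => Subtype.ext (by simp) }
  have hval : ∀ c : C', indFun (H.subgroupOf L) θ (c : L) = (Nat.card (H.subgroupOf L) : ℂ)⁻¹ * ∑ y : L, θ (φ y c) := by
    intro c
    rw [indFun]
    congr 1
    refine Fintype.sum_equiv (Equiv.inv L) _ _ fun y => ?_
    have hm' : y⁻¹ * (c : L) * y ∈ (H.subgroupOf L) := by simpa using hconj y⁻¹ _ (hCH' c.2)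
    rw [extendByZero_mem (H.subgroupOf L) θ hm']
    exact congrArg θ (Subtype.ext (by simp [φ]))
  have hH0 : (Nat.card (H.subgroupOf L) : ℂ) ≠ 0 := Nat.cast_ne_zero.2 Nat.card_pos.ne'
  have key : classInner (fun c : C' => indFun (H.subgroupOf L) θ (c : L)) (fun _ => 1) =
      (Nat.card K : ℂ) * ∑ q : L ⧸ M, (m q.out : ℂ) := by
    have e : classInner (fun c : C' => indFun (H.subgroupOf L) θ (c : L)) (fun _ => 1) =
        (Nat.card (H.subgroupOf L) : ℂ)⁻¹ * ∑ y : L, (m y : ℂ) := by
      simp only [← hm, classInner, map_one, mul_one, hval]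
      rw [← Finset.mul_sum, Finset.sum_comm, ← Finset.mul_sum, mul_left_comm]
    rw [e, hsum, hMcard, Nat.cast_mul]
    field_simp
  rw [← classInner_symm, Char.frobenius C' _ hac, classInner_symm, key]
  push_cast
  rfl

/-- The norm of the induced trivial character. -/
theorem norm_ind (hT : IsTI ((U ⊔ K).subgroupOf L) {x : L | (x : G) ∈ C ∧ x ≠ 1}) :
    classInner (indFun (C.subgroupOf L) fun _ => (1 : ℂ)) (indFun (C.subgroupOf L) fun _ => 1) =
      ((Nat.card L : ℂ) / Nat.card C + ((Nat.card C : ℂ) - 1) * Nat.card ↥(U ⊔ K) / Nat.card C) / Nat.card C := by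
  set C' := C.subgroupOf L with hC'
  have hCL : C ≤ L := hCH.trans hN.H_le
  have hcard : Nat.card C' = Nat.card C := Solv.card_subgroupOf hCL
  have hUKL : U ⊔ K ≤ L := sup_le (hN.U_le.trans hN.H_le) (hN.K_le.trans hN.compl.1)
  have hCUK : ∀ x : L, (x : G) ∈ C → x ≠ 1 → (x : G) ∈ U ⊔ K := fun x hx hx1 =>
    Subgroup.mem_subgroupOf.1 (hT.subset x ⟨hx, hx1⟩)
  have hone : indFun C' (fun _ => (1 : ℂ)) 1 = (Nat.card L : ℂ) / Nat.card C := by
    rw [indFun_one, mul_one, ← hcard, eq_div_iff (Nat.cast_ne_zero.2 Nat.card_pos.ne'), ← Nat.cast_mul,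
      Subgroup.index_mul_card]
  have hrest : ∀ c : C', c ≠ 1 →
      indFun C' (fun _ => (1 : ℂ)) (c : L) = (Nat.card ↥(U ⊔ K) : ℂ) / Nat.card C := by
    intro c hc
    have hc1 : (c : L) ≠ 1 := fun e => hc (Subtype.ext e)
    have hmem : ∀ y : L, y⁻¹ * (c : L) * y ∈ C' ↔ y ∈ (U ⊔ K).subgroupOf L := by
      intro y
      constructor
      · intro hy
        have := hT.ti y⁻¹ (c : L) ⟨Subgroup.mem_subgroupOf.1 c.2, hc1⟩
          ⟨by simpa using Subgroup.mem_subgroupOf.1 hy, fun e => hc1 (by
            have e' : y⁻¹ * (c : L) * y = 1 := by simpa using e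
            calc (c : L) = y * (y⁻¹ * c * y) * y⁻¹ := by group
              _ = 1 := by rw [e']; group)⟩
        simpa using this
      · intro hy
        have := hT.conj_mem y⁻¹ (inv_mem hy) (c : L) ⟨Subgroup.mem_subgroupOf.1 c.2, hc1⟩
        exact Subgroup.mem_subgroupOf.2 (by simpa using this.1)
    rw [indFun, Finset.sum_congr rfl (g := fun y => if y ∈ (U ⊔ K).subgroupOf L then (1 : ℂ) else 0) fun y _ => by
      by_cases hy : y ∈ (U ⊔ K).subgroupOf L
      · rw [extendByZero_mem C' _ ((hmem y).2 hy), if_pos hy]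
      · rw [extendByZero_not_mem C' _ fun hm => hy ((hmem y).1 hm), if_neg hy],
      Finset.sum_boole, ← Fintype.card_subtype, ← Nat.card_eq_fintype_card, hcard,
      Nat.card_congr (Subgroup.subgroupOfEquivOfLe hUKL).toEquiv, inv_mul_eq_div]
  rw [Char.frobenius C' _ (isClassFunction_indFun _ _), classInner, ← Finset.sum_erase_add _ _ (Finset.mem_univ (1 : C')),
    Finset.sum_congr rfl (g := fun _ => (Nat.card ↥(U ⊔ K) : ℂ) / Nat.card C) fun c hc => by
      rw [hrest c (Finset.mem_erase.1 hc).1, one_mul, map_div₀, map_natCast, map_natCast],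
    Finset.sum_const, Finset.card_erase_of_mem (Finset.mem_univ _), Finset.card_univ, ← Nat.card_eq_fintype_card,
    nsmul_eq_mul, OneMemClass.coe_one, hone, one_mul, map_div₀, map_natCast, map_natCast, hcard,
    Nat.cast_sub Nat.card_pos, Nat.cast_one]
  ring

theorem inner_indC_indH :
    classInner (indFun (C.subgroupOf L) fun _ => (1 : ℂ)) (indFun (H.subgroupOf L) fun _ => 1) =
      (Nat.card E : ℂ) := by
  rw [Char.frobenius _ _ (isClassFunction_indFun _ _),
    show (fun h : C.subgroupOf L => indFun (H.subgroupOf L) (fun _ => (1 : ℂ)) (h : L)) =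
      (Nat.card E : ℂ) • fun _ => (1 : ℂ) from funext fun h => by
        rw [hN.indOne_apply, if_pos (hCH (Subgroup.mem_subgroupOf.1 h.2))]; simp,
    classInner_smul_right, irr_self isIrrCharacter_one, Complex.conj_natCast, mul_one]

theorem indC_supp (x : L) (hx : (x : G) ∉ H) : indFun (C.subgroupOf L) (fun _ => (1 : ℂ)) x = 0 := by
  rw [indFun, Finset.sum_eq_zero, mul_zero]
  intro y _
  refine extendByZero_not_mem _ _ fun h => hx (Subgroup.mem_subgroupOf.1 ?_)
  have h' := hN.normal.conj_mem _ (show y⁻¹ * x * y ∈ H.subgroupOf L from hCH (Subgroup.mem_subgroupOf.1 h)) y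
  rwa [show y * (y⁻¹ * x * y) * y⁻¹ = x by group] at h'

/-- The coordinates, paired with the degrees and squared. -/
theorem ind_coord_sums (hT : IsTI ((U ⊔ K).subgroupOf L) {x : L | (x : G) ∈ C ∧ x ≠ 1}) :
    (∑ x ∈ famFin L H, x 1 * classInner (indFun (C.subgroupOf L) fun _ => (1 : ℂ)) x =
      (Nat.card E : ℂ) * ((Nat.card H : ℂ) / Nat.card C - 1)) ∧
    (∑ x ∈ famFin L H, classInner (indFun (C.subgroupOf L) fun _ => (1 : ℂ)) x *
        conj (classInner (indFun (C.subgroupOf L) fun _ => (1 : ℂ)) x) =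
      ((Nat.card L : ℂ) / Nat.card C + ((Nat.card C : ℂ) - 1) * Nat.card ↥(U ⊔ K) / Nat.card C) / Nat.card C -
        Nat.card E) := by
  set f := indFun (C.subgroupOf L) (fun _ => (1 : ℂ)) with hf
  have hd := hN.supported_decomp (f := f) (isClassFunction_indFun _ _) (fun x hx => hN.indC_supp hCH hKC x hx)
  rw [hN.inner_indC_indH hCH hKC, div_self hN.E_card_ne, one_smul] at hd
  constructor
  · have h1 := congrFun hd 1
    simp only [Pi.add_apply, Finset.sum_apply, Pi.smul_apply, smul_eq_mul, hN.indOne_apply, OneMemClass.coe_one,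
      if_pos (one_mem H)] at h1
    rw [hf, indFun_one, mul_one, ← hf] at h1
    have hi : ((C.subgroupOf L).index : ℂ) = (Nat.card E : ℂ) * Nat.card H / Nat.card C := by
      rw [eq_div_iff (Nat.cast_ne_zero.2 Nat.card_pos.ne'), ← Nat.cast_mul, ← Nat.cast_mul,
        ← Solv.card_subgroupOf (hCH.trans hN.H_le), Subgroup.index_mul_card, hN.card_mul]
    rw [hi] at h1
    rw [Finset.sum_congr rfl fun x _ => mul_comm (x 1) _, eq_sub_of_add_eq h1.symm]
    ring
  · have h2 : classInner f f = ∑ x ∈ famFin L H, classInner f x * conj (classInner f x) + Nat.card E := by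
      nth_rewrite 2 [hd]
      rw [classInner_add_right, classInner_sum_right, hN.inner_indC_indH hCH hKC]
      congr 1
      exact Finset.sum_congr rfl fun x _ => by rw [classInner_smul_right, mul_comm]
    rw [hf, hN.norm_ind hCH hKC hT, ← hf] at h2
    linear_combination -h2

end Nbr

end Cfsg.Agent.OddFT
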