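import Cfsg.Agent.Lib.OddChar.FT.FreeAvg
import Cfsg.Agent.Lib.OddChar.FT.FreeSum
import Cfsg.Agent.Lib.OddChar.FT.FreeKernelGrp

/-!
The coordinates of `Γ` on the coherent family of the neighbour of a layer with `C ≠ 1`.
-/

set_option autoImplicit false
set_option linter.unusedSectionVars false
set_option linter.unusedVariables false
set_option linter.style.haveILetI false

open Cfsg Cfsg.Agent.Char Cfsg.Agent.OddChar Cfsg.Agent.OddLocal
open scoped ComplexConjugate Classical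

namespace Cfsg.Agent.OddFT

universe u

variable {G : Type u} [Group G] [Fintype G]

variable {S K U T L H E Z P N : Subgroup G} {r : ℕ} (hN : Nbr S K U T L H E) (hl : IsLayer S K Z P U N r)
  (hF : FreeHyp S K P U N L)

include hl in
theorem IsLayer.card_UK : Nat.card ↥(U ⊔ K) = Nat.card U * Nat.card K := by
  have h := Solv.card_sup_mul_card_inf' U K hl.side.U_norm
  rwa [Subgroup.inf_eq_bot_of_coprime hl.side.coKU.symm, Subgroup.card_bot, mul_one] at h

include hl in
theorem IsLayer.C_le_H (hN : Nbr S K U T L H E) : layerC P U N ≤ H := hl.C_le.trans hN.U_le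

include hl in
theorem IsLayer.K_norm_C : K ≤ Subgroup.normalizer (layerC P U N : Set G) :=
  le_sup_right.trans (layerC_normalized hl)

include hN hl hF

/-- The nontrivial elements of `C` have fusion in `L` controlled by `U K`. -/
theorem FreeHyp.isTI_C :
    IsTI ((U ⊔ K).subgroupOf L) {x : L | (x : G) ∈ layerC P U N ∧ x ≠ 1} := by
  refine ⟨fun a ha => Subgroup.mem_subgroupOf.2 (Subgroup.mem_sup_left (hl.C_le ha.1)),
    fun h => h.2 rfl, fun x hx a ha => ⟨?_, fun e => ha.2 (conj_eq_one_iff.1 e)⟩, fun g a ha hga => ?_⟩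
  · simpa using (Subgroup.mem_normalizer_iff.1 (layerC_normalized hl (Subgroup.mem_subgroupOf.1 hx)) (a : G)).1
      ha.1
  · exact Subgroup.mem_subgroupOf.2 (hF.ti g g.2 a ha.1 (fun e => ha.2 (Subtype.ext e)) (by simpa using hga.1))

variable [Fintype L]

/-- The inner product of `τ β` with a Dade image. -/
theorem FreeHyp.inner_tau_beta (hcomm : ∀ a ∈ K, ∀ b ∈ Z, a * b = b * a) {j : ↥Z →* ℂˣ}
    (hj : j ∈ layerJ Z N) {α : L → ℂ} (hα : IsClassFunction L α)
    (hs : ∀ x : L, (x : G) ∉ typeA L → α x = 0) :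
    classInner (tauL L α) (indFun S (hl.beta j)) =
      (Nat.card K : ℂ)⁻¹ * classInner α (indFun ((layerC P U N).subgroupOf L) fun _ => (1 : ℂ)) := by
  set C := layerC P U N with hC
  set X : Set L := {x : L | (x : G) ∈ C ∧ x ≠ 1} with hX
  set M := (U ⊔ K).subgroupOf L with hM
  have hT : IsTI M X := hF.isTI_C hN hl
  have hcl := isClassFunction_indFun S (hl.beta j)
  rw [hN.inner_tauL hα hs hcl, classInner_congr_right
    (h := ((Nat.card U : ℂ) / Nat.card ↥C) • fun x => if x ∈ conjSet X then (1 : ℂ) else 0) fun x hx => ?_]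
  · rw [classInner_smul_right, ← classInner_symm _ α, hT.inner_conjSet hα, ← classInner_symm _ α,
      Char.frobenius (C.subgroupOf L) _ hα, classInner]
    simp only [one_mul, map_mul, map_sum, map_inv₀, map_natCast, map_div₀, Complex.conj_conj]
    have e1 : ∀ s : Finset M, (∀ x, x ∈ s ↔ (x : L) ∈ X) →
        ∑ x ∈ s, α (x : L) = ∑ x : C.subgroupOf L, α (x : L) := by
      intro s hs'
      rw [← Finset.sum_erase Finset.univ (a := (1 : C.subgroupOf L))
        (f := fun x : C.subgroupOf L => α (x : L)) (hs 1 fun h => (hN.mem_typeA.1 h).2 rfl)]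
      refine Finset.sum_bij' (fun x hx => ⟨(x : L), Subgroup.mem_subgroupOf.2 ((hs' x).1 hx).1⟩)
        (fun x hx => ⟨(x : L), Subgroup.mem_subgroupOf.2
          (Subgroup.mem_sup_left (hl.C_le (Subgroup.mem_subgroupOf.1 x.2)))⟩) (fun x hx => ?_) (fun x hx => ?_)
        (fun _ _ => rfl) (fun _ _ => rfl) (fun _ _ => rfl)
      · exact Finset.mem_erase.2 ⟨fun e => ((hs' x).1 hx).2
          (congrArg (fun y : C.subgroupOf L => (y : L)) e), Finset.mem_univ _⟩
      · exact (hs' _).2 ⟨Subgroup.mem_subgroupOf.1 x.2, fun e => (Finset.mem_erase.1 hx).1 (Subtype.ext e)⟩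
    rw [e1 _ fun x => by simp]
    rw [hM, Solv.card_subgroupOf (sup_le (hN.U_le.trans hN.H_le) (hN.K_le.trans hN.compl.1)), hl.card_UK,
      Solv.card_subgroupOf ((hl.C_le_H hN).trans hN.H_le)]
    have hU0 : (Nat.card U : ℂ) ≠ 0 := Nat.cast_ne_zero.2 Nat.card_pos.ne'
    push_cast
    field_simp
    rw [← hC]
    ring
  · have hxA : (x : G) ∈ typeA L := by_contra fun h => hx (hs x h)
    show dadeAvg (supportR L) (indFun S (hl.beta j)) (x : G) = _
    simp only [Pi.smul_apply, smul_eq_mul]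
    split_ifs with hc
    · obtain ⟨y, hy⟩ := hc
      rw [mul_one, ← hN.avg_conj hcl hxA y.2]
      refine hF.avg_C hN hl hj (by simpa using hy.1) fun e => hy.2 (Subtype.ext (by simpa using e))
    · rw [mul_zero]
      refine FreeHyp.avg_zero hN hl hcomm hj hxA fun y hy hmem => hc ⟨⟨y, hy⟩, by simpa using hmem, fun e => ?_⟩
      exact (hN.mem_typeA.1 hxA).2 (congrArg Subtype.val (conj_eq_one_iff.1 e))

variable {ζ : L → ℂ} (hζ : ζ ∈ famF L H) (hζ1 : ζ 1 = (Nat.card E : ℂ)) {φ : (L → ℂ) → G → ℂ}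
  (hφ : Fam (tauL L) (famF L H) φ) (W : Grid K Z) {j : ↥Z →* ℂˣ} (hj : j ∈ layerJ Z N)
include hζ hζ1 hφ hj

/-- The coordinates of `Γ` on the family. -/
theorem FreeHyp.exists_coord :
    ∃ (S0 : ℤ) (m c : (L → ℂ) → ℤ), ∀ a ∈ famFin L H,
      classInner (hl.gamma W j) (φ a) = (c a : ℂ) ∧
      (c a : ℂ) = (S0 : ℂ) * (a 1 / (Nat.card E : ℂ)) + (m a : ℂ) ∧
      classInner (indFun ((layerC P U N).subgroupOf L) fun _ => (1 : ℂ)) a = (Nat.card K : ℂ) * m a := by
  have hq0 : (Nat.card K : ℂ) ≠ 0 := Nat.cast_ne_zero.2 Nat.card_pos.ne'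
  have hm' : ∀ a : L → ℂ, ∃ m : ℤ, a ∈ famF L H →
      classInner a (indFun ((layerC P U N).subgroupOf L) fun _ => (1 : ℂ)) = (Nat.card K : ℂ) * m := fun a =>
    if ha : a ∈ famF L H then (hN.inner_ind_dvd (hl.C_le_H hN) hl.K_norm_C ha).imp fun m e _ => e
    else ⟨0, fun h => absurd h ha⟩
  choose m hm using hm'
  have hc' : ∀ a : L → ℂ, ∃ c : ℤ, a ∈ famF L H → classInner (hl.gamma W j) (φ a) = c := fun a =>
    if ha : a ∈ famF L H then (gen_inner_int (hl.gamma_gen W j) (hφ.signed a ha).gen).imp fun m e _ => e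
    else ⟨0, fun h => absurd h ha⟩
  choose c hc using hc'
  refine ⟨c ζ - m ζ, m, c, fun a ha => ?_⟩
  replace ha := hN.mem_famFin.1 ha
  refine ⟨hc a ha, ?_, by rw [← classInner_symm, hm a ha]; simp⟩
  have hZ : Z ≤ sigmaCore S := hl.side.Z_le.trans hl.side.P_le
  have hΓ : ∀ b ∈ famF L H, classInner (φ b) (indFun S (hl.beta j)) = (c b : ℂ) := fun b hb => by
    have e : indFun S (hl.beta j) = hl.gamma W j + W.eta 1 1 - W.eta 1 j := by
      rw [W.one]
      funext g
      simp only [IsLayer.gamma, Pi.add_apply, Pi.sub_apply]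
      ring
    rw [e, classInner_sub_right, classInner_add_right, hN.fam_orth_eta hφ hZ W hb,
      hN.fam_orth_eta hφ hZ W hb, ← classInner_symm (hl.gamma W j) (φ b), hc b hb, map_intCast]
    ring
  have key := hF.inner_tau_beta hN hl (fun a ha b hb => W.comm ha hb) hj
    (hN.diff_class ha hζ) (fun x hx => hN.diff_support ha hζ hx)
  rw [hφ.diff a ha ζ hζ, classInner_sub_left, classInner_sub_left, classInner_smul_left, classInner_smul_left,
    classInner_smul_left, classInner_smul_left, hΓ a ha, hΓ ζ hζ, hm a ha, hm ζ hζ, hζ1] at key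
  have hE := hN.E_card_ne
  field_simp at key ⊢
  push_cast
  linear_combination key

/-- The sum of the squares of the coordinates and the sum paired with the degrees. -/
theorem FreeHyp.coord_sums :
    ∃ (S0 : ℤ) (c : (L → ℂ) → ℤ), (∀ a ∈ famFin L H, classInner (hl.gamma W j) (φ a) = (c a : ℂ)) ∧
      (∑ a ∈ famFin L H, (c a : ℝ) ^ 2) =
        (S0 : ℝ) ^ 2 * (((Nat.card H : ℝ) - 1) / Nat.card E) +
          2 * S0 * (((Nat.card H : ℝ) / Nat.card ↥(layerC P U N) - 1) / Nat.card K) +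
          ((Nat.card E : ℝ) * Nat.card H / (Nat.card ↥(layerC P U N) : ℝ) ^ 2 +
              ((Nat.card ↥(layerC P U N) : ℝ) - 1) * (Nat.card U * Nat.card K) /
                (Nat.card ↥(layerC P U N) : ℝ) ^ 2 - Nat.card E) / (Nat.card K : ℝ) ^ 2 ∧
      (∑ a ∈ famFin L H, (c a : ℂ) * (a 1 / (Nat.card E : ℂ))) =
        (S0 : ℂ) * (((Nat.card H : ℂ) - 1) / Nat.card E) +
          ((Nat.card H : ℂ) / Nat.card ↥(layerC P U N) - 1) / Nat.card K := by
  obtain ⟨S0, m, c, h⟩ := hF.exists_coord hN hl hζ hζ1 hφ W hj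
  obtain ⟨h1, h2⟩ := hN.ind_coord_sums (hl.C_le_H hN) hl.K_norm_C (hF.isTI_C hN hl)
  rw [Finset.sum_congr rfl fun x hx => by rw [(h x hx).2.2]] at h1
  rw [Finset.sum_congr rfl fun x hx => by rw [(h x hx).2.2, map_mul, map_natCast, map_intCast], ← hN.card_mul,
    hl.card_UK] at h2
  have hE := hN.E_card_ne
  have hq0 : (Nat.card K : ℂ) ≠ 0 := Nat.cast_ne_zero.2 Nat.card_pos.ne'
  have hd2 := hN.sum_fam_sq (H := H) hζ hζ1
  set q : ℂ := (Nat.card K : ℂ) with hq
  set e : ℂ := (Nat.card E : ℂ) with he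
  have hdm : ∑ a ∈ famFin L H, a 1 / e * (m a : ℂ) =
      ((Nat.card H : ℂ) / Nat.card ↥(layerC P U N) - 1) / q := by
    rw [eq_div_iff hq0, ← mul_right_inj' hE, ← h1, Finset.sum_mul, Finset.mul_sum]
    refine Finset.sum_congr rfl fun a _ => ?_
    field_simp
  have hmm : ∑ a ∈ famFin L H, (m a : ℂ) ^ 2 = ((Nat.card E : ℂ) * Nat.card H /
      (Nat.card ↥(layerC P U N) : ℂ) ^ 2 + ((Nat.card ↥(layerC P U N) : ℂ) - 1) *
        ((Nat.card U : ℂ) * Nat.card K) / (Nat.card ↥(layerC P U N) : ℂ) ^ 2 - e) / q ^ 2 := by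
    rw [eq_div_iff (pow_ne_zero 2 hq0), Finset.sum_mul]
    rw [Finset.sum_congr rfl fun a _ => show (m a : ℂ) ^ 2 * q ^ 2 = q * m a * (q * m a) by ring, h2]
    push_cast
    ring
  refine ⟨S0, c, fun a ha => (h a ha).1, ?_, ?_⟩
  · refine Complex.ofReal_injective ?_
    push_cast
    rw [Finset.sum_congr rfl fun a ha => show (c a : ℂ) ^ 2 =
        (S0 : ℂ) ^ 2 * (a 1 / e) ^ 2 + 2 * S0 * (a 1 / e * m a) + (m a : ℂ) ^ 2 by rw [(h a ha).2.1]; ring,
      Finset.sum_add_distrib, Finset.sum_add_distrib, ← Finset.mul_sum, ← Finset.mul_sum, hd2, hdm, hmm]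
  · rw [Finset.sum_congr rfl fun a ha => show (c a : ℂ) * (a 1 / e) =
        (S0 : ℂ) * (a 1 / e) ^ 2 + a 1 / e * m a by rw [(h a ha).2.1]; ring,
      Finset.sum_add_distrib, ← Finset.mul_sum, hd2, hdm]

end Cfsg.Agent.OddFT
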