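import Cfsg.Agent.Lib.Char.GlaubermanLemma
import Cfsg.Agent.Lib.Char.GlaubermanCount

/-!
An invariant irreducible character contains in its kernel every normal subgroup on which the operator
group acts without fixed points.
-/

set_option autoImplicit false
set_option linter.unusedSectionVars false
set_option linter.style.haveILetI false

open Cfsg Cfsg.Agent.Char

namespace Cfsg.Agent.OddFT

universe u

variable {Γ : Type u} [Group Γ] [Fintype Γ]

theorem ker_of_free (G N S : Subgroup Γ) [G.Normal] [N.Normal] [Fintype G] [Fintype N] (hNG : N ≤ G)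
    (hGS : G ⊔ S = ⊤) (hS : (Nat.card S).Prime) (hcop : (Nat.card G).Coprime (Nat.card S))
    (hfree : ∀ n ∈ N, (∀ s ∈ S, s * n = n * s) → n = 1) (χ : IrrCharacter G)
    (hχ : ∀ s ∈ S, ∀ g : G, (χ : G → ℂ) (MulAut.conjNormal s g) = (χ : G → ℂ) g) :
    ∀ g : G, (g : Γ) ∈ N → (χ : G → ℂ) g = (χ : G → ℂ) 1 := by
  classical
  haveI : Fact (Nat.card S).Prime := ⟨hS⟩
  have hsolS : Group.IsSolvable S := by
    haveI := (IsPGroup.of_card (p := Nat.card S) (n := 1) (G := S) (pow_one _).symm).isNilpotent
    infer_instance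
  obtain ⟨θ, hθ, hinv⟩ := exists_fixed_below G N hNG S hGS
    (hcop.coprime_dvd_left (Subgroup.relIndex_dvd_card N G)) (Or.inl hsolS) χ hχ
  let φ : S →* MulAut N := (MulAut.conjNormal (H := N)).comp S.subtype
  have hφ : ∀ (s : S) (n : N), ((φ s n : N) : Γ) = (s : Γ) * n * (s : Γ)⁻¹ := fun s n =>
    MulAut.conjNormal_apply _ _
  -- the only fixed class is the class of the identity
  have hcls : Nat.card {K : ConjClasses N // ∀ s g, ConjClasses.mk g = K → ConjClasses.mk (φ s g) = K} = 1 := by
    refine Nat.card_eq_one_iff_exists.2 ⟨⟨ConjClasses.mk 1, fun s g hg => ?_⟩, ?_⟩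
    · rw [ConjClasses.mk_eq_mk_iff_isConj, isConj_one_left] at hg
      rw [hg, map_one]
    rintro ⟨K, hK⟩
    refine Subtype.ext ?_
    obtain ⟨n₀, rfl⟩ := ConjClasses.exists_rep K
    let X := {n : N // ConjClasses.mk n = ConjClasses.mk n₀}
    letI : MulAction S X :=
      { smul := fun s n => ⟨φ s n.1, hK s n.1 n.2⟩
        one_smul := fun n => Subtype.ext (by show φ 1 n.1 = n.1; rw [map_one]; rfl)
        mul_smul := fun s t n => Subtype.ext (by
          show φ (s * t) n.1 = φ s (φ t n.1)
          rw [map_mul]; rfl) }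
    have hne : (MulAction.fixedPoints S X).Nonempty := by
      by_contra he
      have hmod := (IsPGroup.of_card (p := Nat.card S) (n := 1) (G := S) (pow_one _).symm).card_modEq_card_fixedPoints
        (α := X)
      rw [Set.not_nonempty_iff_eq_empty] at he
      rw [he, Nat.card_coe_set_eq, Set.ncard_empty] at hmod
      have hXN : Nat.card X ∣ Nat.card N := by
        have h := MulAction.index_stabilizer (ConjAct N) n₀
        have h' : (MulAction.orbit (ConjAct N) n₀).ncard = Nat.card X := by
          rw [← Nat.card_coe_set_eq]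
          refine Nat.card_congr (Equiv.subtypeEquivRight fun n => ?_)
          rw [ConjAct.mem_orbit_conjAct, ConjClasses.mk_eq_mk_iff_isConj]
        rw [← h', ← h]
        exact (Subgroup.index_dvd_card _).trans (dvd_of_eq (Nat.card_congr ConjAct.ofConjAct.toEquiv))
      exact hS.ne_one (Nat.eq_one_of_dvd_coprimes hcop
        ((Nat.modEq_zero_iff_dvd.1 hmod).trans (hXN.trans (Subgroup.card_dvd_of_le hNG))) dvd_rfl)
    obtain ⟨⟨n, hn⟩, hfix⟩ := hne
    have hn1 : n = 1 := Subtype.ext (hfree n n.2 fun s hs => by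
      have h : φ ⟨s, hs⟩ n = n := congrArg Subtype.val (hfix ⟨s, hs⟩)
      have h' := congrArg Subtype.val h
      rw [hφ] at h'
      exact mul_inv_eq_iff_eq_mul.1 h')
    exact hn.symm.trans (congrArg ConjClasses.mk hn1)
  have hirr : Nat.card {η : IrrCharacter N // ∀ s g, (η : N → ℂ) (φ s g) = (η : N → ℂ) g} = 1 := by
    rw [card_invariant_eq (Nat.card S) S N φ rfl hsolS (hcop.coprime_dvd_left (Subgroup.card_dvd_of_le hNG)), hcls]
  haveI := (Nat.card_eq_one_iff_unique.1 hirr).1
  have hθ1 : (θ : N → ℂ) = fun _ => 1 := congrArg Subtype.val (congrArg Subtype.val (Subsingleton.elim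
    (⟨θ, fun s n => hinv s s.2 n⟩ : {η : IrrCharacter N // ∀ s g, (η : N → ℂ) (φ s g) = (η : N → ℂ) g})
    ⟨⟨_, isIrrCharacter_one⟩, fun _ _ => rfl⟩))
  haveI : (N.subgroupOf G).Normal := inferInstance
  let e := Subgroup.subgroupOfEquivOfLe hNG
  haveI := Fintype.ofFinite (N.subgroupOf G)
  let one : IrrCharacter (N.subgroupOf G) := ⟨_, isIrrCharacter_one⟩
  have hc : classInner (fun m : N.subgroupOf G => (χ : G → ℂ) m) (one : N.subgroupOf G → ℂ) ≠ 0 := by
    refine fun h0 => hθ (Eq.trans ?_ h0)
    simp only [classInner, hθ1, one]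
    rw [Nat.card_congr e.toEquiv]
    congr 1
    exact (Fintype.sum_equiv e.toEquiv _ _ fun m => rfl).symm
  have horb : cliffOrbit (N.subgroupOf G) one = {one} := by
    refine Finset.eq_singleton_iff_unique_mem.2 ⟨self_mem_cliffOrbit one, fun ψ hψ => ?_⟩
    obtain ⟨g, rfl⟩ := mem_cliffOrbit.1 hψ
    exact Subtype.ext rfl
  have hres := clifford_restrict (N := N.subgroupOf G) χ one hc
  rw [horb, Finset.sum_singleton] at hres
  intro g hg
  have h1 := congrFun hres ⟨g, hg⟩
  have h2 := congrFun hres 1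
  exact h1.trans h2.symm

end Cfsg.Agent.OddFT
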