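import Cfsg.Agent.Lib.OddChar.FT.Base
import Cfsg.Agent.Lib.Char.CyclicTIFamilyExist
import Cfsg.Agent.Lib.Char.CyclicTIUnique
import Cfsg.Agent.Lib.Char.TypePLikeMu
import Cfsg.Agent.S1503
import Cfsg.Agent.S1506
import Cfsg.Agent.S1508

/-!
The grid of signed characters of a self-normalizing cyclic subgroup, indexed by the linear characters of
the two factors.
-/

set_option autoImplicit false
set_option linter.unusedSectionVars false
set_option linter.unusedVariables false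
set_option linter.style.haveILetI false

open Cfsg Cfsg.Agent.Char Cfsg.Agent.OddChar
open scoped ComplexConjugate

namespace Cfsg.Agent.OddFT

universe u

variable {G : Type u} [Group G] [Fintype G]

noncomputable scoped instance homFintype (H : Subgroup G) : Fintype (↥H →* ℂˣ) :=
  haveI : Finite (↥H →* ℂˣ) := Nat.finite_of_card_ne_zero
    (by rw [card_hom_units]; exact Subgroup.index_ne_zero_of_finite)
  Fintype.ofFinite _

/-- The elements conjugate to a product of nontrivial elements of the factors. -/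
def hatG (W₁ W₂ : Subgroup G) : Set G :=
  {g | ∃ x : G, ∃ a ∈ W₁, ∃ b ∈ W₂, a ≠ 1 ∧ b ≠ 1 ∧ g = x * (a * b) * x⁻¹}

/-- The signed characters `η i j`. -/
structure Grid (W₁ W₂ : Subgroup G) where
  eta : (↥W₁ →* ℂˣ) → (↥W₂ →* ℂˣ) → G → ℂ
  sn : IsSelfNormalizingCyclic W₁ W₂
  signed : ∀ i j, IsSigned G (eta i j)
  orth : ∀ i j k l, (i ≠ k ∨ j ≠ l) → classInner (eta i j) (eta k l) = 0
  one : eta 1 1 = fun _ => 1
  onHat : ∀ i j (a : W₁) (b : W₂), a ≠ 1 → b ≠ 1 → eta i j ((a : G) * b) = (i a : ℂ) * (j b : ℂ)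
  outside : ∀ i j g, g ∉ hatG W₁ W₂ → eta i j g = eta i 1 g + eta 1 j g - 1
  power : ∀ i j (k : ℕ), k.Coprime (Nat.card G) → ∀ g, eta i j (g ^ k) = eta (i ^ k) (j ^ k) g
  rect : ∀ θ : G → ℂ, IsClassFunction G θ → (∀ a ∈ W₁, ∀ b ∈ W₂, a ≠ 1 → b ≠ 1 → θ (a * b) = 0) →
    ∀ i j, classInner θ (eta i j) + classInner θ (eta 1 1) = classInner θ (eta i 1) + classInner θ (eta 1 j)
  vanish : ∀ θ : G → ℂ, IsSigned G θ → (∀ i j, classInner θ (eta i j) = 0) →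
    ∀ a ∈ W₁, ∀ b ∈ W₂, a ≠ 1 → b ≠ 1 → θ (a * b) = 0
  int_right : ∀ (j : ↥W₂ →* ℂˣ) (g : G), (orderOf g).Coprime (Nat.card W₂) → ∃ n : ℤ, eta 1 j g = n
  int_left : ∀ (i : ↥W₁ →* ℂˣ) (g : G), (orderOf g).Coprime (Nat.card W₁) → ∃ n : ℤ, eta i 1 g = n

theorem hom_pow_card {W : Type u} [Group W] (ω : W →* ℂˣ) : ω ^ Nat.card W = 1 :=
  MonoidHom.ext fun w => by
    rw [MonoidHom.pow_apply, ← map_pow, pow_card_eq_one', map_one, MonoidHom.one_apply]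

section Exists

variable {W₁ W₂ : Subgroup G}

theorem notMem_factor (hdisj : W₁ ⊓ W₂ = ⊥) {a b : G} (ha : a ∈ W₁) (hb : b ∈ W₂) (ha1 : a ≠ 1)
    (hb1 : b ≠ 1) : a * b ∉ W₁ ∧ a * b ∉ W₂ := by
  refine ⟨fun h => hb1 ?_, fun h => ha1 ?_⟩
  · have : b ∈ W₁ ⊓ W₂ := ⟨by simpa using W₁.mul_mem (W₁.inv_mem ha) h, hb⟩
    rwa [hdisj, Subgroup.mem_bot] at this
  · have : a ∈ W₁ ⊓ W₂ := ⟨ha, by simpa using W₂.mul_mem h (W₂.inv_mem hb)⟩
    rwa [hdisj, Subgroup.mem_bot] at this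

theorem exists_grid (hW : IsSelfNormalizingCyclic W₁ W₂) (hodd : Odd (Nat.card ↥(W₁ ⊔ W₂))) :
    Nonempty (Grid W₁ W₂) := by
  classical
  obtain ⟨-, -, hdisj, hcomm, -, -⟩ := id hW
  obtain ⟨χ, hχ⟩ := exists_cyclicTIFamily W₁ W₂ hW hodd
  choose Ω hΩ₁ hΩ₂ using ti_exists_hom hdisj hcomm
  have hmem₁ : ∀ (w : ↥(W₁ ⊔ W₂)) (h : (w : G) ∈ W₁), w = Subgroup.inclusion le_sup_left ⟨(w : G), h⟩ :=
    fun w h => rfl
  have hmem₂ : ∀ (w : ↥(W₁ ⊔ W₂)) (h : (w : G) ∈ W₂), w = Subgroup.inclusion le_sup_right ⟨(w : G), h⟩ :=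
    fun w h => rfl
  have hres₁ : ∀ (i : ↥W₁ →* ℂˣ) (w : ↥(W₁ ⊔ W₂)), (w : G) ∈ W₂ → Ω i 1 w = 1 := fun i w h => by
    rw [hmem₂ w h, hΩ₂, MonoidHom.one_apply]
  have hres₂ : ∀ (j : ↥W₂ →* ℂˣ) (w : ↥(W₁ ⊔ W₂)), (w : G) ∈ W₁ → Ω 1 j w = 1 := fun j w h => by
    rw [hmem₁ w h, hΩ₁, MonoidHom.one_apply]
  have hext : ∀ {f g : ↥(W₁ ⊔ W₂) →* ℂˣ}, (∀ a, f (Subgroup.inclusion le_sup_left a) = g (Subgroup.inclusion le_sup_left a)) →
      (∀ b, f (Subgroup.inclusion le_sup_right b) = g (Subgroup.inclusion le_sup_right b)) → f = g :=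
    fun h1 h2 => ti_hom_ext hcomm (fun w h => by rw [hmem₁ w h]; exact h1 _)
      (fun w h => by rw [hmem₂ w h]; exact h2 _)
  have hone : Ω 1 1 = 1 := hext (fun a => by simp [hΩ₁]) (fun b => by simp [hΩ₂])
  have hmul : ∀ i j, Ω i j = Ω i 1 * Ω 1 j := fun i j =>
    hext (fun a => by simp [hΩ₁]) (fun b => by simp [hΩ₂])
  have hpow : ∀ i j (k : ℕ), Ω i j ^ k = Ω (i ^ k) (j ^ k) := fun i j k =>
    hext (fun a => by simp [hΩ₁]) (fun b => by simp [hΩ₂])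
  have hinj : ∀ i j k l, Ω i j = Ω k l → i = k ∧ j = l := fun i j k l e =>
    ⟨MonoidHom.ext fun a => by rw [← hΩ₁ i j a, e, hΩ₁],
      MonoidHom.ext fun b => by rw [← hΩ₂ i j b, e, hΩ₂]⟩
  have hsurj : ∀ ω, ∃ i j, ω = Ω i j := fun ω =>
    ⟨ω.comp (Subgroup.inclusion le_sup_left), ω.comp (Subgroup.inclusion le_sup_right),
      hext (fun a => by simp [hΩ₁]) (fun b => by simp [hΩ₂])⟩
  have hnot : ∀ w : ↥(W₁ ⊔ W₂), (w : G) ∉ W₁ → (w : G) ∉ W₂ → ∃ a ∈ W₁, ∃ b ∈ W₂, a ≠ 1 ∧ b ≠ 1 ∧ (w : G) = a * b := by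
    intro w h1 h2
    obtain ⟨a, ha, b, hb, e⟩ := ti_exists_mul hcomm w.2
    exact ⟨a, ha, b, hb, fun h => h2 (by rw [e, h, one_mul]; exact hb),
      fun h => h1 (by rw [e, h, mul_one]; exact ha), e⟩
  refine ⟨⟨fun i j => χ (Ω i j), hW, fun i j => hχ.irr_or_neg _, fun i j k l h => ?_, ?_, fun i j a b ha hb => ?_,
    fun i j g hg => ?_, fun i j k hk g => ?_, fun θ hθ hv i j => ?_, fun θ hθ ho a ha b hb ha1 hb1 => ?_,
    fun j g hg => ?_, fun i g hg => ?_⟩⟩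
  · rw [hχ.orthonormal, if_neg fun e => ?_]
    obtain ⟨e1, e2⟩ := hinj i j k l e
    exact h.elim (· e1) (· e2)
  · show χ (Ω 1 1) = _
    rw [hone, hχ.map_one]
  · show χ (Ω i j) _ = _
    obtain ⟨n1, n2⟩ := notMem_factor hdisj a.2 b.2 (fun h => ha (Subtype.ext h)) (fun h => hb (Subtype.ext h))
    have h := hχ.eq_on (Ω i j) (Subgroup.inclusion le_sup_left a * Subgroup.inclusion le_sup_right b) n1 n2
    simp only [Subgroup.coe_mul, Subgroup.coe_inclusion, map_mul, hΩ₁, hΩ₂, Units.val_mul] at h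
    exact h
  · show χ (Ω i j) g = χ (Ω i 1) g + χ (Ω 1 j) g - 1
    by_cases hi : i = 1
    · subst hi; rw [hone, hχ.map_one]; ring
    by_cases hj : j = 1
    · subst hj; rw [hone, hχ.map_one]; ring
    have hi' : Ω i 1 ≠ 1 := fun e => hi (hinj i 1 1 1 (e.trans hone.symm)).1
    have hj' : Ω 1 j ≠ 1 := fun e => hj (hinj 1 j 1 1 (e.trans hone.symm)).2
    have h := congrFun (hχ.induced_eq (Ω i 1) (Ω 1 j) hi' hj' (hres₁ i) (hres₂ j)) g
    have h0 : indFun (W₁ ⊔ W₂) (fun w => 1 - (Ω i 1 w : ℂ) - (Ω 1 j w : ℂ) + (Ω i 1 w : ℂ) * (Ω 1 j w : ℂ)) g = 0 := by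
      unfold indFun
      rw [Finset.sum_eq_zero, mul_zero]
      intro x _
      by_cases hx : x⁻¹ * g * x ∈ W₁ ⊔ W₂
      swap
      · exact extendByZero_not_mem _ _ hx
      rw [extendByZero_mem _ _ hx]
      by_cases h1 : x⁻¹ * g * x ∈ W₁
      · simp [hres₂ j ⟨_, hx⟩ h1]
      by_cases h2 : x⁻¹ * g * x ∈ W₂
      · simp [hres₁ i ⟨_, hx⟩ h2]
      obtain ⟨a, ha, b, hb, ha1, hb1, e⟩ := hnot ⟨_, hx⟩ h1 h2
      exact absurd ⟨x, a, ha, b, hb, ha1, hb1, by rw [← e]; group⟩ hg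
    rw [h0, ← hmul] at h
    linear_combination h.symm
  · show χ (Ω i j) (g ^ k) = χ (Ω (i ^ k) (j ^ k)) g
    rw [cyclicTIFamily_pow hW hodd hχ hk, hpow]
  · show classInner θ (χ (Ω i j)) + classInner θ (χ (Ω 1 1)) =
      classInner θ (χ (Ω i 1)) + classInner θ (χ (Ω 1 j))
    have h := S1506.result W₁ W₂ hW χ hχ θ hθ (fun w h1 h2 => by
      obtain ⟨a, ha, b, hb, ha1, hb1, e⟩ := hnot w h1 h2
      rw [e]; exact hv a ha b hb ha1 hb1) (Ω i 1) 1 (Ω 1 j) 1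
      (fun w h => ⟨hres₁ i w h, rfl⟩) (fun w h => ⟨hres₂ j w h, rfl⟩)
    have m1 : ∀ f : ↥(W₁ ⊔ W₂) →* ℂˣ, f * 1 = f := fun f => MonoidHom.ext fun _ => by simp
    have m2 : ∀ f : ↥(W₁ ⊔ W₂) →* ℂˣ, 1 * f = f := fun f => MonoidHom.ext fun _ => by simp
    rw [← hmul, m1, m1, m2] at h
    rwa [hone]
  · have ho' : ∀ ω, classInner θ (χ ω) = 0 := fun ω => by
      obtain ⟨i, j, rfl⟩ := hsurj ω
      exact ho i j
    obtain ⟨n1, n2⟩ := notMem_factor hdisj ha hb ha1 hb1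
    let w : ↥(W₁ ⊔ W₂) := ⟨a * b, mul_mem (Subgroup.mem_sup_left ha) (Subgroup.mem_sup_right hb)⟩
    rcases hθ with h | h
    · exact S1503.result W₁ W₂ hW χ hχ θ h ho' w n1 n2
    · have := S1503.result W₁ W₂ hW χ hχ (-θ) h (fun ω => by rw [classInner_neg_left, ho', neg_zero]) w n1 n2
      simpa using this
  · refine S1508.result W₁ W₂ hW hodd χ hχ (Ω 1 j) g (hg.coprime_dvd_right (orderOf_dvd_of_pow_eq_one ?_))
    rw [hpow, hom_pow_card, show ∀ {W : Subgroup G} (k : ℕ), (1 : ↥W →* ℂˣ) ^ k = 1 from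
      fun k => MonoidHom.ext fun _ => by simp, hone]
  · refine S1508.result W₁ W₂ hW hodd χ hχ (Ω i 1) g (hg.coprime_dvd_right (orderOf_dvd_of_pow_eq_one ?_))
    rw [hpow, hom_pow_card, show ∀ {W : Subgroup G} (k : ℕ), (1 : ↥W →* ℂˣ) ^ k = 1 from
      fun k => MonoidHom.ext fun _ => by simp, hone]

end Exists

namespace Grid

variable {W₁ W₂ : Subgroup G} (E : Grid W₁ W₂)
include E

theorem comm {a b : G} (ha : a ∈ W₁) (hb : b ∈ W₂) : a * b = b * a := E.sn.2.2.2.1 a ha b hb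

theorem hatG_comm : hatG W₂ W₁ = hatG W₁ W₂ := by
  ext g
  constructor
  · rintro ⟨x, a, ha, b, hb, ha1, hb1, rfl⟩
    exact ⟨x, b, hb, a, ha, hb1, ha1, by rw [E.comm hb ha]⟩
  · rintro ⟨x, a, ha, b, hb, ha1, hb1, rfl⟩
    exact ⟨x, b, hb, a, ha, hb1, ha1, by rw [E.comm ha hb]⟩

/-- The grid with the factors exchanged. -/
noncomputable def swap : Grid W₂ W₁ where
  eta j i := E.eta i j
  sn := by
    obtain ⟨h1, h2, h3, h4, h5, h6⟩ := E.sn
    refine ⟨h2, h1, by rw [inf_comm, h3], fun a ha b hb => (h4 b hb a ha).symm, by rwa [sup_comm], ?_⟩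
    intro X hX hne
    rw [sup_comm]
    exact h6 X (by rwa [sup_comm, Set.union_comm]) hne
  signed j i := E.signed i j
  orth j i l k h := E.orth i j k l h.symm
  one := E.one
  onHat j i b a hb ha := by
    rw [show ((b : G) * a) = (a : G) * b from (E.comm a.2 b.2).symm, E.onHat i j a b ha hb, mul_comm]
  outside j i g hg := by
    show E.eta i j g = E.eta 1 j g + E.eta i 1 g - 1
    rw [E.outside i j g (by rwa [← E.hatG_comm])]
    ring
  power j i k hk g := E.power i j k hk g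
  rect θ hθ hv j i := by
    show classInner θ (E.eta i j) + classInner θ (E.eta 1 1) = classInner θ (E.eta 1 j) + classInner θ (E.eta i 1)
    rw [E.rect θ hθ (fun a ha b hb ha1 hb1 => by rw [E.comm ha hb]; exact hv b hb a ha hb1 ha1) i j]
    ring
  vanish θ hθ ho b hb a ha hb1 ha1 := by
    rw [← E.comm ha hb]
    exact E.vanish θ hθ (fun i j => ho j i) a ha b hb ha1 hb1
  int_right := E.int_left
  int_left := E.int_right

theorem eta_gen (i : ↥W₁ →* ℂˣ) (j : ↥W₂ →* ℂˣ) : IsGeneralizedCharacter G (E.eta i j) := (E.signed i j).gen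

theorem inner_eq (i : ↥W₁ →* ℂˣ) (j : ↥W₂ →* ℂˣ) (k : ↥W₁ →* ℂˣ) (l : ↥W₂ →* ℂˣ) [Decidable (i = k ∧ j = l)] :
    classInner (E.eta i j) (E.eta k l) = if i = k ∧ j = l then 1 else 0 := by
  split_ifs with h
  · rw [h.1, h.2, (E.signed k l).self]
  · exact E.orth i j k l (not_and_or.1 h)

theorem one_mem_hat_false : (1 : G) ∉ hatG W₁ W₂ := by
  rintro ⟨x, a, ha, b, hb, ha1, hb1, e⟩
  have h : a * b = 1 := by
    calc a * b = x⁻¹ * (x * (a * b) * x⁻¹) * x := by group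
      _ = 1 := by rw [← e]; group
  exact (notMem_factor E.sn.2.2.1 ha hb ha1 hb1).1 (h ▸ one_mem _)

theorem cj_eta (i : ↥W₁ →* ℂˣ) (j : ↥W₂ →* ℂˣ) : cj (E.eta i j) = E.eta i⁻¹ j⁻¹ := by
  funext g
  have hk : (Nat.card G - 1).Coprime (Nat.card G) := by
    have h : (Nat.card G - 1).Coprime ((Nat.card G - 1) + 1) := by simp
    rwa [Nat.sub_add_cancel Nat.card_pos] at h
  have hpow : g ^ (Nat.card G - 1) = g⁻¹ := eq_inv_of_mul_eq_one_left (by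
    rw [← pow_succ, Nat.sub_add_cancel Nat.card_pos, pow_card_eq_one'])
  rw [cj_apply, ← gen_conj_inv (E.eta_gen i j), ← hpow, E.power i j _ hk]
  have hinv : ∀ {W : Subgroup G} (f : ↥W →* ℂˣ), f ^ (Nat.card G - 1) = f⁻¹ := fun {W} f => by
    refine MonoidHom.ext fun w => ?_
    rw [MonoidHom.pow_apply, MonoidHom.inv_apply]
    refine eq_inv_of_mul_eq_one_left ?_
    rw [← pow_succ, Nat.sub_add_cancel Nat.card_pos]
    obtain ⟨c, hc⟩ := Subgroup.card_subgroup_dvd_card W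
    rw [hc, pow_mul, ← map_pow, pow_card_eq_one', map_one, one_pow]
  rw [hinv i, hinv j]

end Grid

end Cfsg.Agent.OddFT
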