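import Cfsg.Agent.Lib.OddChar.FT.Grid

/-!
Generalized characters of small norm against the grid.
-/

set_option autoImplicit false
set_option linter.unusedSectionVars false
set_option linter.unusedVariables false
set_option linter.style.haveILetI false

open Cfsg Cfsg.Agent.Char Cfsg.Agent.OddChar
open scoped ComplexConjugate

namespace Cfsg.Agent.OddFT

universe u

variable {G : Type u} [Group G] [Fintype G]

namespace Grid

variable {W₁ W₂ : Subgroup G} (E : Grid W₁ W₂)
include E

theorem isMulComm_left : IsMulCommutative ↥W₁ := by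
  haveI := E.sn.2.2.2.2.1
  letI := IsCyclic.commGroup (α := ↥(W₁ ⊔ W₂))
  refine ⟨⟨fun a b => ?_⟩⟩
  have h := mul_comm (Subgroup.inclusion (le_sup_left : W₁ ≤ W₁ ⊔ W₂) a) (Subgroup.inclusion le_sup_left b)
  exact Subtype.ext (congrArg Subtype.val h :)

theorem card_left : Fintype.card (↥W₁ →* ℂˣ) = Nat.card W₁ := by
  haveI := E.isMulComm_left
  rw [← Nat.card_eq_fintype_card, card_hom_units, (_root_.commutator_eq_bot_iff _).2 inferInstance]
  exact Subgroup.index_bot

theorem card_right : Fintype.card (↥W₂ →* ℂˣ) = Nat.card W₂ := E.swap.card_left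

/-- Inner products against the grid of a generalized character vanishing on the middle are additive. -/
theorem exists_coords {X : G → ℂ} (hX : IsGeneralizedCharacter G X) :
    ∃ z : (↥W₁ →* ℂˣ) → (↥W₂ →* ℂˣ) → ℤ, (∀ i j, classInner X (E.eta i j) = z i j) ∧
      (∑ i, ∑ j, (z i j : ℝ) ^ 2 ≤ (classInner X X).re) ∧
      ((∀ a ∈ W₁, ∀ b ∈ W₂, a ≠ 1 → b ≠ 1 → X (a * b) = 0) → ∀ i j, z i j + z 1 1 = z i 1 + z 1 j) := by
  classical
  choose z hz using fun i j => gen_inner_int hX (E.eta_gen i j)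
  refine ⟨z, hz, ?_, fun hv i j => ?_⟩
  · rw [← Fintype.sum_prod_type' (fun i j => (z i j : ℝ) ^ 2)]
    exact bessel Finset.univ (fun p : (↥W₁ →* ℂˣ) × (↥W₂ →* ℂˣ) => E.eta p.1 p.2) (fun p _ => E.signed _ _)
      (fun p _ r _ h => E.orth _ _ _ _ (not_and_or.1 fun e => h (Prod.ext e.1 e.2))) hX (fun p => z p.1 p.2)
      fun p _ => hz _ _
  · have h := E.rect X (isClassFunction_genChar hX) hv i j
    rw [hz, hz, hz, hz] at h
    exact_mod_cast h

/-- A generalized character of norm at most two, orthogonal to the trivial character and vanishing on the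
middle is orthogonal to the grid. -/
theorem orth_of_small (h1 : 3 ≤ Nat.card W₁) (h2 : 3 ≤ Nat.card W₂) {D : G → ℂ}
    (hD : IsGeneralizedCharacter G D) (hn : (classInner D D).re ≤ 2) (h0 : classInner D (fun _ => 1) = 0)
    (hv : ∀ a ∈ W₁, ∀ b ∈ W₂, a ≠ 1 → b ≠ 1 → D (a * b) = 0) :
    ∀ i j, classInner D (E.eta i j) = 0 := by
  classical
  obtain ⟨z, hz, hb, hr⟩ := E.exists_coords hD
  have z11 : z 1 1 = 0 := by
    have := hz 1 1
    rw [E.one, h0] at this
    exact_mod_cast this.symm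
  have hadd : ∀ i j, z i j = z i 1 + z 1 j := fun i j => by have := hr hv i j; omega
  replace hb : ∑ i, ∑ j, z i j ^ 2 ≤ 2 := by
    have : ((∑ i, ∑ j, z i j ^ 2 : ℤ) : ℝ) ≤ 2 := by push_cast; linarith
    exact_mod_cast this
  have sq1 : ∀ n : ℤ, n ≠ 0 → 1 ≤ n ^ 2 := fun n hn => by
    rcases lt_or_gt_of_ne hn with h | h <;> nlinarith
  have aux : ∀ i, z i 1 = 0 := by
    intro i
    by_contra hi
    have hi1 : i ≠ 1 := fun e => hi (e ▸ z11)
    have hsub : ∑ j, (z i j ^ 2 + z 1 j ^ 2) ≤ 2 := by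
      rw [Finset.sum_add_distrib, ← Finset.sum_pair (f := fun k => ∑ j, z k j ^ 2) hi1]
      exact le_trans (Finset.sum_le_sum_of_subset_of_nonneg (Finset.subset_univ _)
        fun k _ _ => Finset.sum_nonneg fun j _ => sq_nonneg _) hb
    have hone : ∀ j ∈ (Finset.univ : Finset (↥W₂ →* ℂˣ)), (1 : ℤ) ≤ z i j ^ 2 + z 1 j ^ 2 := fun j _ => by
      by_cases h : z 1 j = 0
      · rw [hadd i j, h, add_zero]; nlinarith [sq1 _ hi]
      · nlinarith [sq1 _ h, sq_nonneg (z i j)]
    have := Finset.card_nsmul_le_sum _ _ 1 hone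
    rw [Finset.card_univ, E.card_right, nsmul_one] at this
    omega
  have aux' : ∀ j, z 1 j = 0 := by
    intro j
    by_contra hj
    have hone : ∀ i ∈ (Finset.univ : Finset (↥W₁ →* ℂˣ)), (1 : ℤ) ≤ ∑ k, z i k ^ 2 := fun i _ =>
      le_trans (by rw [hadd i j, aux i, zero_add]; exact sq1 _ hj)
        (Finset.single_le_sum (f := fun k => z i k ^ 2) (fun k _ => sq_nonneg _) (Finset.mem_univ j))
    have := Finset.card_nsmul_le_sum _ _ 1 hone
    rw [Finset.card_univ, E.card_left, nsmul_one] at this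
    omega
  intro i j
  rw [hz, hadd, aux, aux']
  norm_num

/-- A generalized character of norm two agreeing with `η 1 j - η 1 j'` on the middle is that difference. -/
theorem eq_sub_of_norm_two (h1 : 3 ≤ Nat.card W₁) (h2 : 3 ≤ Nat.card W₂)
    (h5 : 5 ≤ Nat.card W₁ ∨ 5 ≤ Nat.card W₂) {X : G → ℂ}
    (hX : IsGeneralizedCharacter G X) (hn : classInner X X = 2) (h0 : classInner X (fun _ => 1) = 0)
    {j j' : ↥W₂ →* ℂˣ} (hj : j ≠ 1) (hj' : j' ≠ 1) (hjj : j ≠ j')
    (hv : ∀ (a : W₁) (b : W₂), a ≠ 1 → b ≠ 1 → X ((a : G) * b) = (j b : ℂ) - (j' b : ℂ)) :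
    X = E.eta 1 j - E.eta 1 j' := by
  classical
  obtain ⟨x, hx, hb, -⟩ := E.exists_coords hX
  set D := X - E.eta 1 j + E.eta 1 j' with hDdef
  have hD : IsGeneralizedCharacter G D := gen_add (isGenChar_sub hX (E.eta_gen _ _)) (E.eta_gen _ _)
  have hDv : ∀ a ∈ W₁, ∀ b ∈ W₂, a ≠ 1 → b ≠ 1 → D (a * b) = 0 := fun a ha b hb ha1 hb1 => by
    have ha' : (⟨a, ha⟩ : W₁) ≠ 1 := fun e => ha1 (congrArg Subtype.val e)
    have hb' : (⟨b, hb⟩ : W₂) ≠ 1 := fun e => hb1 (congrArg Subtype.val e)
    have e1 := hv ⟨a, ha⟩ ⟨b, hb⟩ ha' hb'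
    have e2 := E.onHat 1 j ⟨a, ha⟩ ⟨b, hb⟩ ha' hb'
    have e3 := E.onHat 1 j' ⟨a, ha⟩ ⟨b, hb⟩ ha' hb'
    simp only [MonoidHom.one_apply, Units.val_one, one_mul] at e2 e3
    simp only [hDdef, Pi.add_apply, Pi.sub_apply, e1, e2, e3]
    ring
  obtain ⟨z, hz, -, hr⟩ := E.exists_coords hD
  have hzx : ∀ i k, z i k = x i k - (if i = 1 ∧ k = j then 1 else 0) + (if i = 1 ∧ k = j' then 1 else 0) := by
    intro i k
    have h := hz i k
    rw [hDdef, classInner_add_left, classInner_sub_left, hx, E.inner_eq, E.inner_eq] at h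
    have : ((z i k : ℤ) : ℂ) = ((x i k - (if i = 1 ∧ k = j then 1 else 0) + (if i = 1 ∧ k = j' then 1 else 0) : ℤ) : ℂ) := by
      rw [← h]; push_cast; simp [eq_comm]
    exact_mod_cast this
  have x11 : x 1 1 = 0 := by
    have := hx 1 1
    rw [E.one, h0] at this
    exact_mod_cast this.symm
  have z11 : z 1 1 = 0 := by rw [hzx, x11]; simp [Ne.symm hj, Ne.symm hj']
  have hadd : ∀ i k, z i k = z i 1 + z 1 k := fun i k => by have := hr hDv i k; omega
  have hrow : ∀ i, i ≠ 1 → ∀ k, x i k = z i 1 + z 1 k := fun i hi k => by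
    rw [← hadd, hzx]; simp [hi]
  replace hb : ∑ i, ∑ k, x i k ^ 2 ≤ 2 := by
    have : ((∑ i, ∑ k, x i k ^ 2 : ℤ) : ℝ) ≤ 2 := by
      push_cast
      rw [hn] at hb
      simpa using hb
    exact_mod_cast this
  have sq1 : ∀ n : ℤ, n ≠ 0 → 1 ≤ n ^ 2 := fun n hn => by
    rcases lt_or_gt_of_ne hn with h | h <;> nlinarith
  have sq_sum : ∀ i k, x i k ^ 2 ≤ ∑ l, x i l ^ 2 := fun i k =>
    Finset.single_le_sum (f := fun l => x i l ^ 2) (fun l _ => sq_nonneg _) (Finset.mem_univ k)
  have hsplit : ∑ k, x 1 k ^ 2 + ∑ i ∈ Finset.univ.erase 1, ∑ k, x i k ^ 2 ≤ 2 := by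
    rwa [Finset.add_sum_erase _ (fun i => ∑ k, x i k ^ 2) (Finset.mem_univ 1)]
  have hcard : (Finset.univ.erase (1 : ↥W₁ →* ℂˣ)).card = Nat.card W₁ - 1 := by
    rw [Finset.card_erase_of_mem (Finset.mem_univ _), Finset.card_univ, E.card_left]
  have hx1 : ∀ k, x 1 k = z 1 k + (if k = j then 1 else 0) - (if k = j' then 1 else 0) := fun k => by
    have := hzx 1 k; simp only [true_and] at this; omega
  have hb0 : ∀ k, z 1 k = 0 := by
    by_contra hc
    push Not at hc
    obtain ⟨k₀, hk₀⟩ := hc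
    have hk1 : k₀ ≠ 1 := fun e => hk₀ (e ▸ z11)
    -- every row other than the first is nonzero
    have hrow1 : ∀ i ∈ Finset.univ.erase (1 : ↥W₁ →* ℂˣ), (1 : ℤ) ≤ ∑ k, x i k ^ 2 := fun i hi => by
      have hi1 := (Finset.mem_erase.1 hi).1
      by_cases h : z i 1 = 0
      · refine le_trans ?_ (sq_sum i k₀)
        rw [hrow i hi1, h, zero_add]; exact sq1 _ hk₀
      · refine le_trans ?_ (sq_sum i 1)
        rw [hrow i hi1, z11, add_zero]; exact sq1 _ h
    have hlow := Finset.card_nsmul_le_sum _ _ 1 hrow1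
    rw [hcard, nsmul_one] at hlow
    have hq : Nat.card W₁ = 3 := by
      have : ((Nat.card W₁ - 1 : ℕ) : ℤ) ≤ 2 :=
        hlow.trans (by linarith [Finset.sum_nonneg (s := Finset.univ) fun k (_ : k ∈ Finset.univ) => sq_nonneg (x 1 k)])
      omega
    have hw : 5 ≤ Nat.card W₂ := by omega
    rw [hq] at hlow
    have hzero : ∀ k, x 1 k = 0 := fun k => by
      by_contra hne
      have := sq_sum 1 k
      have := sq1 _ hne
      push_cast at hlow
      omega
    have hk : ∀ k, k ≠ j → k ≠ j' → z 1 k = 0 := fun k a b => by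
      have := hx1 k; rw [hzero k, if_neg a, if_neg b] at this; omega
    have hj0 : z 1 j = -1 := by have := hx1 j; rw [hzero j, if_pos rfl, if_neg hjj] at this; omega
    obtain ⟨i, hi⟩ : ∃ i : ↥W₁ →* ℂˣ, i ∈ Finset.univ.erase 1 :=
      Finset.card_pos.1 (by rw [hcard]; omega)
    have hi1 := (Finset.mem_erase.1 hi).1
    have hrowi : ∑ k, x i k ^ 2 ≤ 1 := by
      have h := Finset.add_sum_erase _ (fun i => ∑ k, x i k ^ 2) hi
      have h' := Finset.card_nsmul_le_sum ((Finset.univ.erase 1).erase i) (fun i => ∑ k, x i k ^ 2) 1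
        fun l hl => hrow1 l (Finset.mem_erase.1 hl).2
      rw [Finset.card_erase_of_mem hi, hcard, nsmul_one, hq] at h'
      have := Finset.sum_nonneg (s := Finset.univ) fun k (_ : k ∈ Finset.univ) => sq_nonneg (x 1 k)
      push_cast at h'
      omega
    by_cases h : z i 1 = 0
    · have e1 : x i j = -1 := by rw [hrow i hi1, h, hj0, zero_add]
      have e2 : x i j' = 1 := by
        have := hx1 j'; rw [hzero j', if_pos rfl, if_neg hjj.symm] at this
        rw [hrow i hi1, h, zero_add]; omega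
      have : x i j ^ 2 + x i j' ^ 2 ≤ 1 := by
        rw [← Finset.sum_pair (f := fun k => x i k ^ 2) hjj]
        exact le_trans (Finset.sum_le_sum_of_subset_of_nonneg (Finset.subset_univ _) fun k _ _ => sq_nonneg _) hrowi
      rw [e1, e2] at this
      norm_num at this
    · have hone : ∀ k ∈ ((Finset.univ.erase j).erase j'), (1 : ℤ) ≤ x i k ^ 2 := fun k hk' => by
        simp only [Finset.mem_erase] at hk'
        rw [hrow i hi1, hk k hk'.2.1 hk'.1, add_zero]; exact sq1 _ h
      have h' := (Finset.card_nsmul_le_sum _ _ 1 hone).trans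
        (le_trans (Finset.sum_le_sum_of_subset_of_nonneg (Finset.subset_univ _) fun k _ _ => sq_nonneg _) hrowi)
      rw [Finset.card_erase_of_mem (Finset.mem_erase.2 ⟨hjj.symm, Finset.mem_univ _⟩),
        Finset.card_erase_of_mem (Finset.mem_univ _), Finset.card_univ, E.card_right, nsmul_one] at h'
      omega
  have ha0 : ∀ i, z i 1 = 0 := by
    intro i
    by_contra hi
    have hi1 : i ≠ 1 := fun e => hi (e ▸ z11)
    have hone : ∀ k ∈ (Finset.univ : Finset (↥W₂ →* ℂˣ)), (1 : ℤ) ≤ x i k ^ 2 := fun k _ => by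
      rw [hrow i hi1, hb0, add_zero]; exact sq1 _ hi
    have := (Finset.card_nsmul_le_sum _ _ 1 hone).trans
      ((Finset.single_le_sum (f := fun i => ∑ k, x i k ^ 2) (fun i _ => Finset.sum_nonneg fun k _ => sq_nonneg _)
        (Finset.mem_univ i)).trans hb)
    rw [Finset.card_univ, E.card_right, nsmul_one] at this
    omega
  have hD0 : ∀ i k, classInner D (E.eta i k) = 0 := fun i k => by rw [hz, hadd, ha0, hb0]; norm_num
  have hne : classInner (E.eta 1 j) (E.eta 1 j') = 0 := E.orth _ _ _ _ (Or.inr hjj)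
  have hX1 : classInner X (E.eta 1 j) = 1 := by
    have := hD0 1 j
    rw [hDdef, classInner_add_left, classInner_sub_left, (E.signed 1 j).self,
      E.orth 1 j' 1 j (Or.inr hjj.symm)] at this
    linear_combination this
  have hX2 : classInner X (E.eta 1 j') = -1 := by
    have := hD0 1 j'
    rw [hDdef, classInner_add_left, classInner_sub_left, (E.signed 1 j').self, hne] at this
    linear_combination this
  have hzero : classInner D D = 0 := by
    have e : classInner D D = classInner D X := by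
      conv_lhs => arg 2; rw [hDdef]
      rw [classInner_add_right, classInner_sub_right, hD0, hD0]; ring
    rw [e, hDdef, classInner_add_left, classInner_sub_left, hn,
      gen_inner_real (E.eta_gen _ _) hX, gen_inner_real (E.eta_gen 1 j') hX, hX1, hX2]
    ring
  have := classInner_self_eq_zero hzero
  rw [hDdef] at this
  funext g
  have hg := congrFun this g
  simp only [Pi.add_apply, Pi.sub_apply, Pi.zero_apply] at hg ⊢
  linear_combination hg

end Grid

end Cfsg.Agent.OddFT
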