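import Cfsg.Agent.Lib.OddChar.FT.LayerMu

/-!
The function `β j = μ 1 1 - μ 1 j` of a layer and its support.
-/

set_option autoImplicit false
set_option linter.unusedSectionVars false
set_option linter.unusedVariables false
set_option linter.style.haveILetI false

open Cfsg Cfsg.Agent.Char Cfsg.Agent.OddChar
open scoped ComplexConjugate commutatorElement Classical

namespace Cfsg.Agent.OddFT

universe u

variable {G : Type u} [Group G] [Fintype G] {S K Z P U N : Subgroup G} {r : ℕ}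

namespace IsLayer

variable (h : IsLayer S K Z P U N r)
include h

theorem coprime_cr : (Nat.card ↥(layerC P U N)).Coprime r := by
  refine (h.side.coUP.coprime_dvd_left (Subgroup.card_dvd_of_le h.C_le)).coprime_dvd_right ?_
  rw [h.side.card_P]
  exact h.card_r.trans (dvd_pow_self _ h.side.prime.pos.ne')

theorem coprime_K_PC : (Nat.card K).Coprime (Nat.card P * Nat.card ↥(layerC P U N)) :=
  Nat.Coprime.mul_right h.side.coKP (h.side.coKU.coprime_dvd_right (Subgroup.card_dvd_of_le h.C_le))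

/-- The projection of `(P C) K` to `K`. -/
noncomputable def kHom : ↥(P ⊔ (layerC P U N ⊔ K)) →* ↥K :=
  MonoidHom.mk' (fun x => (h.part x).2.2) fun x y => by
    have sx := h.part_spec x
    have sy := h.part_spec y
    have hck : ((h.part x).2.1 : G) * (h.part x).2.2 ∈ S :=
      S.mul_mem (h.side.U_le (h.C_le (h.part x).2.1.2)) (h.side.K_le (h.part x).2.2.2)
    have hp2 := h.side.P_conj hck (h.part y).1.2
    have e := h.part_eq (x * y) ((h.part x).1 * ⟨_, hp2⟩)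
      ((h.part x).2.1 * ⟨_, h.C_conj (h.part x).2.2.2 (h.part y).2.1.2⟩) ((h.part x).2.2 * (h.part y).2.2) (by
        simp only [Subgroup.coe_mul, sx, sy]; group)
    rw [e]

theorem kHom_apply (x : ↥(P ⊔ (layerC P U N ⊔ K))) (p : P) (c : ↥(layerC P U N)) (k : K)
    (e : (x : G) = (p : G) * c * k) : h.kHom x = k := by
  show (h.part x).2.2 = k
  rw [h.part_eq x p c k e]

/-- Powers in `P C`. -/
theorem mul_pow_mem {p c : G} (hp : p ∈ P) (hc : c ∈ layerC P U N) (n : ℕ) :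
    ∃ p' ∈ P, (p * c) ^ n = p' * c ^ n := by
  induction n with
  | zero => exact ⟨1, one_mem _, by simp⟩
  | succ n ih =>
    obtain ⟨p', hp', e⟩ := ih
    refine ⟨p' * (c ^ n * p * (c ^ n)⁻¹), mul_mem hp'
      (h.side.P_conj (S.pow_mem (h.side.U_le (h.C_le hc)) n) hp), ?_⟩
    rw [pow_succ, e, pow_succ]; group

theorem pow_mem_P (x : ↥(P ⊔ (layerC P U N ⊔ K))) :
    (x : G) ^ (Nat.card K * Nat.card ↥(layerC P U N)) ∈ P := by
  obtain ⟨p, hp, c, hc, k, hk, e⟩ := h.mem_PCK (x ^ Nat.card K).2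
  have h1 : h.kHom (x ^ Nat.card K) = 1 := by rw [map_pow, pow_card_eq_one']
  have hk1 : k = 1 := by
    have := (h.kHom_apply (x ^ Nat.card K) ⟨p, hp⟩ ⟨c, hc⟩ ⟨k, hk⟩ e).symm.trans h1
    exact congrArg Subtype.val this
  rw [hk1, mul_one, Subgroup.coe_pow] at e
  obtain ⟨p', hp', e'⟩ := h.mul_pow_mem hp hc (Nat.card ↥(layerC P U N))
  have hc1 : c ^ Nat.card ↥(layerC P U N) = 1 :=
    congrArg Subtype.val (pow_card_eq_one' (x := (⟨c, hc⟩ : ↥(layerC P U N))))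
  rw [hc1, mul_one] at e'
  rw [pow_mul, e, e']
  exact hp'

/-- An element of `(P C) K` with `tlam 1 j x ≠ 1` has a nontrivial power in `P`. -/
theorem pow_ne_one {j : ↥Z →* ℂˣ} (hj : ∀ z : Z, (z : G) ∈ N → j z = 1)
    {x : ↥(P ⊔ (layerC P U N ⊔ K))} (hx : h.tlam 1 j x ≠ 1) :
    (x : G) ^ (Nat.card K * Nat.card ↥(layerC P U N)) ≠ 1 := by
  intro hm
  refine hx ?_
  have h1 : h.tlam 1 j x ^ (Nat.card K * Nat.card ↥(layerC P U N)) = 1 := by
    rw [← map_pow, show x ^ (Nat.card K * Nat.card ↥(layerC P U N)) = 1 from Subtype.ext (by simpa using hm),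
      map_one]
  obtain ⟨p, hp, c, hc, k, hk, e⟩ := h.mem_PCK x.2
  have e2 := h.tlam_apply 1 j x ⟨p, hp⟩ ⟨c, hc⟩ ⟨k, hk⟩ e
  rw [MonoidHom.one_apply, one_mul] at e2
  have h2 : h.tlam 1 j x ^ r = 1 := by
    rw [e2, ← map_pow]
    exact h.lam_N j (h.pow p hp)
  exact pow_eq_one_iff_of_coprime_aux h1 h2 (Nat.Coprime.mul_left h.coprime_qr h.coprime_cr)
where
  pow_eq_one_iff_of_coprime_aux {a : ℂˣ} {m n : ℕ} (h1 : a ^ m = 1) (h2 : a ^ n = 1) (hmn : m.Coprime n) :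
      a = 1 :=
    orderOf_eq_one_iff.1 (Nat.eq_one_of_dvd_coprimes hmn (orderOf_dvd_of_pow_eq_one h1)
      (orderOf_dvd_of_pow_eq_one h2))

/-- `β j`. -/
noncomputable def beta (j : ↥Z →* ℂˣ) : ↥S → ℂ := h.mu 1 1 - h.mu 1 j

theorem beta_gen (j : ↥Z →* ℂˣ) : IsGeneralizedCharacter S (h.beta j) :=
  ⟨_, _, h.isCharacter_mu 1 1, h.isCharacter_mu 1 j, rfl⟩

theorem beta_class (j : ↥Z →* ℂˣ) : IsClassFunction S (h.beta j) := isClassFunction_genChar (h.beta_gen j)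

theorem tlam_one_one : h.tlam 1 1 = 1 := by
  refine MonoidHom.ext fun x => ?_
  obtain ⟨p, hp, c, hc, k, hk, e⟩ := h.mem_PCK x.2
  rw [h.tlam_apply 1 1 x ⟨p, hp⟩ ⟨c, hc⟩ ⟨k, hk⟩ e, h.lam_one, MonoidHom.one_apply, MonoidHom.one_apply,
    MonoidHom.one_apply, one_mul]

theorem mu_one_value (i : ↥K →* ℂˣ) {x : S} (p : P) (c : ↥(layerC P U N)) (e : (x : G) = (p : G) * c) :
    h.mu i 1 x = (Nat.card U : ℂ) / Nat.card ↥(layerC P U N) := by
  rw [h.mu_apply i 1 p c e]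
  simp [h.lam_one, div_eq_inv_mul]

/-- The degree of `μ i j`. -/
theorem mu_at_one (i : ↥K →* ℂˣ) (j : ↥Z →* ℂˣ) :
    h.mu i j 1 = (Nat.card U : ℂ) / Nat.card ↥(layerC P U N) := by
  rw [h.mu_apply i j 1 1 (by simp)]
  simp [div_eq_inv_mul]

/-- The inner product with the trivial character. -/
theorem mu_inner_one (i : ↥K →* ℂˣ) {j : ↥Z →* ℂˣ} (hj : ∀ z : Z, (z : G) ∈ N → j z = 1) :
    classInner (h.mu i j) (fun _ => 1) = if i = 1 ∧ j = 1 then 1 else 0 := by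
  set M := (P ⊔ (layerC P U N ⊔ K)).subgroupOf S with hM
  let l : ↥M →* ℂˣ := (h.tlam i j).comp (MonoidHom.mk' (fun x : ↥M =>
    (⟨((x : S) : G), Subgroup.mem_subgroupOf.mp x.2⟩ : ↥(P ⊔ (layerC P U N ⊔ K)))) fun _ _ => rfl)
  have h1 : classInner (h.mu i j) (fun _ => 1) = classInner (fun x => (l x : ℂ)) (fun _ : ↥M => 1) :=
    Char.frobenius M (h.tfun i j) (fun _ _ => rfl)
  have h2 := sum_hom_mul l 1
  rw [h1, classInner]
  simp only [MonoidHom.one_apply, Units.val_one, map_one, mul_one] at h2 ⊢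
  rw [h2]
  have hiff : l = 1 ↔ i = 1 ∧ j = 1 := by
    constructor
    · intro e
      have hv : ∀ (p : P) (k : K), i k * h.lam j p = 1 := fun p k => by
        have := DFunLike.congr_fun e (⟨⟨(p : G) * (1 : ↥(layerC P U N)) * k,
          h.PCK_le (h.mem_pck p.2 (one_mem _) k.2)⟩, Subgroup.mem_subgroupOf.2 (h.mem_pck p.2 (one_mem _) k.2)⟩ : ↥M)
        rw [MonoidHom.one_apply] at this
        rw [← h.tlam_apply i j ⟨_, h.mem_pck p.2 (one_mem _) k.2⟩ p 1 k rfl]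
        exact this
      refine ⟨MonoidHom.ext fun k => by simpa using hv 1 k, MonoidHom.ext fun z => ?_⟩
      rw [← h.lam_Z hj]
      simpa using hv ⟨z, h.side.Z_le z.2⟩ 1
    · rintro ⟨rfl, rfl⟩
      exact MonoidHom.ext fun x => by
        show h.tlam 1 1 _ = 1
        rw [h.tlam_one_one]; rfl
  have hne : (Nat.card M : ℂ) ≠ 0 := Nat.cast_ne_zero.2 Nat.card_pos.ne'
  by_cases hij : i = 1 ∧ j = 1
  · rw [if_pos (hiff.2 hij), if_pos hij, inv_mul_cancel₀ hne]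
  · rw [if_neg (fun e => hij (hiff.1 e)), if_neg hij, mul_zero]

theorem beta_inner_one {j : ↥Z →* ℂˣ} (hj : j ∈ layerJ Z N) : classInner (h.beta j) (fun _ => 1) = 1 := by
  rw [beta, classInner_sub_left, h.mu_inner_one 1 (fun _ _ => rfl), h.mu_inner_one 1 hj.2, if_pos ⟨rfl, rfl⟩,
    if_neg fun e => hj.1 e.2, sub_zero]

/-- The norm of `β j`. -/
theorem beta_norm {j : ↥Z →* ℂˣ} (hj : j ∈ layerJ Z N) :
    classInner (h.beta j) (h.beta j) =
      2 + ((Nat.card U : ℂ) / Nat.card ↥(layerC P U N) - 1) / Nat.card K := by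
  rw [beta, classInner_sub_left, classInner_sub_right, classInner_sub_right,
    h.mu_inner 1 1 (fun _ _ => rfl) (fun _ _ => rfl), h.mu_inner 1 1 (fun _ _ => rfl) hj.2,
    h.mu_inner 1 1 hj.2 (fun _ _ => rfl), h.mu_inner 1 1 hj.2 hj.2]
  simp [hj.1, Ne.symm hj.1]
  ring

/-- Where `β j` is nonzero some conjugate lies in `(P C) K` off the kernel of `tlam 1 j`. -/
theorem beta_ne_zero {j : ↥Z →* ℂˣ} {x : S} (hx : h.beta j x ≠ 0) :
    ∃ u ∈ U, ∃ hm : u * (x : G) * u⁻¹ ∈ P ⊔ (layerC P U N ⊔ K), h.tlam 1 j ⟨_, hm⟩ ≠ 1 := by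
  by_contra hcon
  push Not at hcon
  refine hx ?_
  rw [beta, Pi.sub_apply, h.mu_eq_sum, h.mu_eq_sum, sub_eq_zero]
  congr 1
  refine Finset.sum_congr rfl fun u _ => ?_
  by_cases hm : (⟨(u : G), h.side.U_le u.2⟩ : S) * x * (⟨(u : G), h.side.U_le u.2⟩ : S)⁻¹ ∈
      (P ⊔ (layerC P U N ⊔ K)).subgroupOf S
  · rw [extendByZero_mem _ _ hm, extendByZero_mem _ _ hm]
    show ((h.tlam 1 1 _ : ℂˣ) : ℂ) = ((h.tlam 1 j _ : ℂˣ) : ℂ)
    rw [h.tlam_one_one, MonoidHom.one_apply]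
    exact congrArg _ (hcon u u.2 (by simpa using Subgroup.mem_subgroupOf.1 hm)).symm
  · rw [extendByZero_not_mem _ _ hm, extendByZero_not_mem _ _ hm]

/-- `β j` is supported on the elements with a nontrivial power in the `σ`-core. -/
theorem beta_supp {j : ↥Z →* ℂˣ} (hj : ∀ z : Z, (z : G) ∈ N → j z = 1) (x : S)
    (hx : (x : G) ∉ sigmaSet S) : h.beta j x = 0 := by
  by_contra h0
  obtain ⟨u, hu, hm, hne⟩ := h.beta_ne_zero h0
  have h1 := h.pow_ne_one hj hne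
  have h2 := h.pow_mem_P ⟨_, hm⟩
  have e : (u * (x : G) * u⁻¹) ^ (Nat.card K * Nat.card ↥(layerC P U N)) =
      u * (x : G) ^ (Nat.card K * Nat.card ↥(layerC P U N)) * u⁻¹ := conj_pow
  refine hx ⟨x.2, Nat.card K * Nat.card ↥(layerC P U N), ?_, fun e1 => h1 ?_⟩
  · refine h.side.P_le ?_
    have := h.side.P_conj (S.inv_mem (h.side.U_le hu)) h2
    rw [show ((⟨_, hm⟩ : ↥(P ⊔ (layerC P U N ⊔ K))) : G) = u * (x : G) * u⁻¹ from rfl, e] at this
    simpa [mul_assoc] using this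
  · show (u * (x : G) * u⁻¹) ^ _ = 1
    rw [e, e1, mul_one, mul_inv_cancel]

/-- An element of `(P C) K` outside `P C` whose `q`-th power is nontrivial lies in the hat. -/
theorem mem_hat {x : ↥(P ⊔ (layerC P U N ⊔ K))} (hk : h.kHom x ≠ 1) (hq : (x : G) ^ Nat.card K ≠ 1) :
    (x : G) ∈ hatG K Z := by
  haveI : Fact (Nat.card K).Prime := ⟨h.side.prime⟩
  set m := Nat.card P * Nat.card ↥(layerC P U N) with hm
  have hcardM : Nat.card ↥(P ⊔ (layerC P U N ⊔ K)) = m * Nat.card K := by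
    rw [h.card_PCK, hm, mul_assoc]
  have hxq : (x ^ m) ^ Nat.card K = 1 := by rw [← pow_mul, ← hcardM, pow_card_eq_one']
  have hx1 : x ^ m ≠ 1 := fun e => hk (orderOf_eq_one_iff.1 (Nat.eq_one_of_dvd_coprimes h.coprime_K_PC
    (orderOf_dvd_natCard _) (orderOf_dvd_of_pow_eq_one (by rw [← map_pow, e, map_one]))))
  have hsyl : ∀ A : Subgroup G, A ≤ P ⊔ (layerC P U N ⊔ K) → Nat.card A = Nat.card K →
      Solv.IsSylIn (Nat.card K) A (P ⊔ (layerC P U N ⊔ K)) := by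
    refine fun A hA hc => ⟨hA, ?_⟩
    rw [hc, hcardM, Nat.factorization_mul (Nat.mul_ne_zero Nat.card_pos.ne' Nat.card_pos.ne')
      Nat.card_pos.ne', Finsupp.add_apply, Nat.factorization_eq_zero_of_not_dvd, zero_add,
      h.side.prime.factorization_self, pow_one]
    exact fun hd => h.side.prime.ne_one (Nat.eq_one_of_dvd_coprimes h.coprime_K_PC dvd_rfl hd)
  have hxG : ((x ^ m : ↥(P ⊔ (layerC P U N ⊔ K))) : G) = (x : G) ^ m := Subgroup.coe_pow _ _ _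
  have hord : orderOf ((x : G) ^ m) = Nat.card K := by
    refine orderOf_eq_prime (by rw [← hxG, ← Subgroup.coe_pow, hxq]; rfl) fun e => hx1 ?_
    exact Subtype.ext (by rw [hxG, e]; rfl)
  obtain ⟨y, hy, hyA⟩ := (hsyl (Subgroup.zpowers ((x : G) ^ m)) (Subgroup.zpowers_le.2 (pow_mem x.2 m))
    (by rw [Nat.card_zpowers, hord])).exists_conj (hsyl K (le_sup_right.trans le_sup_right) rfl)
  have hk0 : y * (x : G) ^ m * y⁻¹ ∈ K := by
    exact hyA.le ⟨_, Subgroup.mem_zpowers _, rfl⟩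
  have hk01 : y * (x : G) ^ m * y⁻¹ ≠ 1 := fun e => hx1 (Subtype.ext (by
    rw [hxG]; exact conj_eq_one_iff.1 e))
  set x' : ↥(P ⊔ (layerC P U N ⊔ K)) := ⟨y, hy⟩ * x * (⟨y, hy⟩)⁻¹ with hx'
  have hx'm : (x' : G) ^ m = y * (x : G) ^ m * y⁻¹ := by
    simp only [hx', Subgroup.coe_mul, Subgroup.coe_inv, conj_pow]
  have hcomm : (x' : G) * (y * (x : G) ^ m * y⁻¹) = (y * (x : G) ^ m * y⁻¹) * x' := by
    rw [← hx'm]; exact ((Commute.refl (x' : G)).pow_right m).eq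
  obtain ⟨p, hp, c, hc, k, hk', e⟩ := h.mem_PCK x'.2
  set k0 := y * (x : G) ^ m * y⁻¹ with hk0def
  have hKcomm : k * k0 = k0 * k :=
    congrArg Subtype.val ((isMulCommutative_of_prime_card_aux).is_comm.comm (⟨k, hk'⟩ : K) ⟨k0, hk0⟩)
  have hpc : k0 * (p * c) * k0⁻¹ = p * c := by
    rw [e] at hcomm
    have : p * c * k0 = k0 * (p * c) := by
      refine mul_right_cancel (b := k) ?_
      calc p * c * k0 * k = p * c * k * k0 := by rw [mul_assoc, ← hKcomm, ← mul_assoc]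
        _ = _ := by rw [hcomm]; group
    rw [← this, mul_inv_cancel_right]
  have hu := h.PCK_unique (p := k0 * p * k0⁻¹) (p' := p) (c := k0 * c * k0⁻¹) (c' := c) (k := 1) (k' := 1)
    (h.side.P_conj (h.side.K_le hk0) hp) hp (h.C_conj hk0 hc) hc (one_mem _) (one_mem _) (by
      rw [mul_one, mul_one]
      calc k0 * p * k0⁻¹ * (k0 * c * k0⁻¹) = k0 * (p * c) * k0⁻¹ := by group
        _ = _ := hpc)
  have hc1 : c = 1 := h.side.fpf k0 hk0 hk01 c (h.C_le hc) (mul_inv_eq_iff_eq_mul.1 hu.2.1)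
  have hpZ : p ∈ Z := h.side.fix.le ⟨hp, Subgroup.mem_centralizer_iff.2 fun k' hk'' => by
    have e1 : k0 * p = p * k0 := mul_inv_eq_iff_eq_mul.1 hu.1
    obtain ⟨n, hn⟩ := mem_powers_of_prime_card (G := K) (g := ⟨k0, hk0⟩) (g' := ⟨k', hk''⟩) rfl
      (fun e => hk01 (congrArg Subtype.val e))
    have e2 : k' = k0 ^ n := (congrArg Subtype.val hn).symm.trans (by simp)
    rw [e2]
    exact ((show Commute k0 p from e1).pow_left n).eq⟩
  rw [hc1, mul_one] at e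
  refine ⟨y⁻¹, k, hk', p, hpZ, fun ek => ?_, fun ep => hq ?_, ?_⟩
  · refine hk ?_
    have h1 : h.kHom x' = 1 := by
      rw [h.kHom_apply x' ⟨p, hp⟩ 1 1 (by simp [e, ek])]
    simpa [hx'] using h1
  · have h2 : (x' : G) ^ Nat.card K = 1 := by
      rw [e, ep, one_mul]; exact congrArg Subtype.val (pow_card_eq_one' (x := (⟨k, hk'⟩ : K)))
    simp only [hx', Subgroup.coe_mul, Subgroup.coe_inv, conj_pow] at h2
    exact conj_eq_one_iff.1 h2
  · rw [h.side.comm_KZ hk' hpZ, ← e]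
    simp [hx', mul_assoc]
where
  isMulCommutative_of_prime_card_aux : IsMulCommutative K :=
    haveI : Fact (Nat.card K).Prime := ⟨h.side.prime⟩
    haveI := isCyclic_of_prime_card (α := K) rfl
    ⟨⟨(IsCyclic.commGroup (α := K)).mul_comm⟩⟩

/-- Elements where `β j` is nonzero are conjugate to elements of `P C` outside `N C`, or lie in the hat. -/
theorem beta_supp_cases {j : ↥Z →* ℂˣ} (hj : ∀ z : Z, (z : G) ∈ N → j z = 1) {x : S} (hx : h.beta j x ≠ 0) :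
    (∃ u ∈ U, ∃ p ∈ P, ∃ c ∈ layerC P U N, p ∉ N ∧ u * (x : G) * u⁻¹ = p * c) ∨ (x : G) ∈ hatG K Z := by
  obtain ⟨u, hu, hm, hne⟩ := h.beta_ne_zero hx
  obtain ⟨p, hp, c, hc, k, hk, e⟩ := h.mem_PCK hm
  by_cases hk1 : k = 1
  · left
    refine ⟨u, hu, p, hp, c, hc, fun hpN => hne ?_, by rw [e, hk1, mul_one]⟩
    rw [h.tlam_apply 1 j _ ⟨p, hp⟩ ⟨c, hc⟩ ⟨k, hk⟩ e, MonoidHom.one_apply, one_mul]
    exact h.lam_N j hpN
  · right
    have hkk : h.kHom ⟨_, hm⟩ ≠ 1 := by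
      rw [h.kHom_apply _ ⟨p, hp⟩ ⟨c, hc⟩ ⟨k, hk⟩ e]
      exact fun e1 => hk1 (congrArg Subtype.val e1)
    have hq : (u * (x : G) * u⁻¹) ^ Nat.card K ≠ 1 := fun e1 => h.pow_ne_one hj hne (by
      show (u * (x : G) * u⁻¹) ^ _ = 1
      rw [pow_mul, e1, one_pow])
    obtain ⟨y, a, ha, b, hb, ha1, hb1, e1⟩ := h.mem_hat hkk hq
    refine ⟨u⁻¹ * y, a, ha, b, hb, ha1, hb1, ?_⟩
    have e1' : u * (x : G) * u⁻¹ = y * (a * b) * y⁻¹ := e1
    calc (x : G) = u⁻¹ * (u * (x : G) * u⁻¹) * u := by group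
      _ = _ := by rw [e1']; group

/-- The value on a product of nontrivial elements of `K` and `Z`. -/
theorem mu_hat (i : ↥K →* ℂˣ) {j : ↥Z →* ℂˣ} (hj : ∀ z : Z, (z : G) ∈ N → j z = 1) (a : K) (b : Z)
    (ha : a ≠ 1) {x : S} (e : (x : G) = (a : G) * b) : h.mu i j x = (i a : ℂ) * (j b : ℂ) := by
  rw [h.mu_apply_of_ne i j ⟨b, h.side.Z_le b.2⟩ 1 a ha (by simp [e, h.side.comm_KZ a.2 b.2]), h.lam_Z hj]

/-- The sum of `β j` over a coset of fixed points. -/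
theorem beta_fixed_sum {j : ↥Z →* ℂˣ} (hj : j ∈ layerJ Z N) (c : ↥(layerC P U N)) (D : Subgroup P)
    (hD : ∀ p : P, ∃ d ∈ D, (d : G)⁻¹ * p ∈ N) :
    ∑ d : D, h.beta j ⟨(d : P) * (c : G),
      S.mul_mem (h.side.P_le_S (d : P).2) (h.side.U_le (h.C_le c.2))⟩ =
      (Nat.card U : ℂ) / Nat.card ↥(layerC P U N) * Nat.card D := by
  have hval : ∀ d : D, h.beta j ⟨(d : P) * (c : G),
      S.mul_mem (h.side.P_le_S (d : P).2) (h.side.U_le (h.C_le c.2))⟩ =
      (Nat.card U : ℂ) / Nat.card ↥(layerC P U N) - (Nat.card ↥(layerC P U N) : ℂ)⁻¹ *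
      ∑ u : U, (h.lam j (h.side.conjS ⟨u, h.side.U_le u.2⟩ d) : ℂ) := fun d => by
    rw [beta, Pi.sub_apply, h.mu_one_value 1 (d : P) c rfl, h.mu_apply 1 j (d : P) c rfl]
  simp only [hval, Finset.sum_sub_distrib, ← Finset.mul_sum]
  suffices hz : ∀ u : U, ∑ d : D, (h.lam j (h.side.conjS ⟨(u : G), h.side.U_le u.2⟩ d) : ℂ) = 0 by
    rw [Finset.sum_comm (s := (Finset.univ : Finset D))]
    simp only [hz, Finset.sum_const_zero, mul_zero, sub_zero, Finset.sum_const, Finset.card_univ, nsmul_eq_mul,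
      ← Nat.card_eq_fintype_card]
    ring
  intro u
  let l : ↥D →* ℂˣ := ((h.lam j).comp (h.side.conjS ⟨(u : G), h.side.U_le u.2⟩)).comp D.subtype
  have hl : l ≠ 1 := by
    intro e
    have hz : ∀ p : P, h.lam j p = 1 := by
      intro p
      set p0 := h.side.conjS ⟨(u : G)⁻¹, S.inv_mem (h.side.U_le u.2)⟩ p with hp0
      obtain ⟨d, hd, hdn⟩ := hD p0
      have e1 : p = h.side.conjS ⟨(u : G), h.side.U_le u.2⟩ d *
          h.side.conjS ⟨(u : G), h.side.U_le u.2⟩ ⟨(d : G)⁻¹ * p0, P.mul_mem (P.inv_mem d.2) p0.2⟩ := by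
        rw [← map_mul]
        exact Subtype.ext (by simp [hp0, Side.conjS_apply, mul_assoc])
      rw [e1, map_mul, show h.lam j (h.side.conjS ⟨(u : G), h.side.U_le u.2⟩ d) = 1 from DFunLike.congr_fun e ⟨d, hd⟩,
        one_mul]
      exact h.lam_N j (h.N_conj (h.side.U_le u.2) hdn)
    exact hj.1 (MonoidHom.ext fun z => by rw [← h.lam_Z hj.2, hz, MonoidHom.one_apply])
  have hs := sum_hom_mul l 1
  simp only [MonoidHom.one_apply, Units.val_one, map_one, mul_one, if_neg hl] at hs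
  exact hs

end IsLayer

end Cfsg.Agent.OddFT
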