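import Cfsg.Agent.Lib.OddChar.FT.Setup
import Cfsg.Agent.Lib.Char.LinearExt
import Cfsg.Agent.Lib.Solv.Coprime
import Cfsg.Agent.Lib.Solv.FrobeniusFormula

/-!
The linear characters of `(P C) K` attached to a layer.
-/

set_option autoImplicit false
set_option linter.unusedSectionVars false
set_option linter.unusedVariables false
set_option linter.style.haveILetI false

open Cfsg Cfsg.Agent.Char Cfsg.Agent.OddChar
open scoped ComplexConjugate commutatorElement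

namespace Cfsg.Agent.OddFT

universe u

variable {G : Type u} [Group G] [Fintype G] {S K Z P U N : Subgroup G} {r : ℕ}

namespace Side

variable (h : Side S K Z P U)
include h

theorem comm_KZ {k z : G} (hk : k ∈ K) (hz : z ∈ Z) : k * z = z * k :=
  Subgroup.mem_centralizer_iff.1 (h.fix.ge hz).2 k hk

theorem P_conj {s p : G} (hs : s ∈ S) (hp : p ∈ P) : s * p * s⁻¹ ∈ P :=
  (Subgroup.mem_normalizer_iff.1 (h.P_norm hs) p).1 hp

theorem odd_card (H : Subgroup G) : Odd (Nat.card H) :=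
  h.minSimple.1.of_dvd_nat (Subgroup.card_subgroup_dvd_card H)

theorem card_Z_pos : 1 < Nat.card Z := (Subgroup.one_lt_card_iff_ne_bot _).2 h.sn.2.1

theorem comm_U {a b : G} (ha : a ∈ U) (hb : b ∈ U) : a * b = b * a :=
  congrArg Subtype.val (h.U_comm.is_comm.comm (⟨a, ha⟩ : U) ⟨b, hb⟩)

theorem P_inf_compl {p x : G} (hp : p ∈ P) (hx : x ∈ U ⊔ K) (e : p = x) : p = 1 := by
  have h1 : Nat.card ↥(U ⊔ K) * Nat.card ↥(U ⊓ K) = Nat.card U * Nat.card K :=
    Solv.card_sup_mul_card_inf' U K h.U_norm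
  have hco : (Nat.card P).Coprime (Nat.card ↥(U ⊔ K)) :=
    Nat.Coprime.coprime_dvd_right (Dvd.intro _ h1) (h.coUP.symm.mul_right h.coKP.symm)
  have : P ⊓ (U ⊔ K) = ⊥ := Subgroup.inf_eq_bot_of_coprime hco
  rw [← Subgroup.mem_bot, ← this]
  exact ⟨hp, e ▸ hx⟩

theorem U_inf_K : U ⊓ K = ⊥ := Subgroup.inf_eq_bot_of_coprime h.coKU.symm

end Side

namespace IsLayer

variable (h : IsLayer S K Z P U N r)
include h

theorem U_le_normalizer : U ≤ Subgroup.normalizer (N : Set G) := h.side.U_le.trans h.norm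

theorem N_conj {s x : G} (hs : s ∈ S) (hx : x ∈ N) : s * x * s⁻¹ ∈ N :=
  (Subgroup.mem_normalizer_iff.1 (h.norm hs) x).1 hx

theorem mem_C {x : G} : x ∈ layerC P U N ↔ x ∈ U ∧ ∀ p ∈ P, p * x * p⁻¹ * x⁻¹ ∈ N :=
  mem_layerC h.U_le_normalizer

theorem C_le : layerC P U N ≤ U := inf_le_left

theorem C_act {c p : G} (hc : c ∈ layerC P U N) (hp : p ∈ P) : c * p * c⁻¹ * p⁻¹ ∈ N := by
  have h1 := (h.mem_C.1 hc).2 p⁻¹ (P.inv_mem hp)
  rw [inv_inv] at h1
  have h2 := h.N_conj (h.side.P_le_S hp) h1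
  rwa [show p * (p⁻¹ * c * p * c⁻¹) * p⁻¹ = c * p * c⁻¹ * p⁻¹ by group] at h2

theorem C_conj {k c : G} (hk : k ∈ K) (hc : c ∈ layerC P U N) : k * c * k⁻¹ ∈ layerC P U N := by
  refine h.mem_C.2 ⟨(Subgroup.mem_normalizer_iff.1 (h.side.U_norm hk) c).1 (h.C_le hc), fun p hp => ?_⟩
  have hkS := h.side.K_le hk
  have h1 := h.N_conj hkS ((h.mem_C.1 hc).2 (k⁻¹ * p * k)
    (by simpa using h.side.P_conj (S.inv_mem hkS) hp))
  rwa [show k * (k⁻¹ * p * k * c * (k⁻¹ * p * k)⁻¹ * c⁻¹) * k⁻¹ =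
    p * (k * c * k⁻¹) * p⁻¹ * (k * c * k⁻¹)⁻¹ by group] at h1

theorem K_le_normalizer_C : K ≤ Subgroup.normalizer (layerC P U N : Set G) := fun k hk =>
  Subgroup.mem_normalizer_iff.2 fun x => ⟨fun hx => h.C_conj hk hx, fun hx => by
    have := h.C_conj (K.inv_mem hk) hx
    simpa [mul_assoc] using this⟩

/-- `P C K`. -/
theorem mem_PCK {x : G} : x ∈ P ⊔ (layerC P U N ⊔ K) →
    ∃ p ∈ P, ∃ c ∈ layerC P U N, ∃ k ∈ K, x = p * c * k := by
  intro hx
  have hCK : layerC P U N ⊔ K ≤ S := sup_le (h.C_le.trans h.side.U_le) h.side.K_le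
  rw [← SetLike.mem_coe, Subgroup.coe_mul_of_right_le_normalizer_left _ _ (hCK.trans h.side.P_norm)] at hx
  obtain ⟨p, hp, y, hy, rfl⟩ := hx
  rw [Subgroup.coe_mul_of_right_le_normalizer_left _ _ h.K_le_normalizer_C] at hy
  obtain ⟨c, hc, k, hk, rfl⟩ := hy
  exact ⟨p, hp, c, hc, k, hk, (mul_assoc p c k).symm⟩

theorem PCK_unique {p p' c c' k k' : G} (hp : p ∈ P) (hp' : p' ∈ P) (hc : c ∈ layerC P U N)
    (hc' : c' ∈ layerC P U N) (hk : k ∈ K) (hk' : k' ∈ K) (e : p * c * k = p' * c' * k') :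
    p = p' ∧ c = c' ∧ k = k' := by
  have e1 : p'⁻¹ * p = c' * k' * k⁻¹ * c⁻¹ := by
    calc p'⁻¹ * p = p'⁻¹ * (p * c * k) * k⁻¹ * c⁻¹ := by group
      _ = _ := by rw [e]; group
  have h1 : p'⁻¹ * p = 1 := by
    refine h.side.P_inf_compl (P.mul_mem (P.inv_mem hp') hp) ?_ e1
    exact mul_mem (mul_mem (mul_mem (Subgroup.mem_sup_left (h.C_le hc')) (Subgroup.mem_sup_right hk'))
      (inv_mem (Subgroup.mem_sup_right hk))) (inv_mem (Subgroup.mem_sup_left (h.C_le hc)))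
  have hpp : p = p' := (inv_mul_eq_one.1 h1).symm
  subst hpp
  rw [h1] at e1
  have e2 : c'⁻¹ * c = k' * k⁻¹ := by
    calc c'⁻¹ * c = c'⁻¹ * 1 * c := by group
      _ = _ := by rw [e1]; group
  have h2 : c'⁻¹ * c = 1 := by
    rw [← Subgroup.mem_bot, ← h.side.U_inf_K]
    exact ⟨U.mul_mem (U.inv_mem (h.C_le hc')) (h.C_le hc), e2 ▸ K.mul_mem hk' (K.inv_mem hk)⟩
  rw [h2] at e2
  exact ⟨rfl, (inv_mul_eq_one.1 h2).symm, (mul_inv_eq_one.1 e2.symm).symm⟩

theorem card_r : r ∣ Nat.card Z := Dvd.intro_left _ h.index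

theorem coprime_qr : (Nat.card K).Coprime r := by
  refine Nat.Coprime.coprime_dvd_right ?_ h.side.coKP
  rw [h.side.card_P]
  exact h.card_r.trans (dvd_pow_self _ h.side.prime.pos.ne')

/-- Conjugation by an element of `K` on `P`. -/
def conjP (k : K) : ↥P →* ↥P :=
  MonoidHom.mk' (fun p => ⟨(k : G) * p * (k : G)⁻¹, h.side.P_conj (h.side.K_le k.2) p.2⟩)
    fun a b => Subtype.ext (by simp [mul_assoc])

theorem conjP_apply (k : K) (p : P) : (h.conjP k p : G) = (k : G) * p * (k : G)⁻¹ := rfl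

/-- A homomorphism on `P` trivial on `N`, invariant under `K` and trivial on `Z` is trivial. -/
theorem hom_eq_one {δ : ↥P →* ℂˣ} (hN : ∀ p : P, (p : G) ∈ N → δ p = 1)
    (hK : ∀ (k : K) (p : P), δ (h.conjP k p) = δ p) (hZ : ∀ p : P, (p : G) ∈ Z → δ p = 1) : δ = 1 := by
  refine MonoidHom.ext fun p => ?_
  haveI := h.side.P_nil
  have hsol : Group.IsSolvable (P : Subgroup G) := inferInstance
  obtain ⟨n, hn, c, hc, e⟩ := Solv.exists_commutator_mul_fixed (A := K) (K := P)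
    (h.side.K_le.trans h.side.P_norm) h.side.coKP (Or.inr hsol) p.2
  have hle : ⁅P, K⁆ ≤ (δ.ker).map P.subtype := by
    refine Subgroup.commutator_le.2 fun a ha k hk => ?_
    refine ⟨⟨a, ha⟩ * (h.conjP ⟨k, hk⟩ ⟨a, ha⟩)⁻¹, ?_, ?_⟩
    · show δ _ = 1
      rw [map_mul, map_inv, hK, mul_inv_cancel]
    · show a * (k * a * k⁻¹)⁻¹ = ⁅a, k⁆
      rw [commutatorElement_def]; group
  obtain ⟨n', hn', e'⟩ := hle hn
  have hcZ : c ∈ Z := h.side.fix.le hc
  have : p = n' * ⟨c, hc.1⟩ := Subtype.ext (by rw [e, ← e']; rfl)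
  rw [this, map_mul, show δ n' = 1 from hn', hZ _ hcZ, one_mul, MonoidHom.one_apply]

theorem jpow {j : ↥Z →* ℂˣ} (hj : ∀ z : Z, (z : G) ∈ N → j z = 1) (z : Z) : j z ^ r = 1 := by
  rw [← map_pow]
  exact hj _ (h.pow _ (h.side.Z_le z.2))

open Classical in
/-- The `K`-invariant extension to `P`. -/
theorem exists_lam {j : ↥Z →* ℂˣ} (hj : ∀ z : Z, (z : G) ∈ N → j z = 1) :
    ∃ l : ↥P →* ℂˣ, (∀ p : P, (p : G) ∈ N → l p = 1) ∧ (∀ (k : K) (p : P), l (h.conjP k p) = l p) ∧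
      ∀ z : Z, l ⟨z, h.side.Z_le z.2⟩ = j z := by
  haveI : (N.subgroupOf P).Normal :=
    Subgroup.normal_subgroupOf_of_le_normalizer (h.side.P_le_S.trans h.norm)
  letI : CommGroup (↥P ⧸ N.subgroupOf P) :=
    { (inferInstance : Group (↥P ⧸ N.subgroupOf P)) with
      mul_comm := fun a b => by
        induction a using QuotientGroup.induction_on with | _ a =>
        induction b using QuotientGroup.induction_on with | _ b =>
        rw [← QuotientGroup.mk_mul, ← QuotientGroup.mk_mul, QuotientGroup.eq, Subgroup.mem_subgroupOf]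
        have := h.comm _ (P.inv_mem b.2) _ (P.inv_mem a.2)
        simpa [mul_assoc] using this }
  let f : ↥Z →* ↥P ⧸ N.subgroupOf P := (QuotientGroup.mk' _).comp (Subgroup.inclusion h.side.Z_le)
  have hle : f.rangeRestrict.ker ≤ j.ker := fun z hz => by
    rw [MonoidHom.mem_ker] at hz ⊢
    have h1 : ((Subgroup.inclusion h.side.Z_le z : P) : ↥P ⧸ N.subgroupOf P) = 1 := congrArg Subtype.val hz
    have h2 : Subgroup.inclusion h.side.Z_le z ∈ N.subgroupOf P := (QuotientGroup.eq_one_iff _).1 h1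
    exact hj z (Subgroup.mem_subgroupOf.1 h2)
  let cb : f.range →* ℂˣ := f.rangeRestrict.liftOfSurjective f.rangeRestrict_surjective ⟨j, hle⟩
  obtain ⟨ν, hν⟩ := MonoidHom.domRestrict_surjective (M := ℂ) f.range cb
  have hνj : ∀ z : Z, ν (f z) = j z := fun z => by
    have h2 : ν (f z) = cb (f.rangeRestrict z) := by rw [← hν]; rfl
    rw [h2]
    exact MonoidHom.liftOfRightInverse_comp_apply _ _ _ ⟨j, hle⟩ z
  obtain ⟨q', -, hq'⟩ := Nat.exists_mul_mod_eq_of_coprime 1 h.coprime_qr h.prime.pos.ne'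
  set μ : ↥P →* ℂˣ := ν.comp (QuotientGroup.mk' _) with hμ
  refine ⟨(∏ k : K, μ.comp (h.conjP k)) ^ q', fun p hp => ?_, fun k p => ?_, fun z => ?_⟩
  · rw [MonoidHom.pow_apply, MonoidHom.finsetProd_apply, Finset.prod_eq_one, one_pow]
    intro k _
    have h1 : ((h.conjP k p : P) : ↥P ⧸ N.subgroupOf P) = 1 :=
      (QuotientGroup.eq_one_iff _).2 (Subgroup.mem_subgroupOf.2 (h.N_conj (h.side.K_le k.2) hp))
    rw [hμ, MonoidHom.comp_apply, MonoidHom.comp_apply, QuotientGroup.mk'_apply, h1, map_one]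
  · rw [MonoidHom.pow_apply, MonoidHom.pow_apply, MonoidHom.finsetProd_apply, MonoidHom.finsetProd_apply]
    congr 1
    refine Fintype.prod_equiv (Equiv.mulRight k) _ _ fun k' => ?_
    rw [MonoidHom.comp_apply, MonoidHom.comp_apply]
    refine congrArg μ (Subtype.ext ?_)
    show (k' : G) * ((k : G) * p * (k : G)⁻¹) * (k' : G)⁻¹ = ((k' * k : K) : G) * p * ((k' * k : K) : G)⁻¹
    simp [mul_assoc]
  · have hz : ∀ k : K, h.conjP k ⟨z, h.side.Z_le z.2⟩ = Subgroup.inclusion h.side.Z_le z := fun k =>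
      Subtype.ext (by
        show (k : G) * (z : G) * (k : G)⁻¹ = z
        rw [h.side.comm_KZ k.2 z.2, mul_inv_cancel_right])
    rw [MonoidHom.pow_apply, MonoidHom.finsetProd_apply, Finset.prod_congr rfl fun k _ => (?_ :
      (μ.comp (h.conjP k)) ⟨z, h.side.Z_le z.2⟩ = j z), Finset.prod_const, Finset.card_univ,
      ← Nat.card_eq_fintype_card, ← pow_mul]
    · conv_rhs => rw [← pow_one (j z)]
      exact pow_eq_pow_iff_modEq.2 ((show Nat.card K * q' ≡ 1 [MOD r] from hq').of_dvd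
        (orderOf_dvd_of_pow_eq_one (h.jpow hj z)))
    · rw [MonoidHom.comp_apply, hz, hμ]
      exact hνj z

open Classical in
/-- The extension `λ_j` (trivial when `j` is not trivial on `Z ∩ N`). -/
noncomputable def lam (j : ↥Z →* ℂˣ) : ↥P →* ℂˣ :=
  if hj : ∀ z : Z, (z : G) ∈ N → j z = 1 then (h.exists_lam hj).choose else 1

theorem lam_N (j : ↥Z →* ℂˣ) {p : P} (hp : (p : G) ∈ N) : h.lam j p = 1 := by
  unfold lam
  split_ifs with hj
  · exact (h.exists_lam hj).choose_spec.1 p hp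
  · rfl

theorem lam_conjP (j : ↥Z →* ℂˣ) (k : K) (p : P) : h.lam j (h.conjP k p) = h.lam j p := by
  unfold lam
  split_ifs with hj
  · exact (h.exists_lam hj).choose_spec.2.1 k p
  · rfl

theorem lam_Z {j : ↥Z →* ℂˣ} (hj : ∀ z : Z, (z : G) ∈ N → j z = 1) (z : Z) :
    h.lam j ⟨z, h.side.Z_le z.2⟩ = j z := by
  unfold lam
  rw [dif_pos hj]
  exact (h.exists_lam hj).choose_spec.2.2 z

theorem lam_unique {j : ↥Z →* ℂˣ} (hj : ∀ z : Z, (z : G) ∈ N → j z = 1) {l : ↥P →* ℂˣ}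
    (hN : ∀ p : P, (p : G) ∈ N → l p = 1) (hK : ∀ (k : K) (p : P), l (h.conjP k p) = l p)
    (hZ : ∀ z : Z, l ⟨z, h.side.Z_le z.2⟩ = j z) : l = h.lam j := by
  have h1 := h.hom_eq_one (δ := l * (h.lam j)⁻¹) (fun p hp => by simp [hN p hp, h.lam_N j hp])
    (fun k p => by simp [hK k p, h.lam_conjP j k p]) fun p hp => by
      rw [MonoidHom.mul_apply, MonoidHom.inv_apply, show p = ⟨((⟨(p : G), hp⟩ : Z) : G), h.side.Z_le hp⟩ from rfl,
        hZ, h.lam_Z hj, mul_inv_cancel]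
  refine MonoidHom.ext fun p => mul_inv_eq_one.1 ?_
  simpa using DFunLike.congr_fun h1 p

theorem lam_one : h.lam 1 = 1 :=
  (h.lam_unique (fun _ _ => rfl) (fun _ _ => rfl) (fun _ _ => rfl) fun _ => rfl).symm

theorem lam_inv {j : ↥Z →* ℂˣ} (hj : ∀ z : Z, (z : G) ∈ N → j z = 1) : h.lam j⁻¹ = (h.lam j)⁻¹ :=
  (h.lam_unique (fun z hz => by simp [hj z hz]) (fun p hp => by simp [h.lam_N j hp])
    (fun k p => by simp [h.lam_conjP j k p]) fun z => by simp [h.lam_Z hj z]).symm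

theorem lam_C (j : ↥Z →* ℂˣ) {c p : G} (hc : c ∈ layerC P U N) (hp : p ∈ P) :
    h.lam j ⟨c * p * c⁻¹, h.side.P_conj (h.side.U_le (h.C_le hc)) hp⟩ = h.lam j ⟨p, hp⟩ := by
  have h1 : h.lam j (⟨c * p * c⁻¹, h.side.P_conj (h.side.U_le (h.C_le hc)) hp⟩ * (⟨p, hp⟩ : P)⁻¹) = 1 :=
    h.lam_N j (h.C_act hc hp)
  rwa [map_mul, map_inv, mul_inv_eq_one] at h1

/-- The decomposition of an element of `P C K`. -/
noncomputable def part (x : ↥(P ⊔ (layerC P U N ⊔ K))) : ↥P × ↥(layerC P U N) × ↥K :=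
  let e := h.mem_PCK x.2
  (⟨e.choose, e.choose_spec.1⟩, ⟨e.choose_spec.2.choose, e.choose_spec.2.choose_spec.1⟩,
    ⟨e.choose_spec.2.choose_spec.2.choose, e.choose_spec.2.choose_spec.2.choose_spec.1⟩)

theorem part_spec (x : ↥(P ⊔ (layerC P U N ⊔ K))) :
    (x : G) = ((h.part x).1 : G) * ((h.part x).2.1 : G) * ((h.part x).2.2 : G) :=
  (h.mem_PCK x.2).choose_spec.2.choose_spec.2.choose_spec.2

theorem part_eq (x : ↥(P ⊔ (layerC P U N ⊔ K))) (p : P) (c : layerC P U N) (k : K)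
    (e : (x : G) = (p : G) * c * k) : h.part x = (p, c, k) := by
  obtain ⟨e1, e2, e3⟩ := h.PCK_unique (h.part x).1.2 p.2 (h.part x).2.1.2 c.2 (h.part x).2.2.2 k.2
    ((h.part_spec x).symm.trans e)
  exact Prod.ext (Subtype.ext e1) (Prod.ext (Subtype.ext e2) (Subtype.ext e3))

/-- The linear character `λ̃` of `P C K` with parts `i` and `λ_j`. -/
noncomputable def tlam (i : ↥K →* ℂˣ) (j : ↥Z →* ℂˣ) : ↥(P ⊔ (layerC P U N ⊔ K)) →* ℂˣ :=
  MonoidHom.mk' (fun x => i (h.part x).2.2 * h.lam j (h.part x).1) fun x y => by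
    obtain ⟨⟨p, c, k⟩, hx⟩ : ∃ t, t = h.part x := ⟨_, rfl⟩
    obtain ⟨⟨p', c', k'⟩, hy⟩ : ∃ t, t = h.part y := ⟨_, rfl⟩
    have sx := h.part_spec x
    have sy := h.part_spec y
    rw [← hx] at sx
    rw [← hy] at sy
    have hck : (c : G) * k ∈ S := S.mul_mem (h.side.U_le (h.C_le c.2)) (h.side.K_le k.2)
    have hp2 : (c : G) * k * p' * ((c : G) * k)⁻¹ ∈ P := h.side.P_conj hck p'.2
    have e := h.part_eq (x * y) (p * ⟨_, hp2⟩) (c * ⟨(k : G) * c' * (k : G)⁻¹, h.C_conj k.2 c'.2⟩) (k * k') (by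
      simp only [Subgroup.coe_mul, sx, sy]
      group)
    rw [← hx, ← hy, e]
    have hl : h.lam j ⟨_, hp2⟩ = h.lam j p' := by
      rw [show (⟨_, hp2⟩ : P) = ⟨(c : G) * (h.conjP k p' : G) * (c : G)⁻¹,
          h.side.P_conj (h.side.U_le (h.C_le c.2)) (h.conjP k p').2⟩ from
          Subtype.ext (by simp [conjP_apply, mul_assoc]),
        h.lam_C j c.2 (h.conjP k p').2]
      exact h.lam_conjP j k p'
    simp only [map_mul, hl]
    rw [mul_mul_mul_comm]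

theorem tlam_apply (i : ↥K →* ℂˣ) (j : ↥Z →* ℂˣ) (x : ↥(P ⊔ (layerC P U N ⊔ K))) (p : P) (c : layerC P U N)
    (k : K) (e : (x : G) = (p : G) * c * k) : h.tlam i j x = i k * h.lam j p := by
  show i _ * h.lam j _ = _
  rw [h.part_eq x p c k e]

end IsLayer

end Cfsg.Agent.OddFT
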