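import Cfsg.Agent.Lib.OddChar.FT.SideFacts

/-!
The coefficients on a layer with `C = 1`: invariance, and comparison between characters of one orbit
type.
-/

set_option autoImplicit false
set_option linter.unusedSectionVars false
set_option linter.unusedVariables false
set_option linter.style.haveILetI false

open Cfsg Cfsg.Agent.Char Cfsg.Agent.OddChar
open scoped ComplexConjugate commutatorElement Classical Pointwise

namespace Cfsg.Agent.OddFT

universe u

variable {G : Type u} [Group G] [Fintype G] {S K Z P U N : Subgroup G} {r : ℕ}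

namespace IsLayer

variable (h : IsLayer S K Z P U N r)
include h

/-- The action of `S` on the characters of `P / N`. -/
noncomputable def tw (s : S) (l : layerDual P N) : layerDual P N :=
  ⟨l.1.comp (h.side.conjS s), fun p hp => l.2 _ (h.N_conj s.2 hp)⟩

theorem tw_apply (s : S) (l : layerDual P N) (p : P) : (h.tw s l).1 p = l.1 (h.side.conjS s p) := rfl

theorem tw_tw (s t : S) (l : layerDual P N) : h.tw t (h.tw s l) = h.tw (s * t) l :=
  Subtype.ext (MonoidHom.ext fun p => congrArg l.1 (Subtype.ext (by simp [Side.conjS_apply, mul_assoc])))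

theorem tw_one (l : layerDual P N) : h.tw 1 l = l :=
  Subtype.ext (MonoidHom.ext fun p => congrArg l.1 (Subtype.ext (by simp [Side.conjS_apply])))

theorem tw_P {p : G} (hp : p ∈ P) (l : layerDual P N) : h.tw ⟨p, h.side.P_le_S hp⟩ l = l := by
  refine Subtype.ext (MonoidHom.ext fun x => ?_)
  have e : h.side.conjS ⟨p, h.side.P_le_S hp⟩ x = ⟨p, hp⟩ * x * ⟨p, hp⟩⁻¹ := rfl
  rw [tw_apply, e, map_mul, map_mul, map_inv, mul_comm (l.1 ⟨p, hp⟩), mul_inv_cancel_right]

/-- A character of `P / N` fixed by an element outside `P U` lies in the orbit of an invariant one. -/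
theorem exists_lam_of_fixed {l : layerDual P N} {v k : G} (hv : v ∈ U) (hk : k ∈ K) (hk1 : k ≠ 1)
    (hfix : h.tw ⟨v * k, S.mul_mem (h.side.U_le hv) (h.side.K_le hk)⟩ l = l) :
    ∃ (m : ↥Z →* ℂˣ) (u : U), (∀ z : Z, (z : G) ∈ N → m z = 1) ∧
      ∀ p : P, h.lam m (h.side.conjS ⟨(u : G), h.side.U_le u.2⟩ p) = l.1 p := by
  have hkU : ∀ x ∈ U, k * x * k⁻¹ ∈ U := fun x hx =>
    (Subgroup.mem_normalizer_iff.1 (h.side.U_norm hk) x).1 hx
  let f : U → U := fun x => ⟨(x : G) * (k * (x : G)⁻¹ * k⁻¹), U.mul_mem x.2 (hkU _ (U.inv_mem x.2))⟩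
  have hf : Function.Injective f := by
    intro a b e
    have e' : (a : G) * (k * (a : G)⁻¹ * k⁻¹) = (b : G) * (k * (b : G)⁻¹ * k⁻¹) := congrArg Subtype.val e
    have h1 : (b : G)⁻¹ * a = 1 := by
      refine h.side.fpf k hk hk1 _ (U.mul_mem (U.inv_mem b.2) a.2) ?_
      calc k * ((b : G)⁻¹ * a) = k * (b : G)⁻¹ * k⁻¹ * (k * a) := by group
        _ = (b : G)⁻¹ * ((b : G) * (k * (b : G)⁻¹ * k⁻¹)) * (k * a) := by group
        _ = _ := by rw [← e']; group
    exact Subtype.ext (inv_mul_eq_one.1 h1).symm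
  obtain ⟨x, hx⟩ := (Finite.injective_iff_surjective.1 hf) ⟨v, hv⟩
  have hx' : (x : G) * (k * (x : G)⁻¹ * k⁻¹) = v := congrArg Subtype.val hx
  set sx : S := ⟨(x : G), h.side.U_le x.2⟩ with hsx
  set sk : S := ⟨k, h.side.K_le hk⟩ with hsk
  have e1 : (⟨v * k, S.mul_mem (h.side.U_le hv) (h.side.K_le hk)⟩ : S) = sx * sk * sx⁻¹ :=
    Subtype.ext (by simp only [hsx, hsk, Subgroup.coe_mul, Subgroup.coe_inv]; rw [← hx']; group)
  set l' := h.tw sx l with hl'
  have hl'k : h.tw sk l' = l' := by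
    rw [e1] at hfix
    conv_rhs => rw [hl', ← hfix]
    rw [hl', h.tw_tw, h.tw_tw]
    congr 1
    group
  haveI : Fact (Nat.card K).Prime := ⟨h.side.prime⟩
  have hinv : ∀ (k' : K) (p : P), l'.1 (h.conjP k' p) = l'.1 p := by
    intro k' p
    obtain ⟨n, hn⟩ := mem_powers_of_prime_card (G := K) (g := ⟨k, hk⟩) (g' := k') rfl
      (fun e => hk1 (congrArg Subtype.val e))
    have hpw : ∀ n : ℕ, h.tw (sk ^ n) l' = l' := by
      intro n
      induction n with
      | zero => rw [pow_zero, h.tw_one]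
      | succ n ih => rw [pow_succ, ← h.tw_tw, ih, hl'k]
    have e2 : (k' : G) = k ^ n := (congrArg Subtype.val hn).symm.trans (by simp)
    conv_rhs => rw [← hpw n]
    exact congrArg l'.1 (Subtype.ext (by simp [Side.conjS_apply, conjP_apply, hsk, e2]))
  set m : ↥Z →* ℂˣ := l'.1.comp (Subgroup.inclusion h.side.Z_le) with hm
  have hmN : ∀ z : Z, (z : G) ∈ N → m z = 1 := fun z hz => l'.2 (Subgroup.inclusion h.side.Z_le z) hz
  have hlam : l'.1 = h.lam m := h.lam_unique hmN l'.2 hinv fun z => rfl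
  refine ⟨m, ⟨(x : G)⁻¹, U.inv_mem x.2⟩, hmN, fun p => ?_⟩
  rw [← hlam, hl', h.tw_apply]
  exact congrArg l.1 (Subtype.ext (by simp [Side.conjS_apply, hsx, mul_assoc]))

variable (hC : layerC P U N = ⊥)
include hC

/-- The coefficient is the average over `P`. -/
theorem coeff_eq (f : G → ℂ) (l : layerDual P N) :
    classInner (fun x : ↥(P ⊔ layerC P U N) => f x) (fun x => (h.ext l x : ℂ)) =
      (Nat.card P : ℂ)⁻¹ * ∑ p : P, f p * conj ((l.1 p : ℂˣ) : ℂ) := by
  have hM : P ⊔ layerC P U N = P := by rw [hC, sup_bot_eq]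
  rw [classInner, h.card_PC, show Nat.card ↥(layerC P U N) = 1 by rw [hC, Subgroup.card_bot], mul_one]
  congr 1
  refine Fintype.sum_equiv
    { toFun := fun x : ↥(P ⊔ layerC P U N) => (⟨(x : G), hM.le x.2⟩ : P)
      invFun := fun p => ⟨(p : G), Subgroup.mem_sup_left p.2⟩
      left_inv := fun x => rfl
      right_inv := fun p => rfl } _ _ fun x => ?_
  rw [h.ext_apply l x ⟨(x : G), hM.le x.2⟩ 1 (by simp)]
  rfl

/-- The coefficients are invariant under `S`. -/
theorem coeff_tw {f : G → ℂ} (hf : IsClassFunction G f) (s : S) (l : layerDual P N) :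
    classInner (fun x : ↥(P ⊔ layerC P U N) => f x) (fun x => (h.ext (h.tw s l) x : ℂ)) =
      classInner (fun x : ↥(P ⊔ layerC P U N) => f x) (fun x => (h.ext l x : ℂ)) := by
  rw [h.coeff_eq hC, h.coeff_eq hC]
  congr 1
  refine Fintype.sum_equiv
    { toFun := h.side.conjS s
      invFun := h.side.conjS s⁻¹
      left_inv := fun p => Subtype.ext (by simp [Side.conjS_apply, mul_assoc])
      right_inv := fun p => Subtype.ext (by simp [Side.conjS_apply, mul_assoc]) } _ _ fun p => ?_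
  show f p * _ = f (h.side.conjS s p) * conj ((l.1 (h.side.conjS s p) : ℂˣ) : ℂ)
  rw [Side.conjS_apply, hf, tw_apply]

theorem layerX_eq : layerX P U N = {x | x ∈ P ∧ x ∉ N} := by
  ext x
  constructor
  · rintro ⟨p, hp, c, hc, hpN, rfl⟩
    rw [hC, Subgroup.mem_bot] at hc
    subst hc
    exact ⟨by simpa using hp, by simpa using hpN⟩
  · rintro ⟨hx, hxN⟩
    exact ⟨x, hx, 1, one_mem _, hxN, (mul_one x).symm⟩

theorem hat_notMem {a b : G} (ha : a ∈ K) (hb : b ∈ Z) (ha1 : a ≠ 1) : a * b ∉ conjSet (P : Set G) := by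
  rintro ⟨x, hx⟩
  refine ha1 ?_
  have h1 : (x * (a * b) * x⁻¹) ^ Nat.card P = 1 :=
    congrArg Subtype.val (pow_card_eq_one' (x := (⟨_, hx⟩ : P)))
  rw [conj_pow, conj_eq_one_iff, (show Commute a b from h.side.comm_KZ ha hb).mul_pow,
    show b ^ Nat.card P = 1 from congrArg Subtype.val (pow_card_eq_one' (x := (⟨b, h.side.Z_le hb⟩ : P))),
    mul_one] at h1
  exact orderOf_eq_one_iff.1 (Nat.eq_one_of_dvd_coprimes h.side.coKP.symm (orderOf_dvd_of_pow_eq_one h1)
    (orderOf_dvd_of_pow_eq_one (congrArg Subtype.val (pow_card_eq_one' (x := (⟨a, ha⟩ : K))))))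

variable (E : Grid K Z)

/-- The coefficient of a grid character is constant on the characters with trivial stabiliser in `S / P`. -/
theorem coeff_const_regular (a b : layerDual P N) (ha1 : a ≠ ⟨1, fun _ _ => rfl⟩)
    (hb1 : b ≠ ⟨1, fun _ _ => rfl⟩) (ha : ∀ s : S, h.tw s a = a → (s : G) ∈ P)
    (hb : ∀ s : S, h.tw s b = b → (s : G) ∈ P) (i : ↥K →* ℂˣ) (j : ↥Z →* ℂˣ) :
    classInner (fun x : ↥(P ⊔ layerC P U N) => E.eta i j x) (fun x => (h.ext a x : ℂ)) =
      classInner (fun x : ↥(P ⊔ layerC P U N) => E.eta i j x) (fun x => (h.ext b x : ℂ)) := by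
  set M := P.subgroupOf S with hM
  let θ : layerDual P N → ↥M → ℂ := fun l x => ((l.1 ⟨((x : S) : G), Subgroup.mem_subgroupOf.1 x.2⟩ : ℂˣ) : ℂ)
  have hθc : ∀ l, IsCharacter M (θ l) := fun l => irr_isCharacter (isIrrCharacter_linear
    (l.1.comp (MonoidHom.mk' (fun x : ↥M => (⟨((x : S) : G), Subgroup.mem_subgroupOf.1 x.2⟩ : P)) fun _ _ => rfl)))
  have hPn : ∀ (s x : S), (s⁻¹ * x * s : S) ∈ M → (x : G) ∈ P := fun s x hm => by
    have := h.side.P_conj s.2 (Subgroup.mem_subgroupOf.1 hm)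
    simpa [mul_assoc] using this
  have hIndP : ∀ (l : layerDual P N) (x : S) (hx : (x : G) ∈ P),
      indFun M (θ l) x = (Nat.card P : ℂ)⁻¹ * ∑ s : S, ((h.tw s⁻¹ l).1 ⟨_, hx⟩ : ℂ) := by
    intro l x hx
    rw [indFun, show Nat.card M = Nat.card P from Nat.card_congr (Subgroup.subgroupOfEquivOfLe h.side.P_le_S).toEquiv]
    congr 1
    refine Finset.sum_congr rfl fun s _ => ?_
    have hm : s⁻¹ * x * s ∈ M := Subgroup.mem_subgroupOf.2 (by
      have := h.side.P_conj (S.inv_mem s.2) hx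
      simpa using this)
    rw [extendByZero_mem M _ hm]
    show ((l.1 _ : ℂˣ) : ℂ) = ((l.1 _ : ℂˣ) : ℂ)
    congr 2
    exact Subtype.ext (by simp [Side.conjS_apply])
  set D : S → ℂ := indFun M (θ a) - indFun M (θ b) with hD
  have hDgen : IsGeneralizedCharacter S D :=
    ⟨_, _, isCharacter_indFun M (hθc a), isCharacter_indFun M (hθc b), rfl⟩
  have hzero : ∀ x : S, (x : G) ∉ layerX P U N → D x = 0 := by
    intro x hx
    rw [h.layerX_eq hC] at hx
    by_cases hxP : (x : G) ∈ P
    · have hxN : (x : G) ∈ N := by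
        by_contra hn
        exact hx ⟨hxP, hn⟩
      rw [hD, Pi.sub_apply, hIndP a x hxP, hIndP b x hxP, sub_eq_zero]
      congr 1
      refine Finset.sum_congr rfl fun s _ => ?_
      rw [(h.tw s⁻¹ a).2 _ hxN, (h.tw s⁻¹ b).2 _ hxN]
    · rw [hD, Pi.sub_apply, indFun, indFun]
      rw [Finset.sum_eq_zero fun s _ => extendByZero_not_mem M _ fun hm => hxP (hPn s x hm),
        Finset.sum_eq_zero fun s _ => extendByZero_not_mem M _ fun hm => hxP (hPn s x hm)]
      simp
  have hs : ∀ x : S, (x : G) ∉ sigmaSet S → D x = 0 := fun x hx => hzero x fun hX => hx (h.layerX_sub hX)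
  have hsum : ∀ F : ↥M → ℂ, ∑ x, F x = ∑ p : P, F ⟨⟨p, h.side.P_le_S p.2⟩, Subgroup.mem_subgroupOf.2 p.2⟩ := by
    intro F
    exact Fintype.sum_equiv (Subgroup.subgroupOfEquivOfLe h.side.P_le_S).toEquiv _ _ fun x => rfl
  have hcardM : Nat.card M = Nat.card P := Nat.card_congr (Subgroup.subgroupOfEquivOfLe h.side.P_le_S).toEquiv
  have hP0 : (Nat.card P : ℂ) ≠ 0 := Nat.cast_ne_zero.2 Nat.card_pos.ne'
  have hinner : ∀ l m : layerDual P N, classInner (indFun M (θ l)) (indFun M (θ m)) =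
      (Nat.card P : ℂ)⁻¹ * (Finset.univ.filter fun s : S => h.tw s⁻¹ m = l).card := by
    intro l m
    rw [Char.frobenius M (θ l) (isClassFunction_indFun M (θ m)), classInner, hsum, hcardM]
    congr 1
    rw [Finset.sum_congr rfl fun p _ => by rw [hIndP m ⟨p, h.side.P_le_S p.2⟩ p.2]]
    simp only [θ, map_mul, map_inv₀, map_natCast, map_sum, Finset.mul_sum]
    rw [Finset.sum_comm, Finset.card_filter, Nat.cast_sum]
    refine Finset.sum_congr rfl fun s _ => ?_
    have e := sum_hom_mul l.1 (h.tw s⁻¹ m).1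
    have e2 : ∑ p : P, (l.1 p : ℂ) * ((Nat.card P : ℂ)⁻¹ * conj (((h.tw s⁻¹ m).1 p : ℂˣ) : ℂ)) =
        (Nat.card P : ℂ)⁻¹ * ∑ p : P, (l.1 p : ℂ) * conj (((h.tw s⁻¹ m).1 p : ℂˣ) : ℂ) := by
      rw [Finset.mul_sum]
      exact Finset.sum_congr rfl fun p _ => by ring
    rw [e2, e]
    by_cases he : h.tw s⁻¹ m = l
    · rw [if_pos he, if_pos (congrArg Subtype.val he.symm), Nat.cast_one, inv_mul_cancel₀ hP0]
    · rw [if_neg he, if_neg fun c => he (Subtype.ext c.symm), Nat.cast_zero, mul_zero]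
  have hself : ∀ l, (∀ s : S, h.tw s l = l → (s : G) ∈ P) → classInner (indFun M (θ l)) (indFun M (θ l)) = 1 := by
    intro l hl
    have e : (Finset.univ.filter fun s : S => h.tw s⁻¹ l = l).card = Nat.card P := by
      rw [← Fintype.card_subtype, ← Nat.card_eq_fintype_card]
      exact Nat.card_congr
        { toFun := fun s => ⟨((s.1 : S) : G), by simpa using P.inv_mem (hl _ s.2)⟩
          invFun := fun p => ⟨⟨p, h.side.P_le_S p.2⟩, h.tw_P (P.inv_mem p.2) l⟩
          left_inv := fun _ => rfl, right_inv := fun _ => rfl }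
    rw [hinner, e, inv_mul_cancel₀ hP0]
  have hnorm : (classInner D D).re ≤ 2 := by
    rw [hD, classInner_sub_left, classInner_sub_right, classInner_sub_right, hself a ha, hself b hb, hinner,
      hinner]
    have hP' : (0 : ℝ) ≤ (Nat.card P : ℝ)⁻¹ := by positivity
    simp only [Complex.sub_re, Complex.one_re, Complex.mul_re, Complex.natCast_re, Complex.natCast_im, mul_zero,
      sub_zero]
    rw [show ((Nat.card P : ℂ)⁻¹).re = (Nat.card P : ℝ)⁻¹ by
      rw [← Complex.ofReal_natCast, ← Complex.ofReal_inv, Complex.ofReal_re]]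
    nlinarith [mul_nonneg hP' (Nat.cast_nonneg (α := ℝ) (Finset.univ.filter fun s : S => h.tw s⁻¹ b = a).card),
      mul_nonneg hP' (Nat.cast_nonneg (α := ℝ) (Finset.univ.filter fun s : S => h.tw s⁻¹ a = b).card)]
  have hone : ∀ l : layerDual P N, l ≠ ⟨1, fun _ _ => rfl⟩ →
      classInner (indFun M (θ l)) (fun _ => 1) = 0 := by
    intro l hl
    rw [Char.frobenius M (θ l) (fun _ _ => rfl), classInner, hsum]
    have e := sum_hom_mul l.1 1
    simp only [MonoidHom.one_apply, Units.val_one, map_one, mul_one] at e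
    simp only [θ, map_one, mul_one]
    rw [e, if_neg fun c => hl (Subtype.ext c), mul_zero]
  have hT := h.side.sigmaSet_isTI
  have horth := E.orth_of_small h.side.three_le_K h.side.three_le_Z (hT.ind_gen hDgen)
    (by rw [hT.inner hs (isClassFunction_genChar hDgen) hs]; exact hnorm)
    (by rw [hT.inner_one, hD, classInner_sub_left, hone a ha1, hone b hb1, sub_zero])
    (fun x hx y hy hx1 hy1 => h.layerX_isTI.ind_eq_zero hzero fun g hg =>
      h.hat_notMem hC hx hy hx1 ⟨g, by rw [h.layerX_eq hC] at hg; exact hg.1⟩) i j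
  rw [Char.frobenius S D (isClassFunction_genChar (E.eta_gen i j))] at horth
  have hηc : IsClassFunction S (fun x : S => E.eta i j x) := fun x y =>
    isClassFunction_genChar (E.eta_gen i j) (x : G) (y : G)
  rw [hD, classInner_sub_left, sub_eq_zero, Char.frobenius M (θ a) hηc, Char.frobenius M (θ b) hηc] at horth
  have hfin : ∀ l, classInner (fun x : ↥(P ⊔ layerC P U N) => E.eta i j x) (fun x => (h.ext l x : ℂ)) =
      conj (classInner (θ l) (fun x : ↥M => E.eta i j ((x : S) : G))) := by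
    intro l
    rw [classInner_symm, h.coeff_eq hC, classInner, hsum, hcardM]
  rw [hfin, hfin, horth]

/-- A grid character off the layer has equal coefficients on the invariant characters of the layer. -/
theorem coeff_const_lam {x y j : ↥Z →* ℂˣ} (hx : x ∈ layerJ Z N) (hy : y ∈ layerJ Z N) (hjx : j ≠ x)
    (hjy : j ≠ y) :
    classInner (fun t : ↥(P ⊔ layerC P U N) => E.eta 1 j t)
        (fun t => (h.ext ⟨h.lam x, fun p hp => h.lam_N x hp⟩ t : ℂ)) =
      classInner (fun t : ↥(P ⊔ layerC P U N) => E.eta 1 j t)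
        (fun t => (h.ext ⟨h.lam y, fun p hp => h.lam_N y hp⟩ t : ℂ)) := by
  set F : G → ℂ := E.eta 1 j with hF
  have hFc : IsClassFunction G F := isClassFunction_genChar (E.eta_gen 1 j)
  have hFS : IsClassFunction S (fun t : S => F t) := fun a b => hFc (a : G) (b : G)
  set A : P → ℂ := fun p => (h.lam x p : ℂ) - (h.lam y p : ℂ) with hA
  -- the scalar product with `η 1 x - η 1 y`
  have h0 : classInner (h.mu 1 x - h.mu 1 y) (fun t : S => F t) = 0 := by
    rw [← Char.frobenius S _ hFc, h.tau_mu_sub E hx hy, classInner_sub_left, hF,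
      E.orth _ _ _ _ (Or.inr (Ne.symm hjx)), E.orth _ _ _ _ (Or.inr (Ne.symm hjy)), sub_zero]
  -- the terms outside `P`
  have hk0 : ∀ k : K, k ≠ 1 → ∑ p : P, A p * conj (F ((p : G) * k)) = 0 := by
    intro k hk
    have hkG : (k : G) ≠ 1 := fun e => hk (Subtype.ext e)
    let φ : P × Z → P := fun t => t.1 * Subgroup.inclusion h.side.Z_le t.2 * (h.conjP k t.1)⁻¹
    have hφk : ∀ t : P × Z, (φ t : G) * k = (t.1 : G) * ((t.2 : G) * k) * (t.1 : G)⁻¹ := fun t => by
      simp only [φ, Subgroup.coe_mul, Subgroup.coe_inv, conjP_apply, Subgroup.coe_inclusion]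
      group
    have hcoqw : (Nat.card K).Coprime (Nat.card Z) :=
      h.side.coKP.coprime_dvd_right (Subgroup.card_dvd_of_le h.side.Z_le)
    obtain ⟨n, -, hn⟩ := Nat.exists_mul_mod_eq_of_coprime 1 hcoqw.symm h.side.prime.pos.ne'
    have hnk : ∀ z : Z, ((z : G) * k) ^ (Nat.card Z * n) = k := by
      intro z
      rw [(show Commute (z : G) k from (h.side.comm_KZ k.2 z.2).symm).mul_pow, pow_mul,
        show (z : G) ^ Nat.card Z = 1 from congrArg Subtype.val (pow_card_eq_one' (x := z)), one_pow, one_mul]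
      conv_rhs => rw [← pow_one (k : G)]
      refine pow_eq_pow_iff_modEq.2 ((show Nat.card Z * n ≡ 1 [MOD Nat.card K] from hn).of_dvd ?_)
      rw [Subgroup.orderOf_coe]
      exact orderOf_dvd_natCard _
    have hfib : ∀ t t' : P × Z, φ t = φ t' ↔ t'.2 = t.2 ∧ (t'.1 : G)⁻¹ * t.1 ∈ Z := by
      intro t t'
      constructor
      · intro e
        have e1 : (t.1 : G) * ((t.2 : G) * k) * (t.1 : G)⁻¹ = (t'.1 : G) * ((t'.2 : G) * k) * (t'.1 : G)⁻¹ := by
          rw [← hφk, ← hφk, e]
        set g := (t'.1 : G)⁻¹ * t.1 with hg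
        have e2 : g * ((t.2 : G) * k) * g⁻¹ = (t'.2 : G) * k := by
          calc g * ((t.2 : G) * k) * g⁻¹ = (t'.1 : G)⁻¹ * ((t.1 : G) * ((t.2 : G) * k) * (t.1 : G)⁻¹) * t'.1 := by
                rw [hg]; group
            _ = _ := by rw [e1]; group
        have e3 : g * k * g⁻¹ = k := by
          have := congrArg (· ^ (Nat.card Z * n)) e2
          simpa only [conj_pow, hnk] using this
        have hgZ : g ∈ Z := h.side.fix.le ⟨P.mul_mem (P.inv_mem t'.1.2) t.1.2,
          Subgroup.mem_centralizer_iff.2 fun k' hk' => by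
            haveI : Fact (Nat.card K).Prime := ⟨h.side.prime⟩
            obtain ⟨i, hi⟩ := mem_powers_of_prime_card (G := K) (g := k) (g' := ⟨k', hk'⟩) rfl hk
            have e4 : k' = (k : G) ^ i := (congrArg Subtype.val hi).symm.trans (by simp)
            rw [e4]
            exact ((show Commute (k : G) g from (mul_inv_eq_iff_eq_mul.1 e3).symm).pow_left i).eq⟩
        refine ⟨Subtype.ext ?_, hgZ⟩
        have hzc : g * (t.2 : G) * g⁻¹ = t.2 := by
          have hcyc := h.side.sn.2.2.2.2.1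
          letI : CommGroup ↥(K ⊔ Z) := IsCyclic.commGroup
          have e5 : g * (t.2 : G) = (t.2 : G) * g := congrArg Subtype.val
            (mul_comm (⟨g, Subgroup.mem_sup_right hgZ⟩ : ↥(K ⊔ Z)) ⟨t.2, Subgroup.mem_sup_right t.2.2⟩)
          rw [e5, mul_inv_cancel_right]
        refine (mul_right_cancel (b := (k : G)) ?_)
        rw [← e2]
        calc g * ((t.2 : G) * k) * g⁻¹ = g * (t.2 : G) * g⁻¹ * (g * k * g⁻¹) := by group
          _ = _ := by rw [hzc, e3]
      · rintro ⟨e1, hgZ⟩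
        refine Subtype.ext (mul_right_cancel (b := (k : G)) ?_)
        rw [hφk, hφk, e1]
        set g := (t'.1 : G)⁻¹ * t.1 with hg
        have hc1 : g * ((t.2 : G) * k) = (t.2 : G) * k * g := by
          have hcyc := h.side.sn.2.2.2.2.1
          letI : CommGroup ↥(K ⊔ Z) := IsCyclic.commGroup
          exact congrArg Subtype.val (mul_comm (⟨g, Subgroup.mem_sup_right hgZ⟩ : ↥(K ⊔ Z))
            ⟨_, mul_mem (Subgroup.mem_sup_right t.2.2) (Subgroup.mem_sup_left k.2)⟩)
        calc (t.1 : G) * ((t.2 : G) * k) * (t.1 : G)⁻¹ =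
              (t'.1 : G) * (g * ((t.2 : G) * k)) * g⁻¹ * (t'.1 : G)⁻¹ := by rw [hg]; group
          _ = _ := by rw [hc1]; group
    have hcardfib : ∀ t' : P × Z, (Finset.univ.filter fun t => φ t = φ t').card = Nat.card Z := by
      intro t'
      rw [← Fintype.card_subtype, ← Nat.card_eq_fintype_card]
      exact Nat.card_congr
        { toFun := fun t => ⟨_, ((hfib t.1 t').1 t.2).2⟩
          invFun := fun g => ⟨(t'.1 * Subgroup.inclusion h.side.Z_le g, t'.2),
            (hfib _ t').2 ⟨rfl, by simp [Subgroup.coe_inclusion, g.2]⟩⟩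
          left_inv := fun t => Subtype.ext (Prod.ext (Subtype.ext (by simp [mul_assoc]))
            ((hfib t.1 t').1 t.2).1)
          right_inv := fun g => Subtype.ext (by simp [mul_assoc]) }
    have hsurj : Finset.univ.image φ = (Finset.univ : Finset P) := by
      refine Finset.eq_univ_of_card _ ?_
      have e := Finset.card_eq_sum_card_image φ (Finset.univ : Finset (P × Z))
      rw [Finset.card_univ, Fintype.card_prod, Finset.sum_congr rfl (g := fun _ => Nat.card Z) (fun p hp => by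
        obtain ⟨t', -, rfl⟩ := Finset.mem_image.1 hp
        exact hcardfib t'), Finset.sum_const, smul_eq_mul] at e
      rw [← Nat.card_eq_fintype_card, ← Nat.card_eq_fintype_card] at e
      rw [← Nat.card_eq_fintype_card]
      exact (Nat.eq_of_mul_eq_mul_right Nat.card_pos e).symm
    set Φ : P → ℂ := fun p => A p * conj (F ((p : G) * k)) with hΦ
    have hΦφ : ∀ t : P × Z, Φ (φ t) = ((x t.2 : ℂ) - (y t.2 : ℂ)) * conj ((j t.2 : ℂˣ) : ℂ) := by
      intro t
      have hl : ∀ m : ↥Z →* ℂˣ, (∀ z : Z, (z : G) ∈ N → m z = 1) → h.lam m (φ t) = m t.2 := fun m hm => by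
        rw [map_mul, map_mul, map_inv, h.lam_conjP, mul_comm (h.lam m t.1), mul_inv_cancel_right]
        exact h.lam_Z hm t.2
      simp only [hΦ, hA, hl x hx.2, hl y hy.2, hφk]
      rw [hFc]
      by_cases hz : t.2 = 1
      · simp [hz]
      · rw [show (t.2 : G) * k = (k : G) * t.2 from (h.side.comm_KZ k.2 t.2.2).symm, hF,
          E.onHat 1 j k t.2 hk hz]
        simp
    have hsum1 : ∑ t : P × Z, Φ (φ t) = (Nat.card Z : ℂ) * ∑ p : P, Φ p := by
      rw [← Finset.sum_fiberwise Finset.univ φ, Finset.mul_sum]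
      refine Finset.sum_congr rfl fun p _ => ?_
      obtain ⟨t', -, rfl⟩ := Finset.mem_image.1 (hsurj.ge (Finset.mem_univ p))
      rw [Finset.sum_congr rfl fun t ht => by rw [(Finset.mem_filter.1 ht).2], Finset.sum_const, hcardfib,
        nsmul_eq_mul]
    have hsum2 : ∑ t : P × Z, Φ (φ t) = 0 := by
      simp only [hΦφ]
      rw [Fintype.sum_prod_type]
      refine Finset.sum_eq_zero fun p _ => ?_
      show ∑ z : Z, ((x z : ℂ) - (y z : ℂ)) * conj ((j z : ℂˣ) : ℂ) = 0
      simp only [sub_mul, Finset.sum_sub_distrib, sum_hom_mul, if_neg (Ne.symm hjx), if_neg (Ne.symm hjy), sub_zero]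
    rw [hsum2] at hsum1
    exact (mul_eq_zero.1 hsum1.symm).resolve_left (Nat.cast_ne_zero.2 Nat.card_pos.ne')
  -- expand over `P K`
  have hC1 : ∀ c : ↥(layerC P U N), (c : G) = 1 := fun c => by
    have := c.2
    exact Subgroup.mem_bot.1 (hC ▸ this)
  have hexp : ∀ m : ↥Z →* ℂˣ, classInner (h.mu 1 m) (fun t : S => F t) =
      (Nat.card ↥((P ⊔ (layerC P U N ⊔ K)).subgroupOf S) : ℂ)⁻¹ *
        ∑ k : K, ∑ p : P, (h.lam m p : ℂ) * conj (F ((p : G) * k)) := by
    intro m
    rw [mu, Char.frobenius _ _ hFS, classInner]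
    congr 1
    rw [h.sum_PCK, Finset.sum_comm (s := (Finset.univ : Finset K))]
    refine Finset.sum_congr rfl fun p _ => ?_
    haveI : Subsingleton ↥(layerC P U N) :=
      ⟨fun a b => Subtype.ext ((hC1 a).trans (hC1 b).symm)⟩
    rw [Fintype.sum_subsingleton _ (1 : ↥(layerC P U N))]
    refine Finset.sum_congr rfl fun k _ => ?_
    show ((h.tlam 1 m _ : ℂˣ) : ℂ) * _ = _
    rw [h.tlam_apply 1 m _ p 1 k rfl, MonoidHom.one_apply, one_mul]
    simp
  rw [classInner_sub_left, hexp, hexp, ← mul_sub, ← Finset.sum_sub_distrib] at h0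
  simp only [← Finset.sum_sub_distrib, ← sub_mul] at h0
  have h1 : ∑ k : K, ∑ p : P, A p * conj (F ((p : G) * k)) = 0 :=
    (mul_eq_zero.1 h0).resolve_left (inv_ne_zero (Nat.cast_ne_zero.2 Nat.card_pos.ne'))
  rw [← Finset.sum_erase_add _ _ (Finset.mem_univ (1 : K)),
    Finset.sum_eq_zero fun k hk => hk0 k (Finset.mem_erase.1 hk).1, zero_add] at h1
  simp only [OneMemClass.coe_one, mul_one, hA, sub_mul, Finset.sum_sub_distrib, sub_eq_zero] at h1
  rw [h.coeff_eq hC, h.coeff_eq hC]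
  congr 1
  have e := congrArg (fun z : ℂ => conj z) h1
  simp only [map_sum, map_mul, Complex.conj_conj] at e
  simpa [mul_comm] using e

end IsLayer

end Cfsg.Agent.OddFT
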