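import Cfsg.Agent.Lib.OddChar.FT.LayerBeta
import Cfsg.Agent.Lib.OddChar.FT.GridOrth

/-!
The generalized character `Γ` of a layer.
-/

set_option autoImplicit false
set_option linter.unusedSectionVars false
set_option linter.unusedVariables false
set_option linter.style.haveILetI false

open Cfsg Cfsg.Agent.Char Cfsg.Agent.OddChar
open scoped ComplexConjugate commutatorElement Classical

namespace Cfsg.Agent.OddFT

universe u

variable {G : Type u} [Group G] [Fintype G] {S K Z P U N : Subgroup G} {r : ℕ}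

/-- Induction commutes with complex conjugation. -/
theorem cj_indFun (H : Subgroup G) (θ : H → ℂ) :
    cj (indFun H θ) = indFun H (fun x => conj (θ x)) := by
  funext g
  simp only [cj_apply, indFun, map_mul, map_inv₀, map_natCast, map_sum]
  congr 1
  refine Finset.sum_congr rfl fun x _ => ?_
  by_cases hm : x⁻¹ * g * x ∈ H
  · rw [extendByZero_mem _ _ hm, extendByZero_mem _ _ hm]
  · rw [extendByZero_not_mem _ _ hm, extendByZero_not_mem _ _ hm, map_zero]

/-- The inverse of the trivial homomorphism. -/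
theorem hom_one_inv {A : Type u} [Group A] : (1 : A →* ℂˣ)⁻¹ = 1 := MonoidHom.ext fun a => by simp

/-- A linear character takes values on the unit circle. -/
theorem conj_hom {A : Type u} [Group A] [Fintype A] (l : A →* ℂˣ) (a : A) :
    conj ((l a : ℂˣ) : ℂ) = ((l a)⁻¹ : ℂˣ) := by
  rw [← char_inv (irr_isCharacter (isIrrCharacter_linear l)) a, map_inv]

namespace Side

variable (h : Side S K Z P U)
include h

theorem three_le_K : 3 ≤ Nat.card K := by
  have h1 := h.prime.two_le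
  obtain ⟨a, ha⟩ := h.odd_card K
  omega

theorem three_le_Z : 3 ≤ Nat.card Z := by
  have h1 := h.card_Z_pos
  obtain ⟨a, ha⟩ := h.odd_card Z
  omega

theorem five_le : 5 ≤ Nat.card K ∨ 5 ≤ Nat.card Z := by
  by_contra hc
  push Not at hc
  have h1 := h.three_le_K
  have h2 := h.three_le_Z
  obtain ⟨a, ha⟩ := h.odd_card K
  obtain ⟨b, hb⟩ := h.odd_card Z
  have eK : Nat.card K = 3 := by omega
  have eZ : Nat.card Z = 3 := by omega
  have := h.coKP
  rw [h.card_P, eK, eZ] at this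
  norm_num at this

theorem sigmaSet_isTI : IsTI S (sigmaSet S) := sigmaSet_ti h.minSimple h.coatom h.kappa_ne

theorem mul_mem_sigmaSet {a b : G} (ha : a ∈ K) (hb : b ∈ Z) (hb1 : b ≠ 1) : a * b ∈ sigmaSet S := by
  refine ⟨S.mul_mem (h.K_le ha) (h.P_le_S (h.Z_le hb)), Nat.card K, ?_⟩
  have e : (a * b) ^ Nat.card K = b ^ Nat.card K := by
    rw [(show Commute a b from h.comm_KZ ha hb).mul_pow,
      show a ^ Nat.card K = 1 from congrArg Subtype.val (pow_card_eq_one' (x := (⟨a, ha⟩ : K))), one_mul]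
  rw [e]
  refine ⟨Subgroup.pow_mem _ (h.P_le (h.Z_le hb)) _, fun h1 => hb1 ?_⟩
  refine orderOf_eq_one_iff.1 (Nat.eq_one_of_dvd_coprimes h.coKP (orderOf_dvd_of_pow_eq_one h1) ?_)
  have := orderOf_dvd_natCard (⟨b, h.Z_le hb⟩ : P)
  rwa [← Subgroup.orderOf_coe] at this

end Side

namespace IsLayer

/-- The excess of the norm of `μ i 1` over one. -/
noncomputable def nu (_h : IsLayer S K Z P U N r) : ℝ :=
  ((Nat.card U : ℝ) / Nat.card ↥(layerC P U N) - 1) / Nat.card K

variable (h : IsLayer S K Z P U N r)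
include h

theorem inv_mem_layerJ {j : ↥Z →* ℂˣ} (hj : j ∈ layerJ Z N) : j⁻¹ ∈ layerJ Z N :=
  ⟨fun e => hj.1 (MonoidHom.ext fun z => by simpa using DFunLike.congr_fun e z), fun z hz => by rw [MonoidHom.inv_apply, hj.2 z hz, inv_one]⟩

theorem inv_ne {j : ↥Z →* ℂˣ} (hj : j ∈ layerJ Z N) : j⁻¹ ≠ j := by
  intro e
  refine hj.1 (MonoidHom.ext fun z => ?_)
  have h2 : j z ^ 2 = 1 := by
    rw [sq]; nth_rewrite 1 [← e]; rw [MonoidHom.inv_apply, inv_mul_cancel]
  rw [MonoidHom.one_apply]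
  refine orderOf_eq_one_iff.1 (Nat.eq_one_of_dvd_coprimes (Nat.coprime_two_left.2 (h.side.odd_card Z))
    (orderOf_dvd_of_pow_eq_one h2) (orderOf_dvd_of_pow_eq_one ?_))
  rw [← map_pow, pow_card_eq_one', map_one]

theorem pow_mem_layerJ {j : ↥Z →* ℂˣ} (hj : j ∈ layerJ Z N) {k : ℕ} (hk : k.Coprime (Nat.card G)) :
    j ^ k ∈ layerJ Z N := by
  refine ⟨fun e => hj.1 (MonoidHom.ext fun z => ?_), fun z hz => by
    rw [MonoidHom.pow_apply, hj.2 z hz, one_pow]⟩
  refine orderOf_eq_one_iff.1 (Nat.eq_one_of_dvd_coprimes hk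
    (orderOf_dvd_of_pow_eq_one (show j z ^ k = 1 by
      rw [← MonoidHom.pow_apply, e, MonoidHom.one_apply]))
    ((orderOf_dvd_of_pow_eq_one ?_).trans (Subgroup.card_subgroup_dvd_card Z)))
  rw [← map_pow, pow_card_eq_one', map_one]

open Classical in
/-- The number of characters of the layer. -/
theorem card_layerJ : (Finset.univ.filter fun j => j ∈ layerJ Z N).card + 1 = r := by
  set N' := N.subgroupOf Z with hN'
  have hcomm : ∀ a b : Z, a * b = b * a := fun a b => by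
    obtain ⟨-, -, -, -, hc, -⟩ := id h.side.sn
    haveI := hc
    letI : CommGroup ↥(K ⊔ Z) := IsCyclic.commGroup
    have e := congrArg Subtype.val (mul_comm (⟨a, Subgroup.mem_sup_right a.2⟩ : ↥(K ⊔ Z))
      ⟨b, Subgroup.mem_sup_right b.2⟩)
    exact Subtype.ext e
  haveI : N'.Normal := ⟨fun n hn g => by rwa [hcomm g n, mul_inv_cancel_right]⟩
  have hq : ∀ a b : ↥Z ⧸ N', a * b = b * a := fun a b => by
    induction a using QuotientGroup.induction_on with | _ a =>
    induction b using QuotientGroup.induction_on with | _ b =>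
    rw [← QuotientGroup.mk_mul, hcomm, QuotientGroup.mk_mul]
  have hidx : Nat.card (↥Z ⧸ N') = r := by
    show N'.index = r
    refine Nat.eq_of_mul_eq_mul_left (Nat.card_pos (α := N')) ?_
    rw [Subgroup.card_mul_index, hN', ← Subgroup.inf_subgroupOf_right N Z, inf_comm,
      Nat.card_congr (Subgroup.subgroupOfEquivOfLe inf_le_left).toEquiv, h.index]
  have hcard : Nat.card ((↥Z ⧸ N') →* ℂˣ) = r := by
    have hbot : commutator (↥Z ⧸ N') = ⊥ := by
      rw [commutator_def, eq_bot_iff]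
      refine Subgroup.commutator_le.2 fun a _ b _ => ?_
      rw [Subgroup.mem_bot, commutatorElement_def, hq a b]
      group
    rw [card_hom_units, hbot, Subgroup.index_bot, hidx]
  let e : ((↥Z ⧸ N') →* ℂˣ) ≃ {j : ↥Z →* ℂˣ // ∀ z : Z, (z : G) ∈ N → j z = 1} :=
    { toFun := fun f => ⟨f.comp (QuotientGroup.mk' N'), fun z hz => by
        rw [MonoidHom.comp_apply, QuotientGroup.mk'_apply, (QuotientGroup.eq_one_iff z).2 hz, map_one]⟩
      invFun := fun j => QuotientGroup.lift N' j.1 fun z hz => j.2 z hz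
      left_inv := fun f => MonoidHom.ext fun x => by
        induction x using QuotientGroup.induction_on with | _ z => rfl
      right_inv := fun j => Subtype.ext (MonoidHom.ext fun z => rfl) }
  rw [Nat.card_congr e, Nat.card_eq_fintype_card, Fintype.card_subtype] at hcard
  rw [← hcard, ← Finset.card_insert_of_notMem (a := (1 : ↥Z →* ℂˣ)) (by simp [layerJ])]
  congr 1
  ext j
  by_cases hj : j = 1 <;> simp [layerJ, hj]

theorem exists_layerJ : ∃ j, j ∈ layerJ Z N := by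
  by_contra hc
  push Not at hc
  have := h.card_layerJ
  rw [Finset.filter_false_of_mem fun j _ => hc j] at this
  exact h.prime.ne_one (by simpa using this.symm)

variable (E : Grid K Z)

/-- The difference `μ 1 j - μ 1 l` induces to `η 1 j - η 1 l`. -/
theorem tau_mu_sub {j l : ↥Z →* ℂˣ} (hj : j ∈ layerJ Z N) (hl : l ∈ layerJ Z N) :
    indFun S (h.mu 1 j - h.mu 1 l) = E.eta 1 j - E.eta 1 l := by
  by_cases hjl : j = l
  · subst hjl
    rw [sub_self, sub_self, indFun_zero]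
  have hT := h.side.sigmaSet_isTI
  have hgen : IsGeneralizedCharacter S (h.mu 1 j - h.mu 1 l) :=
    ⟨_, _, h.isCharacter_mu 1 j, h.isCharacter_mu 1 l, rfl⟩
  have hs : ∀ x : S, (x : G) ∉ sigmaSet S → (h.mu 1 j - h.mu 1 l) x = 0 := fun x hx => by
    have e1 := h.beta_supp hj.2 x hx
    have e2 := h.beta_supp hl.2 x hx
    simp only [beta, Pi.sub_apply] at e1 e2 ⊢
    linear_combination e2 - e1
  refine E.eq_sub_of_norm_two h.side.three_le_K h.side.three_le_Z h.side.five_le (hT.ind_gen hgen) ?_ ?_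
    hj.1 hl.1 hjl ?_
  · rw [hT.inner hs (isClassFunction_genChar hgen) hs, classInner_sub_left, classInner_sub_right,
      classInner_sub_right, h.mu_inner 1 1 hj.2 hj.2, h.mu_inner 1 1 hj.2 hl.2, h.mu_inner 1 1 hl.2 hj.2,
      h.mu_inner 1 1 hl.2 hl.2]
    simp [hjl, Ne.symm hjl, hj.1, hl.1]
    ring
  · rw [hT.inner_one, classInner_sub_left, h.mu_inner_one 1 hj.2, h.mu_inner_one 1 hl.2]
    simp [hj.1, hl.1]
  · intro a b ha hb
    have hmem : (a : G) * b ∈ sigmaSet S :=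
      h.side.mul_mem_sigmaSet a.2 b.2 fun e => hb (Subtype.ext e)
    rw [show (a : G) * b = ((⟨(a : G) * b, hmem.1⟩ : S) : G) from rfl,
      hT.ind_apply (isClassFunction_genChar hgen) hs hmem, Pi.sub_apply, h.mu_hat 1 hj.2 a b ha rfl,
      h.mu_hat 1 hl.2 a b ha rfl]
    simp

/-- `Γ`. -/
noncomputable def gamma (j : ↥Z →* ℂˣ) : G → ℂ :=
  indFun S (h.beta j) - (fun _ => 1) + E.eta 1 j

theorem gamma_indep {j l : ↥Z →* ℂˣ} (hj : j ∈ layerJ Z N) (hl : l ∈ layerJ Z N) :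
    h.gamma E j = h.gamma E l := by
  have e := h.tau_mu_sub E hj hl
  rw [indFun_sub] at e
  simp only [gamma, beta, indFun_sub]
  funext g
  have := congrFun e g
  simp only [Pi.sub_apply, Pi.add_apply] at this ⊢
  linear_combination -this

theorem gamma_gen (j : ↥Z →* ℂˣ) : IsGeneralizedCharacter G (h.gamma E j) :=
  gen_add (isGenChar_sub (h.side.sigmaSet_isTI.ind_gen (h.beta_gen j)) gen_one) (E.eta_gen 1 j)

theorem gamma_inner_one {j : ↥Z →* ℂˣ} (hj : j ∈ layerJ Z N) :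
    classInner (h.gamma E j) (fun _ => 1) = 0 := by
  rw [gamma, classInner_add_left, classInner_sub_left, h.side.sigmaSet_isTI.inner_one, h.beta_inner_one hj]
  have h1 : classInner (fun _ : G => (1 : ℂ)) (fun _ => 1) = 1 := irr_self isIrrCharacter_one
  have h2 : classInner (E.eta 1 j) (fun _ => 1) = 0 := by
    rw [← E.one]
    exact E.orth _ _ _ _ (Or.inr hj.1)
  rw [h1, h2]
  ring

theorem gamma_class (j : ↥Z →* ℂˣ) : IsClassFunction G (h.gamma E j) :=
  isClassFunction_genChar (h.gamma_gen E j)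

/-- `Γ` vanishes on the hat. -/
theorem gamma_hat {j : ↥Z →* ℂˣ} (hj : j ∈ layerJ Z N) {a b : G} (ha : a ∈ K) (hb : b ∈ Z) (ha1 : a ≠ 1)
    (hb1 : b ≠ 1) : h.gamma E j (a * b) = 0 := by
  have hmem := h.side.mul_mem_sigmaSet ha hb hb1
  have ha' : (⟨a, ha⟩ : K) ≠ 1 := fun e => ha1 (congrArg Subtype.val e)
  have hb' : (⟨b, hb⟩ : Z) ≠ 1 := fun e => hb1 (congrArg Subtype.val e)
  have e1 : indFun S (h.beta j) (a * b) = 1 - (j ⟨b, hb⟩ : ℂ) := by
    rw [show a * b = ((⟨a * b, hmem.1⟩ : S) : G) from rfl,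
      h.side.sigmaSet_isTI.ind_apply (h.beta_class j) (h.beta_supp hj.2) hmem, beta, Pi.sub_apply,
      h.mu_hat 1 (fun _ _ => rfl) ⟨a, ha⟩ ⟨b, hb⟩ ha' rfl, h.mu_hat 1 hj.2 ⟨a, ha⟩ ⟨b, hb⟩ ha' rfl]
    simp
  simp only [gamma, Pi.add_apply, Pi.sub_apply, e1]
  rw [show E.eta 1 j (a * b) = _ from E.onHat 1 j ⟨a, ha⟩ ⟨b, hb⟩ ha' hb']
  simp

theorem cj_beta {j : ↥Z →* ℂˣ} (hj : ∀ z : Z, (z : G) ∈ N → j z = 1) :
    (fun x => conj (h.beta j x)) = h.beta j⁻¹ := by
  have key : ∀ l : ↥Z →* ℂˣ, (∀ z : Z, (z : G) ∈ N → l z = 1) →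
      cj (h.mu 1 l) = h.mu 1 l⁻¹ := by
    intro l hl
    rw [mu, cj_indFun]
    congr 1
    funext x
    obtain ⟨p, hp, c, hc, k, hk, e⟩ := h.mem_PCK (Subgroup.mem_subgroupOf.1 x.2)
    show conj ((h.tlam 1 l _ : ℂˣ) : ℂ) = ((h.tlam 1 l⁻¹ _ : ℂˣ) : ℂ)
    rw [h.tlam_apply 1 l _ ⟨p, hp⟩ ⟨c, hc⟩ ⟨k, hk⟩ e, h.tlam_apply 1 l⁻¹ _ ⟨p, hp⟩ ⟨c, hc⟩ ⟨k, hk⟩ e,
      MonoidHom.one_apply, one_mul, one_mul, conj_hom, h.lam_inv hl, MonoidHom.inv_apply]
  have e1 := key 1 fun _ _ => rfl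
  rw [hom_one_inv] at e1
  funext x
  simp only [beta, Pi.sub_apply, map_sub]
  rw [show conj (h.mu 1 1 x) = h.mu 1 1 x from congrFun e1 x,
    show conj (h.mu 1 j x) = h.mu 1 j⁻¹ x from congrFun (key j hj) x]

theorem cj_gamma {j : ↥Z →* ℂˣ} (hj : j ∈ layerJ Z N) : cj (h.gamma E j) = h.gamma E j := by
  have e : cj (h.gamma E j) = h.gamma E j⁻¹ := by
    rw [gamma, cj_add, cj_sub, cj_indFun, h.cj_beta hj.2, E.cj_eta, hom_one_inv, gamma]
    rw [show cj (fun _ : G => (1 : ℂ)) = fun _ => 1 from funext fun g => by simp]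
  rw [e, h.gamma_indep E (h.inv_mem_layerJ hj) hj]

theorem gamma_inner_tau {j : ↥Z →* ℂˣ} (hj : j ∈ layerJ Z N) :
    classInner (indFun S (h.beta j)) (indFun S (h.beta j)) = 2 + (h.nu : ℂ) := by
  rw [h.side.sigmaSet_isTI.inner (h.beta_supp hj.2) (h.beta_class j) (h.beta_supp hj.2), h.beta_norm hj, nu]
  push_cast
  ring

/-- The coordinate `⟨Γ, η 1 j⟩` is the same for all characters of the layer. -/
theorem gamma_coord_indep {m j : ↥Z →* ℂˣ} (hm : m ∈ layerJ Z N) (hj : j ∈ layerJ Z N) :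
    classInner (h.gamma E m) (E.eta 1 j) = classInner (h.gamma E m) (E.eta 1 m) := by
  by_cases hjm : j = m
  · subst hjm; rfl
  have e0 : classInner (h.gamma E m) (E.eta 1 m - E.eta 1 j) = 0 := by
    rw [← h.tau_mu_sub E hm hj]
    have hs : ∀ x : S, (x : G) ∉ sigmaSet S → (h.mu 1 m - h.mu 1 j) x = 0 := fun x hx => by
      have e1 := h.beta_supp hm.2 x hx
      have e2 := h.beta_supp hj.2 x hx
      simp only [beta, Pi.sub_apply] at e1 e2 ⊢
      linear_combination e2 - e1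
    have hcl : IsClassFunction S (h.mu 1 m - h.mu 1 j) := fun a b => by
      simp only [Pi.sub_apply, h.class_mu 1 m a b, h.class_mu 1 j a b]
    rw [gamma, classInner_add_left, classInner_sub_left,
      h.side.sigmaSet_isTI.inner (h.beta_supp hm.2) hcl hs]
    have h1 : classInner (fun _ : G => (1 : ℂ)) (indFun S (h.mu 1 m - h.mu 1 j)) = 0 := by
      rw [← classInner_symm, h.side.sigmaSet_isTI.inner_one, classInner_sub_left, h.mu_inner_one 1 hm.2,
        h.mu_inner_one 1 hj.2]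
      simp [hm.1, hj.1]
    have h2 : classInner (E.eta 1 m) (indFun S (h.mu 1 m - h.mu 1 j)) = 1 := by
      rw [h.tau_mu_sub E hm hj, classInner_sub_right, (E.signed 1 m).self,
        E.orth _ _ _ _ (Or.inr (Ne.symm hjm)), sub_zero]
    rw [h1, h2, beta, classInner_sub_left, classInner_sub_right, classInner_sub_right,
      h.mu_inner 1 1 (fun _ _ => rfl) hm.2, h.mu_inner 1 1 (fun _ _ => rfl) hj.2, h.mu_inner 1 1 hm.2 hm.2,
      h.mu_inner 1 1 hm.2 hj.2]
    simp [hm.1, Ne.symm hm.1, Ne.symm hj.1, Ne.symm hjm]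
  rw [classInner_sub_right, sub_eq_zero] at e0
  exact e0.symm

/-- The norm of `Γ`. -/
theorem gamma_norm {j : ↥Z →* ℂˣ} (hj : j ∈ layerJ Z N) :
    classInner (h.gamma E j) (h.gamma E j) = (h.nu : ℂ) + 2 * classInner (h.gamma E j) (E.eta 1 j) := by
  set T := indFun S (h.beta j) with hT
  have h11 : classInner (fun _ : G => (1 : ℂ)) (fun _ => 1) = 1 := irr_self isIrrCharacter_one
  have he1 : classInner (E.eta 1 j) (fun _ => 1) = 0 := by
    rw [← E.one]; exact E.orth _ _ _ _ (Or.inr hj.1)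
  have h1e : classInner (fun _ : G => (1 : ℂ)) (E.eta 1 j) = 0 := by rw [← classInner_symm, he1, map_zero]
  have hT1 : classInner T (fun _ => 1) = 1 := by
    rw [hT, h.side.sigmaSet_isTI.inner_one, h.beta_inner_one hj]
  have h1T : classInner (fun _ : G => (1 : ℂ)) T = 1 := by rw [← classInner_symm, hT1, map_one]
  have heT : classInner (E.eta 1 j) T = classInner T (E.eta 1 j) :=
    gen_inner_real (E.eta_gen 1 j) (h.side.sigmaSet_isTI.ind_gen (h.beta_gen j))
  have hTT : classInner T T = 2 + (h.nu : ℂ) := h.gamma_inner_tau hj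
  simp only [gamma, classInner_add_left, classInner_add_right, classInner_sub_left, classInner_sub_right, ← hT,
    hTT, h11, he1, h1e, hT1, h1T, heT, (E.signed 1 j).self]
  ring

/-- Bessel's inequality for `Γ` against a family orthogonal to the grid. -/
theorem gamma_bessel {j : ↥Z →* ℂˣ} (hj : j ∈ layerJ Z N) {ι : Type*} (s : Finset ι) (f : ι → G → ℂ)
    (hf : ∀ i ∈ s, IsSigned G (f i)) (ho : ∀ i ∈ s, ∀ k ∈ s, i ≠ k → classInner (f i) (f k) = 0)
    (he : ∀ i ∈ s, ∀ a b, classInner (f i) (E.eta a b) = 0) (z : ι → ℤ)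
    (hz : ∀ i ∈ s, classInner (h.gamma E j) (f i) = z i) :
    (∑ i ∈ s, (z i : ℝ) ^ 2) ≤ h.nu ∧
      ((∑ i ∈ s, (z i : ℝ) ^ 2) = h.nu →
        (∀ a b, classInner (h.gamma E j) (E.eta a b) = 0) ∧ h.gamma E j = ∑ i ∈ s, (z i : ℂ) • f i) := by
  obtain ⟨w, hw, -, hrect⟩ := E.exists_coords (h.gamma_gen E j)
  have hadd := hrect fun a ha b hb ha1 hb1 => h.gamma_hat E hj ha hb ha1 hb1
  have w11 : w 1 1 = 0 := by
    have := hw 1 1
    rw [E.one, h.gamma_inner_one E hj] at this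
    exact_mod_cast this.symm
  obtain ⟨t, hsum, hzero⟩ : ∃ t : ℤ, (∑ a, ∑ b, w a b ^ 2 = 2 * w 1 j + t) ∧ 0 ≤ t ∧
      (t = 0 → ∀ a b, w a b = 0) := by
    refine ⟨∑ a, ∑ b, w a b ^ 2 - 2 * w 1 j, by ring, ?_⟩
    set J := Finset.univ.filter fun l => l ∈ layerJ Z N with hJdef
    have hJ : ∀ l ∈ J, w 1 l = w 1 j := fun l hl => by
      have h1 := hw 1 l
      rw [h.gamma_coord_indep E hj (Finset.mem_filter.1 hl).2, hw] at h1
      exact_mod_cast h1.symm
    have hcard : 2 ≤ J.card := by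
      refine le_trans (le_of_eq (Finset.card_pair (h.inv_ne hj)).symm) (Finset.card_le_card ?_)
      intro l hl
      rcases Finset.mem_insert.1 hl with rfl | hl
      · exact Finset.mem_filter.2 ⟨Finset.mem_univ _, h.inv_mem_layerJ hj⟩
      · rw [Finset.mem_singleton.1 hl]; exact Finset.mem_filter.2 ⟨Finset.mem_univ _, hj⟩
    have hsplit : ∑ a, ∑ b, w a b ^ 2 =
        (J.card : ℤ) * w 1 j ^ 2 + ∑ p ∈ (Finset.univ : Finset ((↥K →* ℂˣ) × (↥Z →* ℂˣ))) \ ({1} ×ˢ J),
          w p.1 p.2 ^ 2 := by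
      rw [← Fintype.sum_prod_type' (fun a b => w a b ^ 2),
        ← Finset.sum_sdiff (Finset.subset_univ (({1} : Finset (↥K →* ℂˣ)) ×ˢ J)), add_comm]
      congr 1
      rw [Finset.sum_product, Finset.sum_singleton, Finset.sum_congr rfl fun l hl => by rw [hJ l hl],
        Finset.sum_const, nsmul_eq_mul]
    set rest := ∑ p ∈ (Finset.univ : Finset ((↥K →* ℂˣ) × (↥Z →* ℂˣ))) \ ({1} ×ˢ J), w p.1 p.2 ^ 2
      with hrestdef
    have hrest : 0 ≤ rest := Finset.sum_nonneg fun p _ => sq_nonneg _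
    have hb : w 1 j ≤ w 1 j ^ 2 := Int.le_self_sq _
    have hJ2 : 2 * w 1 j ^ 2 ≤ (J.card : ℤ) * w 1 j ^ 2 :=
      mul_le_mul_of_nonneg_right (by exact_mod_cast hcard) (sq_nonneg _)
    refine ⟨by rw [hsplit]; linarith, fun ht => ?_⟩
    have hr0 : rest = 0 := by rw [hsplit] at ht; linarith
    have hout : ∀ a b, (a ≠ 1 ∨ b ∉ layerJ Z N) → w a b = 0 := fun a b hab => by
      have := (Finset.sum_eq_zero_iff_of_nonneg fun p _ => sq_nonneg _).1 hr0 (a, b) (by
        simp only [Finset.mem_sdiff, Finset.mem_univ, true_and, Finset.mem_product, Finset.mem_singleton,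
          hJdef, Finset.mem_filter]
        exact fun hc => hab.elim (fun e => e hc.1) (fun e => e hc.2))
      exact pow_eq_zero_iff two_ne_zero |>.1 this
    obtain ⟨k, hk, hk1⟩ : ∃ k : K, k ≠ 1 ∧ True := by
      haveI : Nontrivial K := Finite.one_lt_card_iff_nontrivial.1 (by have := h.side.three_le_K; omega)
      obtain ⟨k, hk⟩ := exists_ne (1 : K)
      exact ⟨k, hk, trivial⟩
    obtain ⟨a, ha⟩ : ∃ a : ↥K →* ℂˣ, a ≠ 1 := by
      have hc := E.card_left
      by_contra hc'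
      push Not at hc'
      have : Fintype.card (↥K →* ℂˣ) ≤ 1 := Fintype.card_le_one_iff.2 fun x y => by rw [hc' x, hc' y]
      have := h.side.three_le_K
      omega
    have hb0 : w 1 j = 0 := by
      have := hadd a j
      rw [w11, hout a j (Or.inl ha), hout a 1 (Or.inl ha)] at this
      linarith
    intro x y
    by_cases hxy : x ≠ 1 ∨ y ∉ layerJ Z N
    · exact hout x y hxy
    · push Not at hxy
      rw [hxy.1, hJ y (Finset.mem_filter.2 ⟨Finset.mem_univ _, hxy.2⟩), hb0]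
  let F : ((↥K →* ℂˣ) × (↥Z →* ℂˣ)) ⊕ ι → G → ℂ := Sum.elim (fun p => E.eta p.1 p.2) f
  let W : ((↥K →* ℂˣ) × (↥Z →* ℂˣ)) ⊕ ι → ℤ := Sum.elim (fun p => w p.1 p.2) z
  let s' := (Finset.univ : Finset ((↥K →* ℂˣ) × (↥Z →* ℂˣ))).disjSum s
  have hF : ∀ i ∈ s', IsSigned G (F i) := by
    rintro (p | i) hi
    · exact E.signed _ _
    · exact hf i (Finset.inr_mem_disjSum.1 hi)
  have hFo : ∀ i ∈ s', ∀ k ∈ s', i ≠ k → classInner (F i) (F k) = 0 := by
    rintro (p | i) hi (p' | k) hk hne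
    · exact E.orth _ _ _ _ (not_and_or.1 fun e => hne (congrArg Sum.inl (Prod.ext e.1 e.2)))
    · show classInner (E.eta p.1 p.2) (f k) = 0
      rw [← classInner_symm, he k (Finset.inr_mem_disjSum.1 hk), map_zero]
    · exact he i (Finset.inr_mem_disjSum.1 hi) _ _
    · exact ho i (Finset.inr_mem_disjSum.1 hi) k (Finset.inr_mem_disjSum.1 hk) fun e => hne (congrArg _ e)
  have hW : ∀ i ∈ s', classInner (h.gamma E j) (F i) = W i := by
    rintro (p | i) hi
    · exact hw _ _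
    · exact hz i (Finset.inr_mem_disjSum.1 hi)
  obtain ⟨-, -, hn⟩ := signed_split s' F hF hFo (h.gamma_gen E j) W hW
  rw [h.gamma_norm E hj, hw] at hn
  have hre := congrArg Complex.re hn
  have hpos := classInner_self_re_nonneg (h.gamma E j - ∑ i ∈ s', (W i : ℂ) • F i)
  have hwR : (((∑ p : (↥K →* ℂˣ) × (↥Z →* ℂˣ), w p.1 p.2 ^ 2 : ℤ)) : ℝ) = 2 * (w 1 j : ℝ) + t := by
    rw [Fintype.sum_prod_type' (fun a b => w a b ^ 2), hsum]
    push_cast; ring
  have hW2 : ∑ i ∈ s', (W i : ℝ) ^ 2 =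
      ∑ p : (↥K →* ℂˣ) × (↥Z →* ℂˣ), (w p.1 p.2 : ℝ) ^ 2 + ∑ i ∈ s, (z i : ℝ) ^ 2 := Finset.sum_disjSum _ _ _
  simp only [Complex.sub_re, Complex.add_re, Complex.mul_re, Complex.re_ofNat,
    Complex.im_ofNat, Complex.intCast_re, Complex.intCast_im, Complex.ofReal_re, Complex.re_sum,
    ← Int.cast_pow, mul_zero, sub_zero] at hre
  push_cast at hre hwR
  have ht0 : (0 : ℝ) ≤ t := by exact_mod_cast hzero.1
  refine ⟨by linarith, fun heq => ?_⟩
  have ht : t = 0 := by
    have : (t : ℝ) ≤ 0 := by linarith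
    exact le_antisymm (by exact_mod_cast this) hzero.1
  have hw0 := hzero.2 ht
  refine ⟨fun a b => by rw [hw, hw0, Int.cast_zero], ?_⟩
  have hnorm : (classInner (h.gamma E j - ∑ i ∈ s', (W i : ℂ) • F i)
      (h.gamma E j - ∑ i ∈ s', (W i : ℂ) • F i)).re = 0 := by
    rw [ht] at hwR
    push_cast at hwR
    linarith
  have hzero' : h.gamma E j - ∑ i ∈ s', (W i : ℂ) • F i = 0 := by
    refine classInner_self_eq_zero ?_
    rw [classInner_self_re] at hnorm ⊢
    rw [Complex.ofReal_re] at hnorm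
    rw [hnorm, Complex.ofReal_zero]
  rw [sub_eq_zero.1 hzero', Finset.sum_disjSum]
  simp [W, F, hw0]

/-- Off the support of `τ β` the characters `η 1 j` are equal and rational integers. -/
theorem eta_eq_gamma {j : ↥Z →* ℂˣ} (hj : j ∈ layerJ Z N) {g : G} (hg : g ∉ conjSet (sigmaSet S)) :
    E.eta 1 j g = 1 + h.gamma E j g := by
  have e : indFun S (h.beta j) g = 0 := h.side.sigmaSet_isTI.ind_eq_zero (h.beta_supp hj.2) fun y hy => hg ⟨y, hy⟩
  simp only [gamma, Pi.add_apply, Pi.sub_apply, e]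
  ring

theorem eta_const {j l : ↥Z →* ℂˣ} (hj : j ∈ layerJ Z N) (hl : l ∈ layerJ Z N) {g : G}
    (hg : g ∉ conjSet (sigmaSet S)) : E.eta 1 j g = E.eta 1 l g := by
  rw [h.eta_eq_gamma E hj hg, h.eta_eq_gamma E hl hg, h.gamma_indep E hj hl]

theorem eta_int {j : ↥Z →* ℂˣ} (hj : j ∈ layerJ Z N) {g : G} (hg : g ∉ conjSet (sigmaSet S)) :
    ∃ n : ℤ, E.eta 1 j g = n := by
  refine gen_int_of_fixed (E.eta_gen 1 j) fun k hk => ?_
  rw [E.power 1 j k hk, show (1 : ↥K →* ℂˣ) ^ k = 1 from MonoidHom.ext fun _ => by simp,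
    h.eta_const E (h.pow_mem_layerJ hj hk) hj hg]

end IsLayer

end Cfsg.Agent.OddFT
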