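import Cfsg.Agent.Lib.Char.Exceptional
import Cfsg.Agent.Lib.OddChar.NormBound

/-!
Variance of integer functions: the shift lemma, the parity lemma, and Parseval on an abelian group.
-/

set_option autoImplicit false
set_option linter.unusedSectionVars false
set_option linter.unusedVariables false

open Cfsg Cfsg.Agent.Char Cfsg.Agent.OddChar
open scoped ComplexConjugate

namespace Cfsg.Agent.OddFT

universe u

variable {Λ : Type*} [Fintype Λ]

/-- The sum of squared deviations from the mean. -/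
noncomputable def gVar (f : Λ → ℤ) : ℝ :=
  ∑ l, (f l : ℝ) ^ 2 - (∑ l, (f l : ℝ)) ^ 2 / Fintype.card Λ

theorem two_mul_card_mul_gVar (f : Λ → ℤ) :
    2 * (Fintype.card Λ : ℝ) * gVar f = ∑ a, ∑ b, ((f a : ℝ) - f b) ^ 2 := by
  have h : ∑ a, ∑ b, ((f a : ℝ) - f b) ^ 2 =
      2 * (Fintype.card Λ : ℝ) * ∑ l, (f l : ℝ) ^ 2 - 2 * (∑ l, (f l : ℝ)) ^ 2 := by
    simp only [sub_sq, Finset.sum_add_distrib, Finset.sum_sub_distrib, Finset.sum_const,
      Finset.card_univ, nsmul_eq_mul, ← Finset.mul_sum, ← Finset.sum_mul]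
    ring
  rw [h]
  rcases Nat.eq_zero_or_pos (Fintype.card Λ) with hN | hN
  · haveI := Fintype.card_eq_zero_iff.1 hN
    simp [gVar]
  · have hN' : (Fintype.card Λ : ℝ) ≠ 0 := Nat.cast_ne_zero.2 hN.ne'
    rw [gVar]
    field_simp

theorem gVar_nonneg (f : Λ → ℤ) : 0 ≤ gVar f := by
  rcases Nat.eq_zero_or_pos (Fintype.card Λ) with hN | hN
  · haveI := Fintype.card_eq_zero_iff.1 hN
    simp [gVar]
  · refine nonneg_of_mul_nonneg_right (a := 2 * (Fintype.card Λ : ℝ)) ?_ (by positivity)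
    rw [two_mul_card_mul_gVar]
    positivity

theorem gVar_add_const (f : Λ → ℤ) (c : ℤ) : gVar (fun l => f l + c) = gVar f := by
  rcases Nat.eq_zero_or_pos (Fintype.card Λ) with hN | hN
  · haveI := Fintype.card_eq_zero_iff.1 hN
    simp [gVar]
  · refine mul_left_cancel₀ (a := 2 * (Fintype.card Λ : ℝ)) (by positivity) ?_
    rw [two_mul_card_mul_gVar, two_mul_card_mul_gVar]
    simp

theorem gVar_neg (f : Λ → ℤ) : gVar (fun l => -f l) = gVar f := by
  simp [gVar, Finset.sum_neg_distrib]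

/-- A function separating `A` from its complement has variance at least `|A| |Aᶜ| / |Λ|`. -/
theorem card_mul_le_gVar [DecidableEq Λ] (f : Λ → ℤ) (A : Finset Λ)
    (h : ∀ a ∈ A, ∀ b ∉ A, f a ≠ f b) :
    (A.card : ℝ) * (Fintype.card Λ - A.card) / Fintype.card Λ ≤ gVar f := by
  rcases Nat.eq_zero_or_pos (Fintype.card Λ) with hN | hN
  · simp [hN, gVar_nonneg]
  rw [div_le_iff₀ (by exact_mod_cast hN)]
  have h1 : ∀ a ∈ A, ∀ b ∈ Aᶜ, (1 : ℝ) ≤ ((f a : ℝ) - f b) ^ 2 ∧ (1 : ℝ) ≤ ((f b : ℝ) - f a) ^ 2 := by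
    intro a ha b hb
    have hne := h a ha b (Finset.mem_compl.1 hb)
    have h0 : 0 < (f a - f b) ^ 2 := pow_two_pos_of_ne_zero (sub_ne_zero.2 hne)
    have hc : ((1 : ℤ) : ℝ) ≤ (((f a - f b) ^ 2 : ℤ) : ℝ) := Int.cast_le.2 (by omega)
    push_cast at hc
    exact ⟨hc, by rwa [sub_sq_comm]⟩
  have h2 : ∀ s t : Finset Λ, (∀ a ∈ s, ∀ b ∈ t, (1 : ℝ) ≤ ((f a : ℝ) - f b) ^ 2) →
      (s.card : ℝ) * t.card ≤ ∑ a ∈ s, ∑ b : Λ, ((f a : ℝ) - f b) ^ 2 := by
    intro s t hst
    calc (s.card : ℝ) * t.card = ∑ a ∈ s, ∑ b ∈ t, (1 : ℝ) := by simp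
      _ ≤ ∑ a ∈ s, ∑ b ∈ t, ((f a : ℝ) - f b) ^ 2 :=
          Finset.sum_le_sum fun a ha => Finset.sum_le_sum fun b hb => hst a ha b hb
      _ ≤ _ := Finset.sum_le_sum fun a _ => Finset.sum_le_sum_of_subset_of_nonneg
          (Finset.subset_univ t) fun b _ _ => sq_nonneg _
  have h3 := two_mul_card_mul_gVar f
  rw [← Finset.sum_add_sum_compl A] at h3
  have h4 := h2 A Aᶜ fun a ha b hb => (h1 a ha b hb).1
  have h5 := h2 Aᶜ A fun b hb a ha => (h1 a ha b hb).2
  have h6 : (Aᶜ.card : ℝ) = (Fintype.card Λ : ℝ) - A.card := by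
    rw [Finset.card_compl, Nat.cast_sub (Finset.card_le_univ A)]
  rw [h6] at h4 h5
  linarith

theorem one_sub_inv_le_gVar {f : Λ → ℤ} {a b : Λ} (h : f a ≠ f b) :
    1 - 1 / (Fintype.card Λ : ℝ) ≤ gVar f := by
  classical
  set A := Finset.univ.filter fun x => f x = f a with hA
  have h1 : ∀ x ∈ A, ∀ y ∉ A, f x ≠ f y := fun x hx y hy e =>
    hy (by simp [hA, ← e, (Finset.mem_filter.1 hx).2])
  refine le_trans ?_ (card_mul_le_gVar f A h1)
  have ha : 1 ≤ A.card := Finset.card_pos.2 ⟨a, by simp [hA]⟩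
  have hb : A.card + 1 ≤ Fintype.card Λ :=
    Nat.succ_le_iff.2 (Finset.card_lt_univ_of_notMem (x := b) (by simpa [hA] using h.symm))
  have ha' : (1 : ℝ) ≤ A.card := by exact_mod_cast ha
  have hb' : (A.card : ℝ) + 1 ≤ Fintype.card Λ := by exact_mod_cast hb
  have hN : (0 : ℝ) < Fintype.card Λ := by linarith
  rw [le_div_iff₀ hN, sub_mul, one_mul, one_div, inv_mul_cancel₀ hN.ne']
  nlinarith [mul_nonneg (sub_nonneg.2 ha') (sub_nonneg.2 hb')]

/-- Two sets of points of opposite parity force variance. -/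
theorem parity_lemma (d : Λ → ℤ) (O O' : Finset Λ) (hdis : Disjoint O O') (hc : O.card ≤ O'.card)
    (hodd : ∀ a ∈ O, ∀ b ∈ O', Odd (d a - d b)) :
    (O.card : ℝ) * (1 - O.card / Fintype.card Λ) ≤ gVar d := by
  classical
  rcases O.eq_empty_or_nonempty with rfl | ⟨a₀, ha₀⟩
  · simp [gVar_nonneg]
  obtain ⟨b₀, hb₀⟩ : O'.Nonempty :=
    Finset.card_pos.1 (lt_of_lt_of_le (Finset.card_pos.2 ⟨a₀, ha₀⟩) hc)
  set A := Finset.univ.filter fun x => Even (d x - d a₀) with hA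
  have hsep : ∀ x ∈ A, ∀ y ∉ A, d x ≠ d y := fun x hx y hy e =>
    hy (by simpa [hA, ← e] using (Finset.mem_filter.1 hx).2)
  refine le_trans ?_ (card_mul_le_gVar d A hsep)
  have h1 : O ⊆ A := fun a ha => by
    rw [hA, Finset.mem_filter]
    refine ⟨Finset.mem_univ _, ?_⟩
    have := (hodd a ha b₀ hb₀).sub_odd (hodd a₀ ha₀ b₀ hb₀)
    simpa using this
  have h2 : A ⊆ O'ᶜ := fun x hx => Finset.mem_compl.2 fun hx' => by
    have h := hodd a₀ ha₀ x hx'
    have h' := (Finset.mem_filter.1 hx).2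
    rw [← neg_sub (d x) (d a₀), odd_neg] at h
    exact Int.not_even_iff_odd.2 h h'
  have h3 : (O.card : ℝ) ≤ A.card := by exact_mod_cast Finset.card_le_card h1
  have h4 : (A.card : ℝ) ≤ Fintype.card Λ - O.card := by
    have := Finset.card_le_card h2
    rw [Finset.card_compl] at this
    have e : A.card + O.card ≤ Fintype.card Λ := by
      have := Finset.card_le_univ O'
      omega
    have e' : (A.card : ℝ) + O.card ≤ Fintype.card Λ := by exact_mod_cast e
    linarith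
  have hN : (0 : ℝ) < Fintype.card Λ := Nat.cast_pos.2 (Fintype.card_pos_iff.2 ⟨a₀⟩)
  rw [le_div_iff₀ hN, mul_assoc, sub_mul, one_mul, div_mul_cancel₀ _ hN.ne']
  nlinarith [mul_nonneg (sub_nonneg.2 h3) (sub_nonneg.2 h4)]

/-- The variance controls any deviation on a subset, for integer functions. -/
theorem gVar_add_dev_nonneg [DecidableEq Λ] (d : Λ → ℤ) (U : Finset Λ) {κ : ℝ} (h0 : 0 ≤ κ)
    (h1 : κ ≤ 1) :
    0 ≤ gVar d + κ * (∑ l ∈ U, (d l : ℝ) - U.card * ((∑ l, (d l : ℝ)) / Fintype.card Λ)) := by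
  rcases Nat.eq_zero_or_pos (Fintype.card Λ) with hN | hN
  · haveI := Fintype.card_eq_zero_iff.1 hN
    simp [gVar, Finset.eq_empty_of_isEmpty U]
  have hN' : (0 : ℝ) < Fintype.card Λ := Nat.cast_pos.2 hN
  set μ : ℝ := (∑ l, (d l : ℝ)) / Fintype.card Λ with hμ
  set g : ℝ := Int.fract μ
  have hg0 : 0 ≤ g := Int.fract_nonneg μ
  have hg1 : g < 1 := Int.fract_lt_one μ
  set y : Λ → ℤ := fun l => d l - ⌊μ⌋
  have hsum : ∑ l, (y l : ℝ) = Fintype.card Λ * g := by
    have : ∑ l, (d l : ℝ) = Fintype.card Λ * μ := by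
      rw [hμ]
      field_simp
    simp only [y, Int.cast_sub, Finset.sum_sub_distrib, this, Finset.sum_const, Finset.card_univ,
      nsmul_eq_mul, g, Int.fract]
    ring
  have hvar : gVar d = ∑ l, (y l : ℝ) ^ 2 - Fintype.card Λ * g ^ 2 := by
    rw [← gVar_add_const d (-⌊μ⌋)]
    show gVar y = _
    rw [gVar, hsum]
    field_simp
  have hdev : ∑ l ∈ U, (d l : ℝ) - U.card * μ = ∑ l ∈ U, (y l : ℝ) - U.card * g := by
    simp only [y, Int.cast_sub, Finset.sum_sub_distrib, Finset.sum_const, nsmul_eq_mul, g, Int.fract]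
    ring
  rw [hdev, hvar]
  have hU : (Uᶜ.card : ℝ) = Fintype.card Λ - U.card := by
    rw [Finset.card_compl, Nat.cast_sub (Finset.card_le_univ U)]
  have hU0 : (0 : ℝ) ≤ U.card := Nat.cast_nonneg _
  rw [← Finset.sum_add_sum_compl U (fun l => (y l : ℝ) ^ 2)]
  rw [← Finset.sum_add_sum_compl U (fun l => (y l : ℝ))] at hsum
  have hint : ∀ z : ℤ, (z : ℝ) * (z - 1) ≥ 0 := fun z => by
    rcases le_or_gt z 0 with h | h
    · have hz : (z : ℝ) ≤ 0 := by exact_mod_cast h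
      exact mul_nonneg_of_nonpos_of_nonpos hz (by linarith)
    · have hz : (1 : ℝ) ≤ z := by exact_mod_cast h
      exact mul_nonneg (by linarith) (by linarith)
  rcases le_or_gt (κ * U.card) ((Fintype.card Λ : ℝ) * (1 - g)) with hcase | hcase
  · have e1 : ∑ l ∈ U, (y l : ℝ) ≤ ∑ l ∈ U, ((y l : ℝ) ^ 2 + κ * y l) :=
      Finset.sum_le_sum fun l _ => by
        rcases le_or_gt (y l) 0 with h | h
        · rcases h.lt_or_eq with h' | h'
          · have hz : (y l : ℝ) ≤ -1 := by exact_mod_cast (by omega : y l ≤ -1)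
            nlinarith
          · simp [h']
        · have hz : (1 : ℝ) ≤ y l := by exact_mod_cast h
          nlinarith [hint (y l)]
    have e2 : ∑ l ∈ Uᶜ, (y l : ℝ) ≤ ∑ l ∈ Uᶜ, (y l : ℝ) ^ 2 :=
      Finset.sum_le_sum fun l _ => by nlinarith [hint (y l)]
    rw [Finset.sum_add_distrib, ← Finset.mul_sum] at e1
    nlinarith [mul_nonneg hg0 (sub_nonneg.2 hcase)]
  · have e1 : ∑ l ∈ U, (1 + κ) * (y l : ℝ) ≤ ∑ l ∈ U, ((y l : ℝ) ^ 2 + κ * y l) :=
      Finset.sum_le_sum fun l _ => by nlinarith [hint (y l)]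
    have e2 : ∑ l ∈ Uᶜ, ((1 + κ) * (y l : ℝ) - κ) ≤ ∑ l ∈ Uᶜ, (y l : ℝ) ^ 2 :=
      Finset.sum_le_sum fun l _ => by
        rcases le_or_gt (y l) 0 with h | h
        · have hz : (y l : ℝ) ≤ 0 := by exact_mod_cast h
          nlinarith [mul_nonneg (by linarith : (0 : ℝ) ≤ 1 - y l) (by linarith : (0 : ℝ) ≤ κ - y l)]
        · have hz : (1 : ℝ) ≤ y l := by exact_mod_cast h
          nlinarith [mul_nonneg (by linarith : (0 : ℝ) ≤ y l - 1) (by linarith : (0 : ℝ) ≤ y l - κ)]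
    rw [Finset.sum_add_distrib, ← Finset.mul_sum, ← Finset.mul_sum] at e1
    rw [Finset.sum_sub_distrib, ← Finset.mul_sum, Finset.sum_const, nsmul_eq_mul, hU] at e2
    have e3 : 0 ≤ (Fintype.card Λ : ℝ) * g - κ * Fintype.card Λ + κ * U.card := by
      nlinarith [mul_nonneg hN'.le (sub_nonneg.2 h1)]
    nlinarith [mul_nonneg (sub_nonneg.2 hg1.le) e3]

/-- Shifting by `s` on each of many disjoint sets of size `u` costs variance on average. -/
theorem shift_lemma [DecidableEq Λ] {J : Type*} [Fintype J] (O : J → Finset Λ)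
    (hdis : ∀ i j, i ≠ j → Disjoint (O i) (O j)) {u : ℕ} (hO : ∀ j, (O j).card = u) (d : Λ → ℤ)
    (s : ℕ) (hs : 2 * s ≤ Fintype.card J) :
    (Fintype.card J : ℝ) * (s : ℝ) ^ 2 * (u * (1 - u / Fintype.card Λ)) ≤
      ∑ j, gVar (fun l => d l + if l ∈ O j then (s : ℤ) else 0) := by
  classical
  rcases Nat.eq_zero_or_pos (Fintype.card J) with hJ | hJ
  · haveI := Fintype.card_eq_zero_iff.1 hJ
    simp [hJ]
  have hJ' : (0 : ℝ) < Fintype.card J := Nat.cast_pos.2 hJ
  set U : Finset Λ := Finset.univ.biUnion O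
  have hUsum : ∑ l ∈ U, (d l : ℝ) = ∑ j, ∑ l ∈ O j, (d l : ℝ) :=
    Finset.sum_biUnion fun i _ j _ hij => hdis i j hij
  have hUcard : U.card = Fintype.card J * u := by
    rw [Finset.card_biUnion fun i _ j _ hij => hdis i j hij, Finset.sum_congr rfl fun j _ => hO j]
    simp
  set μ : ℝ := (∑ l, (d l : ℝ)) / Fintype.card Λ with hμ
  have hexp : ∀ j, gVar (fun l => d l + if l ∈ O j then (s : ℤ) else 0) =
      gVar d + 2 * s * (∑ l ∈ O j, (d l : ℝ) - u * μ) +
        (s : ℝ) ^ 2 * (u * (1 - u / Fintype.card Λ)) := by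
    intro j
    have a1 : ∑ l, ((d l + if l ∈ O j then (s : ℤ) else 0 : ℤ) : ℝ) = ∑ l, (d l : ℝ) + u * s := by
      push_cast
      rw [Finset.sum_add_distrib]
      simp [Finset.sum_ite_mem, hO]
    have a2 : ∑ l, ((d l + if l ∈ O j then (s : ℤ) else 0 : ℤ) : ℝ) ^ 2 =
        ∑ l, (d l : ℝ) ^ 2 + 2 * s * ∑ l ∈ O j, (d l : ℝ) + u * (s : ℝ) ^ 2 := by
      have e : ∀ l, ((d l + if l ∈ O j then (s : ℤ) else 0 : ℤ) : ℝ) ^ 2 =
          (d l : ℝ) ^ 2 + if l ∈ O j then 2 * s * (d l : ℝ) + (s : ℝ) ^ 2 else 0 := fun l => by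
        split_ifs <;> push_cast <;> ring
      rw [Finset.sum_congr rfl fun l _ => e l, Finset.sum_add_distrib, Finset.sum_ite_mem,
        Finset.univ_inter, Finset.sum_add_distrib, ← Finset.mul_sum, Finset.sum_const, hO,
        nsmul_eq_mul]
      ring
    simp only [gVar, a1, a2, hμ]
    ring
  rw [Finset.sum_congr rfl fun j _ => hexp j, Finset.sum_add_distrib, Finset.sum_add_distrib,
    Finset.sum_const, Finset.sum_const, Finset.card_univ, nsmul_eq_mul, nsmul_eq_mul,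
    ← Finset.mul_sum, Finset.sum_sub_distrib, ← hUsum, Finset.sum_const, Finset.card_univ,
    nsmul_eq_mul]
  have hκ := gVar_add_dev_nonneg d U (κ := 2 * s / Fintype.card J) (by positivity) (by
    rw [div_le_one hJ']
    exact_mod_cast hs)
  rw [hUcard, Nat.cast_mul, ← hμ] at hκ
  have := mul_nonneg hJ'.le hκ
  rw [mul_add, ← mul_assoc, mul_div_cancel₀ _ hJ'.ne'] at this
  linarith

section Abelian

variable {P : Type u} [Group P] [Fintype P]

theorem exists_hom_coords {f : P → ℂ} (hf : IsGeneralizedCharacter P f) :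
    ∃ d : (P →* ℂˣ) → ℤ, ∀ l, classInner f (fun x => (l x : ℂ)) = d l := by
  obtain ⟨z, -, hz⟩ := exists_int_coords hf
  exact ⟨fun l => z ⟨_, isIrrCharacter_linear l⟩, fun l => hz ⟨_, isIrrCharacter_linear l⟩⟩

theorem parseval_hom [Fintype (P →* ℂˣ)] [DecidableEq P] (hab : ∀ a b : P, a * b = b * a) {f : P → ℂ}
    {d : (P →* ℂˣ) → ℤ} (hd : ∀ l, classInner f (fun x => (l x : ℂ)) = d l) :
    ∑ x : P with x ≠ 1, ‖f x‖ ^ 2 = (Nat.card P : ℝ) * gVar d := by
  have hP : (Nat.card P : ℂ) ≠ 0 := Nat.cast_ne_zero.2 Nat.card_pos.ne'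
  have hcomm : commutator P = ⊥ := by
    rw [commutator_def, Subgroup.commutator_eq_bot_iff_le_centralizer]
    exact fun x _ y _ => hab y x
  have horth : ∀ x y : P, ∑ l : P →* ℂˣ, (l x : ℂ) * conj (l y : ℂ) =
      if x = y then (Nat.card P : ℂ) else 0 := by
    intro x y
    classical
    rw [Finset.sum_congr rfl fun l _ => show (l x : ℂ) * conj (l y : ℂ) = (l (x * y⁻¹) : ℂ) by
      rw [map_mul, Units.val_mul]
      congr 1
      exact (char_inv (irr_isCharacter (isIrrCharacter_linear l)) y).symm]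
    rw [sum_hom_eq, hcomm, Subgroup.index_bot]
    simp only [Subgroup.mem_bot, mul_inv_eq_one]
  have hinv : ∀ x, f x = ∑ l : P →* ℂˣ, (d l : ℂ) * (l x : ℂ) := by
    intro x
    calc f x = (Nat.card P : ℂ)⁻¹ * ∑ y, f y * (if x = y then (Nat.card P : ℂ) else 0) := by
          simp [mul_ite]
          field_simp
      _ = ∑ l : P →* ℂˣ, (d l : ℂ) * (l x : ℂ) := by
          simp only [← horth, ← hd, classInner, Finset.mul_sum, Finset.sum_mul]
          rw [Finset.sum_comm]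
          exact Finset.sum_congr rfl fun l _ => Finset.sum_congr rfl fun y _ => by ring
  have hnorm : classInner f f = ((∑ l, (d l : ℝ) ^ 2 : ℝ) : ℂ) := by
    have e : classInner f f = classInner (fun x => ∑ l : P →* ℂˣ, (d l : ℂ) * (l x : ℂ)) f := by
      congr 1
      exact funext hinv
    rw [e]
    push_cast
    simp only [classInner, Finset.sum_mul, Finset.mul_sum]
    rw [Finset.sum_comm]
    refine Finset.sum_congr rfl fun l _ => ?_
    have h := congrArg conj (hd l)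
    rw [map_intCast] at h
    rw [sq]
    nth_rw 3 [← h]
    simp only [classInner, map_mul, map_sum, map_inv₀, map_natCast, Complex.conj_conj, Finset.mul_sum]
    exact Finset.sum_congr rfl fun y _ => by ring
  rw [classInner_self_re, Complex.ofReal_inj] at hnorm
  have h1 : f 1 = ((∑ l, (d l : ℝ) : ℝ) : ℂ) := by
    rw [hinv 1]
    simp
  have htot : ∑ x : P, ‖f x‖ ^ 2 = ‖f 1‖ ^ 2 + ∑ x : P with x ≠ 1, ‖f x‖ ^ 2 := by
    rw [Finset.filter_ne']
    exact (Finset.add_sum_erase _ (fun x => ‖f x‖ ^ 2) (Finset.mem_univ (1 : P))).symm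
  rw [h1, Complex.norm_real, Real.norm_eq_abs, sq_abs] at htot
  have hcard : (Fintype.card (P →* ℂˣ) : ℝ) = Nat.card P := by
    rw [← Nat.card_eq_fintype_card, card_hom_units, hcomm, Subgroup.index_bot]
  have hP' : (Nat.card P : ℝ) ≠ 0 := Nat.cast_ne_zero.2 Nat.card_pos.ne'
  rw [gVar, hcard, ← hnorm]
  field_simp
  linarith

end Abelian

end Cfsg.Agent.OddFT
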