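import Cfsg.Agent.Lib.OddChar.FT.LayerGamma
import Cfsg.Agent.Lib.OddChar.FT.Shift

/-!
Lower bounds for the part of the norm carried by the conjugates of `P C` outside `N C`.
-/

set_option autoImplicit false
set_option linter.unusedSectionVars false
set_option linter.unusedVariables false
set_option linter.style.haveILetI false

open Cfsg Cfsg.Agent.Char Cfsg.Agent.OddChar
open scoped ComplexConjugate commutatorElement Classical

namespace Cfsg.Agent.OddFT

universe u

variable {G : Type u} [Group G] [Fintype G]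

/-- The part of the norm on the conjugates of a set with controlled fusion. -/
theorem IsTI.dens_conjSet {M : Subgroup G} {X : Set G} (hT : IsTI M X) {f : G → ℂ}
    (hf : IsClassFunction G f) :
    dens (conjSet X) f = (Nat.card M : ℝ)⁻¹ * ∑ x ∈ (Finset.univ : Finset M).filter (fun x : M => (x : G) ∈ X), ‖f (x : G)‖ ^ 2 := by
  set F : G → ℂ := fun g => ((‖f g‖ ^ 2 : ℝ) : ℂ) with hF
  have hFc : IsClassFunction G F := fun a b => by simp only [hF, hf a b]
  set α : M → ℂ := fun x => if (x : G) ∈ X then 1 else 0 with hα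
  have hs : ∀ x : M, (x : G) ∉ X → α x = 0 := fun x hx => if_neg hx
  have hαc : IsClassFunction M α := fun a b => by
    simp only [hα]
    refine if_congr ⟨fun h => ?_, fun h => ?_⟩ rfl rfl
    · have := hT.conj_mem _ (M.inv_mem b.2) _ h
      simpa [mul_assoc] using this
    · have := hT.conj_mem _ b.2 _ h
      simpa using this
  have hind : indFun M α = fun g => if g ∈ conjSet X then 1 else 0 := by
    funext g
    split_ifs with hg
    · obtain ⟨x, hx⟩ := hg
      rw [← (isClassFunction_indFun M α) g x,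
        show x * g * x⁻¹ = ((⟨_, hT.subset _ hx⟩ : M) : G) from rfl, hT.ind_apply hαc hs hx, hα]
      exact if_pos hx
    · exact hT.ind_eq_zero hs fun y hy => hg ⟨y, hy⟩
  have e := Char.frobenius M α hFc
  rw [hind] at e
  have e1 : classInner (fun g : G => if g ∈ conjSet X then (1 : ℂ) else 0) F = (dens (conjSet X) f : ℂ) := by
    rw [classInner, dens, Complex.ofReal_mul, Complex.ofReal_inv, Complex.ofReal_natCast, Complex.ofReal_sum,
      Finset.sum_filter]
    congr 1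
    exact Finset.sum_congr rfl fun g _ => by split_ifs <;> simp [hF]
  have e2 : classInner α (fun x : M => F x) =
      (((Nat.card M : ℝ)⁻¹ * ∑ x ∈ (Finset.univ : Finset M).filter (fun x : M => (x : G) ∈ X), ‖f (x : G)‖ ^ 2 : ℝ) : ℂ) := by
    rw [classInner, Complex.ofReal_mul, Complex.ofReal_inv, Complex.ofReal_natCast, Complex.ofReal_sum,
      Finset.sum_filter]
    congr 1
    exact Finset.sum_congr rfl fun x _ => by simp only [hα]; split_ifs <;> simp [hF]
  rw [e1, e2] at e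
  exact_mod_cast e

/-- The variance is at most the sum of squared distances to any number. -/
theorem gVar_le_dist {Λ : Type*} [Fintype Λ] (d : Λ → ℤ) (t : ℂ) :
    gVar d ≤ ∑ l, ‖(d l : ℂ) - t‖ ^ 2 := by
  rcases Nat.eq_zero_or_pos (Fintype.card Λ) with hN | hN
  · haveI := Fintype.card_eq_zero_iff.1 hN
    simp [gVar]
  have hN' : (0 : ℝ) < Fintype.card Λ := Nat.cast_pos.2 hN
  calc gVar d ≤ ∑ l, ((d l : ℝ) - t.re) ^ 2 := by
        have e : ∑ l, ((d l : ℝ) - t.re) ^ 2 =
            ∑ l, (d l : ℝ) ^ 2 - 2 * t.re * ∑ l, (d l : ℝ) + Fintype.card Λ * t.re ^ 2 := by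
          simp only [sub_sq, Finset.sum_add_distrib, Finset.sum_sub_distrib, Finset.sum_const, Finset.card_univ,
            nsmul_eq_mul, Finset.mul_sum]
          congr 1
          congr 1
          exact Finset.sum_congr rfl fun l _ => by ring
        rw [e, gVar]
        have h0 : 0 ≤ (∑ l, (d l : ℝ) - Fintype.card Λ * t.re) ^ 2 / Fintype.card Λ :=
          div_nonneg (sq_nonneg _) hN'.le
        have e2 : (∑ l, (d l : ℝ) - Fintype.card Λ * t.re) ^ 2 / Fintype.card Λ =
            (∑ l, (d l : ℝ)) ^ 2 / Fintype.card Λ - 2 * t.re * ∑ l, (d l : ℝ) + Fintype.card Λ * t.re ^ 2 := by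
          field_simp
          ring
        linarith
    _ ≤ _ := Finset.sum_le_sum fun l _ => by
        rw [Complex.sq_norm, Complex.normSq_apply]
        simp only [Complex.sub_re, Complex.intCast_re, Complex.sub_im, Complex.intCast_im, zero_sub]
        nlinarith [mul_self_nonneg t.im]

/-- Bessel's inequality for an orthonormal family of functions. -/
theorem bessel_fun {A : Type u} [Group A] [Fintype A] {ι : Type*} [Fintype ι] (e : ι → A → ℂ)
    (h1 : ∀ i, classInner (e i) (e i) = 1) (h0 : ∀ i k, i ≠ k → classInner (e i) (e k) = 0) (g : A → ℂ) :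
    ∑ i, ‖classInner g (e i)‖ ^ 2 ≤ (classInner g g).re := by
  set v := g - ∑ i, classInner g (e i) • e i with hv
  have h3 : ∀ i, classInner v (e i) = 0 := fun i => by
    rw [hv, classInner_sub_left, classInner_sum_left, Finset.sum_eq_single i (fun k _ hk => by
      rw [classInner_smul_left, h0 k i hk, mul_zero]) (by simp), classInner_smul_left, h1, mul_one, sub_self]
  have h4 : classInner v v = classInner g g - ∑ i, ((‖classInner g (e i)‖ ^ 2 : ℝ) : ℂ) := by
    nth_rewrite 2 [hv]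
    rw [classInner_sub_right, classInner_sum_right, Finset.sum_eq_zero (fun i _ => by
      rw [classInner_smul_right, h3 i, mul_zero]), sub_zero, hv, classInner_sub_left, classInner_sum_left]
    congr 1
    refine Finset.sum_congr rfl fun i _ => ?_
    rw [classInner_smul_left, ← classInner_symm g (e i)]
    rw [Complex.mul_conj, Complex.normSq_eq_norm_sq]
  have := classInner_self_re_nonneg v
  rw [h4, Complex.sub_re, Complex.re_sum] at this
  simp only [Complex.ofReal_re] at this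
  linarith

variable {S K Z P U N : Subgroup G} {r : ℕ}

/-- The linear characters of `P` trivial on `N`. -/
abbrev layerDual (P N : Subgroup G) : Type u := {l : ↥P →* ℂˣ // ∀ p : P, (p : G) ∈ N → l p = 1}

/-- The part `P C` outside `N C`. -/
def layerX (P U N : Subgroup G) : Set G :=
  {x | ∃ p ∈ P, ∃ c ∈ layerC P U N, p ∉ N ∧ x = p * c}

namespace IsLayer

variable (h : IsLayer S K Z P U N r)
include h

theorem C_le_S : layerC P U N ≤ S := h.C_le.trans h.side.U_le

theorem PC_unique {p p' c c' : G} (hp : p ∈ P) (hp' : p' ∈ P) (hc : c ∈ layerC P U N)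
    (hc' : c' ∈ layerC P U N) (e : p * c = p' * c') : p = p' ∧ c = c' := by
  obtain ⟨e1, e2, -⟩ := h.PCK_unique hp hp' hc hc' (one_mem K) (one_mem K) (by rw [e])
  exact ⟨e1, e2⟩

theorem mem_PC {x : G} : x ∈ P ⊔ layerC P U N ↔ ∃ p ∈ P, ∃ c ∈ layerC P U N, x = p * c := by
  refine ⟨fun hx => ?_, fun ⟨p, hp, c, hc, e⟩ => e ▸ mul_mem (Subgroup.mem_sup_left hp) (Subgroup.mem_sup_right hc)⟩
  rw [← SetLike.mem_coe, Subgroup.coe_mul_of_right_le_normalizer_left _ _ (h.C_le_S.trans h.side.P_norm)] at hx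
  obtain ⟨p, hp, c, hc, e⟩ := hx
  exact ⟨p, hp, c, hc, e.symm⟩

/-- The conjugation action of `S` preserves the set `P C ∖ N C`. -/
theorem layerX_conj {s x : G} (hs : s ∈ S) (hx : x ∈ layerX P U N) : s * x * s⁻¹ ∈ layerX P U N := by
  obtain ⟨p, hp, c, hc, hpN, rfl⟩ := hx
  obtain ⟨a, ha, u, hu, k, hk, rfl⟩ := h.side.mul s hs
  set p' := a * (u * (k * p * k⁻¹) * u⁻¹) * a⁻¹ with hp'
  set c' := k * c * k⁻¹ with hc'
  have hc'C : c' ∈ layerC P U N := h.C_conj hk hc
  have hpP : p' ∈ P := mul_mem (mul_mem ha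
    (h.side.P_conj (h.side.U_le hu) (h.side.P_conj (h.side.K_le hk) hp))) (inv_mem ha)
  have hn : a * c' * a⁻¹ * c'⁻¹ ∈ N := (h.mem_C.1 hc'C).2 a ha
  refine ⟨p' * (a * c' * a⁻¹ * c'⁻¹), mul_mem hpP (h.le hn), c', hc'C, fun hbad => hpN ?_, ?_⟩
  · have h1 : p' ∈ N := by simpa [mul_assoc] using mul_mem hbad (inv_mem hn)
    have h2 := h.N_conj (S.inv_mem hs) h1
    rwa [show (a * u * k)⁻¹ * p' * (a * u * k)⁻¹⁻¹ = p by rw [hp']; group] at h2
  · have hcu : u * c' * u⁻¹ = c' := by rw [h.side.comm_U hu (h.C_le hc'C), mul_inv_cancel_right]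
    calc a * u * k * (p * c) * (a * u * k)⁻¹ = p' * (a * (u * c' * u⁻¹) * a⁻¹) := by
          rw [hp', hc']; group
      _ = _ := by rw [hcu]; group

theorem pow_mod {p c : G} (hp : p ∈ P) (hc : c ∈ layerC P U N) (n : ℕ) :
    ∃ p' ∈ P, (p * c) ^ n = p' * c ^ n ∧ p' * (p ^ n)⁻¹ ∈ N := by
  induction n with
  | zero => exact ⟨1, one_mem _, by simp, by simp⟩
  | succ n ih =>
    obtain ⟨p', hp', e, hN'⟩ := ih
    have hcn := (layerC P U N).pow_mem hc n
    refine ⟨p' * (c ^ n * p * (c ^ n)⁻¹), mul_mem hp' (h.side.P_conj (h.C_le_S hcn) hp), ?_, ?_⟩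
    · rw [pow_succ, e, pow_succ]; group
    · rw [show p' * (c ^ n * p * (c ^ n)⁻¹) * (p ^ (n + 1))⁻¹ =
        p' * (c ^ n * p * (c ^ n)⁻¹ * p⁻¹) * p'⁻¹ * (p' * (p ^ n)⁻¹) by rw [pow_succ]; group]
      exact mul_mem (h.N_conj (h.side.P_le_S hp') (h.C_act hcn hp)) hN'

theorem layerX_sub : layerX P U N ⊆ sigmaSet S := by
  rintro x ⟨p, hp, c, hc, hpN, rfl⟩
  refine ⟨S.mul_mem (h.side.P_le_S hp) (h.C_le_S hc), Nat.card ↥(layerC P U N), ?_⟩
  obtain ⟨p', hp', e, hN'⟩ := h.pow_mod hp hc (Nat.card ↥(layerC P U N))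
  have hc1 : c ^ Nat.card ↥(layerC P U N) = 1 :=
    congrArg Subtype.val (pow_card_eq_one' (x := (⟨c, hc⟩ : ↥(layerC P U N))))
  rw [hc1, mul_one] at e
  rw [e]
  refine ⟨h.side.P_le hp', fun e1 => hpN ?_⟩
  rw [e1, one_mul] at hN'
  have h1 : p ^ Nat.card ↥(layerC P U N) ∈ N := (Subgroup.inv_mem_iff N).1 hN'
  have hco := Nat.gcd_eq_gcd_ab (Nat.card ↥(layerC P U N)) r
  rw [show Nat.gcd (Nat.card ↥(layerC P U N)) r = 1 from h.coprime_cr, Nat.cast_one] at hco
  rw [← zpow_one p, hco, zpow_add, zpow_mul, zpow_mul, zpow_natCast, zpow_natCast]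
  exact mul_mem (N.zpow_mem h1 _) (N.zpow_mem (h.pow p hp) _)

theorem layerX_isTI : IsTI S (layerX P U N) :=
  h.side.sigmaSet_isTI.mono h.layerX_sub fun s hs x hx => h.layerX_conj hs hx

theorem layerX_power {x : G} (hx : x ∈ layerX P U N) {k : ℕ} (hk : k.Coprime (Nat.card G)) :
    x ^ k ∈ layerX P U N := by
  obtain ⟨p, hp, c, hc, hpN, rfl⟩ := hx
  obtain ⟨p', hp', e, hN'⟩ := h.pow_mod hp hc k
  refine ⟨p', hp', c ^ k, Subgroup.pow_mem _ hc k, fun hbad => hpN ?_, e⟩
  have h1 : p ^ k ∈ N := by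
    have := mul_mem (inv_mem hN') hbad
    simpa [mul_assoc] using this
  obtain ⟨m, hm⟩ := exists_pow_eq_self_of_coprime
    (hk.coprime_dvd_right (orderOf_dvd_natCard p))
  rw [← hm]
  exact N.pow_mem h1 m

/-- The extension to `P C` of a linear character of `P` trivial on `N`. -/
noncomputable def ext (l : layerDual P N) : ↥(P ⊔ layerC P U N) →* ℂˣ :=
  MonoidHom.mk' (fun x => l.1 ⟨(h.mem_PC.1 x.2).choose, (h.mem_PC.1 x.2).choose_spec.1⟩) fun x y => by
    obtain ⟨hp, c, hc, ex⟩ := (h.mem_PC.1 x.2).choose_spec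
    obtain ⟨hp', c', hc', ey⟩ := (h.mem_PC.1 y.2).choose_spec
    obtain ⟨hp'', c'', hc'', exy⟩ := (h.mem_PC.1 (x * y).2).choose_spec
    set p := (h.mem_PC.1 x.2).choose
    set p' := (h.mem_PC.1 y.2).choose
    set p'' := (h.mem_PC.1 (x * y).2).choose
    have hcp : c * p' * c⁻¹ ∈ P := h.side.P_conj (h.C_le_S hc) hp'
    have e := (h.PC_unique hp'' (mul_mem hp hcp) hc'' (mul_mem hc hc') (by
      rw [← exy, Subgroup.coe_mul, ex, ey]; group)).1
    have h1 : l.1 (⟨c * p' * c⁻¹, hcp⟩ * (⟨p', hp'⟩ : P)⁻¹) = 1 := l.2 _ (h.C_act hc hp')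
    rw [map_mul, map_inv, mul_inv_eq_one] at h1
    rw [← h1, ← map_mul]
    exact congrArg l.1 (Subtype.ext e)

theorem ext_apply (l : layerDual P N) (x : ↥(P ⊔ layerC P U N)) (p : P) (c : ↥(layerC P U N))
    (e : (x : G) = (p : G) * c) : h.ext l x = l.1 p := by
  obtain ⟨hp, c', hc', ex⟩ := (h.mem_PC.1 x.2).choose_spec
  show l.1 ⟨(h.mem_PC.1 x.2).choose, hp⟩ = l.1 p
  exact congrArg l.1 (Subtype.ext (h.PC_unique hp p.2 hc' c.2 (ex.symm.trans e)).1)

theorem ext_injective : Function.Injective h.ext := fun l m e => Subtype.ext (MonoidHom.ext fun p => by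
  rw [← h.ext_apply l ⟨p, Subgroup.mem_sup_left p.2⟩ p 1 (by simp),
    ← h.ext_apply m ⟨p, Subgroup.mem_sup_left p.2⟩ p 1 (by simp), e])

/-- Outside `P C ∖ N C` the extensions are trivial. -/
theorem ext_eq_one (l : layerDual P N) {x : ↥(P ⊔ layerC P U N)} (hx : (x : G) ∉ layerX P U N) :
    h.ext l x = 1 := by
  obtain ⟨p, hp, c, hc, e⟩ := h.mem_PC.1 x.2
  have hpN : p ∈ N := by
    by_contra hpN
    exact hx ⟨p, hp, c, hc, hpN, e⟩
  rw [h.ext_apply l x ⟨p, hp⟩ ⟨c, hc⟩ e]
  exact l.2 _ hpN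

theorem card_PC : Nat.card ↥(P ⊔ layerC P U N) = Nat.card P * Nat.card ↥(layerC P U N) := by
  rw [← Nat.card_prod]
  refine (Nat.card_congr (Equiv.ofBijective
    (fun t : ↥P × ↥(layerC P U N) => (⟨_, mul_mem (Subgroup.mem_sup_left t.1.2)
      (Subgroup.mem_sup_right t.2.2)⟩ : ↥(P ⊔ layerC P U N))) ⟨fun a b e => ?_, fun x => ?_⟩)).symm
  · obtain ⟨e1, e2⟩ := h.PC_unique a.1.2 b.1.2 a.2.2 b.2.2 (congrArg Subtype.val e)
    exact Prod.ext (Subtype.ext e1) (Subtype.ext e2)
  · obtain ⟨p, hp, c, hc, e⟩ := h.mem_PC.1 x.2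
    exact ⟨(⟨p, hp⟩, ⟨c, hc⟩), Subtype.ext e.symm⟩

/-- The number of characters of `P / N`. -/
theorem card_layerDual : Nat.card (layerDual P N) = r ^ Nat.card K := by
  haveI : (N.subgroupOf P).Normal :=
    Subgroup.normal_subgroupOf_of_le_normalizer (h.side.P_le_S.trans h.norm)
  have hbot : commutator (↥P ⧸ N.subgroupOf P) = ⊥ := by
    rw [commutator_def, eq_bot_iff]
    refine Subgroup.commutator_le.2 fun a _ b _ => ?_
    induction a using QuotientGroup.induction_on with | _ a =>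
    induction b using QuotientGroup.induction_on with | _ b =>
    rw [Subgroup.mem_bot, commutatorElement_def, ← QuotientGroup.mk_inv, ← QuotientGroup.mk_inv,
      ← QuotientGroup.mk_mul, ← QuotientGroup.mk_mul, ← QuotientGroup.mk_mul, QuotientGroup.eq_one_iff,
      Subgroup.mem_subgroupOf]
    simpa [mul_assoc] using h.comm _ a.2 _ b.2
  have hidx : (N.subgroupOf P).index = r ^ Nat.card K := by
    refine Nat.eq_of_mul_eq_mul_left (Nat.card_pos (α := N.subgroupOf P)) ?_
    rw [Subgroup.card_mul_index, Nat.card_congr (Subgroup.subgroupOfEquivOfLe h.le).toEquiv, h.card_N_mul]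
  let e : ((↥P ⧸ N.subgroupOf P) →* ℂˣ) ≃ layerDual P N :=
    { toFun := fun f => ⟨f.comp (QuotientGroup.mk' _), fun p hp => by
        rw [MonoidHom.comp_apply, QuotientGroup.mk'_apply,
          (QuotientGroup.eq_one_iff p).2 (Subgroup.mem_subgroupOf.2 hp), map_one]⟩
      invFun := fun l => QuotientGroup.lift _ l.1 fun p hp => l.2 p (Subgroup.mem_subgroupOf.1 hp)
      left_inv := fun f => MonoidHom.ext fun x => by
        induction x using QuotientGroup.induction_on with | _ p => rfl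
      right_inv := fun l => Subtype.ext (MonoidHom.ext fun p => rfl) }
  rw [← Nat.card_congr e, card_hom_units, hbot, Subgroup.index_bot]
  exact hidx

/-- The mass lemma. -/
theorem mass {f : G → ℂ} (hf : IsClassFunction G f) (d : layerDual P N → ℤ)
    (hd : ∀ l, classInner (fun x : ↥(P ⊔ layerC P U N) => f x) (fun x => (h.ext l x : ℂ)) = d l) :
    gVar d / ((Nat.card U : ℝ) / Nat.card ↥(layerC P U N) * Nat.card K) ≤ dens (conjSet (layerX P U N)) f := by
  set M := P ⊔ layerC P U N with hMdef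
  rw [h.layerX_isTI.dens_conjSet hf]
  set g : M → ℂ := fun x => if (x : G) ∈ layerX P U N then f x else 0 with hg
  set t : ℂ := (Nat.card M : ℂ)⁻¹ *
    ∑ x ∈ (Finset.univ : Finset M).filter (fun x : M => ¬(x : G) ∈ layerX P U N), f (x : G) with ht
  have hgl : ∀ l, classInner g (fun x => (h.ext l x : ℂ)) = (d l : ℂ) - t := by
    intro l
    rw [← hd l, classInner, classInner, ht, ← mul_sub, Finset.sum_filter, ← Finset.sum_sub_distrib]
    congr 1
    refine Finset.sum_congr rfl fun x _ => ?_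
    simp only [hg]
    split_ifs with hx
    · simp
    · simp [h.ext_eq_one l hx]
  have hb := bessel_fun (fun l : layerDual P N => fun x : M => (h.ext l x : ℂ))
    (fun l => irr_self (isIrrCharacter_linear (h.ext l)))
    (fun l m hlm => by
      have := irrC_orth (G := ↥M) ⟨_, isIrrCharacter_linear (h.ext l)⟩ ⟨_, isIrrCharacter_linear (h.ext m)⟩
      rw [if_neg fun e => hlm (h.ext_injective (MonoidHom.ext fun x => Units.ext
        (congrFun (congrArg Subtype.val e) x)))] at this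
      exact this) g
  simp only [hgl] at hb
  have hv := (gVar_le_dist d t).trans hb
  rw [classInner_self_re, Complex.ofReal_re] at hv
  have hMS : M ≤ S := sup_le h.side.P_le_S h.C_le_S
  have hsum : ∑ x ∈ (Finset.univ : Finset S).filter (fun x : S => (x : G) ∈ layerX P U N), ‖f (x : G)‖ ^ 2 = ∑ x : M, ‖g x‖ ^ 2 := by
    have e : ∑ x : M, ‖g x‖ ^ 2 =
        ∑ x ∈ (Finset.univ : Finset M).filter (fun x : M => (x : G) ∈ layerX P U N), ‖f (x : G)‖ ^ 2 := by
      rw [Finset.sum_filter]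
      exact Finset.sum_congr rfl fun x _ => by simp only [hg]; split_ifs <;> simp
    rw [e]
    refine (Finset.sum_bij (fun x _ => Subgroup.inclusion hMS x) (fun x hx => ?_)
      (fun a _ b _ hab => Subgroup.inclusion_injective hMS hab) (fun y hy => ?_) fun x _ => rfl).symm
    · simp only [Finset.mem_filter, Finset.mem_univ, true_and] at hx ⊢
      exact hx
    · simp only [Finset.mem_filter, Finset.mem_univ, true_and] at hy
      obtain ⟨p, hp, c, hc, -, e⟩ := id hy
      exact ⟨⟨y, h.mem_PC.2 ⟨p, hp, c, hc, e⟩⟩, by simpa using hy, rfl⟩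
  rw [hsum]
  have hcardM : (Nat.card M : ℝ) = Nat.card P * Nat.card ↥(layerC P U N) := by
    rw [hMdef, h.card_PC, Nat.cast_mul]
  have hU : (0 : ℝ) < Nat.card U := Nat.cast_pos.2 Nat.card_pos
  have hK : (0 : ℝ) < Nat.card K := Nat.cast_pos.2 Nat.card_pos
  have hC : (0 : ℝ) < Nat.card ↥(layerC P U N) := Nat.cast_pos.2 Nat.card_pos
  have hP : (0 : ℝ) < Nat.card P := Nat.cast_pos.2 Nat.card_pos
  have hv' : (Nat.card M : ℝ) * gVar d ≤ ∑ x : M, ‖g x‖ ^ 2 := by
    rw [← le_inv_mul_iff₀ (Nat.cast_pos.2 Nat.card_pos)]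
    exact hv
  rw [h.side.card_eq, Nat.cast_mul, Nat.cast_mul]
  rw [hcardM] at hv'
  rw [div_le_iff₀ (by positivity)]
  calc gVar d = (Nat.card P * Nat.card ↥(layerC P U N) * gVar d) / (Nat.card P * Nat.card ↥(layerC P U N)) := by
        field_simp
    _ ≤ (∑ x : M, ‖g x‖ ^ 2) / (Nat.card P * Nat.card ↥(layerC P U N)) := by gcongr
    _ = _ := by field_simp

/-- The coefficients on `P C` of a generalized character. -/
theorem exists_coeff {f : G → ℂ} (hf : IsGeneralizedCharacter G f) :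
    ∃ d : layerDual P N → ℤ,
      ∀ l, classInner (fun x : ↥(P ⊔ layerC P U N) => f x) (fun x => (h.ext l x : ℂ)) = d l := by
  obtain ⟨a, b, ha, hb, rfl⟩ := hf
  have hgen : IsGeneralizedCharacter ↥(P ⊔ layerC P U N) (fun x => (a - b) (x : G)) :=
    ⟨_, _, isCharacter_comp (P ⊔ layerC P U N).subtype ha, isCharacter_comp (P ⊔ layerC P U N).subtype hb, rfl⟩
  choose d hd using fun l => gen_inner_int hgen (gen_of_char (irr_isCharacter (isIrrCharacter_linear (h.ext l))))
  exact ⟨d, hd⟩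

/-- The orbit of `λ_j` under `U`. -/
noncomputable def orbit (j : ↥Z →* ℂˣ) : Finset (layerDual P N) :=
  Finset.univ.image fun u : U => (⟨(h.lam j).comp (h.side.conjS ⟨(u : G), h.side.U_le u.2⟩), fun p hp =>
    h.lam_N j (h.N_conj (h.side.U_le u.2) hp)⟩ : layerDual P N)

theorem mem_orbit {j : ↥Z →* ℂˣ} {l : layerDual P N} :
    l ∈ h.orbit j ↔ ∃ u : U, ∀ p : P, h.lam j (h.side.conjS ⟨(u : G), h.side.U_le u.2⟩ p) = l.1 p := by
  simp only [orbit, Finset.mem_image, Finset.mem_univ, true_and]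
  exact ⟨fun ⟨u, e⟩ => ⟨u, fun p => DFunLike.congr_fun (congrArg Subtype.val e) p⟩,
    fun ⟨u, e⟩ => ⟨u, Subtype.ext (MonoidHom.ext e)⟩⟩

theorem fiber_card {j : ↥Z →* ℂˣ} (hj : j ∈ layerJ Z N) (v : U) :
    (Finset.univ.filter fun u : U => ∀ p : P, h.lam j (h.side.conjS ⟨(u : G), h.side.U_le u.2⟩ p) =
      h.lam j (h.side.conjS ⟨(v : G), h.side.U_le v.2⟩ p)).card = Nat.card ↥(layerC P U N) := by
  rw [← Fintype.card_subtype, ← Nat.card_eq_fintype_card]
  refine Nat.card_congr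
    { toFun := fun u => ⟨(u.1 : G) * (v : G)⁻¹, (h.twist hj hj.2 (mul_mem u.1.2 (inv_mem v.2)) fun p => by
        have := u.2 (h.side.conjS ⟨(v : G)⁻¹, S.inv_mem (h.side.U_le v.2)⟩ p)
        refine Eq.trans (congrArg _ (Subtype.ext ?_)) (this.trans (congrArg _ (Subtype.ext ?_)))
        · simp [Side.conjS_apply, mul_assoc]
        · simp [Side.conjS_apply, mul_assoc]).1⟩
      invFun := fun c => ⟨⟨(c : G) * v, mul_mem (h.C_le c.2) v.2⟩, fun p => by
        have := h.lam_C j c.2 (h.side.conjS ⟨(v : G), h.side.U_le v.2⟩ p).2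
        refine Eq.trans (congrArg _ (Subtype.ext ?_)) this
        simp [Side.conjS_apply, mul_assoc]⟩
      left_inv := fun u => Subtype.ext (Subtype.ext (by simp [mul_assoc]))
      right_inv := fun c => Subtype.ext (by simp [mul_assoc]) }

theorem card_orbit {j : ↥Z →* ℂˣ} (hj : j ∈ layerJ Z N) :
    (h.orbit j).card * Nat.card ↥(layerC P U N) = Nat.card U := by
  rw [Nat.card_eq_fintype_card (α := U), ← Finset.card_univ (α := U)]
  rw [Finset.card_eq_sum_card_image (fun u : U => (⟨(h.lam j).comp (h.side.conjS ⟨(u : G), h.side.U_le u.2⟩),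
    fun p hp => h.lam_N j (h.N_conj (h.side.U_le u.2) hp)⟩ : layerDual P N)) Finset.univ]
  rw [show (h.orbit j).card * Nat.card ↥(layerC P U N) = ∑ _l ∈ h.orbit j, Nat.card ↥(layerC P U N) by
    rw [Finset.sum_const, smul_eq_mul]]
  refine Finset.sum_congr rfl fun l hl => ?_
  obtain ⟨v, hv⟩ := h.mem_orbit.1 hl
  rw [← h.fiber_card hj v]
  congr 1
  ext u
  simp only [Finset.mem_filter, Finset.mem_univ, true_and]
  constructor
  · intro e
    exact Subtype.ext (MonoidHom.ext fun p => (e p).trans (hv p))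
  · intro e p
    exact (DFunLike.congr_fun (congrArg Subtype.val e) p).trans (hv p).symm

theorem orbit_disjoint {j k : ↥Z →* ℂˣ} (hj : j ∈ layerJ Z N) (hk : k ∈ layerJ Z N) (hjk : j ≠ k) :
    Disjoint (h.orbit j) (h.orbit k) := by
  refine Finset.disjoint_left.2 fun l hl hl' => hjk ?_
  obtain ⟨u, hu⟩ := h.mem_orbit.1 hl
  obtain ⟨v, hv⟩ := h.mem_orbit.1 hl'
  refine (h.twist hj hk.2 (mul_mem u.2 (inv_mem v.2)) fun p => ?_).2
  have e : h.lam j (h.side.conjS ⟨(u : G), h.side.U_le u.2⟩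
      (h.side.conjS ⟨(v : G)⁻¹, S.inv_mem (h.side.U_le v.2)⟩ p)) = h.lam k (h.side.conjS
        ⟨(v : G), h.side.U_le v.2⟩ (h.side.conjS ⟨(v : G)⁻¹, S.inv_mem (h.side.U_le v.2)⟩ p)) := by
    rw [hu, hv]
  refine Eq.trans (congrArg _ (Subtype.ext ?_)) (e.trans (congrArg _ (Subtype.ext ?_)))
  · simp [Side.conjS_apply, mul_assoc]
  · simp [Side.conjS_apply, mul_assoc]

/-- The coefficients of `μ 1 j` on `P C`. -/
theorem mu_coeff {j : ↥Z →* ℂˣ} (hj : j ∈ layerJ Z N) (l : layerDual P N) :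
    classInner (fun x : ↥(P ⊔ layerC P U N) =>
        h.mu 1 j ⟨x, sup_le h.side.P_le_S h.C_le_S x.2⟩) (fun x => (h.ext l x : ℂ)) =
      if l ∈ h.orbit j then 1 else 0 := by
  have hsum : ∀ F : ↥(P ⊔ layerC P U N) → ℂ, ∑ x, F x = ∑ p : P, ∑ c : ↥(layerC P U N),
      F ⟨(p : G) * c, mul_mem (Subgroup.mem_sup_left p.2) (Subgroup.mem_sup_right c.2)⟩ := by
    intro F
    rw [← Fintype.sum_prod_type']
    refine (Fintype.sum_bijective (fun t : ↥P × ↥(layerC P U N) => (⟨_, mul_mem (Subgroup.mem_sup_left t.1.2)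
      (Subgroup.mem_sup_right t.2.2)⟩ : ↥(P ⊔ layerC P U N))) ⟨fun a b e => ?_, fun x => ?_⟩ _ _ fun t => rfl).symm
    · obtain ⟨e1, e2⟩ := h.PC_unique a.1.2 b.1.2 a.2.2 b.2.2 (congrArg Subtype.val e)
      exact Prod.ext (Subtype.ext e1) (Subtype.ext e2)
    · obtain ⟨p, hp, c, hc, e⟩ := h.mem_PC.1 x.2
      exact ⟨(⟨p, hp⟩, ⟨c, hc⟩), Subtype.ext e.symm⟩
  let Q : U → Prop := fun u => ∀ p : P, h.lam j (h.side.conjS ⟨(u : G), h.side.U_le u.2⟩ p) = l.1 p
  have step : ∀ u : U, ∑ p : P, (h.lam j (h.side.conjS ⟨(u : G), h.side.U_le u.2⟩ p) : ℂ) *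
      conj ((l.1 p : ℂˣ) : ℂ) = if Q u then (Nat.card P : ℂ) else 0 := by
    intro u
    obtain ⟨l', hl'⟩ : ∃ l' : ↥P →* ℂˣ, l' = (h.lam j).comp (h.side.conjS ⟨(u : G), h.side.U_le u.2⟩) :=
      ⟨_, rfl⟩
    have hv : ∀ p, l' p = h.lam j (h.side.conjS ⟨(u : G), h.side.U_le u.2⟩ p) := fun p => by
      rw [hl', MonoidHom.comp_apply]
    simp only [← hv]
    rw [sum_hom_mul l' l.1]
    exact if_congr ⟨fun e p => by rw [← hv, e], fun e => MonoidHom.ext fun p => by rw [hv, e p]⟩ rfl rfl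
  have hC : (Nat.card ↥(layerC P U N) : ℂ) ≠ 0 := Nat.cast_ne_zero.2 Nat.card_pos.ne'
  have hP : (Nat.card P : ℂ) ≠ 0 := Nat.cast_ne_zero.2 Nat.card_pos.ne'
  rw [classInner, hsum, h.card_PC, Finset.sum_congr rfl fun p _ => Finset.sum_congr rfl fun c _ => by
    rw [h.mu_apply 1 j p c rfl, h.ext_apply l _ p c rfl]]
  simp only [Finset.sum_const, Finset.card_univ, nsmul_eq_mul, ← Nat.card_eq_fintype_card, mul_assoc,
    Finset.sum_mul, Finset.mul_sum]
  rw [Finset.sum_comm]
  simp only [← Finset.mul_sum, step]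
  have hfib : (Finset.univ.filter Q).card = if l ∈ h.orbit j then Nat.card ↥(layerC P U N) else 0 := by
    split_ifs with hl
    · obtain ⟨v, hv⟩ := h.mem_orbit.1 hl
      rw [← h.fiber_card hj v]
      congr 1
      ext u
      simp only [Finset.mem_filter, Finset.mem_univ, true_and, Q]
      exact ⟨fun e p => (e p).trans (hv p).symm, fun e p => (e p).trans (hv p)⟩
    · rw [Finset.card_eq_zero, Finset.filter_eq_empty_iff]
      exact fun u _ hu => hl (h.mem_orbit.2 ⟨u, hu⟩)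
  rw [← Finset.sum_filter, Finset.sum_const, hfib, nsmul_eq_mul, Nat.cast_mul]
  split_ifs <;> simp <;> field_simp

variable (E : Grid K Z)

/-- The coefficients of the `η 1 j` differ only by the orbits and a constant. -/
theorem coeff_shift {j k : ↥Z →* ℂˣ} (hj : j ∈ layerJ Z N) (hk : k ∈ layerJ Z N) {d d' : layerDual P N → ℤ}
    (hd : ∀ l, classInner (fun x : ↥(P ⊔ layerC P U N) => E.eta 1 j x) (fun x => (h.ext l x : ℂ)) = d l)
    (hd' : ∀ l, classInner (fun x : ↥(P ⊔ layerC P U N) => E.eta 1 k x) (fun x => (h.ext l x : ℂ)) = d' l) :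
    ∃ e : ℤ, ∀ l, d l = d' l + (if l ∈ h.orbit j then 1 else 0) - (if l ∈ h.orbit k then 1 else 0) + e := by
  set M := P ⊔ layerC P U N with hMdef
  have hMS : M ≤ S := sup_le h.side.P_le_S h.C_le_S
  set F : M → ℂ := fun x => (E.eta 1 j x - h.mu 1 j ⟨x, hMS x.2⟩) - (E.eta 1 k x - h.mu 1 k ⟨x, hMS x.2⟩)
    with hF
  have h0 : ∀ x : M, (x : G) ∈ layerX P U N → F x = 0 := by
    intro x hx
    have e := congrFun (h.tau_mu_sub E hj hk) (x : G)
    have hs : ∀ y : S, (y : G) ∉ sigmaSet S → (h.mu 1 j - h.mu 1 k) y = 0 := fun y hy => by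
      have e1 := h.beta_supp hj.2 y hy
      have e2 := h.beta_supp hk.2 y hy
      simp only [beta, Pi.sub_apply] at e1 e2 ⊢
      linear_combination e2 - e1
    have hcl : IsClassFunction S (h.mu 1 j - h.mu 1 k) := fun a b => by
      simp only [Pi.sub_apply, h.class_mu 1 j a b, h.class_mu 1 k a b]
    rw [show (x : G) = ((⟨x, hMS x.2⟩ : S) : G) from rfl,
      h.side.sigmaSet_isTI.ind_apply hcl hs (h.layerX_sub hx)] at e
    simp only [Pi.sub_apply] at e
    simp only [hF]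
    linear_combination -e
  have hin : ∀ l, classInner F (fun x => (h.ext l x : ℂ)) =
      ((d l - (if l ∈ h.orbit j then 1 else 0) - (d' l - if l ∈ h.orbit k then 1 else 0) : ℤ) : ℂ) := by
    intro l
    have e1 := h.mu_coeff hj l
    have e2 := h.mu_coeff hk l
    rw [show F = ((fun x : M => E.eta 1 j x) - fun (x : M) => h.mu 1 j ⟨(x : G), hMS x.2⟩) -
      ((fun x : M => E.eta 1 k x) - fun (x : M) => h.mu 1 k ⟨(x : G), hMS x.2⟩) from rfl,
      classInner_sub_left, classInner_sub_left, classInner_sub_left, hd, hd', e1, e2]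
    push_cast
    rfl
  have hconst : ∀ l m : layerDual P N,
      classInner F (fun x => (h.ext l x : ℂ)) = classInner F (fun x => (h.ext m x : ℂ)) := by
    intro l m
    simp only [classInner]
    congr 1
    refine Finset.sum_congr rfl fun x _ => ?_
    by_cases hx : (x : G) ∈ layerX P U N
    · rw [h0 x hx, zero_mul, zero_mul]
    · rw [h.ext_eq_one l hx, h.ext_eq_one m hx]
  obtain ⟨l0⟩ : Nonempty (layerDual P N) := ⟨⟨1, fun _ _ => rfl⟩⟩
  refine ⟨d l0 - (if l0 ∈ h.orbit j then 1 else 0) - (d' l0 - if l0 ∈ h.orbit k then 1 else 0), fun l => ?_⟩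
  have e := hconst l l0
  rw [hin, hin] at e
  have e' := Int.cast_injective e
  omega

/-- The averaged shift bound: `s η 1 j + Y` over the characters of the layer. -/
theorem shift_bound {Y : G → ℂ} (hY : IsGeneralizedCharacter G Y) (s : ℕ) (hs : 2 * s + 1 ≤ r) :
    ((r : ℝ) - 1) * ((s : ℝ) ^ 2 * (1 - (Nat.card U : ℝ) / Nat.card ↥(layerC P U N) / (r : ℝ) ^ Nat.card K) /
        Nat.card K) ≤
      ∑ j ∈ Finset.univ.filter (fun j => j ∈ layerJ Z N),
        dens (conjSet (layerX P U N)) ((s : ℂ) • E.eta 1 j + Y) := by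
  set J := Finset.univ.filter (fun j => j ∈ layerJ Z N) with hJ
  have hmem : ∀ j : J, (j : ↥Z →* ℂˣ) ∈ layerJ Z N := fun j => (Finset.mem_filter.1 j.2).2
  choose d hd using fun j : ↥Z →* ℂˣ => h.exists_coeff (E.eta_gen 1 j)
  obtain ⟨y, hy⟩ := h.exists_coeff hY
  obtain ⟨j0, hj0⟩ := h.exists_layerJ
  choose e he using fun j : J => h.coeff_shift E (hmem j) hj0 (hd j) (hd j0)
  set base : layerDual P N → ℤ := fun l => (s : ℤ) * (d j0 l - if l ∈ h.orbit j0 then 1 else 0) + y l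
    with hbase
  have hcardJ : (J.card : ℝ) = (r : ℝ) - 1 := by
    have e : ((J.card + 1 : ℕ) : ℝ) = (r : ℝ) := congrArg (Nat.cast (R := ℝ)) h.card_layerJ
    push_cast at e
    linarith
  obtain ⟨u', hu'⟩ : ∃ u' : ℕ, ∀ j : J, (h.orbit (j : ↥Z →* ℂˣ)).card = u' :=
    ⟨(h.orbit j0).card, fun j => Nat.eq_of_mul_eq_mul_right (Nat.card_pos (α := ↥(layerC P U N)))
      ((h.card_orbit (hmem j)).trans (h.card_orbit hj0).symm)⟩
  have hub : (u' : ℝ) = (Nat.card U : ℝ) / Nat.card ↥(layerC P U N) := by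
    rw [eq_div_iff (Nat.cast_ne_zero.2 Nat.card_pos.ne'), ← Nat.cast_mul]
    exact congrArg _ (by rw [← hu' ⟨j0, Finset.mem_filter.2 ⟨Finset.mem_univ _, hj0⟩⟩]; exact h.card_orbit hj0)
  have hshift := shift_lemma (fun j : J => h.orbit (j : ↥Z →* ℂˣ))
    (fun i j hij => h.orbit_disjoint (hmem i) (hmem j) fun e => hij (Subtype.ext e)) hu' base s (by
      have e : J.card + 1 = r := h.card_layerJ
      rw [Fintype.card_coe]; omega)
  have hcardΛ : (Fintype.card (layerDual P N) : ℝ) = (r : ℝ) ^ Nat.card K := by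
    rw [← Nat.card_eq_fintype_card, h.card_layerDual, Nat.cast_pow]
  have hterm : ∀ j : J, gVar (fun l => base l + if l ∈ h.orbit (j : ↥Z →* ℂˣ) then (s : ℤ) else 0) /
      ((Nat.card U : ℝ) / Nat.card ↥(layerC P U N) * Nat.card K) ≤
        dens (conjSet (layerX P U N)) ((s : ℂ) • E.eta 1 (j : ↥Z →* ℂˣ) + Y) := by
    intro j
    set dj : layerDual P N → ℤ := fun l => (s : ℤ) * d j l + y l with hdj
    have hcl : IsClassFunction G ((s : ℂ) • E.eta 1 (j : ↥Z →* ℂˣ) + Y) := fun a b => by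
      simp only [Pi.add_apply, Pi.smul_apply, isClassFunction_genChar (E.eta_gen 1 _) a b,
        isClassFunction_genChar hY a b]
    refine le_trans (le_of_eq ?_) (h.mass hcl dj fun l => ?_)
    · congr 1
      rw [← gVar_add_const (fun l => base l + _) ((s : ℤ) * e j)]
      congr 1
      funext l
      simp only [hdj, hbase, he j l]
      split_ifs <;> ring
    · rw [show (fun x : ↥(P ⊔ layerC P U N) => ((s : ℂ) • E.eta 1 (j : ↥Z →* ℂˣ) + Y) (x : G)) =
        (s : ℂ) • (fun x : ↥(P ⊔ layerC P U N) => E.eta 1 (j : ↥Z →* ℂˣ) x) +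
          fun x : ↥(P ⊔ layerC P U N) => Y x from rfl,
        classInner_add_left, classInner_smul_left, hd, hy, hdj]
      push_cast
      rfl
  have hKpos : (0 : ℝ) < Nat.card K := Nat.cast_pos.2 Nat.card_pos
  have hu0 : (0 : ℝ) < (Nat.card U : ℝ) / Nat.card ↥(layerC P U N) :=
    div_pos (Nat.cast_pos.2 Nat.card_pos) (Nat.cast_pos.2 Nat.card_pos)
  refine le_trans ?_ (le_trans (Finset.sum_le_sum fun j _ => hterm j) (le_of_eq (Finset.sum_coe_sort J
    fun j => dens (conjSet (layerX P U N)) ((s : ℂ) • E.eta 1 j + Y))))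
  rw [← Finset.sum_div, le_div_iff₀ (by positivity)]
  refine le_trans (le_of_eq ?_) hshift
  rw [Fintype.card_coe, hcardJ, hub, hcardΛ]
  field_simp

end IsLayer

end Cfsg.Agent.OddFT
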