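import Cfsg.Agent.Lib.OddChar.FT.MassLines
import Cfsg.Agent.Lib.OddChar.FT.FullOrSmall

/-!
The module of a layer with `C = 1`: either `U` is cyclic or many characters are regular.
-/

set_option autoImplicit false
set_option linter.unusedSectionVars false
set_option linter.unusedVariables false
set_option linter.style.haveILetI false

open Cfsg Cfsg.Agent.Char Cfsg.Agent.OddChar
open scoped ComplexConjugate Classical

namespace Cfsg.Agent.OddFT

universe u

variable {G : Type u} [Group G] [Fintype G] {S K Z P U N : Subgroup G} {r : ℕ}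

namespace IsLayer

variable (h : IsLayer S K Z P U N r)
include h

/-- A layer with `C = 1` and noncyclic `U` has many regular characters. -/
theorem regular_many (hC : layerC P U N = ⊥) (hU : ¬ IsCyclic U) :
    2 * (r - 1) * Nat.card U ≤ h.regular.card := by
  set NS := N.subgroupOf S with hNS
  haveI : NS.Normal := Subgroup.normal_subgroupOf_of_le_normalizer h.norm
  let π : ↥S →* ↥S ⧸ NS := QuotientGroup.mk' NS
  let ι : ∀ A : Subgroup G, A ≤ S → ↥A →* ↥S ⧸ NS := fun A hA => π.comp (Subgroup.inclusion hA)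
  have hker : ∀ (A : Subgroup G) (hA : A ≤ S) (a : A), ι A hA a = 1 ↔ (a : G) ∈ N := fun A hA a => by
    show (QuotientGroup.mk (Subgroup.inclusion hA a) : ↥S ⧸ NS) = 1 ↔ _
    rw [QuotientGroup.eq_one_iff, hNS, Subgroup.mem_subgroupOf, Subgroup.coe_inclusion]
  have hco : ∀ (A : Subgroup G), (Nat.card A).Coprime (Nat.card P) → ∀ a : A, (a : G) ∈ N → a = 1 := by
    intro A hA a ha
    have hb : A ⊓ P = ⊥ := Subgroup.inf_eq_bot_of_coprime hA
    refine Subtype.ext ?_
    have : (a : G) ∈ A ⊓ P := ⟨a.2, h.le ha⟩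
    rwa [hb, Subgroup.mem_bot] at this
  have hUinj : Function.Injective (ι U h.side.U_le) := (injective_iff_map_eq_one _).2 fun a ha =>
    hco U h.side.coUP a ((hker U h.side.U_le a).1 ha)
  have hKinj : Function.Injective (ι K h.side.K_le) := (injective_iff_map_eq_one _).2 fun a ha =>
    hco K h.side.coKP a ((hker K h.side.K_le a).1 ha)
  set P' := (ι P h.side.P_le_S).range with hP'
  set U' := (ι U h.side.U_le).range with hU'
  set K' := (ι K h.side.K_le).range with hK'
  have hUcard : Nat.card U' = Nat.card U :=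
    (Nat.card_congr (MonoidHom.ofInjective hUinj).toEquiv).symm
  have hKcard : Nat.card K' = Nat.card K :=
    (Nat.card_congr (MonoidHom.ofInjective hKinj).toEquiv).symm
  have hPcard : Nat.card P' = r ^ Nat.card K := by
    have h1 : (ι P h.side.P_le_S).ker = N.subgroupOf P := by
      ext a
      rw [MonoidHom.mem_ker, hker, Subgroup.mem_subgroupOf]
    rw [hP', ← Nat.card_congr (QuotientGroup.quotientKerEquivRange (ι P h.side.P_le_S)).toEquiv,
      ← Subgroup.index_eq_card, h1]
    refine Nat.eq_of_mul_eq_mul_left (Nat.card_pos (α := N.subgroupOf P)) ?_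
    rw [Subgroup.card_mul_index, Nat.card_congr (Subgroup.subgroupOfEquivOfLe h.le).toEquiv, h.card_N_mul]
  have hnorm : ∀ (A B : Subgroup G) (hA : A ≤ S) (hB : B ≤ S), A ≤ Subgroup.normalizer (B : Set G) →
      (ι A hA).range ≤ Subgroup.normalizer (((ι B hB).range : Subgroup _) : Set (↥S ⧸ NS)) := by
    rintro A B hA hB hAB _ ⟨a, rfl⟩
    have key : ∀ c : A, ∀ y ∈ (ι B hB).range, ι A hA c * y * (ι A hA c)⁻¹ ∈ (ι B hB).range := by
      rintro c _ ⟨b, rfl⟩
      refine ⟨⟨(c : G) * b * (c : G)⁻¹, (Subgroup.mem_normalizer_iff.1 (hAB c.2) b).1 b.2⟩, ?_⟩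
      show π _ = π (Subgroup.inclusion hA c) * π (Subgroup.inclusion hB b) * (π (Subgroup.inclusion hA c))⁻¹
      rw [← map_inv, ← map_mul, ← map_mul]
      exact congrArg π (Subtype.ext rfl)
    exact Subgroup.mem_normalizer_iff.2 fun y => ⟨key a y, fun hy => by
      have := key a⁻¹ _ hy
      simpa [mul_assoc] using this⟩
  have hcommN : ∀ (A B : Subgroup G) (hA : A ≤ S) (hB : B ≤ S) (a : A) (b : B),
      ι A hA a * ι B hB b = ι B hB b * ι A hA a ↔ (a : G) * b * (a : G)⁻¹ * (b : G)⁻¹ ∈ N := by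
    intro A B hA hB a b
    show π _ * π _ = π _ * π _ ↔ _
    rw [← map_mul, ← map_mul, eq_comm]
    show (QuotientGroup.mk _ : ↥S ⧸ NS) = QuotientGroup.mk _ ↔ _
    rw [QuotientGroup.eq, hNS, Subgroup.mem_subgroupOf]
    constructor
    · intro hx
      have := h.N_conj (S.mul_mem (hB b.2) (hA a.2)) hx
      simpa [mul_assoc] using this
    · intro hx
      have := h.N_conj (S.inv_mem (S.mul_mem (hB b.2) (hA a.2))) hx
      simpa [mul_assoc] using this
  have hPe : IsElementaryAbelian r P' := by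
    refine ⟨⟨⟨?_⟩⟩, ?_⟩
    · rintro ⟨_, a, rfl⟩ ⟨_, b, rfl⟩
      exact Subtype.ext ((hcommN P P h.side.P_le_S h.side.P_le_S a b).2 (h.comm a a.2 b b.2))
    · rintro _ ⟨a, rfl⟩
      rw [← map_pow, hker, Subgroup.coe_pow]
      exact h.pow a a.2
  have hUab : IsMulCommutative U' := by
    refine ⟨⟨?_⟩⟩
    rintro ⟨_, a, rfl⟩ ⟨_, b, rfl⟩
    refine Subtype.ext ?_
    show ι U h.side.U_le a * ι U h.side.U_le b = ι U h.side.U_le b * ι U h.side.U_le a
    rw [← map_mul, ← map_mul, show a * b = b * a from Subtype.ext (h.side.comm_U a.2 b.2)]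
  have hr2 : r ≠ 2 := by
    intro e
    have := (h.side.odd_card Z).of_dvd_nat h.card_r
    rw [e] at this
    exact absurd this (by decide)
  have hq2 : Nat.card K ≠ 2 := by have := h.side.three_le_K; omega
  have hfaith : U' ⊓ Subgroup.centralizer (P' : Set (↥S ⧸ NS)) = ⊥ := by
    rw [Subgroup.eq_bot_iff_forall]
    rintro _ ⟨⟨u, rfl⟩, hu⟩
    have huC : (u : G) ∈ layerC P U N := h.mem_C.2 ⟨u.2, fun p hp =>
      (hcommN P U h.side.P_le_S h.side.U_le ⟨p, hp⟩ u).1
        (Subgroup.mem_centralizer_iff.1 hu _ ⟨⟨p, hp⟩, rfl⟩)⟩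
    rw [hC, Subgroup.mem_bot] at huC
    rw [show u = 1 from Subtype.ext huC, map_one]
  have hCPU : P' ⊓ Subgroup.centralizer (U' : Set (↥S ⧸ NS)) = ⊥ := by
    rw [Subgroup.eq_bot_iff_forall]
    rintro _ ⟨⟨p, rfl⟩, hp⟩
    rw [hker]
    haveI := h.side.P_nil
    obtain ⟨c, hc, hcN⟩ := Solv.exists_fixed_in_coset' U P N (h.side.U_le.trans h.side.P_norm) h.side.coUP
      (Or.inr inferInstance) h.le h.U_le_normalizer p.2 fun u hu => by
        have h1 := (hcommN U P h.side.U_le h.side.P_le_S ⟨u, hu⟩ p).1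
          (Subgroup.mem_centralizer_iff.1 hp _ ⟨⟨u, hu⟩, rfl⟩)
        have := h.N_conj (S.inv_mem (h.side.P_le_S p.2)) h1
        simpa [mul_assoc] using this
    rw [h.side.fixU, Subgroup.mem_bot] at hc
    rw [hc, mul_one] at hcN
    exact (Subgroup.inv_mem_iff N).1 hcN
  have hfree : ∀ k ∈ K', k ≠ 1 → ∀ u ∈ U', k * u = u * k → u = 1 := by
    rintro _ ⟨k, rfl⟩ hk _ ⟨u, rfl⟩ e
    have hk1 : (k : G) ≠ 1 := fun e1 => hk (by rw [show k = 1 from Subtype.ext e1, map_one])
    have h1 := (hcommN K U h.side.K_le h.side.U_le k u).1 e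
    have hz : (k : G) * u * (k : G)⁻¹ * (u : G)⁻¹ ∈ U :=
      U.mul_mem ((Subgroup.mem_normalizer_iff.1 (h.side.U_norm k.2) _).1 u.2) (U.inv_mem u.2)
    have h2 : (k : G) * u * (k : G)⁻¹ * (u : G)⁻¹ = 1 := congrArg Subtype.val (hco U h.side.coUP ⟨_, hz⟩ h1)
    rw [show u = 1 from Subtype.ext (h.side.fpf k k.2 hk1 u u.2
      (mul_inv_eq_iff_eq_mul.1 (mul_inv_eq_one.1 h2))), map_one]
  rcases full_or_small h.prime h.side.prime hr2 hq2 hPe hPcard hUab (hUcard ▸ h.side.odd_card U) hKcard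
    (hnorm U P h.side.U_le h.side.P_le_S (h.side.U_le.trans h.side.P_norm))
    (hnorm K P h.side.K_le h.side.P_le_S (h.side.K_le.trans h.side.P_norm))
    (hnorm K U h.side.K_le h.side.U_le h.side.U_norm) hfree hfaith hCPU with ⟨hcyc, -⟩ | ⟨-, -, hcount⟩
  · exact absurd ((MonoidHom.ofInjective hUinj).isCyclic.2 hcyc) hU
  · rw [hUcard] at hcount
    refine hcount.trans ?_
    let f : ↥P →* ↥P' := (ι P h.side.P_le_S).rangeRestrict
    have hf : Function.Surjective f := MonoidHom.rangeRestrict_surjective _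
    rw [← Nat.card_eq_finsetCard]
    refine Nat.card_le_card_of_injective
      (fun l => (⟨⟨l.1.comp f, fun p hp => by
        rw [MonoidHom.comp_apply, show f p = 1 from Subtype.ext ((hker P h.side.P_le_S p).2 hp), map_one]⟩,
        Finset.mem_filter.2 ⟨Finset.mem_univ _, fun u hu => ?_⟩⟩ : ↥h.regular)) ?_
    · refine hUinj ?_
      rw [map_one]
      refine l.2 _ ⟨u, rfl⟩ fun x hx => ?_
      obtain ⟨p, rfl⟩ := hf x
      have e := DFunLike.congr_fun (congrArg Subtype.val hu) p
      refine Eq.trans ?_ e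
      show l.1 _ = l.1 (f _)
      refine congrArg l.1 (Subtype.ext ?_)
      show π (Subgroup.inclusion h.side.U_le u) * π (Subgroup.inclusion h.side.P_le_S p) *
        (π (Subgroup.inclusion h.side.U_le u))⁻¹ = π (Subgroup.inclusion h.side.P_le_S _)
      rw [← map_inv, ← map_mul, ← map_mul]
      exact congrArg π (Subtype.ext rfl)
    · intro l m e
      have e' := congrArg (fun t : ↥h.regular => t.1.1) e
      exact Subtype.ext (MonoidHom.ext fun x => by
        obtain ⟨p, rfl⟩ := hf x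
        exact DFunLike.congr_fun e' p)

end IsLayer

end Cfsg.Agent.OddFT
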