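import Cfsg.Agent.Lib.OddChar.FT.LayerStab
import Cfsg.Agent.Lib.Char.Central

/-!
The characters `μ i j` of `S` induced from `(P C) K` and their inner products.
-/

set_option autoImplicit false
set_option linter.unusedSectionVars false
set_option linter.unusedVariables false
set_option linter.style.haveILetI false

open Cfsg Cfsg.Agent.Char Cfsg.Agent.OddChar
open scoped ComplexConjugate commutatorElement Classical

namespace Cfsg.Agent.OddFT

universe u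

variable {G : Type u} [Group G] [Fintype G] {S K Z P U N : Subgroup G} {r : ℕ}

/-- The sum of a product of two linear characters. -/
theorem sum_hom_mul {A : Type u} [Group A] [Fintype A] (l m : A →* ℂˣ) [Decidable (l = m)] :
    ∑ a, (l a : ℂ) * conj ((m a : ℂˣ) : ℂ) = if l = m then (Nat.card A : ℂ) else 0 := by
  have h := irrC_orth (G := A) ⟨_, isIrrCharacter_linear l⟩ ⟨_, isIrrCharacter_linear m⟩
  have hA : (Nat.card A : ℂ) ≠ 0 := Nat.cast_ne_zero.2 Nat.card_pos.ne'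
  have e : ∑ a, (l a : ℂ) * conj ((m a : ℂˣ) : ℂ) = (Nat.card A : ℂ) *
      classInner (fun a => (l a : ℂ)) (fun a => (m a : ℂ)) := by
    simp [classInner, ← mul_assoc, mul_inv_cancel₀ hA]
  rw [e, h]
  by_cases hlm : l = m
  · subst hlm; simp
  · rw [if_neg hlm, if_neg, mul_zero]
    exact fun c => hlm (MonoidHom.ext fun a => Units.ext (congrFun (congrArg Subtype.val c) a))

namespace IsLayer

variable (h : IsLayer S K Z P U N r)
include h

theorem PCK_le : P ⊔ (layerC P U N ⊔ K) ≤ S :=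
  sup_le h.side.P_le_S (sup_le (h.C_le.trans h.side.U_le) h.side.K_le)

theorem mem_pck {p c k : G} (hp : p ∈ P) (hc : c ∈ layerC P U N) (hk : k ∈ K) :
    p * c * k ∈ P ⊔ (layerC P U N ⊔ K) :=
  mul_mem (mul_mem (Subgroup.mem_sup_left hp) (Subgroup.mem_sup_right (Subgroup.mem_sup_left hc)))
    (Subgroup.mem_sup_right (Subgroup.mem_sup_right hk))

/-- The part of `(P C) K` in `U` is `C`. -/
theorem mem_C_of_mem_U {x : G} (hx : x ∈ P ⊔ (layerC P U N ⊔ K)) (hxU : x ∈ U) : x ∈ layerC P U N := by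
  obtain ⟨p, hp, c, hc, k, hk, rfl⟩ := h.mem_PCK hx
  have hp1 : p = 1 := by
    refine h.side.P_inf_compl (x := p * c * k * k⁻¹ * c⁻¹) hp ?_ (by group)
    exact mul_mem (mul_mem (Subgroup.mem_sup_left hxU) (inv_mem (Subgroup.mem_sup_right hk)))
      (inv_mem (Subgroup.mem_sup_left (h.C_le hc)))
  subst hp1
  rw [one_mul] at hxU ⊢
  have hk1 : k = 1 := by
    rw [← Subgroup.mem_bot, ← h.side.U_inf_K]
    exact ⟨by simpa using U.mul_mem (U.inv_mem (h.C_le hc)) hxU, hk⟩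
  rwa [hk1, mul_one]

/-- An element of `U` moved into its coset of `C` by a nontrivial element of `K` lies in `C`. -/
theorem mem_C_of_comm {u k : G} (hu : u ∈ U) (hk : k ∈ K) (hk1 : k ≠ 1)
    (hc : k * u * k⁻¹ * u⁻¹ ∈ layerC P U N) : u ∈ layerC P U N := by
  classical
  haveI : Fact (Nat.card K).Prime := ⟨h.side.prime⟩
  have hk1' : ∀ k' ∈ K, k' * u * k'⁻¹ * u⁻¹ ∈ layerC P U N := by
    intro k' hk'
    obtain ⟨n, hn⟩ := mem_powers_of_prime_card (G := K) (g := ⟨k, hk⟩) (g' := ⟨k', hk'⟩) rfl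
      (fun e => hk1 (congrArg Subtype.val e))
    have e : k' = k ^ n := (congrArg Subtype.val hn).symm.trans (by simp)
    subst e
    clear hn hk'
    induction n with
    | zero => simp
    | succ n ih =>
      have e : k ^ (n + 1) * u * (k ^ (n + 1))⁻¹ * u⁻¹ =
          k ^ n * (k * u * k⁻¹ * u⁻¹) * (k ^ n)⁻¹ * (k ^ n * u * (k ^ n)⁻¹ * u⁻¹) := by
        rw [pow_succ]; group
      rw [e]
      exact mul_mem (h.C_conj (K.pow_mem hk n) hc) ih
  letI : CommGroup U :=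
    { (inferInstance : Group U) with mul_comm := fun a b => Subtype.ext (h.side.comm_U a.2 b.2) }
  let f : K → U →* U := fun k => MonoidHom.mk'
    (fun x => ⟨(k : G) * x * (k : G)⁻¹, (Subgroup.mem_normalizer_iff.1 (h.side.U_norm k.2) x).1 x.2⟩)
    fun a b => Subtype.ext (by simp [mul_assoc])
  set x := ∏ k : K, f k ⟨u, hu⟩ with hx
  have hfix : f ⟨k, hk⟩ x = x := by
    rw [hx, map_prod]
    refine Fintype.prod_equiv (Equiv.mulLeft (⟨k, hk⟩ : K)) _ _ fun k' => ?_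
    exact Subtype.ext (by simp [f, mul_assoc])
  have hx1 : x = 1 := Subtype.ext (h.side.fpf k hk hk1 x x.2 (by
    have e : k * (x : G) * k⁻¹ = x := congrArg Subtype.val hfix
    exact mul_inv_eq_iff_eq_mul.1 e))
  have hmem : (∏ k : K, f k ⟨u, hu⟩ * (⟨u, hu⟩ : U)⁻¹) ∈ (layerC P U N).subgroupOf U :=
    Subgroup.prod_mem _ fun k _ => Subgroup.mem_subgroupOf.2 (hk1' k k.2)
  rw [Finset.prod_mul_distrib, ← hx, hx1, one_mul, Finset.prod_const, Finset.card_univ,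
    ← Nat.card_eq_fintype_card, inv_pow, Subgroup.inv_mem_iff] at hmem
  obtain ⟨m, hm⟩ := exists_pow_eq_self_of_coprime
    (h.side.coKU.coprime_dvd_right (orderOf_dvd_natCard (⟨u, hu⟩ : U)))
  have := Subgroup.pow_mem _ hmem m
  rw [hm] at this
  exact Subgroup.mem_subgroupOf.1 this

/-- The character of `(P C) K` as a function on its copy in `S`. -/
noncomputable def tfun (i : ↥K →* ℂˣ) (j : ↥Z →* ℂˣ) :
    ↥((P ⊔ (layerC P U N ⊔ K)).subgroupOf S) → ℂ :=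
  fun x => ((h.tlam i j ⟨((x : S) : G), Subgroup.mem_subgroupOf.mp x.2⟩ : ℂˣ) : ℂ)

/-- The induced character. -/
noncomputable def mu (i : ↥K →* ℂˣ) (j : ↥Z →* ℂˣ) : ↥S → ℂ :=
  indFun ((P ⊔ (layerC P U N ⊔ K)).subgroupOf S) (h.tfun i j)

theorem isCharacter_mu (i : ↥K →* ℂˣ) (j : ↥Z →* ℂˣ) : IsCharacter S (h.mu i j) :=
  isCharacter_indFun _ (irr_isCharacter (isIrrCharacter_linear ((h.tlam i j).comp
    (MonoidHom.mk' (fun x : ↥((P ⊔ (layerC P U N ⊔ K)).subgroupOf S) =>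
      (⟨((x : S) : G), Subgroup.mem_subgroupOf.mp x.2⟩ : ↥(P ⊔ (layerC P U N ⊔ K))))
      fun _ _ => rfl))))

theorem class_mu (i : ↥K →* ℂˣ) (j : ↥Z →* ℂˣ) : IsClassFunction S (h.mu i j) :=
  isClassFunction_indFun _ _

/-- The number of elements of `(P C) K`. -/
theorem card_PCK : Nat.card ↥(P ⊔ (layerC P U N ⊔ K)) = Nat.card P * (Nat.card ↥(layerC P U N) * Nat.card K) := by
  rw [← Nat.card_prod (↥(layerC P U N)) K, ← Nat.card_prod]
  refine (Nat.card_congr (Equiv.ofBijective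
    (fun t : ↥P × ↥(layerC P U N) × ↥K => (⟨_, h.mem_pck t.1.2 t.2.1.2 t.2.2.2⟩ : ↥(P ⊔ (layerC P U N ⊔ K))))
    ⟨fun a b e => ?_, fun x => ?_⟩)).symm
  · obtain ⟨e1, e2, e3⟩ := h.PCK_unique a.1.2 b.1.2 a.2.1.2 b.2.1.2 a.2.2.2 b.2.2.2 (congrArg Subtype.val e)
    exact Prod.ext (Subtype.ext e1) (Prod.ext (Subtype.ext e2) (Subtype.ext e3))
  · obtain ⟨p, hp, c, hc, k, hk, e⟩ := h.mem_PCK x.2
    exact ⟨(⟨p, hp⟩, ⟨c, hc⟩, ⟨k, hk⟩), Subtype.ext e.symm⟩

/-- Sums over `(P C) K` inside `S`. -/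
theorem sum_PCK (F : ↥((P ⊔ (layerC P U N ⊔ K)).subgroupOf S) → ℂ) :
    ∑ x, F x = ∑ p : P, ∑ c : ↥(layerC P U N), ∑ k : K,
      F ⟨⟨(p : G) * c * k, h.PCK_le (h.mem_pck p.2 c.2 k.2)⟩,
        Subgroup.mem_subgroupOf.2 (h.mem_pck p.2 c.2 k.2)⟩ := by
  simp only [← Fintype.sum_prod_type']
  refine (Fintype.sum_bijective (fun t : ↥P × ↥(layerC P U N) × ↥K =>
    (⟨⟨(t.1 : G) * t.2.1 * t.2.2, h.PCK_le (h.mem_pck t.1.2 t.2.1.2 t.2.2.2)⟩,
      Subgroup.mem_subgroupOf.2 (h.mem_pck t.1.2 t.2.1.2 t.2.2.2)⟩ :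
        ↥((P ⊔ (layerC P U N ⊔ K)).subgroupOf S))) ⟨fun a b e => ?_, fun x => ?_⟩ _ _ fun t => rfl).symm
  · obtain ⟨e1, e2, e3⟩ := h.PCK_unique a.1.2 b.1.2 a.2.1.2 b.2.1.2 a.2.2.2 b.2.2.2
      (congrArg Subtype.val (congrArg Subtype.val e))
    exact Prod.ext (Subtype.ext e1) (Prod.ext (Subtype.ext e2) (Subtype.ext e3))
  · obtain ⟨p, hp, c, hc, k, hk, e⟩ := h.mem_PCK (Subgroup.mem_subgroupOf.1 x.2)
    exact ⟨(⟨p, hp⟩, ⟨c, hc⟩, ⟨k, hk⟩), Subtype.ext (Subtype.ext e.symm)⟩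

/-- The value of `μ i j` as an average over `U`. -/
theorem mu_eq_sum (i : ↥K →* ℂˣ) (j : ↥Z →* ℂˣ) (x : S) :
    h.mu i j x = (Nat.card ↥(layerC P U N) : ℂ)⁻¹ *
      ∑ u : U, extendByZero ((P ⊔ (layerC P U N ⊔ K)).subgroupOf S) (h.tfun i j)
        (⟨(u : G), h.side.U_le u.2⟩ * x * (⟨(u : G), h.side.U_le u.2⟩ : S)⁻¹) := by
  set M := (P ⊔ (layerC P U N ⊔ K)).subgroupOf S with hM
  set θ := h.tfun i j with hθ
  let F : S → ℂ := fun s => extendByZero M θ (s * x * s⁻¹)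
  let ι : U → S := fun u => ⟨(u : G), h.side.U_le u.2⟩
  have hF : ∀ (m : M) (s : S), F ((m : S) * s) = F s := by
    intro m s
    show extendByZero M θ _ = extendByZero M θ _
    rw [show (m : S) * s * x * ((m : S) * s)⁻¹ = (m : S) * (s * x * s⁻¹) * (m : S)⁻¹ by group]
    by_cases hy : s * x * s⁻¹ ∈ M
    · have hy' : (m : S) * (s * x * s⁻¹) * (m : S)⁻¹ ∈ M := M.mul_mem (M.mul_mem m.2 hy) (M.inv_mem m.2)
      rw [extendByZero_mem M θ hy, extendByZero_mem M θ hy']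
      let l : ↥M →* ℂˣ := (h.tlam i j).comp (MonoidHom.mk' (fun x : ↥M =>
        (⟨((x : S) : G), Subgroup.mem_subgroupOf.mp x.2⟩ : ↥(P ⊔ (layerC P U N ⊔ K)))) fun _ _ => rfl)
      show ((l ⟨_, hy'⟩ : ℂˣ) : ℂ) = ((l ⟨_, hy⟩ : ℂˣ) : ℂ)
      rw [show (⟨_, hy'⟩ : M) = m * ⟨_, hy⟩ * m⁻¹ from rfl, map_mul, map_mul, map_inv, mul_comm (l m),
        mul_inv_cancel_right]
    · rw [extendByZero_not_mem M θ hy, extendByZero_not_mem M θ fun hc => hy (by
        have := M.mul_mem (M.mul_mem (M.inv_mem m.2) hc) m.2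
        simpa [mul_assoc] using this)]
  have hfib : ∀ s : S, (Finset.univ.filter fun t : M × U => (t.1 : S) * ι t.2 = s).card =
      Nat.card ↥(layerC P U N) := by
    intro s
    obtain ⟨p, hp, u, hu, k, hk, e⟩ := h.side.mul s s.2
    have hm0 : p * k ∈ P ⊔ (layerC P U N ⊔ K) := by
      simpa using h.mem_pck hp (one_mem _) hk
    have hu0 : k⁻¹ * u * k ∈ U := by
      simpa using (Subgroup.mem_normalizer_iff.1 (h.side.U_norm (K.inv_mem hk)) u).1 hu
    rw [← Fintype.card_coe, ← Nat.card_eq_fintype_card]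
    refine (Nat.card_congr (Equiv.ofBijective
      (fun c : ↥(layerC P U N) => (⟨(⟨⟨p * k * (c : G)⁻¹, h.PCK_le (mul_mem hm0
        (inv_mem (Subgroup.mem_sup_right (Subgroup.mem_sup_left c.2))))⟩, Subgroup.mem_subgroupOf.2 (mul_mem hm0
        (inv_mem (Subgroup.mem_sup_right (Subgroup.mem_sup_left c.2))))⟩,
        ⟨(c : G) * (k⁻¹ * u * k), mul_mem (h.C_le c.2) hu0⟩), Finset.mem_filter.2 ⟨Finset.mem_univ _,
          Subtype.ext (by simp only [Subgroup.coe_mul, ι]; rw [e]; group)⟩⟩ : {t // t ∈ (Finset.univ.filter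
            fun t : M × U => (t.1 : S) * ι t.2 = s)}))
      ⟨fun a b eab => ?_, fun t => ?_⟩)).symm
    · have := congrArg (fun t : {t // t ∈ (Finset.univ.filter fun t : M × U => (t.1 : S) * ι t.2 = s)} =>
        ((t.1.2 : U) : G)) eab
      exact Subtype.ext (mul_right_cancel this)
    · obtain ⟨⟨m, v⟩, ht⟩ := t
      have ht' : ((m : S) : G) * (v : G) = (s : G) := congrArg Subtype.val (Finset.mem_filter.1 ht).2
      have hcU : (v : G) * (k⁻¹ * u * k)⁻¹ ∈ U := mul_mem v.2 (inv_mem hu0)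
      have hcM : (v : G) * (k⁻¹ * u * k)⁻¹ ∈ P ⊔ (layerC P U N ⊔ K) := by
        have e' : (v : G) * (k⁻¹ * u * k)⁻¹ = ((m : S) : G)⁻¹ * (p * k) := by
          rw [show (v : G) = ((m : S) : G)⁻¹ * s by rw [← ht']; group, e]; group
        rw [e']
        exact mul_mem (inv_mem (Subgroup.mem_subgroupOf.1 m.2)) hm0
      refine ⟨⟨_, h.mem_C_of_mem_U hcM hcU⟩, Subtype.ext (Prod.ext (Subtype.ext (Subtype.ext ?_))
        (Subtype.ext (by simp [mul_assoc])))⟩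
      show p * k * ((v : G) * (k⁻¹ * u * k)⁻¹)⁻¹ = ((m : S) : G)
      calc p * k * ((v : G) * (k⁻¹ * u * k)⁻¹)⁻¹ = p * u * k * (v : G)⁻¹ := by group
        _ = _ := by rw [← e, ← ht']; group
  have key : (Nat.card ↥(layerC P U N) : ℂ) * ∑ s : S, F s = (Nat.card M : ℂ) * ∑ u : U, F (ι u) := by
    have h1 : ∑ t : M × U, F ((t.1 : S) * ι t.2) = (Nat.card ↥(layerC P U N) : ℂ) * ∑ s : S, F s := by
      rw [← Finset.sum_fiberwise Finset.univ (fun t : M × U => (t.1 : S) * ι t.2), Finset.mul_sum]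
      refine Finset.sum_congr rfl fun s _ => ?_
      rw [Finset.sum_congr rfl fun t ht => by rw [(Finset.mem_filter.1 ht).2], Finset.sum_const, hfib,
        nsmul_eq_mul]
    rw [← h1, Fintype.sum_prod_type]
    simp only [hF, Finset.sum_const, Finset.card_univ, nsmul_eq_mul, Nat.card_eq_fintype_card]
  have hc : (Nat.card ↥(layerC P U N) : ℂ) ≠ 0 := Nat.cast_ne_zero.2 Nat.card_pos.ne'
  have hMne : (Nat.card M : ℂ) ≠ 0 := Nat.cast_ne_zero.2 Nat.card_pos.ne'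
  have hmu : h.mu i j x = (Nat.card M : ℂ)⁻¹ * ∑ s : S, F s := by
    show indFun M θ x = _
    unfold indFun
    congr 1
    exact Fintype.sum_equiv (Equiv.inv S) _ _ fun y => by simp [F]
  rw [hmu]
  show _ = _ * ∑ u : U, F (ι u)
  field_simp
  linear_combination key

/-- The value on `p c k` with `k ≠ 1`. -/
theorem mu_apply_of_ne (i : ↥K →* ℂˣ) (j : ↥Z →* ℂˣ) {x : S} (p : P) (c : ↥(layerC P U N)) (k : K)
    (hk : k ≠ 1) (e : (x : G) = (p : G) * c * k) : h.mu i j x = (i k : ℂ) * (h.lam j p : ℂ) := by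
  classical
  have hkG : (k : G) ≠ 1 := fun e => hk (Subtype.ext e)
  rw [h.mu_eq_sum]
  have hc : (Nat.card ↥(layerC P U N) : ℂ) ≠ 0 := Nat.cast_ne_zero.2 Nat.card_pos.ne'
  have hin : ∀ u : U, (u : G) ∈ layerC P U N →
      extendByZero ((P ⊔ (layerC P U N ⊔ K)).subgroupOf S) (h.tfun i j)
        (⟨(u : G), h.side.U_le u.2⟩ * x * (⟨(u : G), h.side.U_le u.2⟩ : S)⁻¹) = (i k : ℂ) * (h.lam j p : ℂ) := by
    intro u hu
    have huk : (u : G) * c * ((k : G) * (u : G)⁻¹ * (k : G)⁻¹) ∈ layerC P U N :=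
      mul_mem (mul_mem hu c.2) (h.C_conj k.2 (inv_mem hu))
    have hp' := h.side.P_conj (h.side.U_le u.2) p.2
    have e' : ((⟨(u : G), h.side.U_le u.2⟩ * x * (⟨(u : G), h.side.U_le u.2⟩ : S)⁻¹ : S) : G) =
        ((u : G) * p * (u : G)⁻¹) * ((u : G) * c * ((k : G) * (u : G)⁻¹ * (k : G)⁻¹)) * k := by
      simp only [Subgroup.coe_mul, Subgroup.coe_inv, e]; group
    rw [extendByZero_mem _ _ (Subgroup.mem_subgroupOf.2 (e' ▸ h.mem_pck hp' huk k.2))]
    show ((h.tlam i j _ : ℂˣ) : ℂ) = _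
    rw [h.tlam_apply i j _ ⟨_, hp'⟩ ⟨_, huk⟩ k e', Units.val_mul, h.lam_C j hu p.2]
  have hout : ∀ u : U, (u : G) ∉ layerC P U N →
      extendByZero ((P ⊔ (layerC P U N ⊔ K)).subgroupOf S) (h.tfun i j)
        (⟨(u : G), h.side.U_le u.2⟩ * x * (⟨(u : G), h.side.U_le u.2⟩ : S)⁻¹) = 0 := by
    intro u hu
    refine extendByZero_not_mem _ _ fun hm => hu ?_
    have hm' : (u : G) * ((p : G) * c * k) * (u : G)⁻¹ ∈ P ⊔ (layerC P U N ⊔ K) := by
      simpa [e] using Subgroup.mem_subgroupOf.1 hm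
    have hz : (k : G) * (u : G)⁻¹ * (k : G)⁻¹ * u ∈ U :=
      mul_mem ((Subgroup.mem_normalizer_iff.1 (h.side.U_norm k.2) _).1 (inv_mem u.2)) u.2
    have hzM : (k : G) * (u : G)⁻¹ * (k : G)⁻¹ * u ∈ P ⊔ (layerC P U N ⊔ K) := by
      have hp' := h.side.P_conj (h.side.U_le u.2) p.2
      have e2 : (k : G) * (u : G)⁻¹ * (k : G)⁻¹ * u =
          (c : G)⁻¹ * (((u : G) * p * (u : G)⁻¹)⁻¹ * ((u : G) * ((p : G) * c * k) * (u : G)⁻¹)) * (k : G)⁻¹ := by
        have hcu : (u : G) * c = c * u := h.side.comm_U u.2 (h.C_le c.2)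
        have hcu' : (c : G)⁻¹ * u = u * (c : G)⁻¹ := h.side.comm_U (inv_mem (h.C_le c.2)) u.2
        have hzu : (k : G) * (u : G)⁻¹ * (k : G)⁻¹ * u = u * ((k : G) * (u : G)⁻¹ * (k : G)⁻¹) :=
          h.side.comm_U ((Subgroup.mem_normalizer_iff.1 (h.side.U_norm k.2) _).1 (inv_mem u.2)) u.2
        rw [hzu]
        calc (u : G) * ((k : G) * (u : G)⁻¹ * (k : G)⁻¹)
            = u * (c : G)⁻¹ * c * ((k : G) * (u : G)⁻¹ * (k : G)⁻¹) := by group
          _ = (c : G)⁻¹ * u * c * ((k : G) * (u : G)⁻¹ * (k : G)⁻¹) := by rw [hcu']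
          _ = _ := by group
      rw [e2]
      exact mul_mem (mul_mem (inv_mem (Subgroup.mem_sup_right (Subgroup.mem_sup_left c.2)))
        (mul_mem (inv_mem (Subgroup.mem_sup_left hp')) hm')) (inv_mem (Subgroup.mem_sup_right (Subgroup.mem_sup_right k.2)))
    have := h.mem_C_of_comm (U.inv_mem u.2) k.2 hkG (by rw [inv_inv]; exact h.mem_C_of_mem_U hzM hz)
    simpa using inv_mem this
  rw [← Finset.sum_filter_add_sum_filter_not Finset.univ fun u : U => (u : G) ∈ layerC P U N,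
    Finset.sum_congr rfl fun u hu => hin u (Finset.mem_filter.1 hu).2,
    Finset.sum_eq_zero fun u hu => hout u (Finset.mem_filter.1 hu).2, Finset.sum_const, add_zero, nsmul_eq_mul,
    show (Finset.univ.filter fun u : U => (u : G) ∈ layerC P U N).card = Nat.card ↥(layerC P U N) by
      rw [← Fintype.card_subtype, ← Nat.card_eq_fintype_card]
      exact Nat.card_congr { toFun := fun u => ⟨u.1.1, u.2⟩, invFun := fun c => ⟨⟨c, h.C_le c.2⟩, c.2⟩,
                             left_inv := fun _ => rfl, right_inv := fun _ => rfl },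
    ← mul_assoc, inv_mul_cancel₀ hc, one_mul]

/-- The value on `p c`. -/
theorem mu_apply (i : ↥K →* ℂˣ) (j : ↥Z →* ℂˣ) {x : S} (p : P) (c : ↥(layerC P U N))
    (e : (x : G) = (p : G) * c) : h.mu i j x = (Nat.card ↥(layerC P U N) : ℂ)⁻¹ *
      ∑ u : U, (h.lam j (h.side.conjS ⟨u, h.side.U_le u.2⟩ p) : ℂ) := by
  rw [h.mu_eq_sum]
  congr 1
  refine Finset.sum_congr rfl fun u _ => ?_
  have e' : ((⟨(u : G), h.side.U_le u.2⟩ * x * (⟨(u : G), h.side.U_le u.2⟩ : S)⁻¹ : S) : G) =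
      ((u : G) * p * (u : G)⁻¹) * c * ((1 : K) : G) := by
    simp only [Subgroup.coe_mul, Subgroup.coe_inv, e, OneMemClass.coe_one, mul_one]
    calc (u : G) * ((p : G) * c) * (u : G)⁻¹ = (u : G) * p * (u : G)⁻¹ * ((u : G) * c * (u : G)⁻¹) := by group
      _ = _ := by rw [h.side.comm_U u.2 (h.C_le c.2)]; group
  rw [extendByZero_mem _ _ (Subgroup.mem_subgroupOf.2
    (e' ▸ h.mem_pck (h.side.P_conj (h.side.U_le u.2) p.2) c.2 (1 : K).2))]
  show ((h.tlam i j _ : ℂˣ) : ℂ) = _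
  rw [h.tlam_apply i j _ (h.side.conjS ⟨u, h.side.U_le u.2⟩ p) c 1 e', map_one, one_mul]

/-- The sum over the twists of `λ_l` against `λ_j`. -/
theorem sum_twist {j l : ↥Z →* ℂˣ} (hj : ∀ z : Z, (z : G) ∈ N → j z = 1)
    (hl : ∀ z : Z, (z : G) ∈ N → l z = 1) :
    ∑ u : U, ∑ p : P, (h.lam j p : ℂ) *
        conj ((h.lam l (h.side.conjS ⟨(u : G), h.side.U_le u.2⟩ p) : ℂˣ) : ℂ) =
      if j = l then (Nat.card P : ℂ) *
        (if j = 1 then (Nat.card U : ℂ) else Nat.card ↥(layerC P U N)) else 0 := by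
  let Q : U → Prop := fun u => ∀ p : P, h.lam l (h.side.conjS ⟨(u : G), h.side.U_le u.2⟩ p) = h.lam j p
  have step : ∀ u : U, ∑ p : P, (h.lam j p : ℂ) *
        conj ((h.lam l (h.side.conjS ⟨(u : G), h.side.U_le u.2⟩ p) : ℂˣ) : ℂ) =
      if Q u then (Nat.card P : ℂ) else 0 := by
    intro u
    obtain ⟨l', hl'⟩ : ∃ l' : ↥P →* ℂˣ, l' = (h.lam l).comp (h.side.conjS ⟨(u : G), h.side.U_le u.2⟩) :=
      ⟨_, rfl⟩
    obtain ⟨j', hj'⟩ : ∃ j' : ↥P →* ℂˣ, j' = h.lam j := ⟨_, rfl⟩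
    have hv : ∀ p, l' p = h.lam l (h.side.conjS ⟨(u : G), h.side.U_le u.2⟩ p) := fun p => by
      rw [hl', MonoidHom.comp_apply]
    simp only [← hv, ← hj']
    rw [sum_hom_mul j' l']
    refine if_congr ⟨fun e p => ?_, fun e => ?_⟩ rfl rfl
    · rw [← hv, ← e, hj']
    · exact MonoidHom.ext fun p => by rw [hv, hj', e p]
  simp only [step]
  rw [Finset.sum_ite, Finset.sum_const_zero, add_zero, Finset.sum_const, nsmul_eq_mul, ← Fintype.card_subtype,
    ← Nat.card_eq_fintype_card, h.card_twist hl hj]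
  by_cases hjl : j = l
  · subst hjl
    rw [if_pos rfl, if_pos rfl]
    split_ifs <;> ring
  · rw [if_neg hjl, if_neg fun e => hjl e.symm, Nat.cast_zero, zero_mul]

/-- The inner products of the induced characters. -/
theorem mu_inner (i i' : ↥K →* ℂˣ) {j l : ↥Z →* ℂˣ} (hj : ∀ z : Z, (z : G) ∈ N → j z = 1)
    (hl : ∀ z : Z, (z : G) ∈ N → l z = 1) :
    classInner (h.mu i j) (h.mu i' l) = if j = l then (if i = i' then (1 : ℂ) else 0) +
      (if j = 1 then ((Nat.card U : ℂ) / Nat.card ↥(layerC P U N) - 1) / Nat.card K else 0) else 0 := by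
  conv_lhs => rw [mu, Char.frobenius _ _ (h.class_mu i' l)]
  rw [classInner, h.sum_PCK, Nat.card_congr (Subgroup.subgroupOfEquivOfLe h.PCK_le).toEquiv, h.card_PCK]
  have hC : (Nat.card ↥(layerC P U N) : ℂ) ≠ 0 := Nat.cast_ne_zero.2 Nat.card_pos.ne'
  have hK : (Nat.card K : ℂ) ≠ 0 := Nat.cast_ne_zero.2 Nat.card_pos.ne'
  have hP : (Nat.card P : ℂ) ≠ 0 := Nat.cast_ne_zero.2 Nat.card_pos.ne'
  set n : ℂ := if j = 1 then (Nat.card U : ℂ) else Nat.card ↥(layerC P U N) with hn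
  have hinjlam : h.lam j = h.lam l ↔ j = l := ⟨fun e => MonoidHom.ext fun z => by
    rw [← h.lam_Z hj, ← h.lam_Z hl, e], fun e => by rw [e]⟩
  have hrhs : ∀ (p : P) (c : ↥(layerC P U N)) (k : K), h.tfun i j ⟨⟨(p : G) * c * k,
      h.PCK_le (h.mem_pck p.2 c.2 k.2)⟩, Subgroup.mem_subgroupOf.2 (h.mem_pck p.2 c.2 k.2)⟩ =
        (i k : ℂ) * (h.lam j p : ℂ) := fun p c k => by
    show ((h.tlam i j _ : ℂˣ) : ℂ) = _
    rw [h.tlam_apply i j _ p c k rfl, Units.val_mul]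
  have hone : ∑ p : P, ∑ c : ↥(layerC P U N), (h.lam j p : ℂ) * conj ((Nat.card ↥(layerC P U N) : ℂ)⁻¹ *
      ∑ u : U, (h.lam l (h.side.conjS ⟨u, h.side.U_le u.2⟩ p) : ℂ)) =
      if j = l then (Nat.card P : ℂ) * n else 0 := by
    rw [Finset.sum_congr rfl fun p _ => by
      rw [Finset.sum_const, Finset.card_univ, nsmul_eq_mul, ← Nat.card_eq_fintype_card, map_mul, map_inv₀,
        map_natCast, ← mul_assoc, mul_comm _ ((h.lam j p : ℂˣ) : ℂ), mul_assoc, ← mul_assoc _ _ (conj _),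
        mul_inv_cancel₀ hC, one_mul, map_sum, Finset.mul_sum], Finset.sum_comm]
    exact h.sum_twist hj hl
  have hsum : ∑ k : K, (i k : ℂ) * conj ((i' k : ℂˣ) : ℂ) = if i = i' then (Nat.card K : ℂ) else 0 :=
    sum_hom_mul i i'
  rw [Finset.sum_congr rfl fun p _ => Finset.sum_congr rfl fun c _ => show _ =
      (h.lam j p : ℂ) * conj ((Nat.card ↥(layerC P U N) : ℂ)⁻¹ *
        ∑ u : U, (h.lam l (h.side.conjS ⟨u, h.side.U_le u.2⟩ p) : ℂ)) +
      ((if i = i' then (Nat.card K : ℂ) else 0) - 1) * ((h.lam j p : ℂ) * conj ((h.lam l p : ℂˣ) : ℂ)) from ?_]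
  swap
  · rw [← Finset.sum_erase_add _ _ (Finset.mem_univ (1 : K)),
      Finset.sum_congr rfl (g := fun k : K => ((i k : ℂ) * conj ((i' k : ℂˣ) : ℂ)) *
        ((h.lam j p : ℂ) * conj ((h.lam l p : ℂˣ) : ℂ))) fun k hk => by
        rw [hrhs, h.mu_apply_of_ne i' l p c k (Finset.mem_erase.1 hk).1 rfl, map_mul]; ring,
      ← Finset.sum_mul, Finset.sum_erase_eq_sub (Finset.mem_univ _), hsum, hrhs,
      h.mu_apply i' l p c (by simp)]
    simp only [map_one, Units.val_one, one_mul]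
    ring
  simp only [Finset.sum_add_distrib]
  rw [hone]
  simp only [Finset.sum_const, Finset.card_univ, nsmul_eq_mul, ← Finset.mul_sum]
  rw [sum_hom_mul (h.lam j) (h.lam l), ← Nat.card_eq_fintype_card]
  simp only [hinjlam, hn]
  push_cast
  split_ifs <;> field_simp <;> ring

end IsLayer

end Cfsg.Agent.OddFT
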