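import Cfsg.Agent.Lib.OddChar.FT.LayerChar

/-!
The stabilisers in `U` of the characters `λ_j` of a layer.
-/

set_option autoImplicit false
set_option linter.unusedSectionVars false
set_option linter.unusedVariables false
set_option linter.style.haveILetI false

open Cfsg Cfsg.Agent.Char Cfsg.Agent.OddChar
open scoped ComplexConjugate commutatorElement

namespace Cfsg.Agent.OddFT

universe u

variable {G : Type u} [Group G] [Fintype G] {S K Z P U N : Subgroup G} {r : ℕ}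

namespace Side

variable (h : Side S K Z P U)
include h

/-- Conjugation by an element of `S` on `P`. -/
def conjS (s : S) : ↥P →* ↥P :=
  MonoidHom.mk' (fun p => ⟨(s : G) * p * (s : G)⁻¹, h.P_conj s.2 p.2⟩)
    fun a b => Subtype.ext (by simp [mul_assoc])

theorem conjS_apply (s : S) (p : P) : (h.conjS s p : G) = (s : G) * p * (s : G)⁻¹ := rfl

/-- A `U K`-invariant subgroup of `P` has order `|Z ∩ W| ^ q`. -/
theorem card_invariant {W : Subgroup G} (hW : W ≤ P) (hn : U ⊔ K ≤ Subgroup.normalizer (W : Set G)) :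
    Nat.card W = Nat.card ↥(Z ⊓ W) ^ Nat.card K := by
  haveI := h.P_nil
  have hsolP : Group.IsSolvable P := inferInstance
  have h1 : Nat.card ↥(U ⊔ K) * Nat.card ↥(U ⊓ K) = Nat.card U * Nat.card K :=
    Solv.card_sup_mul_card_inf' U K h.U_norm
  have hco : (Nat.card W).Coprime (Nat.card ↥(U ⊔ K)) :=
    (Nat.Coprime.coprime_dvd_right (Dvd.intro _ h1) (h.coUP.symm.mul_right h.coKP.symm)).coprime_dvd_left
      (Subgroup.card_dvd_of_le hW)
  have hU : W ⊓ Subgroup.centralizer (U : Set G) = ⊥ :=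
    le_bot_iff.1 ((inf_le_inf_right _ hW).trans h.fixU.le)
  have hUK : W ⊓ Subgroup.centralizer ((U ⊔ K : Subgroup G) : Set G) = ⊥ :=
    le_bot_iff.1 ((inf_le_inf_left _ (Subgroup.centralizer_le fun x hx => Subgroup.mem_sup_left hx)).trans hU.le)
  have hK : W ⊓ Subgroup.centralizer (K : Set G) = Z ⊓ W := by
    rw [← h.fix]
    ext x
    simp only [Subgroup.mem_inf]
    exact ⟨fun hx => ⟨⟨hW hx.1, hx.2⟩, hx.1⟩, fun hx => ⟨hx.2, hx.1.2⟩⟩
  have hf := Solv.FrobFix.formula W U K (Solv.isSolvable_of_le hW hsolP) hn h.U_norm h.fpf hco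
  rwa [hUK, hU, hK, Subgroup.card_bot, one_pow, one_mul, mul_one] at hf

end Side

namespace IsLayer

variable (h : IsLayer S K Z P U N r)
include h

theorem card_N : Nat.card N = Nat.card ↥(Z ⊓ N) ^ Nat.card K :=
  h.side.card_invariant h.le ((sup_le h.side.U_le h.side.K_le).trans h.norm)

theorem card_N_mul : Nat.card N * r ^ Nat.card K = Nat.card P := by
  rw [h.card_N, ← mul_pow, h.index, h.side.card_P]

/-- The kernel of a nontrivial `j` of the layer is `Z ∩ N`. -/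
theorem jker {j : ↥Z →* ℂˣ} (hj : j ∈ layerJ Z N) {z : Z} : j z = 1 ↔ (z : G) ∈ N := by
  refine ⟨fun hz => ?_, hj.2 z⟩
  have hle : N.subgroupOf Z ≤ j.ker := fun x hx => hj.2 x (Subgroup.mem_subgroupOf.1 hx)
  have hcard : Nat.card ↥(N.subgroupOf Z) = Nat.card ↥(Z ⊓ N) := by
    rw [← Subgroup.inf_subgroupOf_right N Z, inf_comm]
    exact Nat.card_congr (Subgroup.subgroupOfEquivOfLe inf_le_left).toEquiv
  have hidx : (N.subgroupOf Z).index = r := by
    refine Nat.eq_of_mul_eq_mul_left (Nat.card_pos (α := N.subgroupOf Z)) ?_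
    rw [Subgroup.card_mul_index, hcard, h.index]
  have hne : j.ker.index ≠ 1 := fun e => hj.1 (MonoidHom.ext fun x => by
    have : x ∈ j.ker := by rw [Subgroup.index_eq_one.1 e]; trivial
    simpa using this)
  have hk : j.ker.index = r := (h.prime.eq_one_or_self_of_dvd _
    ((Subgroup.index_dvd_of_le hle).trans hidx.dvd)).resolve_left hne
  have h1 := Subgroup.relIndex_mul_index hle
  rw [hidx, hk] at h1
  have hrel : (N.subgroupOf Z).relIndex j.ker = 1 :=
    Nat.eq_of_mul_eq_mul_right h.prime.pos (h1.trans (one_mul r).symm)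
  exact Subgroup.mem_subgroupOf.1 (Subgroup.relIndex_eq_one.1 hrel (show z ∈ j.ker from hz))

/-- The stabiliser of `λ_j` in `U`. -/
noncomputable def stab (j : ↥Z →* ℂˣ) : Subgroup G where
  carrier := {v | ∃ hv : v ∈ U, ∀ p : P, h.lam j (h.side.conjS ⟨v, h.side.U_le hv⟩ p) = h.lam j p}
  one_mem' := ⟨one_mem _, fun p => congrArg _ (Subtype.ext (by simp [Side.conjS_apply]))⟩
  mul_mem' := by
    rintro a b ⟨ha, ha'⟩ ⟨hb, hb'⟩
    refine ⟨mul_mem ha hb, fun p => ?_⟩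
    rw [show h.side.conjS ⟨a * b, h.side.U_le (mul_mem ha hb)⟩ p =
      h.side.conjS ⟨a, h.side.U_le ha⟩ (h.side.conjS ⟨b, h.side.U_le hb⟩ p) from
        Subtype.ext (by simp [Side.conjS_apply, mul_assoc]), ha', hb']
  inv_mem' := by
    rintro a ⟨ha, ha'⟩
    refine ⟨inv_mem ha, fun p => ?_⟩
    conv_rhs => rw [show p = h.side.conjS ⟨a, h.side.U_le ha⟩
      (h.side.conjS ⟨a⁻¹, h.side.U_le (inv_mem ha)⟩ p) from
        Subtype.ext (by simp [Side.conjS_apply, mul_assoc])]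
    rw [ha']

theorem stab_conj (j : ↥Z →* ℂˣ) {k v : G} (hk : k ∈ K) (hv : v ∈ h.stab j) : k * v * k⁻¹ ∈ h.stab j := by
  obtain ⟨hvU, hv'⟩ := hv
  refine ⟨(Subgroup.mem_normalizer_iff.1 (h.side.U_norm hk) v).1 hvU, fun p => ?_⟩
  set p0 := h.conjP ⟨k⁻¹, K.inv_mem hk⟩ p with hp0
  have e : h.side.conjS ⟨k * v * k⁻¹, h.side.U_le ((Subgroup.mem_normalizer_iff.1 (h.side.U_norm hk) v).1 hvU)⟩ p =
      h.conjP ⟨k, hk⟩ (h.side.conjS ⟨v, h.side.U_le hvU⟩ p0) :=
    Subtype.ext (by simp [hp0, Side.conjS_apply, conjP_apply, mul_assoc])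
  rw [e, h.lam_conjP, hv', hp0, h.lam_conjP]

/-- An element of `U` twisting `λ_j` into some `λ_l` stabilises it. -/
theorem twist_mem_stab {j l : ↥Z →* ℂˣ} {u : G} (hu : u ∈ U)
    (ht : ∀ p : P, h.lam j (h.side.conjS ⟨u, h.side.U_le hu⟩ p) = h.lam l p) : u ∈ h.stab j := by
  classical
  have hk1 : ∀ k ∈ K, k * u * k⁻¹ * u⁻¹ ∈ h.stab j := by
    intro k hk
    have hkU : k * u * k⁻¹ * u⁻¹ ∈ U :=
      U.mul_mem ((Subgroup.mem_normalizer_iff.1 (h.side.U_norm hk) u).1 hu) (U.inv_mem hu)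
    refine ⟨hkU, fun p => ?_⟩
    set p0 := h.side.conjS ⟨u⁻¹, S.inv_mem (h.side.U_le hu)⟩ p with hp0
    have e : h.side.conjS ⟨k * u * k⁻¹ * u⁻¹, h.side.U_le hkU⟩ p =
        h.conjP ⟨k, hk⟩ (h.side.conjS ⟨u, h.side.U_le hu⟩ (h.conjP ⟨k⁻¹, K.inv_mem hk⟩ p0)) :=
      Subtype.ext (by simp [hp0, Side.conjS_apply, conjP_apply, mul_assoc])
    rw [e, h.lam_conjP, ht, h.lam_conjP, ← ht, hp0]
    exact congrArg _ (Subtype.ext (by simp [Side.conjS_apply, mul_assoc]))
  letI : CommGroup U :=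
    { (inferInstance : Group U) with mul_comm := fun a b => Subtype.ext (h.side.comm_U a.2 b.2) }
  let f : K → U →* U := fun k => MonoidHom.mk'
    (fun x => ⟨(k : G) * x * (k : G)⁻¹, (Subgroup.mem_normalizer_iff.1 (h.side.U_norm k.2) x).1 x.2⟩)
    fun a b => Subtype.ext (by simp [mul_assoc])
  set x := ∏ k : K, f k ⟨u, hu⟩ with hx
  haveI : Fact (Nat.card K).Prime := ⟨h.side.prime⟩
  obtain ⟨k0, hk0, hk01⟩ := K.bot_or_exists_ne_one.resolve_left fun e => h.side.prime.ne_one (by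
    rw [e]; exact Subgroup.card_bot)
  have hfix : f ⟨k0, hk0⟩ x = x := by
    rw [hx, map_prod]
    refine Fintype.prod_equiv (Equiv.mulLeft (⟨k0, hk0⟩ : K)) _ _ fun k => ?_
    exact Subtype.ext (by simp [f, mul_assoc])
  have hx1 : x = 1 := Subtype.ext (h.side.fpf k0 hk0 hk01 x x.2 (by
    have e : k0 * (x : G) * k0⁻¹ = x := congrArg Subtype.val hfix
    exact mul_inv_eq_iff_eq_mul.1 e))
  have hmem : (∏ k : K, f k ⟨u, hu⟩ * (⟨u, hu⟩ : U)⁻¹) ∈ (h.stab j).subgroupOf U :=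
    Subgroup.prod_mem _ fun k _ => Subgroup.mem_subgroupOf.2 (hk1 k k.2)
  rw [Finset.prod_mul_distrib, ← hx, hx1, one_mul, Finset.prod_const, Finset.card_univ,
    ← Nat.card_eq_fintype_card, inv_pow, Subgroup.inv_mem_iff] at hmem
  obtain ⟨m, hm⟩ := exists_pow_eq_self_of_coprime
    (h.side.coKU.coprime_dvd_right (orderOf_dvd_natCard (⟨u, hu⟩ : U)))
  have := Subgroup.pow_mem _ hmem m
  rw [hm] at this
  exact Subgroup.mem_subgroupOf.1 this

/-- Only `C` stabilises a nontrivial `λ_j`. -/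
theorem stab_le {j : ↥Z →* ℂˣ} (hj : j ∈ layerJ Z N) : h.stab j ≤ layerC P U N := by
  intro v hv
  refine h.mem_C.2 ⟨hv.choose, fun p hp => ?_⟩
  set W := N ⊔ ⁅P, h.stab j⁆ with hW
  have hsU : h.stab j ≤ U := fun x hx => hx.choose
  have hcomm : ⁅P, h.stab j⁆ ≤ ((h.lam j).ker).map P.subtype := by
    refine Subgroup.commutator_le.2 fun a ha x hx => ?_
    obtain ⟨hxU, hx'⟩ := hx
    refine ⟨⟨a, ha⟩ * (h.side.conjS ⟨x, h.side.U_le hxU⟩ ⟨a, ha⟩)⁻¹, ?_, ?_⟩
    · show h.lam j _ = 1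
      rw [map_mul, map_inv, hx', mul_inv_cancel]
    · show a * (x * a * x⁻¹)⁻¹ = ⁅a, x⁆
      rw [commutatorElement_def]; group
  have hWker : W ≤ ((h.lam j).ker).map P.subtype :=
    sup_le (fun x hx => ⟨⟨x, h.le hx⟩, h.lam_N j hx, rfl⟩) hcomm
  have hWP : W ≤ P := hWker.trans (Subgroup.map_subtype_le _)
  have hn : U ⊔ K ≤ Subgroup.normalizer (W : Set G) := by
    have key : ∀ g ∈ S, (∀ x ∈ h.stab j, g * x * g⁻¹ ∈ h.stab j) → ∀ y ∈ W, g * y * g⁻¹ ∈ W := by
      intro g hg hgs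
      have hW' : W ≤ W.comap (MulAut.conj g).toMonoidHom := by
        refine sup_le (fun y hy => ?_) (Subgroup.commutator_le.2 fun a ha x hx => ?_)
        · show g * y * g⁻¹ ∈ W
          exact Subgroup.mem_sup_left (h.N_conj hg hy)
        · show g * ⁅a, x⁆ * g⁻¹ ∈ W
          rw [show g * ⁅a, x⁆ * g⁻¹ = ⁅g * a * g⁻¹, g * x * g⁻¹⁆ by
            simp only [commutatorElement_def]; group]
          exact Subgroup.mem_sup_right (Subgroup.commutator_mem_commutator (h.side.P_conj hg ha) (hgs x hx))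
      exact fun y hy => hW' hy
    have mk : ∀ H : Subgroup G, (∀ g ∈ H, ∀ y ∈ W, g * y * g⁻¹ ∈ W) → H ≤ Subgroup.normalizer (W : Set G) :=
      fun H hH g hg => Subgroup.mem_normalizer_iff.2 fun y => ⟨hH g hg y, fun hy => by
        have := hH g⁻¹ (inv_mem hg) _ hy
        simpa [mul_assoc] using this⟩
    refine sup_le (mk U fun g hg => key g (h.side.U_le hg) fun x hx => ?_)
      (mk K fun g hg => key g (h.side.K_le hg) fun x hx => h.stab_conj j hg hx)
    rwa [h.side.comm_U hg (hsU hx), mul_inv_cancel_right]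
  have hZW : Z ⊓ W = Z ⊓ N := le_antisymm (fun z hz => ⟨hz.1, by
    obtain ⟨p', hp', e⟩ := hWker hz.2
    refine (h.jker hj (z := ⟨z, hz.1⟩)).1 ?_
    rw [← h.lam_Z hj.2, show (⟨((⟨z, hz.1⟩ : Z) : G), h.side.Z_le hz.1⟩ : P) = p' from Subtype.ext e.symm]
    exact hp'⟩) (inf_le_inf_left _ le_sup_left)
  have hc : Nat.card W = Nat.card N := by rw [h.side.card_invariant hWP hn, hZW, h.card_N]
  have hNW : N = W := Subgroup.eq_of_le_of_card_ge le_sup_left hc.le
  rw [hNW]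
  exact Subgroup.mem_sup_right (Subgroup.commutator_mem_commutator hp hv)

theorem twist {j l : ↥Z →* ℂˣ} (hj : j ∈ layerJ Z N) (hl : ∀ z : Z, (z : G) ∈ N → l z = 1) {u : G}
    (hu : u ∈ U) (ht : ∀ p : P, h.lam j (h.side.conjS ⟨u, h.side.U_le hu⟩ p) = h.lam l p) :
    u ∈ layerC P U N ∧ j = l := by
  have hs := h.twist_mem_stab hu ht
  refine ⟨h.stab_le hj hs, MonoidHom.ext fun z => ?_⟩
  rw [← h.lam_Z hj.2, ← h.lam_Z hl, ← ht, hs.choose_spec]

/-- The number of elements of `U` carrying `λ_l` to `λ_j`. -/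
theorem card_twist {j l : ↥Z →* ℂˣ} (hj : ∀ z : Z, (z : G) ∈ N → j z = 1)
    (hl : ∀ z : Z, (z : G) ∈ N → l z = 1) [DecidableEq (↥Z →* ℂˣ)] :
    Nat.card {u : U // ∀ p : P, h.lam j (h.side.conjS ⟨u, h.side.U_le u.2⟩ p) = h.lam l p} =
      if j = l then (if j = 1 then Nat.card U else Nat.card ↥(layerC P U N)) else 0 := by
  by_cases hjl : j = l
  · subst hjl
    rw [if_pos rfl]
    by_cases hj1 : j = 1
    · subst hj1
      rw [if_pos rfl]
      exact Nat.card_congr (Equiv.subtypeUnivEquiv fun u p => by rw [h.lam_one, MonoidHom.one_apply,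
        MonoidHom.one_apply])
    · rw [if_neg hj1]
      refine Nat.card_congr
        { toFun := fun u => ⟨u.1, (h.twist ⟨hj1, hj⟩ hj u.1.2 u.2).1⟩
          invFun := fun c => ⟨⟨c, h.C_le c.2⟩, fun p => h.lam_C j c.2 p.2⟩
          left_inv := fun u => rfl
          right_inv := fun c => rfl }
  · rw [if_neg hjl, Nat.card_eq_zero]
    refine Or.inl ⟨fun u => hjl ?_⟩
    by_cases hj1 : j = 1
    · refine MonoidHom.ext fun z => ?_
      subst hj1
      obtain ⟨u, hu⟩ := u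
      rw [← h.lam_Z hl, ← hu, h.lam_one, MonoidHom.one_apply, MonoidHom.one_apply]
    · exact (h.twist ⟨hj1, hj⟩ hl u.1.2 u.2).2

end IsLayer

end Cfsg.Agent.OddFT
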