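import Cfsg.Agent.Lib.OddChar.FT.SideFacts

/-!
The weight argument when `U` acts freely.
-/

set_option autoImplicit false
set_option linter.unusedSectionVars false
set_option linter.unusedVariables false
set_option linter.style.haveILetI false

open Cfsg Cfsg.Agent.Char Cfsg.Agent.OddChar
open scoped ComplexConjugate Classical

namespace Cfsg.Agent.OddFT

universe u

variable {G : Type u} [Group G] [Fintype G] {S K Z P U : Subgroup G}

/-- The sum of the nontrivial `η 1 j` is even at elements of order prime to `|Z|`. -/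
theorem even_sum_eta (hodd : Odd (Nat.card Z)) (E : Grid K Z) {g : G}
    (hg : (orderOf g).Coprime (Nat.card Z)) :
    ∃ n : ℤ, Even n ∧ ∑ j ∈ Finset.univ.erase (1 : ↥Z →* ℂˣ), E.eta 1 j g = n := by
  choose n hn using fun j : ↥Z →* ℂˣ => E.int_right j g hg
  refine ⟨∑ j ∈ Finset.univ.erase (1 : ↥Z →* ℂˣ), n j, ?_,
    by rw [Int.cast_sum]; exact Finset.sum_congr rfl fun j _ => hn j⟩
  have hinv : ∀ j : ↥Z →* ℂˣ, n j⁻¹ = n j := by
    intro j
    have h1 : conj (E.eta 1 j g) = E.eta 1 j⁻¹ g := by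
      rw [← cj_apply, E.cj_eta, hom_one_inv]
    rw [hn, hn, map_intCast] at h1
    exact_mod_cast h1.symm
  have hii : ∀ j : ↥Z →* ℂˣ, j⁻¹⁻¹ = j := fun j => MonoidHom.ext fun z => by
    rw [MonoidHom.inv_apply, MonoidHom.inv_apply, inv_inv]
  rw [← ZMod.intCast_eq_zero_iff_even, Int.cast_sum]
  refine Finset.sum_involution (fun j _ => j⁻¹) (fun j _ => ?_) (fun j hj _ e => ?_) (fun j hj => ?_)
    fun j _ => hii j
  · rw [hinv]; exact CharTwo.add_self_eq_zero _
  · refine (Finset.mem_erase.1 hj).1 (MonoidHom.ext fun z => ?_)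
    have h2 : j z ^ 2 = 1 := by
      rw [sq]; nth_rewrite 1 [← e]; rw [MonoidHom.inv_apply, inv_mul_cancel]
    rw [MonoidHom.one_apply]
    refine orderOf_eq_one_iff.1 (Nat.eq_one_of_dvd_coprimes (Nat.coprime_two_left.2 hodd)
      (orderOf_dvd_of_pow_eq_one h2) (orderOf_dvd_of_pow_eq_one ?_))
    rw [← map_pow, pow_card_eq_one', map_one]
  · refine Finset.mem_erase.2 ⟨fun e => (Finset.mem_erase.1 hj).1 ?_, Finset.mem_univ _⟩
    rw [← hii j, e, hom_one_inv]

theorem mass_arith {q w u : ℝ} (hq : 3 ≤ q) (hw : 3 ≤ w) (hu : 7 ≤ u) :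
    1 / w + (q - 1) * (w - 1) / (q * w) + 1 / (u * q) < 1 - w / (q * (2 * w + 1)) := by
  have h1 : w / (2 * w + 1) < 1 / 2 := by rw [div_lt_iff₀ (by linarith)]; linarith
  have h2 : 1 / w ≤ 1 / 3 := one_div_le_one_div_of_le (by norm_num) hw
  have h3 : 1 / u ≤ 1 / 7 := one_div_le_one_div_of_le (by norm_num) hu
  have h4 : 0 < 1 - 1 / w - 1 / u - w / (2 * w + 1) := by linarith
  have e : 1 - w / (q * (2 * w + 1)) - (1 / w + (q - 1) * (w - 1) / (q * w) + 1 / (u * q)) =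
      (1 - 1 / w - 1 / u - w / (2 * w + 1)) / q := by
    field_simp
    ring
  have := div_pos h4 (show (0 : ℝ) < q by linarith)
  linarith

/-- The weight argument when `U` acts freely. -/
theorem mass_free (h : Side S K Z P U) (E : Grid K Z) (hP : sigmaCore S ≤ P)
    (hfree : ∀ c ∈ U, c ≠ 1 → ∀ p ∈ P, c * p = p * c → p = 1)
    (hw : ∀ y : G, (orderOf y).Prime → orderOf y ∣ Nat.card Z → y ∈ conjSet (sigmaSet S))
    {T H : Subgroup G} (hT : IsTI T ((H : Set G) \ {1})) (hTc : Nat.card T = Nat.card H * Nat.card Z)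
    {ψ : G → ℂ} (hψ : IsSigned G ψ)
    (hid : ∀ g, g ∉ conjSet ((H : Set G) \ {1}) →
      ψ g = 1 + ∑ j ∈ Finset.univ.erase (1 : ↥Z →* ℂˣ), E.eta 1 j g)
    (hdens : 1 - (Nat.card Z : ℝ) / (Nat.card K * (2 * Nat.card Z + 1)) ≤
      dens (conjSet ((H : Set G) \ {1})) ψ) : False := by
  set A := conjSet ((H : Set G) \ {1}) with hA
  set B := conjSet (sigmaSet S) with hB
  have hst : PowStable (A ∪ B)ᶜ :=
    ((powStable_punctured H).conjSet.union (powStable_sigmaSet S).conjSet).compl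
  have hne : ∀ g ∈ (A ∪ B)ᶜ, ψ g ≠ 0 := by
    intro g hg h0
    obtain ⟨n, hn, e⟩ := even_sum_eta (h.odd_card Z) E (h.coprime_order hw fun hb => hg (Or.inr hb))
    rw [hid g fun ha => hg (Or.inl ha), e] at h0
    obtain ⟨m, hm⟩ := hn
    have h1 : 1 + n = 0 := by exact_mod_cast h0
    omega
  have h1 := count_le_dens hψ.gen hst hne
  have h2 : dens A ψ + dens (A ∪ B)ᶜ ψ ≤ 1 := by
    rw [← dens_union (fun g (hg : g ∈ A) (hg' : g ∈ (A ∪ B)ᶜ) => hg' (Or.inl hg))]
    refine (dens_mono (Set.subset_univ _) ψ).trans ?_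
    rw [dens_univ, hψ.self, Complex.one_re]
  have hmA : meas A ≤ 1 / Nat.card Z := by
    rw [hA, hT.meas_conjSet, ncard_punctured, hTc, Nat.cast_mul]
    have hH : (0 : ℝ) < Nat.card H := Nat.cast_pos.2 Nat.card_pos
    have hZ : (0 : ℝ) < Nat.card Z := Nat.cast_pos.2 Nat.card_pos
    rw [div_le_div_iff₀ (by positivity) hZ]
    nlinarith
  have hPS : (P : Set G) \ {1} ⊆ sigmaSet S := fun x hx =>
    ⟨h.P_le_S hx.1, 1, by rw [pow_one]; exact h.P_le hx.1, by rw [pow_one]; exact hx.2⟩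
  have hTP : IsTI S ((P : Set G) \ {1}) := h.sigmaSet_isTI.mono hPS fun s hs x hx =>
    ⟨h.P_conj hs hx.1, fun e => hx.2 (Set.mem_singleton_iff.2 (conj_eq_one_iff.1 (Set.mem_singleton_iff.1 e)))⟩
  have hsub : B ⊆ conjSet ((P : Set G) \ {1}) ∪ hatG K Z := by
    rintro g ⟨x, hx⟩
    rcases h.sigmaSet_cases hP hfree hx with h' | ⟨y, a, ha, b, hb, ha1, hb1, e⟩
    · exact Or.inl ⟨x, h'⟩
    · exact Or.inr ⟨x⁻¹ * y, a, ha, b, hb, ha1, hb1, by
        calc g = x⁻¹ * (x * g * x⁻¹) * x := by group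
          _ = _ := by rw [e]; group⟩
  have hmP : meas (conjSet ((P : Set G) \ {1})) ≤ 1 / ((Nat.card U : ℝ) * Nat.card K) := by
    rw [hTP.meas_conjSet, ncard_punctured, h.card_eq, Nat.cast_mul, Nat.cast_mul]
    have hP0 : (0 : ℝ) < Nat.card P := Nat.cast_pos.2 Nat.card_pos
    have hU0 : (0 : ℝ) < Nat.card U := Nat.cast_pos.2 Nat.card_pos
    have hK0 : (0 : ℝ) < Nat.card K := Nat.cast_pos.2 Nat.card_pos
    rw [div_le_div_iff₀ (by positivity) (by positivity)]
    nlinarith [mul_pos hU0 hK0]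
  have hmB : meas B ≤ 1 / ((Nat.card U : ℝ) * Nat.card K) +
      ((Nat.card K : ℝ) - 1) * ((Nat.card Z : ℝ) - 1) / (Nat.card K * Nat.card Z) := by
    refine le_trans ?_ (le_trans (meas_union_le _ _) (add_le_add hmP E.meas_hat.le))
    unfold meas
    gcongr
    exact Set.toFinite _
  have hq : (3 : ℝ) ≤ Nat.card K := by exact_mod_cast h.three_le_K
  have hz : (3 : ℝ) ≤ Nat.card Z := by exact_mod_cast h.three_le_Z
  have hu : (7 : ℝ) ≤ Nat.card U := by
    have := h.two_mul_K_lt_U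
    have := h.three_le_K
    exact_mod_cast (by omega : 7 ≤ Nat.card U)
  have := mass_arith hq hz hu
  have hc := meas_compl (A ∪ B)
  have hu' := meas_union_le A B
  have e : ((A ∪ B)ᶜ.ncard : ℝ) / Nat.card G = meas (A ∪ B)ᶜ := rfl
  rw [e] at h1
  linarith

end Cfsg.Agent.OddFT
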