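import Cfsg.Agent.Lib.OddChar.FT.LayerModule
import Cfsg.Agent.Lib.OddChar.FT.MassFree

/-!
The weight argument against the conclusion of the tail.
-/

set_option autoImplicit false
set_option linter.unusedSectionVars false
set_option linter.unusedVariables false
set_option linter.style.haveILetI false

open Cfsg Cfsg.Agent.Char Cfsg.Agent.OddChar
open scoped ComplexConjugate Classical

namespace Cfsg.Agent.OddFT

universe u

variable {G : Type u} [Group G] [Fintype G] {S K Z P U : Subgroup G}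

/-- The conclusion of the tail is contradictory. -/
theorem mass_false (h : Side S K Z P U) (E : Grid K Z) (hP : sigmaCore S ≤ P)
    (hC : ∀ (r : ℕ) (N : Subgroup G), IsLayer S K Z P U N r → layerC P U N = ⊥)
    (hfc : IsCyclic U → ∀ c ∈ U, c ≠ 1 → ∀ p ∈ P, c * p = p * c → p = 1)
    (hw : ∀ y : G, (orderOf y).Prime → orderOf y ∣ Nat.card Z → y ∈ conjSet (sigmaSet S))
    {T H : Subgroup G} (hT : IsTI T ((H : Set G) \ {1})) (hTc : Nat.card T = Nat.card H * Nat.card Z)
    (hdis : ∀ g ∈ conjSet ((H : Set G) \ {1}), g ∉ conjSet (sigmaSet S))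
    {ψ : G → ℂ} (hψ : IsSigned G ψ)
    (hid : ∀ g, g ∉ conjSet ((H : Set G) \ {1}) →
      ψ g = 1 + ∑ j ∈ Finset.univ.erase (1 : ↥Z →* ℂˣ), E.eta 1 j g)
    (hdens : 1 - (Nat.card Z : ℝ) / (Nat.card K * (2 * Nat.card Z + 1)) ≤
      dens (conjSet ((H : Set G) \ {1})) ψ) : False := by
  by_cases hU : IsCyclic U
  · exact mass_free h E hP (hfc hU) hw hT hTc hψ hid hdens
  · obtain ⟨r, hr, hrZ⟩ := Nat.exists_prime_and_dvd (Ne.symm h.card_Z_pos.ne)
    obtain ⟨N, hN, -, -⟩ := exists_layer h hr hrZ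
    exact hN.mass_lines (hC r N hN) E (hN.regular_many (hC r N hN) hU) hψ hdis hid hdens

end Cfsg.Agent.OddFT
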