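import Cfsg.Agent.Lib.OddChar.FT.LayerFixed

/-!
The weight argument when a layer has many characters with trivial stabiliser.
-/

set_option autoImplicit false
set_option linter.unusedSectionVars false
set_option linter.unusedVariables false
set_option linter.style.haveILetI false

open Cfsg Cfsg.Agent.Char Cfsg.Agent.OddChar
open scoped ComplexConjugate Classical

namespace Cfsg.Agent.OddFT

universe u

variable {G : Type u} [Group G] [Fintype G] {S K Z P U N : Subgroup G} {r : ℕ}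

namespace IsLayer

variable (h : IsLayer S K Z P U N r)
include h

/-- The characters of `P / N` with trivial stabiliser in `U`. -/
noncomputable def regular : Finset (layerDual P N) :=
  Finset.univ.filter fun l => ∀ u : U, h.tw ⟨(u : G), h.side.U_le u.2⟩ l = l → u = 1

theorem regular_ne_one {l : layerDual P N} (hl : l ∈ h.regular) : l ≠ ⟨1, fun _ _ => rfl⟩ := by
  intro e
  obtain ⟨u, hu, hu1⟩ := U.bot_or_exists_ne_one.resolve_left h.side.U_ne
  refine hu1 (congrArg Subtype.val ((Finset.mem_filter.1 hl).2 ⟨u, hu⟩ ?_))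
  subst e
  exact Subtype.ext (MonoidHom.ext fun p => rfl)

/-- The coefficient of the conjugate function at the inverse character. -/
theorem coeff_inv {f : G → ℂ} {d : layerDual P N → ℤ}
    (hd : ∀ l, classInner (fun x : ↥(P ⊔ layerC P U N) => f x) (fun x => (h.ext l x : ℂ)) = d l)
    (l l' : layerDual P N) (hl : ∀ p : P, l'.1 p = (l.1 p)⁻¹) :
    classInner (fun x : ↥(P ⊔ layerC P U N) => cj f x) (fun x => (h.ext l' x : ℂ)) = d l := by
  have e : (fun x : ↥(P ⊔ layerC P U N) => (h.ext l' x : ℂ)) =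
      cj (fun x : ↥(P ⊔ layerC P U N) => (h.ext l x : ℂ)) := by
    funext x
    obtain ⟨p, hp, c, hc, ex⟩ := h.mem_PC.1 x.2
    rw [cj_apply, conj_hom, h.ext_apply l' x ⟨p, hp⟩ ⟨c, hc⟩ ex, h.ext_apply l x ⟨p, hp⟩ ⟨c, hc⟩ ex, hl]
  rw [e, show (fun x : ↥(P ⊔ layerC P U N) => cj f x) = cj (fun x : ↥(P ⊔ layerC P U N) => f x) from rfl,
    classInner_cj, hd, map_intCast]

variable (hC : layerC P U N = ⊥)
include hC

/-- The variance bound for `1 + ∑ η 1 j`. -/
theorem lines_bound (E : Grid K Z) (hreg : 2 * (r - 1) * Nat.card U ≤ h.regular.card) :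
    ((r : ℝ) - 1) * (1 - ((r : ℝ) - 1) * Nat.card U / (r : ℝ) ^ Nat.card K) / Nat.card K ≤
      dens (conjSet (layerX P U N))
        ((fun _ => 1) + ∑ j ∈ Finset.univ.erase (1 : ↥Z →* ℂˣ), E.eta 1 j) := by
  set one : layerDual P N := ⟨1, fun _ _ => rfl⟩ with hone
  set Jf := Finset.univ.filter fun j : ↥Z →* ℂˣ => j ∈ layerJ Z N with hJf
  set rest := (Finset.univ.erase (1 : ↥Z →* ℂˣ)) \ Jf with hrest
  set O := Jf.biUnion h.orbit with hO
  set G' := h.regular \ O with hG'
  choose d hd using fun j : ↥Z →* ℂˣ => h.exists_coeff (E.eta_gen 1 j)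
  obtain ⟨j0, hj0⟩ := h.exists_layerJ
  choose e he using fun (j : ↥Z →* ℂˣ) (hj : j ∈ layerJ Z N) => h.coeff_shift E hj hj0 (hd j) (hd j0)
  have hJsub : Jf ⊆ Finset.univ.erase (1 : ↥Z →* ℂˣ) := fun j hj =>
    Finset.mem_erase.2 ⟨(Finset.mem_filter.1 hj).2.1, Finset.mem_univ _⟩
  -- the coefficients
  set D : layerDual P N → ℤ :=
    fun l => (if l = one then 1 else 0) + ∑ j ∈ Finset.univ.erase (1 : ↥Z →* ℂˣ), d j l with hD
  have hDd : ∀ l, classInner
      (fun x : ↥(P ⊔ layerC P U N) =>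
        ((fun _ : G => (1 : ℂ)) + ∑ j ∈ Finset.univ.erase (1 : ↥Z →* ℂˣ), E.eta 1 j) (x : G))
      (fun x => (h.ext l x : ℂ)) = D l := by
    intro l
    have e1 : classInner (fun _ : ↥(P ⊔ layerC P U N) => (1 : ℂ)) (fun x => (h.ext l x : ℂ)) =
        ((if l = one then 1 else 0 : ℤ) : ℂ) := by
      have hx : ∀ x, h.ext one x = 1 := fun x => by
        obtain ⟨p, hp, c, hc, ex⟩ := h.mem_PC.1 x.2
        rw [h.ext_apply one x ⟨p, hp⟩ ⟨c, hc⟩ ex]; rfl
      have := irrC_orth (G := ↥(P ⊔ layerC P U N)) ⟨_, isIrrCharacter_linear (h.ext one)⟩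
        ⟨_, isIrrCharacter_linear (h.ext l)⟩
      simp only [hx, Units.val_one] at this
      rw [this]
      by_cases hl : l = one
      · subst hl; simp [hx]
      · rw [if_neg hl, if_neg fun c => hl (h.ext_injective (MonoidHom.ext fun x => Units.ext (by
          have := congrFun (congrArg Subtype.val c) x
          rw [hx, Units.val_one]
          exact this.symm))), Int.cast_zero]
    have e2 : (fun x : ↥(P ⊔ layerC P U N) =>
        ((fun _ : G => (1 : ℂ)) + ∑ j ∈ Finset.univ.erase (1 : ↥Z →* ℂˣ), E.eta 1 j) (x : G)) =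
        (fun _ => (1 : ℂ)) + ∑ j ∈ Finset.univ.erase (1 : ↥Z →* ℂˣ), fun x : ↥(P ⊔ layerC P U N) => E.eta 1 j x := by
      funext x; simp [Finset.sum_apply]
    rw [e2, classInner_add_left, classInner_sum_left, e1, hD, Int.cast_add, Int.cast_sum]
    congr 1
    exact Finset.sum_congr rfl fun j _ => hd j l
  -- facts about the two sets
  have hOcard : O.card = (r - 1) * Nat.card U := by
    rw [hO, Finset.card_biUnion fun i hi j hj hij =>
      h.orbit_disjoint (Finset.mem_filter.1 hi).2 (Finset.mem_filter.1 hj).2 hij,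
      Finset.sum_congr rfl (g := fun _ => Nat.card U) fun j hj => by
        have := h.card_orbit (Finset.mem_filter.1 hj).2
        rwa [hC, Subgroup.card_bot, mul_one] at this, Finset.sum_const, smul_eq_mul]
    congr 1
    have := h.card_layerJ
    omega
  have hcard : O.card ≤ G'.card := by
    rw [hG', hOcard]
    have h1 := Finset.le_card_sdiff O h.regular
    rw [hOcard] at h1
    rw [mul_assoc] at hreg
    omega
  have hdisj : Disjoint O G' := Finset.disjoint_sdiff
  have hone' : ∀ a ∈ O ∪ G', a ≠ one := by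
    intro a ha
    rcases Finset.mem_union.1 ha with ha | ha
    · obtain ⟨j, hj, hl⟩ := Finset.mem_biUnion.1 ha
      obtain ⟨u, hu⟩ := h.mem_orbit.1 hl
      rintro rfl
      refine (Finset.mem_filter.1 hj).2.1 (MonoidHom.ext fun z => ?_)
      rw [← h.lam_Z (Finset.mem_filter.1 hj).2.2, MonoidHom.one_apply]
      have := hu (h.side.conjS ⟨(u : G)⁻¹, S.inv_mem (h.side.U_le u.2)⟩ ⟨z, h.side.Z_le z.2⟩)
      rw [show (one : layerDual P N).1 _ = 1 from rfl] at this
      rw [← this]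
      exact congrArg _ (Subtype.ext (by simp [Side.conjS_apply, mul_assoc]))
    · exact h.regular_ne_one (Finset.mem_sdiff.1 ha).1
  have hstab : ∀ a ∈ G', ∀ s : S, h.tw s a = a → (s : G) ∈ P := by
    intro a ha s hs
    obtain ⟨p, hp, u, hu, k, hk, es⟩ := h.side.mul s s.2
    have e1 : s = ⟨p, h.side.P_le_S hp⟩ * ⟨u * k, S.mul_mem (h.side.U_le hu) (h.side.K_le hk)⟩ :=
      Subtype.ext (by simp [es, mul_assoc])
    rw [e1, ← h.tw_tw, h.tw_P hp] at hs
    by_cases hk1 : k = 1
    · subst hk1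
      have h1 := (Finset.mem_filter.1 (Finset.mem_sdiff.1 ha).1).2 ⟨u, hu⟩ (by
        convert hs using 2
        exact Subtype.ext (mul_one u).symm)
      have hu1 : u = 1 := congrArg Subtype.val h1
      rw [es, hu1, mul_one, mul_one]
      exact hp
    · exfalso
      obtain ⟨m, v, hm, hmv⟩ := h.exists_lam_of_fixed hu hk hk1 hs
      by_cases hm1 : m = 1
      · subst hm1
        exact hone' a (Finset.mem_union_right _ ha) (Subtype.ext (MonoidHom.ext fun p => by
          rw [← hmv, h.lam_one]; rfl))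
      · exact (Finset.mem_sdiff.1 ha).2 (Finset.mem_biUnion.2
          ⟨m, Finset.mem_filter.2 ⟨Finset.mem_univ _, hm1, hm⟩, h.mem_orbit.2 ⟨v, hmv⟩⟩)
  -- constancy off the layer
  have hrestmem : ∀ j ∈ rest, j ≠ 1 ∧ j ∉ layerJ Z N := fun j hj =>
    ⟨(Finset.mem_erase.1 (Finset.mem_sdiff.1 hj).1).1,
      fun c => (Finset.mem_sdiff.1 hj).2 (Finset.mem_filter.2 ⟨Finset.mem_univ _, c⟩)⟩
  have hcl : ∀ j, IsClassFunction G (E.eta 1 j) := fun j => isClassFunction_genChar (E.eta_gen 1 j)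
  have hG'const : ∀ j, ∀ a ∈ G', ∀ b ∈ G', d j a = d j b := fun j a ha b hb => by
    have := h.coeff_const_regular hC E a b (hone' a (Finset.mem_union_right _ ha))
      (hone' b (Finset.mem_union_right _ hb)) (hstab a ha) (hstab b hb) 1 j
    rw [hd, hd] at this
    exact_mod_cast this
  have hOconst : ∀ j ∈ rest, ∀ a ∈ O, ∀ b ∈ O, d j a = d j b := by
    intro j hj
    have key : ∀ a ∈ O, ∃ x ∈ layerJ Z N, d j a = d j ⟨h.lam x, fun p hp => h.lam_N x hp⟩ := by
      intro a ha
      obtain ⟨x, hx, hl⟩ := Finset.mem_biUnion.1 ha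
      obtain ⟨u, hu⟩ := h.mem_orbit.1 hl
      refine ⟨x, (Finset.mem_filter.1 hx).2, ?_⟩
      have e1 : h.tw ⟨(u : G), h.side.U_le u.2⟩ ⟨h.lam x, fun p hp => h.lam_N x hp⟩ = a :=
        Subtype.ext (MonoidHom.ext hu)
      have e2 := h.coeff_tw hC (hcl j) ⟨(u : G), h.side.U_le u.2⟩ ⟨h.lam x, fun p hp => h.lam_N x hp⟩
      rw [e1, hd, hd] at e2
      exact_mod_cast e2
    intro a ha b hb
    obtain ⟨x, hx, ex⟩ := key a ha
    obtain ⟨y, hy, ey⟩ := key b hb
    have := h.coeff_const_lam hC E hx hy (j := j) (fun c => (hrestmem j hj).2 (c ▸ hx))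
      (fun c => (hrestmem j hj).2 (c ▸ hy))
    rw [hd, hd] at this
    rw [ex, ey]
    exact_mod_cast this
  -- inversion
  let inv : layerDual P N → layerDual P N := fun l => ⟨l.1⁻¹, fun p hp => by rw [MonoidHom.inv_apply, l.2 p hp, inv_one]⟩
  have hdinv : ∀ j l, d j⁻¹ (inv l) = d j l := fun j l => by
    have e1 := h.coeff_inv (hd j) l (inv l) fun p => rfl
    rw [E.cj_eta, hom_one_inv, hd] at e1
    exact_mod_cast e1
  have hOinv : ∀ a ∈ O, inv a ∈ O := by
    intro a ha
    obtain ⟨x, hx, hl⟩ := Finset.mem_biUnion.1 ha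
    obtain ⟨u, hu⟩ := h.mem_orbit.1 hl
    refine Finset.mem_biUnion.2 ⟨x⁻¹, Finset.mem_filter.2 ⟨Finset.mem_univ _,
      h.inv_mem_layerJ (Finset.mem_filter.1 hx).2⟩, h.mem_orbit.2 ⟨u, fun p => ?_⟩⟩
    rw [h.lam_inv (Finset.mem_filter.1 hx).2.2, MonoidHom.inv_apply, hu]
    rfl
  have hii : ∀ l, inv (inv l) = l := fun l => Subtype.ext (MonoidHom.ext fun p => by simp [inv])
  have hG'inv : ∀ b ∈ G', inv b ∈ G' := by
    intro b hb
    refine Finset.mem_sdiff.2 ⟨Finset.mem_filter.2 ⟨Finset.mem_univ _, fun u hu => ?_⟩, fun c =>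
      (Finset.mem_sdiff.1 hb).2 (by have := hOinv _ c; rwa [hii] at this)⟩
    refine (Finset.mem_filter.1 (Finset.mem_sdiff.1 hb).1).2 u (Subtype.ext (MonoidHom.ext fun p => ?_))
    have := DFunLike.congr_fun (congrArg Subtype.val hu) p
    exact inv_injective (by simpa [inv, tw_apply] using this)
  have hjj : ∀ j : ↥Z →* ℂˣ, j⁻¹⁻¹ = j := fun j => MonoidHom.ext fun z => by
    rw [MonoidHom.inv_apply, MonoidHom.inv_apply, inv_inv]
  -- parity
  have hpar : ∀ a ∈ O, ∀ b ∈ G', Odd (D a - D b) := by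
    intro a ha b hb
    have hDa : D a = ∑ j ∈ rest, d j a + ∑ j ∈ Jf, d j a := by
      rw [hrest, Finset.sum_sdiff hJsub]; simp [hD, hone' a (Finset.mem_union_left _ ha)]
    have hDb : D b = ∑ j ∈ rest, d j b + ∑ j ∈ Jf, d j b := by
      rw [hrest, Finset.sum_sdiff hJsub]; simp [hD, hone' b (Finset.mem_union_right _ hb)]
    have hJ : ∑ j ∈ Jf, d j a - ∑ j ∈ Jf, d j b =
        (Jf.card : ℤ) * ((d j0 a - if a ∈ h.orbit j0 then 1 else 0) - (d j0 b - if b ∈ h.orbit j0 then 1 else 0)) + 1 := by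
      rw [← Finset.sum_sub_distrib]
      have e1 : ∀ j ∈ Jf, d j a - d j b =
          ((d j0 a - if a ∈ h.orbit j0 then 1 else 0) - (d j0 b - if b ∈ h.orbit j0 then 1 else 0)) +
            (if a ∈ h.orbit j then 1 else 0) := fun j hj => by
        have hb0 : b ∉ h.orbit j := fun c => (Finset.mem_sdiff.1 hb).2 (Finset.mem_biUnion.2 ⟨j, hj, c⟩)
        rw [he j (Finset.mem_filter.1 hj).2 a, he j (Finset.mem_filter.1 hj).2 b, if_neg hb0]
        ring
      rw [Finset.sum_congr rfl e1, Finset.sum_add_distrib, Finset.sum_const, nsmul_eq_mul]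
      congr 1
      obtain ⟨x, hx, hl⟩ := Finset.mem_biUnion.1 ha
      rw [Finset.sum_eq_single x (fun j hj hne => if_neg fun c => Finset.disjoint_left.1
        (h.orbit_disjoint (Finset.mem_filter.1 hj).2 (Finset.mem_filter.1 hx).2 hne) c hl)
        (fun c => absurd hx c), if_pos hl]
    have hev : Even (Jf.card : ℤ) := by
      have hc := h.card_layerJ
      have hodd : Odd r := (h.side.odd_card Z).of_dvd_nat h.card_r
      rw [Int.even_coe_nat, Nat.even_iff]
      rw [Nat.odd_iff] at hodd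
      rw [← hJf] at hc
      omega
    have hR : Even (∑ j ∈ rest, (d j a - d j b)) := by
      rw [← ZMod.intCast_eq_zero_iff_even, Int.cast_sum]
      refine Finset.sum_involution (fun j _ => j⁻¹) (fun j hj => ?_) (fun j hj _ e => ?_) (fun j hj => ?_)
        fun j _ => hjj j
      · have ea : d j⁻¹ a = d j a := by
          rw [← hii a, hdinv, hii]
          exact hOconst j hj _ (hOinv a ha) _ ha
        have eb : d j⁻¹ b = d j b := by
          rw [← hii b, hdinv, hii]
          exact hG'const j _ (hG'inv b hb) _ hb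
        rw [ea, eb]
        exact CharTwo.add_self_eq_zero _
      · refine (hrestmem j hj).1 (MonoidHom.ext fun z => ?_)
        have h2 : j z ^ 2 = 1 := by
          rw [sq]; nth_rewrite 1 [← e]; rw [MonoidHom.inv_apply, inv_mul_cancel]
        rw [MonoidHom.one_apply]
        refine orderOf_eq_one_iff.1 (Nat.eq_one_of_dvd_coprimes (Nat.coprime_two_left.2 (h.side.odd_card Z))
          (orderOf_dvd_of_pow_eq_one h2) (orderOf_dvd_of_pow_eq_one ?_))
        rw [← map_pow, pow_card_eq_one', map_one]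
      · refine Finset.mem_sdiff.2 ⟨Finset.mem_erase.2 ⟨fun e => (hrestmem j hj).1 ?_, Finset.mem_univ _⟩, fun c =>
          (hrestmem j hj).2 ?_⟩
        · rw [← hjj j, e, hom_one_inv]
        · have := h.inv_mem_layerJ (Finset.mem_filter.1 c).2
          rwa [hjj] at this
    rw [Finset.sum_sub_distrib] at hR
    rw [hDa, hDb, show ∑ j ∈ rest, d j a + ∑ j ∈ Jf, d j a - (∑ j ∈ rest, d j b + ∑ j ∈ Jf, d j b) =
      (∑ j ∈ rest, d j a - ∑ j ∈ rest, d j b) + (∑ j ∈ Jf, d j a - ∑ j ∈ Jf, d j b) by ring, hJ, ← add_assoc]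
    exact (hR.add (hev.mul_right _)).add_one
  -- the bound
  have hg := parity_lemma D O G' hdisj hcard hpar
  have hgen : IsGeneralizedCharacter G ((fun _ => 1) + ∑ j ∈ Finset.univ.erase (1 : ↥Z →* ℂˣ), E.eta 1 j) :=
    gen_add gen_one (isGenChar_sum _ _ fun j _ => E.eta_gen 1 j)
  refine le_trans ?_ (h.mass (isClassFunction_genChar hgen) D hDd)
  have hO' : (O.card : ℝ) = ((r : ℝ) - 1) * Nat.card U := by
    rw [hOcard, Nat.cast_mul, Nat.cast_sub h.prime.one_le, Nat.cast_one]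
  have hΛ : (Fintype.card (layerDual P N) : ℝ) = (r : ℝ) ^ Nat.card K := by
    rw [← Nat.card_eq_fintype_card, h.card_layerDual, Nat.cast_pow]
  have hC1 : (Nat.card ↥(layerC P U N) : ℝ) = 1 := by rw [hC, Subgroup.card_bot, Nat.cast_one]
  rw [hO', hΛ] at hg
  have hU : (0 : ℝ) < Nat.card U := Nat.cast_pos.2 Nat.card_pos
  have hK : (0 : ℝ) < Nat.card K := Nat.cast_pos.2 Nat.card_pos
  rw [hC1, div_one, le_div_iff₀ (by positivity)]
  refine le_trans (le_of_eq ?_) hg
  field_simp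

/-- The weight argument when a layer has many characters with trivial stabiliser. -/
theorem mass_lines (E : Grid K Z) (hreg : 2 * (r - 1) * Nat.card U ≤ h.regular.card) {Y : Set G} {ψ : G → ℂ}
    (hψ : IsSigned G ψ) (hdis : ∀ g ∈ Y, g ∉ conjSet (sigmaSet S))
    (hid : ∀ g, g ∉ Y → ψ g = 1 + ∑ j ∈ Finset.univ.erase (1 : ↥Z →* ℂˣ), E.eta 1 j g)
    (hdens : 1 - (Nat.card Z : ℝ) / (Nat.card K * (2 * Nat.card Z + 1)) ≤ dens Y ψ) : False := by
  have hb := h.lines_bound hC E hreg
  have hd : ∀ g ∈ Y, g ∉ conjSet (layerX P U N) := fun g hg hx => by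
    obtain ⟨x, hx⟩ := hx
    exact hdis g hg ⟨x, h.layerX_sub hx⟩
  have hx : dens (conjSet (layerX P U N)) ψ = dens (conjSet (layerX P U N))
      ((fun _ => 1) + ∑ j ∈ Finset.univ.erase (1 : ↥Z →* ℂˣ), E.eta 1 j) :=
    dens_congr fun g hg => by
      rw [hid g fun c => hd g c hg]
      simp [Finset.sum_apply]
  have h2 : dens Y ψ + dens (conjSet (layerX P U N)) ψ ≤ 1 := by
    rw [← dens_union hd]
    refine (dens_mono (Set.subset_univ _) ψ).trans ?_
    rw [dens_univ, hψ.self, Complex.one_re]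
  rw [hx] at h2
  have hq : (3 : ℝ) ≤ Nat.card K := by exact_mod_cast h.side.three_le_K
  have hw : (3 : ℝ) ≤ Nat.card Z := by exact_mod_cast h.side.three_le_Z
  have hr : (3 : ℝ) ≤ r := by
    have hodd : Odd r := (h.side.odd_card Z).of_dvd_nat h.card_r
    obtain ⟨a, ha⟩ := hodd
    have := h.prime.two_le
    exact_mod_cast (by omega : 3 ≤ r)
  have hfrac : ((r : ℝ) - 1) * Nat.card U / (r : ℝ) ^ Nat.card K ≤ 1 / 2 := by
    have h1 : h.regular.card ≤ r ^ Nat.card K := by
      rw [← h.card_layerDual, Nat.card_eq_fintype_card]; exact Finset.card_le_univ _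
    have h2 : (((2 * (r - 1) * Nat.card U : ℕ)) : ℝ) ≤ ((r ^ Nat.card K : ℕ) : ℝ) :=
      Nat.cast_le.2 (hreg.trans h1)
    rw [Nat.cast_mul, Nat.cast_mul, Nat.cast_sub h.prime.one_le, Nat.cast_pow] at h2
    rw [div_le_div_iff₀ (by positivity) two_pos]
    push_cast at h2
    nlinarith
  have h3 : 1 / (Nat.card K : ℝ) ≤
      ((r : ℝ) - 1) * (1 - ((r : ℝ) - 1) * Nat.card U / (r : ℝ) ^ Nat.card K) / Nat.card K :=
    div_le_div_of_nonneg_right (by nlinarith) (by linarith)
  have h4 : (Nat.card Z : ℝ) / (Nat.card K * (2 * Nat.card Z + 1)) < 1 / (Nat.card K : ℝ) := by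
    rw [div_lt_div_iff₀ (by positivity) (by linarith)]
    nlinarith
  linarith

end IsLayer

end Cfsg.Agent.OddFT
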