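import Cfsg.Agent.Lib.OddChar.FT.Defs
import Cfsg.Agent.Lib.OddChar.FT.GridOrth
import Cfsg.Agent.Lib.OddChar.TypeOne
import Cfsg.Agent.Lib.OddChar.TauTwoConf
import Cfsg.Agent.S1537
import Cfsg.Agent.S1542

/-!
The neighbour `L` of one side: its Dade support, its coherent family, and the value identity outside the
support.
-/

set_option autoImplicit false
set_option linter.unusedSectionVars false
set_option linter.unusedVariables false
set_option linter.style.haveILetI false

open Cfsg Cfsg.Agent.Char Cfsg.Agent.OddChar Cfsg.Agent.OddLocal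
open scoped ComplexConjugate

namespace Cfsg.Agent.OddFT

universe u

variable {G : Type u} [Group G] [Fintype G]

/-- The Dade map attached to `A(L)`. -/
noncomputable abbrev tauL (L : Subgroup G) : (L → ℂ) → G → ℂ :=
  dadeIsometry (typeA L) L (supportR L)

/-- The Dade support attached to `A(L)`. -/
noncomputable abbrev tildeL (L : Subgroup G) : Set G := dadeSet (typeA L) (supportR L)

/-- The characters of `L` induced from the nonprincipal irreducible characters of `H`. -/
noncomputable abbrev famF (L H : Subgroup G) [Fintype L] : Set (L → ℂ) :=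
  inducedIrrAbove (H.subgroupOf L) ⊥

section DadeLinear

variable {A : Set G} {L : Subgroup G} {R : G → Subgroup G}

theorem dade_sub (α β : L → ℂ) :
    dadeIsometry A L R (α - β) = dadeIsometry A L R α - dadeIsometry A L R β := by
  funext g
  simp only [Pi.sub_apply, dadeIsometry]
  split <;> simp

theorem dade_add (α β : L → ℂ) :
    dadeIsometry A L R (α + β) = dadeIsometry A L R α + dadeIsometry A L R β := by
  funext g
  simp only [Pi.add_apply, dadeIsometry]
  split <;> simp

theorem dade_smul (r : ℂ) (α : L → ℂ) : dadeIsometry A L R (r • α) = r • dadeIsometry A L R α := by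
  funext g
  simp only [Pi.smul_apply, dadeIsometry]
  split <;> simp

theorem dade_cj [Fintype L] (α : L → ℂ) : dadeIsometry A L R (cj α) = cj (dadeIsometry A L R α) := by
  funext g
  simp only [cj_apply, dadeIsometry]
  split <;> simp

theorem classInner_dade_one [Fintype L] (hD : DadeHypothesis A L R) {α : L → ℂ}
    (hα : IsClassFunction L α) (hs : ∀ x : L, (x : G) ∉ A → α x = 0) :
    classInner (dadeIsometry A L R α) (fun _ => 1) = classInner α (fun _ => 1) := by
  refine classInner_dade hD hα hs (fun _ _ => rfl) fun a ha => ?_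
  rw [finsum_mem_eq_finite_toFinset_sum _ (Set.toFinite _), Finset.sum_const,
    ← Set.ncard_eq_toFinset_card, ← Nat.card_coe_set_eq]
  simp only [SetLike.coe_sort_coe, nsmul_eq_mul, mul_one]
  exact (inv_mul_cancel₀ (Nat.cast_ne_zero.mpr Nat.card_pos.ne')).symm

end DadeLinear

namespace Nbr

variable {S K U T L H E Z : Subgroup G} (hN : Nbr S K U T L H E)
include hN

theorem H_le : H ≤ L := hN.H_eq ▸ Subgroup.map_subtype_le _

theorem typeI : IsOfTypeI L := Kappa.typeI_of_empty hN.minSimple hN.coatom hN.kappa_eq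

theorem fitting : fittingHallOf L = H := by
  rw [hN.H_eq, Kappa.fittingHallOf_eq hN.minSimple hN.coatom hN.kappa_eq]

theorem fittingHall_eq : fittingHall L = H.subgroupOf L := by
  rw [← hN.fitting, fittingHallOf, Subgroup.subgroupOf,
    Subgroup.comap_map_eq_self_of_injective L.subtype_injective]

theorem normal : (H.subgroupOf L).Normal := hN.fittingHall_eq ▸ fittingHall_normal L

theorem centralizer_le {x : G} (hx : x ∈ H) (hx1 : x ≠ 1) :
    L ⊓ Subgroup.centralizer ({x} : Set G) ≤ H := by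
  rw [hN.H_eq] at hx ⊢
  exact Kappa.centralizer_le_core hN.minSimple hN.coatom hN.kappa_eq hx hx1

theorem typeA_eq : typeA L = (H : Set G) \ {1} := by
  rw [typeA, if_pos hN.typeI, hN.fitting]
  ext a
  constructor
  · rintro ⟨haL, ha1, x, hx, hx1, hax⟩
    exact ⟨hN.centralizer_le hx hx1 ⟨haL, Subgroup.mem_centralizer_singleton_iff.2 hax⟩, ha1⟩
  · rintro ⟨ha, ha1⟩
    exact ⟨hN.H_le ha, ha1, a, ha, ha1, rfl⟩

theorem mem_typeA {a : G} : a ∈ typeA L ↔ a ∈ H ∧ a ≠ 1 := by
  rw [hN.typeA_eq]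
  rfl

theorem dade : DadeHypothesis (typeA L) L (supportR L) :=
  (S1537.result hN.minSimple L hN.coatom (typeA L) (Or.inr (Or.inl rfl))).2

theorem frob : ∀ h ∈ H.subgroupOf L, h ≠ 1 →
    Subgroup.centralizer ({h} : Set L) ≤ H.subgroupOf L := fun h hh h1 z hz =>
  Subgroup.mem_subgroupOf.2 (hN.centralizer_le hh (fun e => h1 (Subtype.ext e)) ⟨z.2,
    Subgroup.mem_centralizer_singleton_iff.2
      (congrArg Subtype.val (Subgroup.mem_centralizer_singleton_iff.1 hz) :)⟩)

theorem index_eq : (H.subgroupOf L).index = Nat.card E := by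
  have h := hN.compl
  rw [hN.H_eq] at h ⊢
  exact (Sig.compl_card h).1.symm

theorem card_mul : Nat.card E * Nat.card H = Nat.card L := by
  have h := hN.compl
  rw [hN.H_eq] at h ⊢
  exact (Sig.compl_card h).2

theorem not_sigma_K {t : ℕ} (ht : t.Prime) (hd : t ∣ Nat.card K) : t ∉ sigma L := by
  refine Sig.compl_pi hN.minSimple hN.coatom ?_ ht (hd.trans (Subgroup.card_dvd_of_le hN.K_le))
  have h := hN.compl
  rwa [hN.H_eq] at h

/-- An element of the support has order divisible by a prime of `σ(L)`. -/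
theorem tilde_order {g : G} (hg : g ∈ tildeL L) :
    ∃ t : ℕ, t.Prime ∧ t ∈ sigma L ∧ t ∣ orderOf g := by
  obtain ⟨a, ha, v, hv, x, e⟩ := hg
  obtain ⟨haH, ha1⟩ := hN.mem_typeA.1 ha
  obtain ⟨t, ht, htd⟩ := Nat.exists_prime_and_dvd fun h => ha1 (orderOf_eq_one_iff.1 h)
  have hg' : orderOf g = orderOf a * orderOf v := by
    rw [← (dade_commute hN.dade ha hv).orderOf_mul_eq_mul_orderOf_of_coprime
      ((dade_coprime_order hN.dade ha ha).symm.coprime_dvd_right (Subgroup.orderOf_dvd_natCard _ hv)), ← e]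
    exact ((MulAut.conj x).orderOf_eq g).symm
  refine ⟨t, ht, by_contra fun h => ?_, hg' ▸ htd.trans (dvd_mul_right _ _)⟩
  refine Sig.not_dvd_piCoreOf (M := L) ht h (htd.trans (Subgroup.orderOf_dvd_natCard _ ?_))
  rw [hN.H_eq] at haH
  exact haH

theorem not_dvd_core_S {t : ℕ} (ht : t.Prime) (hσ : t ∈ sigma L) :
    ¬ t ∣ Nat.card (sigmaCore S) ∧ ¬ t ∣ Nat.card (sigmaCore T) := by
  have h1 := hN.not_conj_S 1 t ht hσ
  have h2 := hN.not_conj_T 1 t ht hσ
  rw [Fusion.cj_one] at h1 h2
  exact ⟨Sig.not_dvd_piCoreOf (M := S) ht h1, Sig.not_dvd_piCoreOf (M := T) ht h2⟩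

/-- The support avoids the conjugates of the elements of `K Z` outside the factors. -/
theorem tilde_not_hat (hZ : Z ≤ sigmaCore S) {g : G} (hcomm : ∀ a ∈ K, ∀ b ∈ Z, a * b = b * a)
    (hg : g ∈ tildeL L) : g ∉ hatG K Z := by
  rintro ⟨x, a, ha, b, hb, -, -, rfl⟩
  obtain ⟨t, ht, hσ, htd⟩ := hN.tilde_order hg
  rw [show orderOf (x * (a * b) * x⁻¹) = orderOf (a * b) from (MulAut.conj x).orderOf_eq (a * b)] at htd
  have h := htd.trans ((show Commute a b from hcomm a ha b hb).orderOf_mul_dvd_mul_orderOf)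
  rcases (Nat.Prime.dvd_mul ht).1 h with h | h
  · exact hN.not_sigma_K ht (h.trans (Subgroup.orderOf_dvd_natCard _ ha)) hσ
  · exact (hN.not_dvd_core_S ht hσ).1
      ((h.trans (Subgroup.orderOf_dvd_natCard _ hb)).trans (Subgroup.card_dvd_of_le hZ))

/-- The support avoids the conjugates of `K`. -/
theorem tilde_not_conj_K {g : G} (hg : g ∈ tildeL L) : g ∉ conjSet ((K : Set G) \ {1}) := by
  rintro ⟨x, hx, -⟩
  obtain ⟨t, ht, hσ, htd⟩ := hN.tilde_order hg
  rw [← show orderOf (x * g * x⁻¹) = orderOf g from (MulAut.conj x).orderOf_eq g] at htd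
  exact hN.not_sigma_K ht (htd.trans (Subgroup.orderOf_dvd_natCard _ hx)) hσ

/-- The support avoids the conjugates of the subgroups of the `σ`-cores of `S` and of `T`. -/
theorem tilde_not_conj {X : Subgroup G} (hX : X ≤ sigmaCore S ∨ X ≤ sigmaCore T) {g : G}
    (hg : g ∈ tildeL L) : g ∉ conjSet ((X : Set G) \ {1}) := by
  rintro ⟨x, hx, -⟩
  obtain ⟨t, ht, hσ, htd⟩ := hN.tilde_order hg
  rw [← show orderOf (x * g * x⁻¹) = orderOf g from (MulAut.conj x).orderOf_eq g] at htd
  have hd := htd.trans (Subgroup.orderOf_dvd_natCard _ hx)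
  rcases hX with h | h
  · exact (hN.not_dvd_core_S ht hσ).1 (hd.trans (Subgroup.card_dvd_of_le h))
  · exact (hN.not_dvd_core_S ht hσ).2 (hd.trans (Subgroup.card_dvd_of_le h))

theorem one_notMem_tilde : (1 : G) ∉ tildeL L := fun h => by
  obtain ⟨t, ht, -, htd⟩ := hN.tilde_order h
  rw [orderOf_one] at htd
  exact ht.ne_one (Nat.dvd_one.1 htd)

variable [Fintype L]

theorem fam_facts :
    (∀ a ∈ famF L H, IsIrrCharacter L a) ∧ IsCoherent (famF L H) {1}ᶜ (tauL L) := by
  have h := S1542.result hN.minSimple L hN.coatom hN.typeI (fun x hx hx1 => by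
    rw [hN.fitting] at hx ⊢
    exact hN.centralizer_le hx hx1)
  rwa [hN.fittingHall_eq] at h

theorem fam_irr {a : L → ℂ} (ha : a ∈ famF L H) : IsIrrCharacter L a := hN.fam_facts.1 a ha

theorem fam_eq_chSet : famF L H = chSet (H.subgroupOf L) ⊥ := by
  haveI := hN.normal
  exact inducedIrrAbove_eq_chSet (H.subgroupOf L) hN.frob

theorem fam_conj {a : L → ℂ} (ha : a ∈ famF L H) : conjFun a ∈ famF L H ∧ conjFun a ≠ a := by
  haveI := hN.normal
  haveI : Fintype (H.subgroupOf L) := Fintype.ofFinite _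
  rw [hN.fam_eq_chSet] at ha ⊢
  exact ⟨conjFun_mem_chSet _ ha,
    conjFun_ne_self _ (hN.minSimple.1.of_dvd_nat (Subgroup.card_subgroup_dvd_card L)) ha⟩

/-- The members vanish outside `H`. -/
theorem fam_support {a : L → ℂ} (ha : a ∈ famF L H) {x : L} (hx : (x : G) ∉ H) : a x = 0 := by
  obtain ⟨θ, -, -, -, rfl⟩ := ha
  rw [indFun, Finset.sum_eq_zero, mul_zero]
  intro y _
  refine extendByZero_not_mem _ _ fun h => hx (Subgroup.mem_subgroupOf.1 ?_)
  have h' := hN.normal.conj_mem _ h y
  rwa [show y * (y⁻¹ * x * y) * y⁻¹ = x by group] at h'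

theorem fam_one {a : L → ℂ} (ha : a ∈ famF L H) : a 1 = (deg a : ℂ) ∧ a 1 ≠ 0 :=
  ⟨char_one_eq_deg (irr_isCharacter (hN.fam_irr ha)), irr_one_ne_zero (hN.fam_irr ha)⟩

theorem conjFun_one {a : L → ℂ} (ha : a ∈ famF L H) : conjFun a 1 = a 1 :=
  conj_char_one (irr_isCharacter (hN.fam_irr ha))

theorem fam_class {a : L → ℂ} (ha : a ∈ famF L H) : IsClassFunction L a :=
  isClassFunction_character (irr_isCharacter (hN.fam_irr ha))

/-- Combinations vanishing at `1` are supported on `A(L)`. -/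
theorem diff_support {a b : L → ℂ} (ha : a ∈ famF L H) (hb : b ∈ famF L H) {x : L}
    (hx : (x : G) ∉ typeA L) : (b 1 • a - a 1 • b) x = 0 := by
  simp only [Pi.sub_apply, Pi.smul_apply, smul_eq_mul]
  by_cases h1 : x = 1
  · subst h1; ring
  have hxH : (x : G) ∉ H := fun h => hx (hN.mem_typeA.2 ⟨h, fun e => h1 (Subtype.ext e)⟩)
  simp [hN.fam_support ha hxH, hN.fam_support hb hxH]

theorem diff_class {a b : L → ℂ} (ha : a ∈ famF L H) (hb : b ∈ famF L H) :
    IsClassFunction L (b 1 • a - a 1 • b) := fun x y => by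
  simp only [Pi.sub_apply, Pi.smul_apply, hN.fam_class ha x y, hN.fam_class hb x y]

variable {φ : (L → ℂ) → G → ℂ}

/-- Outside the support the family is proportional to the degrees. -/
theorem outside (hφ : Fam (tauL L) (famF L H) φ) {a b : L → ℂ} (ha : a ∈ famF L H)
    (hb : b ∈ famF L H) {g : G} (hg : g ∉ tildeL L) : a 1 * φ b g = b 1 * φ a g := by
  have h := congrFun (hφ.diff a ha b hb) g
  rw [show tauL L (b 1 • a - a 1 • b) g = 0 from dadeIsometry_eq_zero hN.dade hg] at h
  simp only [Pi.sub_apply, Pi.smul_apply, smul_eq_mul] at h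
  linear_combination h

/-- A pair of conjugate members gives a conjugate pair of the family. -/
theorem fam_cj (hφ : Fam (tauL L) (famF L H) φ) {a : L → ℂ} (ha : a ∈ famF L H) :
    cj (φ a) = φ (conjFun a) := by
  obtain ⟨hb, hne⟩ := hN.fam_conj ha
  refine cj_eq_of_pair (hφ.signed a ha) (hφ.signed _ hb) (hφ.orth a ha _ hb hne.symm) ?_
  have h1 := hφ.diff a ha _ hb
  have h2 := hφ.diff _ hb a ha
  rw [hN.conjFun_one ha, ← smul_sub, ← smul_sub, tauL, dade_smul] at h1 h2
  have e1 := smul_right_injective _ (hN.fam_one ha).2 h1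
  have e2 := smul_right_injective _ (hN.fam_one ha).2 h2
  rw [← cj_sub, ← e1, ← dade_cj, cj_sub, show cj a = conjFun a from rfl,
    show cj (conjFun a) = a from cj_cj a, e2]

/-- The family is orthogonal to the grid. -/
theorem fam_orth_eta (hφ : Fam (tauL L) (famF L H) φ) (hZ : Z ≤ sigmaCore S) (W : Grid K Z)
    {a : L → ℂ} (ha : a ∈ famF L H) (i : ↥K →* ℂˣ) (j : ↥Z →* ℂˣ) :
    classInner (φ a) (W.eta i j) = 0 := by
  obtain ⟨hb, hne⟩ := hN.fam_conj ha
  have hD := hN.dade
  set b := conjFun a with hbdef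
  have h1 := hφ.diff a ha b hb
  rw [hbdef, hN.conjFun_one ha, ← smul_sub, ← smul_sub, tauL, dade_smul] at h1
  replace h1 : tauL L (a - b) = φ a - φ b := smul_right_injective _ (hN.fam_one ha).2 h1
  have hcl : IsClassFunction L (a - b) := fun x y => by
    simp only [Pi.sub_apply, hN.fam_class ha x y, hN.fam_class hb x y]
  have hs : ∀ x : L, (x : G) ∉ typeA L → (a - b) x = 0 := fun x hx => by
    have := hN.diff_support ha hb hx
    rw [hbdef, hN.conjFun_one ha, ← smul_sub, Pi.smul_apply, smul_eq_mul, mul_eq_zero] at this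
    exact this.resolve_left (hN.fam_one ha).2
  have hgen : IsGeneralizedCharacter G (φ a - φ b) :=
    isGenChar_sub (hφ.signed a ha).gen (hφ.signed b hb).gen
  have hab := hφ.orth a ha b hb hne.symm
  have hba := hφ.orth b hb a ha hne
  have hn : (classInner (φ a - φ b) (φ a - φ b)).re ≤ 2 := by
    rw [classInner_sub_left, classInner_sub_right, classInner_sub_right, (hφ.signed a ha).self,
      (hφ.signed b hb).self, hab, hba]
    norm_num
  have h0 : classInner (φ a - φ b) (fun _ => 1) = 0 := by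
    rw [← h1, classInner_dade_one hD hcl hs, classInner_sub_left,
      irr_orth (hN.fam_irr ha) isIrrCharacter_one, irr_orth (hN.fam_irr hb) isIrrCharacter_one,
      if_neg, if_neg, sub_zero]
    · intro e
      exact (hN.fam_conj hb).2 (funext fun x => by simp [conjFun, e])
    · intro e
      exact hne (funext fun x => by simp [hbdef, conjFun, e])
  have hv : ∀ k ∈ K, ∀ z ∈ Z, k ≠ 1 → z ≠ 1 → (φ a - φ b) (k * z) = 0 := fun k hk z hz hk1 hz1 => by
    rw [← h1]
    refine dadeIsometry_eq_zero hD fun hg => hN.tilde_not_hat hZ (fun a ha b hb => W.comm ha hb) hg ?_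
    exact ⟨1, k, hk, z, hz, hk1, hz1, by group⟩
  have h3 : ∀ X : Subgroup G, X ≠ ⊥ → 3 ≤ Nat.card X := fun X hX => by
    obtain ⟨k, hk⟩ := (hN.minSimple.1.of_dvd_nat (Subgroup.card_subgroup_dvd_card X) : Odd (Nat.card X))
    have : Nat.card X ≠ 1 := fun h => hX (Subgroup.card_eq_one.1 h)
    omega
  have horth := W.orth_of_small (h3 K W.sn.1) (h3 Z W.sn.2.1) hgen hn h0 hv i j
  rw [classInner_sub_left, sub_eq_zero] at horth
  rcases (hφ.signed a ha).inner_cases (W.signed i j) with h | h | h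
  · exact h
  · rcases (hφ.signed b hb).inner_cases (W.signed i j) with h' | h' | h'
    · rw [horth, h']
    · rw [← h] at h'
      rw [h', (hφ.signed a ha).self] at hab
      exact absurd hab one_ne_zero
    · rw [← h] at h'
      rw [h', classInner_neg_right, (hφ.signed a ha).self] at hab
      exact absurd hab (by norm_num)
  · rcases (hφ.signed b hb).inner_cases (W.signed i j) with h' | h' | h'
    · rw [horth, h']
    · rw [show W.eta i j = -φ a by rw [h, neg_neg]] at h'
      rw [h', classInner_neg_right, (hφ.signed a ha).self] at hab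
      exact absurd hab (by norm_num)
    · rw [← h] at h'
      rw [h', (hφ.signed a ha).self] at hab
      exact absurd hab one_ne_zero

/-- The coherent family exists. -/
theorem exists_fam_basic : ∃ φ, Fam (tauL L) (famF L H) φ := by
  classical
  obtain ⟨hirr, -, τ₁, hτ₁, hext⟩ := hN.fam_facts
  refine ⟨τ₁, hirr, fun a ha => ?_, fun a ha b hb hne => ?_, fun a ha b hb => ?_⟩
  · refine signed_of_norm_one (hτ₁.2.2.2 a (mem_zspan_of_mem ha)) ?_
    rw [hτ₁.2.2.1 a (mem_zspan_of_mem ha) a (mem_zspan_of_mem ha), irr_self (hirr a ha)]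
  · rw [hτ₁.2.2.1 a (mem_zspan_of_mem ha) b (mem_zspan_of_mem hb), irr_orth (hirr a ha) (hirr b hb),
      if_neg hne]
  · have e : ∀ (m : ℕ) {X : Type u} (f : X → ℂ), (m : ℂ) • f = (m : ℤ) • f := fun m X f => by
      funext x; simp
    rw [(hN.fam_one ha).1, (hN.fam_one hb).1, e, e, e, e]
    have hA : (deg b : ℤ) • a ∈ zspan (famF L H) := Submodule.smul_mem _ _ (mem_zspan_of_mem ha)
    have hB : (deg a : ℤ) • b ∈ zspan (famF L H) := Submodule.smul_mem _ _ (mem_zspan_of_mem hb)
    have hm : (deg b : ℤ) • a - (deg a : ℤ) • b ∈ zspanOn (famF L H) {1}ᶜ := by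
      refine ⟨Submodule.sub_mem _ hA hB, fun x hx => ?_⟩
      rw [Set.notMem_compl_iff, Set.mem_singleton_iff] at hx
      subst hx
      simp [(hN.fam_one ha).1, (hN.fam_one hb).1, mul_comm]
    rw [← hext _ hm, isometryOn_sub hτ₁ hA hB, hτ₁.2.1 a (mem_zspan_of_mem ha),
      hτ₁.2.1 b (mem_zspan_of_mem hb)]

/-- The coherent family exists and is orthogonal to the grid. -/
theorem exists_fam (hZ : Z ≤ sigmaCore S) (W : Grid K Z) : ∃ φ, Fam (tauL L) (famF L H) φ ∧
    ∀ a ∈ famF L H, ∀ i j, classInner (φ a) (W.eta i j) = 0 := by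
  obtain ⟨φ, hφ⟩ := hN.exists_fam_basic
  exact ⟨φ, hφ, fun a ha => hN.fam_orth_eta hφ hZ W ha⟩

end Nbr

end Cfsg.Agent.OddFT
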