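import Mathlib

/-!
A numerical inequality for the comparison of two odd primes.
-/

set_option autoImplicit false

namespace Cfsg.Agent.OddFT

theorem add_two_pow_le_nine_mul {k n : ℕ} (hn : 0 < n) (hk : k ≤ n) : (n + 2) ^ k ≤ 9 * n ^ k := by
  have hn' : (0 : ℝ) < n := Nat.cast_pos.2 hn
  have hk' : (k : ℝ) ≤ n := Nat.cast_le.2 hk
  have h1 : (2 / (n : ℝ) + 1) ^ k ≤ Real.exp (k * (2 / (n : ℝ))) := by
    rw [Real.exp_nat_mul]
    exact pow_le_pow_left₀ (by positivity) (Real.add_one_le_exp _) k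
  have h2 : (k : ℝ) * (2 / (n : ℝ)) ≤ 1 + 1 := by
    rw [mul_div_assoc', div_le_iff₀ hn']
    linarith
  have h3 : Real.exp (1 + 1) ≤ 9 := by
    rw [Real.exp_add]
    have := Real.exp_one_lt_d9
    nlinarith [Real.exp_pos 1]
  have h4 : (2 / (n : ℝ) + 1) ^ k ≤ 9 := h1.trans ((Real.exp_le_exp.2 h2).trans h3)
  have h5 : ((n : ℝ) + 2) ^ k = (2 / (n : ℝ) + 1) ^ k * (n : ℝ) ^ k := by
    rw [← mul_pow]
    congr 1
    field_simp
    ring
  have h6 : ((n : ℝ) + 2) ^ k ≤ 9 * (n : ℝ) ^ k := by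
    rw [h5]
    exact mul_le_mul_of_nonneg_right h4 (by positivity)
  exact_mod_cast h6

theorem pow_le_two_mul {q w : ℕ} (hq : Odd q) (hw : Odd w) (h3 : 3 ≤ q) (h : q < w) :
    w ^ q ≤ 2 * q ^ (w - 1) := by
  obtain ⟨k, rfl⟩ : ∃ k, w = q + 2 * (k + 1) := by
    obtain ⟨a, ha⟩ := hq
    obtain ⟨b, hb⟩ := hw
    exact ⟨b - a - 1, by omega⟩
  clear h hw hq
  induction k with
  | zero =>
    rw [show q + 2 * (0 + 1) - 1 = q + 1 by omega, pow_succ]
    rcases Nat.lt_or_ge q 5 with h5 | h5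
    · interval_cases q <;> norm_num
    · calc (q + 2 * (0 + 1)) ^ q ≤ 9 * q ^ q := add_two_pow_le_nine_mul (by omega) le_rfl
        _ ≤ (2 * q) * q ^ q := Nat.mul_le_mul_right _ (by omega)
        _ = 2 * (q ^ q * q) := by ring
  | succ k ih =>
    rw [show q + 2 * (k + 1 + 1) = q + 2 * (k + 1) + 2 by ring,
      show q + 2 * (k + 1) + 2 - 1 = q + 2 * (k + 1) - 1 + 2 by omega, pow_add]
    calc (q + 2 * (k + 1) + 2) ^ q ≤ 9 * (q + 2 * (k + 1)) ^ q :=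
          add_two_pow_le_nine_mul (by omega) (by omega)
      _ ≤ q ^ 2 * (2 * q ^ (q + 2 * (k + 1) - 1)) :=
          Nat.mul_le_mul (by nlinarith) ih
      _ = 2 * (q ^ (q + 2 * (k + 1) - 1) * q ^ 2) := by ring

end Cfsg.Agent.OddFT
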