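import Cfsg.Agent.Lib.OddChar.FT.SplitKappa
import Cfsg.Agent.Lib.Char.CoherenceCentralPGroup
import Cfsg.Agent.Lib.Char.CliffordInd
import Cfsg.Agent.Lib.OddChar.DadeSpan

/-!
The characters of `T` induced from the characters of `H / J` nontrivial on `V` form a coherent family,
whose images are orthogonal to those of any coherent pair with kernel containing `V`.
-/

set_option autoImplicit false
set_option linter.unusedSectionVars false
set_option linter.unusedVariables false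
set_option linter.style.haveILetI false

open Cfsg Cfsg.Agent.Char Cfsg.Agent.OddChar
open scoped ComplexConjugate commutatorElement

namespace Cfsg.Agent.OddFT

universe u

variable {G : Type u} [Group G] [Fintype G] {T Z K Q D H₁ : Subgroup G}

theorem cz_mul {X : Type u} [Group X] [Fintype X] (χ : IrrCharacter X) {z : X} (hz : z ∈ TwoDeg.cz χ) :
    ∃ ω : ℂ, ω ≠ 0 ∧ ∀ x : X, (χ : X → ℂ) (z * x) = ω * (χ : X → ℂ) x := by
  obtain ⟨m, σ, hirr, hσ⟩ := χ.2
  have hn : (deg (χ : X → ℂ) : ℝ) = (Module.finrank ℂ (Fin m → ℂ) : ℝ) := by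
    have h3 := char_one_eq_deg (irr_isCharacter χ.2)
    rw [← congrFun hσ, Representation.char_one] at h3
    exact_mod_cast h3.symm
  have h2 := (TwoDeg.mem_cz_iff χ z).1 hz
  rw [hn, ← congrFun hσ] at h2
  obtain ⟨ω, hω⟩ := (eq_scalar_iff σ z).1 h2
  have hval : ∀ x : X, (χ : X → ℂ) (z * x) = ω * (χ : X → ℂ) x := fun x => by
    rw [← congrFun hσ, ← congrFun hσ]
    show LinearMap.trace ℂ _ (σ _) = ω * LinearMap.trace ℂ _ (σ x)
    rw [map_mul, hω]
    simp [← Module.End.one_eq_id]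
  refine ⟨ω, fun h0 => irr_one_ne_zero χ.2 ?_, hval⟩
  have h1 := hval z⁻¹
  rwa [mul_inv_cancel, h0, zero_mul] at h1

/-- A function on `H` induced to `T`. -/
noncomputable def indIn {H T : Subgroup G} [Fintype T] (hHT : H ≤ T) (θ : H → ℂ) : T → ℂ :=
  indFun (H.subgroupOf T) (fun x => θ (Subgroup.subgroupOfEquivOfLe hHT x))

/-- The isometry on functions supported in the nonidentity elements of the `σ`-core. -/
theorem ind_isometry (c : TSplit T Z K Q D H₁) [Fintype T] (hκ : kappa T ≠ ∅) {S : Set (T → ℂ)}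
    (hS : ∀ χ ∈ S, IsCharacter T χ) (hsupp : ∀ χ ∈ S, ∀ x : T, (x : G) ∉ sigmaCore T → χ x = 0) :
    IsLinearIsometryOn (zspanOn S {1}ᶜ) (indFun T) ∧ ∀ α ∈ zspanOn S {1}ᶜ, indFun T α 1 = 0 := by
  classical
  set X : Set G := {a | a ∈ sigmaCore T ∧ a ≠ 1} with hX
  have hTI : IsTI T X := (sigmaSet_ti c.minSimple c.coatom hκ).mono
    (fun a ha => ⟨c.core_le ha.1, 1, by simpa using ha.1, by simpa using ha.2⟩)
    (fun x hx a ha => ⟨Solv.conj_mem_of_mem_normalizer (c.T_norm_core hx) ha.1,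
      fun h => ha.2 (conj_eq_one_iff.1 h)⟩)
  have hvan : ∀ α ∈ zspanOn S ({1}ᶜ : Set T), ∀ x : T, (x : G) ∉ X → α x = 0 := by
    intro α hα x hx
    by_cases hx1 : x = 1
    · exact hα.2 x (by simp [hx1])
    have hxH : (x : G) ∉ sigmaCore T := fun h => hx ⟨h, fun h1 => hx1 (Subtype.ext h1)⟩
    refine Submodule.span_induction (p := fun f _ => f x = 0) (fun f hf => hsupp f hf x hxH) rfl
      (fun f g _ _ hf hg => by rw [Pi.add_apply, hf, hg, add_zero])
      (fun k f _ hf => by rw [Pi.smul_apply, hf, smul_zero]) hα.1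
  have hgen : ∀ α ∈ zspanOn S ({1}ᶜ : Set T), IsGeneralizedCharacter T α := fun α hα =>
    isGenChar_of_mem_zspan hS hα.1
  refine ⟨⟨fun a _ b _ => indFun_add T a b, fun a _ k => ?_, fun a ha b hb => ?_, fun a ha => hTI.ind_gen (hgen a ha)⟩,
    fun a ha => ?_⟩
  · rw [show k • a = (k : ℂ) • a from (Int.cast_smul_eq_zsmul ℂ k a).symm, indFun_smul, Int.cast_smul_eq_zsmul]
  · exact hTI.inner (hvan a ha) (isClassFunction_genChar (hgen b hb)) (hvan b hb)
  · rw [indFun_one, hvan a ha 1 (fun h => h.2 rfl), mul_zero]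

theorem index_core (c : TSplit T Z K Q D H₁) : ((sigmaCore T).subgroupOf T).index = Nat.card Z := by
  have h := ((sigmaCore T).subgroupOf T).card_mul_index
  rw [Solv.card_subgroupOf c.core_le, card_T c, mul_comm (Nat.card Z)] at h
  exact Nat.eq_of_mul_eq_mul_left Nat.card_pos h

open Classical in
/-- The differences of the family are orthogonal to a pair of signed characters. -/
theorem splitRed_orth (c : TSplit T Z K Q D H₁) [Fintype T] (hκ : kappa T ≠ ∅) {r : ℕ} {R J V J₁ : Subgroup G}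
    (s : SplitRed T Z r R J V) (ss : SplitSub T J J₁) {ζ ζ' : T → ℂ} (hζ : IsIrrCharacter T ζ) (hζ' : IsIrrCharacter T ζ')
    (hne : ζ ≠ ζ') (hdeg : ζ 1 = ζ' 1) (hsupp : ∀ x : T, (x : G) ∉ sigmaCore T → ζ x = 0 ∧ ζ' x = 0)
    (hV : ∀ x : T, (x : G) ∈ V → ζ x = ζ 1 ∧ ζ' x = ζ' 1) {ψ ψ' : G → ℂ} (hψ : IsSigned G ψ)
    (hψ' : IsSigned G ψ') (ho : classInner ψ ψ' = 0) (hτ : indFun T (ζ - ζ') = ψ - ψ') :
    ∀ θ θ' : IrrCharacter (sigmaCore T), OnV (sigmaCore T) J₁ V θ → OnV (sigmaCore T) J₁ V θ' →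
      classInner (indFun T ((θ' : sigmaCore T → ℂ) 1 • indIn c.core_le (θ : sigmaCore T → ℂ) -
        (θ : sigmaCore T → ℂ) 1 • indIn c.core_le (θ' : sigmaCore T → ℂ))) ψ = 0 := by
  haveI := Fact.mk s.prime
  haveI hNn : ((sigmaCore T).subgroupOf T).Normal := Subgroup.normal_subgroupOf_of_le_normalizer c.T_norm_core
  set e := Subgroup.subgroupOfEquivOfLe c.core_le with he
  have hec : ∀ x : (sigmaCore T).subgroupOf T, ((e x : sigmaCore T) : G) = ((x : T) : G) := fun x => rfl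
  have hec' : ∀ x : sigmaCore T, (((e.symm x : (sigmaCore T).subgroupOf T) : T) : G) = x := fun x => rfl
  let pull : IrrCharacter (sigmaCore T) → IrrCharacter ((sigmaCore T).subgroupOf T) := fun θ =>
    ⟨fun x => (θ : sigmaCore T → ℂ) (e x), isIrrCharacter_comp_equiv e θ.2⟩
  have hpull : ∀ θ, indFun ((sigmaCore T).subgroupOf T) (pull θ : (sigmaCore T).subgroupOf T → ℂ) =
      indIn c.core_le (θ : sigmaCore T → ℂ) := fun θ => rfl
  obtain ⟨Y₀, hY₀, hYdeg, hYsum, hRdvd⟩ := exists_onV c s ss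
  set A := Y₀.image pull with hA
  have hmemA : ∀ η, η ∈ A ↔ (∀ x : (sigmaCore T).subgroupOf T, ((x : T) : G) ∈ J₁ →
        (η : (sigmaCore T).subgroupOf T → ℂ) x = (η : (sigmaCore T).subgroupOf T → ℂ) 1) ∧
      ∃ x : (sigmaCore T).subgroupOf T, ((x : T) : G) ∈ V ∧
        (η : (sigmaCore T).subgroupOf T → ℂ) x ≠ (η : (sigmaCore T).subgroupOf T → ℂ) 1 := by
    intro η
    rw [hA, Finset.mem_image]
    constructor
    · rintro ⟨θ, hθ, rfl⟩
      obtain ⟨h1, x, hx, h2⟩ := (hY₀ θ).1 hθ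
      exact ⟨fun y hy => (h1 (e y) hy).trans (congrArg (θ : sigmaCore T → ℂ) (map_one e).symm),
        e.symm x, hx, by simpa [pull] using h2⟩
    · rintro ⟨h1, x, hx, h2⟩
      refine ⟨⟨fun y => (η : _ → ℂ) (e.symm y), isIrrCharacter_comp_equiv e.symm η.2⟩, (hY₀ _).2
        ⟨fun y hy => by simpa using h1 (e.symm y) hy, e x, hx, by simpa using h2⟩, Subtype.ext (funext fun y => ?_)⟩
      show (η : _ → ℂ) (e.symm (e y)) = (η : _ → ℂ) y
      rw [e.symm_apply_apply]
  -- `A` is closed under conjugation in `T` and without fixed points outside `H`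
  have hconjA : ∀ g : T, ∀ η ∈ A, irrComp (MulAut.conjNormal g) η ∈ A := by
    intro g η hη
    obtain ⟨h1, x, hx, h2⟩ := (hmemA η).1 hη
    refine (hmemA _).2 ⟨fun y hy => ?_, (MulAut.conjNormal g).symm x, ?_, ?_⟩
    · rw [irrComp_apply, irrComp_apply, map_one]
      exact h1 _ (by
        simpa [MulAut.conjNormal_apply] using Solv.conj_mem_of_mem_normalizer (ss.norm g.2) hy)
    · simpa [MulAut.conjNormal_symm_apply] using Solv.conj_mem_of_mem_normalizer (s.V_norm (T.inv_mem g.2)) hx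
    · rw [irrComp_apply, irrComp_apply, map_one, MulEquiv.apply_symm_apply]
      exact h2
  have hinert : ∀ η ∈ A, ∀ g : T, irrComp (MulAut.conjNormal g) η = η → g ∈ (sigmaCore T).subgroupOf T := by
    intro η hη g hg
    obtain ⟨-, x₀, hx₀, h2⟩ := (hmemA η).1 hη
    obtain ⟨z, hz, h, hh, hgzh⟩ := c.exists_mul g.2
    by_contra hgH
    have hz1 : z ≠ 1 := fun h1 => hgH (show (g : G) ∈ sigmaCore T by rw [hgzh, h1, one_mul]; exact hh)
    have hzT := c.Z_le hz
    refine h2 ?_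
    let v : ↥((sigmaCore T).subgroupOf T) → V → G := fun _ w => (w : G)⁻¹ * (z * (w : G) * z⁻¹)
    let F : V → V := fun w => ⟨(w : G)⁻¹ * (z * (w : G) * z⁻¹),
      V.mul_mem (V.inv_mem w.2) (Solv.conj_mem_of_mem_normalizer (s.V_norm hzT) w.2)⟩
    have hFinj : Function.Injective F := fun a b hab => by
      have e1 : (a : G)⁻¹ * (z * a * z⁻¹) = (b : G)⁻¹ * (z * b * z⁻¹) := congrArg Subtype.val hab
      have hba : (b : G) * (a : G)⁻¹ ∈ V := V.mul_mem b.2 (V.inv_mem a.2)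
      refine Subtype.ext (inv_mul_eq_one.1 ?_).symm
      have hcomm : ∀ p ∈ V, ∀ p' ∈ V, p * p' = p' * p := fun p hp p' hp' => s.central p (s.V_core hp) p' hp'
      have hab' : (b : G)⁻¹ * (a : G) ∈ V := V.mul_mem (V.inv_mem b.2) a.2
      refine s.free z hz hz1 _ hab' ?_
      have h3 : z * (a : G) * z⁻¹ = (a : G) * (b : G)⁻¹ * (z * b * z⁻¹) := by
        rw [mul_assoc (a : G), ← e1, mul_inv_cancel_left]
      have h4 : (a : G) * (b : G)⁻¹ = (b : G)⁻¹ * a := hcomm _ a.2 _ (V.inv_mem b.2)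
      calc z * ((b : G)⁻¹ * a) = (z * b * z⁻¹)⁻¹ * (z * a * z⁻¹) * z := by group
        _ = (z * b * z⁻¹)⁻¹ * ((b : G)⁻¹ * a * (z * b * z⁻¹)) * z := by rw [h3, h4]
        _ = (z * b * z⁻¹)⁻¹ * ((z * b * z⁻¹) * ((b : G)⁻¹ * a)) * z := by
            rw [hcomm _ hab' _ (Solv.conj_mem_of_mem_normalizer (s.V_norm hzT) b.2)]
        _ = (b : G)⁻¹ * a * z := by group
    obtain ⟨w, hw⟩ := (Finite.injective_iff_surjective.1 hFinj) ⟨_, hx₀⟩
    let xw : (sigmaCore T).subgroupOf T := ⟨⟨(w : G), c.core_le (s.V_core w.2)⟩, s.V_core w.2⟩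
    have hcz : xw ∈ TwoDeg.cz η := (TwoDeg.mem_cz_iff_comm η xw).2 fun y => by
      have : xw * y * xw⁻¹ * y⁻¹ = 1 := Subtype.ext (Subtype.ext (by
        show (w : G) * ((y : T) : G) * (w : G)⁻¹ * ((y : T) : G)⁻¹ = 1
        rw [← s.central ((y : T) : G) y.2 _ w.2, mul_inv_cancel_right, mul_inv_cancel]))
      rw [this]; exact one_mem _
    have hx : MulAut.conjNormal g xw = xw * x₀ := Subtype.ext (Subtype.ext (by
      rw [MulAut.conjNormal_apply]
      show (g : G) * (w : G) * (g : G)⁻¹ = (w : G) * ((x₀ : T) : G)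
      rw [← congrArg Subtype.val hw, hgzh]
      show z * h * (w : G) * (z * h)⁻¹ = (w : G) * ((w : G)⁻¹ * (z * w * z⁻¹))
      rw [mul_assoc z h, s.central h hh _ w.2]; group))
    have h5 : (η : _ → ℂ) (xw * x₀) = (η : _ → ℂ) xw := by
      rw [← hx, ← irrComp_apply, hg]
    -- scalar action
    obtain ⟨lam, hlam, hl⟩ := cz_mul η hcz
    rw [hl x₀, show (η : (sigmaCore T).subgroupOf T → ℂ) xw = lam * (η : (sigmaCore T).subgroupOf T → ℂ) 1 by
      rw [← hl 1, mul_one]] at h5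
    exact mul_left_cancel₀ hlam h5
  set Y : Finset (T → ℂ) := A.image fun η : IrrCharacter ((sigmaCore T).subgroupOf T) =>
    indFun ((sigmaCore T).subgroupOf T) (η : (sigmaCore T).subgroupOf T → ℂ) with hYdef
  have hYmem : ∀ θ, OnV (sigmaCore T) J₁ V θ → indIn c.core_le (θ : sigmaCore T → ℂ) ∈ Y := fun θ hθ =>
    Finset.mem_image.2 ⟨pull θ, Finset.mem_image.2 ⟨θ, (hY₀ θ).2 hθ, rfl⟩, hpull θ⟩
  have hYirr : ∀ χ ∈ Y, IsIrrCharacter T χ := fun χ hχ => by
    obtain ⟨η, hη, rfl⟩ := Finset.mem_image.1 hχ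
    exact isIrr_indFun_of_inertia _ η (hinert η hη)
  have hdegA : ∀ η ∈ A, ∃ b, deg (η : (sigmaCore T).subgroupOf T → ℂ) = r ^ b ∧
      deg (η : (sigmaCore T).subgroupOf T → ℂ) ^ 2 * Nat.card V ∣ Nat.card R := fun η hη => by
    obtain ⟨θ, hθ, rfl⟩ := Finset.mem_image.1 hη
    have e1 : deg (pull θ : (sigmaCore T).subgroupOf T → ℂ) = deg (θ : sigmaCore T → ℂ) := by
      simp [deg, pull]
    rw [e1]
    exact hYdeg θ hθ
  have hYd : ∀ χ ∈ Y, ∃ b, deg χ = Nat.card Z * r ^ b ∧ r ^ (2 * b) * Nat.card V ∣ Nat.card R := fun χ hχ => by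
    obtain ⟨η, hη, rfl⟩ := Finset.mem_image.1 hχ
    obtain ⟨b, hb, hb2⟩ := hdegA η hη
    refine ⟨b, ?_, by rwa [mul_comm 2 b, pow_mul, ← hb]⟩
    have h1 := indFun_one ((sigmaCore T).subgroupOf T) (η : (sigmaCore T).subgroupOf T → ℂ)
    rw [char_one_eq_deg (irr_isCharacter (hYirr _ hχ)), char_one_eq_deg (irr_isCharacter η.2), hb,
      index_core c] at h1
    exact_mod_cast h1
  choose! bY hbY hbY2 using hYd
  have hsuppY : ∀ χ ∈ Y, ∀ x : T, (x : G) ∉ sigmaCore T → χ x = 0 := fun χ hχ x hx => by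
    obtain ⟨η, -, rfl⟩ := Finset.mem_image.1 hχ
    exact indFun_normal_not_mem _ _ hx
  obtain ⟨θ₁, hθ₁⟩ : Y₀.Nonempty := Finset.nonempty_iff_ne_empty.2 fun h => by
    rw [h, Finset.sum_empty, zero_mul] at hYsum
    exact (Nat.mul_pos (Nat.pos_of_ne_zero (Subgroup.index_ne_zero_of_finite : J₁.relIndex (sigmaCore T) ≠ 0))
      (Nat.sub_pos_of_lt ((Subgroup.one_lt_card_iff_ne_bot V).2 s.V_ne))).ne hYsum
  have hTodd : Odd (Nat.card T) := c.odd_card T
  have hconjY : ∀ χ ∈ Y, conjFun χ ∈ Y ∧ conjFun χ ≠ χ := by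
    intro χ hχ
    obtain ⟨η, hη, rfl⟩ := Finset.mem_image.1 hχ
    refine ⟨Finset.mem_image.2 ⟨irrConj η, ?_, ?_⟩, fun h => ?_⟩
    · obtain ⟨h1, x, hx, h2⟩ := (hmemA η).1 hη
      refine (hmemA _).2 ⟨fun y hy => congrArg conj (h1 y hy), x, hx, fun h => h2 ?_⟩
      exact (starRingEnd ℂ).injective h
    · funext x
      simp only [conjFun, indFun, map_mul, map_inv₀, map_natCast, map_sum]
      congr 1
      refine Finset.sum_congr rfl fun y _ => ?_
      by_cases hy : y⁻¹ * x * y ∈ (sigmaCore T).subgroupOf T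
      · rw [extendByZero_mem _ _ hy, extendByZero_mem _ _ hy]; rfl
      · rw [extendByZero_not_mem _ _ hy, extendByZero_not_mem _ _ hy, map_zero]
    · have h1 := irrConj_eq_self_iff_one hTodd ⟨_, hYirr _ hχ⟩ (Subtype.ext h)
      have h2 := hbY _ hχ
      rw [show deg (indFun ((sigmaCore T).subgroupOf T) (η : _ → ℂ)) = 1 by
        simp only at h1; rw [h1]; simp [deg]] at h2
      have := c.w_prime.two_le
      nlinarith [pow_pos s.prime.pos (bY (indFun ((sigmaCore T).subgroupOf T) (η : _ → ℂ)))]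
  -- the fibres of induction
  have hsum : Nat.card Z * ∑ χ ∈ Y, r ^ (2 * bY χ) = ∑ η ∈ A, deg (η : (sigmaCore T).subgroupOf T → ℂ) ^ 2 := by
    rw [Finset.mul_sum]
    refine Eq.trans ?_ (Finset.sum_fiberwise_of_maps_to (g := fun η : IrrCharacter ((sigmaCore T).subgroupOf T) =>
      indFun ((sigmaCore T).subgroupOf T) (η : (sigmaCore T).subgroupOf T → ℂ))
      (fun η hη => Finset.mem_image.2 ⟨η, hη, rfl⟩) _)
    refine Finset.sum_congr rfl fun χ hχ => ?_
    have hd : ∀ η ∈ A.filter (fun η : IrrCharacter ((sigmaCore T).subgroupOf T) =>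
        indFun ((sigmaCore T).subgroupOf T) (η : _ → ℂ) = χ),
        deg (η : (sigmaCore T).subgroupOf T → ℂ) ^ 2 = r ^ (2 * bY χ) := by
      intro η hη
      obtain ⟨hη, he'⟩ := Finset.mem_filter.1 hη
      obtain ⟨b, hb, -⟩ := hdegA η hη
      have h1 := indFun_one ((sigmaCore T).subgroupOf T) (η : (sigmaCore T).subgroupOf T → ℂ)
      rw [he', char_one_eq_deg (irr_isCharacter (hYirr _ hχ)), char_one_eq_deg (irr_isCharacter η.2), hb,
        index_core c, hbY χ hχ] at h1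
      have h2 : Nat.card Z * r ^ bY χ = Nat.card Z * r ^ b := by exact_mod_cast h1
      rw [hb, ← Nat.eq_of_mul_eq_mul_left Nat.card_pos h2, ← pow_mul, mul_comm]
    rw [Finset.sum_congr rfl hd, Finset.sum_const, smul_eq_mul]
    congr 1
    obtain ⟨η₀, hη₀, rfl⟩ := Finset.mem_image.1 hχ
    have horb : A.filter (fun η : IrrCharacter ((sigmaCore T).subgroupOf T) =>
        indFun ((sigmaCore T).subgroupOf T) (η : _ → ℂ) =
          indFun ((sigmaCore T).subgroupOf T) (η₀ : _ → ℂ)) =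
        (Finset.univ : Finset T).image fun g => irrComp (MulAut.conjNormal g) η₀ := by
      refine Finset.ext fun η => ⟨fun hη => ?_, fun hη => ?_⟩
      · obtain ⟨hηA, he'⟩ := Finset.mem_filter.1 hη
        by_contra hno
        have h1 := classInner_indFun_normal ((sigmaCore T).subgroupOf T) η₀ η
        rw [he', irr_self (hYirr _ hχ)] at h1
        haveI : IsEmpty {g : T // irrComp (MulAut.conjNormal g) η₀ = η} :=
          ⟨fun g => hno (Finset.mem_image.2 ⟨g.1, Finset.mem_univ _, g.2⟩)⟩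
        simp at h1
      · obtain ⟨g, -, rfl⟩ := Finset.mem_image.1 hη
        refine Finset.mem_filter.2 ⟨hconjA g η₀ hη₀, ?_⟩
        rw [show ((irrComp (MulAut.conjNormal g) η₀ : IrrCharacter _) : (sigmaCore T).subgroupOf T → ℂ) =
          fun n => (η₀ : (sigmaCore T).subgroupOf T → ℂ) (MulAut.conjNormal g n) from
          funext fun n => irrComp_apply _ _ _, indFun_conj]
    rw [horb]
    have hfib : ∀ η ∈ (Finset.univ : Finset T).image (fun g => irrComp (MulAut.conjNormal g) η₀),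
        (Finset.univ.filter fun g : T => irrComp (MulAut.conjNormal g) η₀ = η).card =
          Nat.card ((sigmaCore T).subgroupOf T) := by
      intro η hη
      rw [← horb, Finset.mem_filter] at hη
      have h1 := classInner_indFun_normal ((sigmaCore T).subgroupOf T) η₀ η
      rw [hη.2, irr_self (hYirr _ hχ), eq_comm, inv_mul_eq_one₀ (Nat.cast_ne_zero.2 Nat.card_pos.ne')] at h1
      rw [← Fintype.card_subtype, ← Nat.card_eq_fintype_card]
      exact_mod_cast h1.symm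
    have h2 := Finset.card_eq_sum_card_image (fun g : T => irrComp (MulAut.conjNormal g) η₀) Finset.univ
    rw [Finset.sum_congr rfl hfib, Finset.sum_const, smul_eq_mul, Finset.card_univ, ← Nat.card_eq_fintype_card,
      card_T c, Solv.card_subgroupOf c.core_le] at h2
    exact Nat.eq_of_mul_eq_mul_right Nat.card_pos h2
  have hpullinj : Function.Injective pull := fun a b h => Subtype.ext (funext fun x => by
    simpa [pull] using congrFun (congrArg Subtype.val h) (e.symm x))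
  have hAsum : (∑ η ∈ A, deg (η : (sigmaCore T).subgroupOf T → ℂ) ^ 2) * Nat.card V =
      J₁.relIndex (sigmaCore T) * (Nat.card V - 1) := by
    rw [← hYsum, hA, Finset.sum_image hpullinj.injOn]
    simp [deg, pull]
  have hdvd : ∀ χ ∈ Y, r ^ (2 * bY χ) ∣ ∑ ξ ∈ Y, r ^ (2 * bY ξ) := by
    intro χ hχ
    have h1 : r ^ (2 * bY χ) * Nat.card V ∣ (Nat.card Z * ∑ ξ ∈ Y, r ^ (2 * bY ξ)) * Nat.card V := by
      rw [hsum, hAsum]
      exact ((hbY2 χ hχ).trans hRdvd).trans (dvd_mul_right _ _)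
    refine Nat.Coprime.dvd_of_dvd_mul_left ?_ (Nat.dvd_of_mul_dvd_mul_right Nat.card_pos h1)
    refine Nat.Coprime.pow_left _ ((coprime_Z_core c).symm.coprime_dvd_left ?_)
    refine dvd_trans ?_ (Subgroup.card_dvd_of_le s.R_le)
    obtain ⟨k, hk⟩ := IsPGroup.iff_card.1 s.pgroup
    rw [hk]
    refine dvd_pow_self r fun h => ?_
    rw [h, pow_zero] at hk
    exact s.V_ne (Subgroup.eq_bot_of_card_eq _ (Nat.dvd_one.1 (hk ▸ Subgroup.card_dvd_of_le s.V_le)))
  have hp2 : Nat.Coprime 2 r := by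
    refine Nat.prime_two.coprime_iff_not_dvd.2 fun h => ?_
    obtain ⟨k, hk⟩ := IsPGroup.iff_card.1 s.pgroup
    have hodd := c.odd_card R
    rw [hk] at hodd
    by_cases hk0 : k = 0
    · rw [hk0, pow_zero] at hk
      exact s.V_ne (Subgroup.eq_bot_of_card_eq _ (Nat.dvd_one.1 (hk ▸ Subgroup.card_dvd_of_le s.V_le)))
    · exact (Nat.not_even_iff_odd.2 hodd) (even_iff_two_dvd.2 (h.trans (dvd_pow_self r hk0)))
  obtain ⟨hiso, hone⟩ := ind_isometry c hκ (S := (↑Y : Set (T → ℂ)))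
    (fun χ hχ => irr_isCharacter (hYirr χ hχ)) hsuppY
  obtain ⟨-, τ₁, hτ₁, hext⟩ := coherent_ppower_degrees hp2 Y hYirr hconjY
    ⟨_, hYmem θ₁ ((hY₀ θ₁).1 hθ₁)⟩ (Nat.card_pos (α := Z)) bY hbY hdvd (indFun T) hiso hone
  -- the pair
  set σ : (T → ℂ) → G → ℂ := fun f => classInner f ζ • ψ + classInner f ζ' • ψ' with hσdef
  have hzz : classInner ζ ζ' = 0 := by rw [irr_orth hζ hζ', if_neg hne]
  have hzz' : classInner ζ' ζ = 0 := by rw [irr_orth hζ' hζ, if_neg (Ne.symm hne)]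
  have hco : ∀ f ∈ zspan ({ζ, ζ'} : Set (T → ℂ)), ∃ a b : ℤ, f = (a : ℂ) • ζ + (b : ℂ) • ζ' ∧
      classInner f ζ = a ∧ classInner f ζ' = b := by
    intro f hf
    obtain ⟨a, b, rfl⟩ := Submodule.mem_span_pair.1 hf
    refine ⟨a, b, by rw [Int.cast_smul_eq_zsmul, Int.cast_smul_eq_zsmul], ?_, ?_⟩ <;>
    · rw [← Int.cast_smul_eq_zsmul ℂ a, ← Int.cast_smul_eq_zsmul ℂ b, classInner_add_left,
        classInner_smul_left, classInner_smul_left]
      simp [irr_self hζ, irr_self hζ', hzz, hzz']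
  have hσiso : IsLinearIsometryOn (zspan ({ζ, ζ'} : Set (T → ℂ))) σ := by
    refine ⟨fun a _ b _ => ?_, fun a _ k => ?_, fun a ha b hb => ?_, fun a ha => ?_⟩
    · simp only [hσdef, classInner_add_left, add_smul]; abel
    · simp only [hσdef, ← Int.cast_smul_eq_zsmul ℂ, classInner_smul_left, smul_add, smul_smul]
    · obtain ⟨x, y, rfl, e1, e2⟩ := hco a ha
      obtain ⟨x', y', rfl, e1', e2'⟩ := hco b hb
      simp only [hσdef, e1, e2, e1', e2', classInner_add_left, classInner_add_right, classInner_smul_left,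
        classInner_smul_right, hψ.self, hψ'.self, ho, irr_self hζ, irr_self hζ', hzz, hzz',
        show classInner ψ' ψ = 0 by rw [← classInner_symm, ho, map_zero], mul_one, mul_zero, add_zero, zero_add]
    · obtain ⟨x, y, rfl, e1, e2⟩ := hco a ha
      simp only [hσdef, e1, e2]
      exact gen_add (isGenChar_int_smul hψ.gen x) (isGenChar_int_smul hψ'.gen y)
  have hσα : ∀ f ∈ zspanOn ({ζ, ζ'} : Set (T → ℂ)) {1}ᶜ, σ f = indFun T f := by
    intro f hf
    obtain ⟨x, y, rfl, e1, e2⟩ := hco f hf.1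
    have h1 := hf.2 1 (by simp)
    simp only [Pi.add_apply, Pi.smul_apply, smul_eq_mul, ← hdeg, ← add_mul] at h1
    have hy : (y : ℂ) = -(x : ℂ) := eq_neg_of_add_eq_zero_right
      ((mul_eq_zero.1 h1).resolve_right (irr_one_ne_zero hζ))
    simp only [hσdef]
    rw [e1, e2, hy,
      show (x : ℂ) • ζ + -(x : ℂ) • ζ' = (x : ℂ) • (ζ - ζ') by rw [smul_sub, neg_smul, sub_eq_add_neg],
      indFun_smul, hτ, smul_sub, neg_smul, sub_eq_add_neg]
  have hdisj : Disjoint ({ζ, ζ'} : Set (T → ℂ)) ↑Y := by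
    rw [Set.disjoint_left]
    intro χ hχ hχY
    obtain ⟨η, hη, e'⟩ := Finset.mem_image.1 (Finset.mem_coe.1 hχY)
    obtain ⟨-, x, hx, h2⟩ := (hmemA η).1 hη
    refine h2 ?_
    have hcx : classInner (fun k : (sigmaCore T).subgroupOf T => χ k) (η : _ → ℂ) ≠ 0 := by
      rw [← frobenius_right ((sigmaCore T).subgroupOf T) _
        (isClassFunction_character (irr_isCharacter (hYirr χ hχY))), e',
        irr_self (hYirr χ hχY)]
      exact one_ne_zero
    refine const_constituent (F := fun k : (sigmaCore T).subgroupOf T => χ k)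
      (isCharacter_comp ((sigmaCore T).subgroupOf T).subtype (irr_isCharacter (hYirr χ hχY))) η hcx (m := x) ?_
    rcases hχ with rfl | rfl
    · exact (hV (x : T) hx).1.trans (congrArg χ rfl)
    · exact (hV (x : T) hx).2.trans (congrArg χ rfl)
  obtain ⟨hisoS, honeS⟩ := ind_isometry c hκ (S := ({ζ, ζ'} : Set (T → ℂ)) ∪ ↑Y)
    (fun χ hχ => by
      rcases hχ with (rfl | rfl) | hχ
      exacts [irr_isCharacter hζ, irr_isCharacter hζ', irr_isCharacter (hYirr χ hχ)])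
    (fun χ hχ x hx => by
      rcases hχ with (rfl | rfl) | hχ
      exacts [(hsupp x hx).1, (hsupp x hx).2, hsuppY χ hχ x hx])
  have horth := coherent_parts_orth (({ζ, ζ'} : Set (T → ℂ)) ∪ ↑Y) {ζ, ζ'} ↑Y (fun χ hχ => by
      rcases hχ with (rfl | rfl) | hχ
      exacts [hζ, hζ', hYirr χ hχ])
    Set.subset_union_left Set.subset_union_right hdisj ⟨ζ, by simp, ζ', by simp, hne⟩
    ⟨_, hYmem θ₁ ((hY₀ θ₁).1 hθ₁), _, (hconjY _ (hYmem θ₁ ((hY₀ θ₁).1 hθ₁))).1,
      (hconjY _ (hYmem θ₁ ((hY₀ θ₁).1 hθ₁))).2.symm⟩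
    (indFun T) hisoS honeS σ τ₁ hσiso hσα hτ₁ hext
  intro θ θ' hθ hθ'
  set χ := indIn c.core_le (θ : sigmaCore T → ℂ)
  set χ' := indIn c.core_le (θ' : sigmaCore T → ℂ)
  have hχ := hYmem θ hθ
  have hχ' := hYmem θ' hθ'
  rw [char_one_eq_deg (irr_isCharacter θ'.2), char_one_eq_deg (irr_isCharacter θ.2)]
  set a := deg (θ' : sigmaCore T → ℂ)
  set b := deg (θ : sigmaCore T → ℂ)
  have h1 : ∀ θ₀ : IrrCharacter (sigmaCore T), indIn c.core_le (θ₀ : sigmaCore T → ℂ) 1 =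
      (Nat.card Z : ℂ) * (deg (θ₀ : sigmaCore T → ℂ) : ℂ) := fun θ₀ => by
    rw [indIn, indFun_one, index_core c, map_one, char_one_eq_deg (irr_isCharacter θ₀.2)]
  have hm : ((a : ℤ) : ℂ) • χ - ((b : ℤ) : ℂ) • χ' ∈ zspanOn (↑Y : Set (T → ℂ)) {1}ᶜ := by
    refine mem_zspanOn_punctured (Submodule.sub_mem _ (mem_zspan_smul _ (mem_zspan_of_mem hχ))
      (mem_zspan_smul _ (mem_zspan_of_mem hχ'))) ?_
    rw [Pi.sub_apply, Pi.smul_apply, Pi.smul_apply, show χ 1 = _ from h1 θ, show χ' 1 = _ from h1 θ']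
    simp only [smul_eq_mul, Int.cast_natCast]
    ring
  have h2 := hext _ hm
  rw [isometryOn_sub hτ₁ (mem_zspan_smul _ (mem_zspan_of_mem hχ)) (mem_zspan_smul _ (mem_zspan_of_mem hχ')),
    iso_smul hτ₁ (mem_zspan_of_mem hχ), iso_smul hτ₁ (mem_zspan_of_mem hχ')] at h2
  simp only [Int.cast_natCast] at h2
  have hσζ : σ ζ = ψ := by simp [hσdef, irr_self hζ, hzz]
  have o1 : ∀ ξ ∈ Y, classInner (τ₁ ξ) ψ = 0 := fun ξ hξ => by
    rw [← classInner_symm, ← hσζ, horth ζ (by simp) ξ hξ, map_zero]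
  rw [← h2, classInner_sub_left, classInner_smul_left, classInner_smul_left, o1 χ hχ, o1 χ' hχ']
  simp

end Cfsg.Agent.OddFT
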