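import Cfsg.Agent.Lib.OddChar.FT.SplitGroup
import Cfsg.Agent.Lib.OddChar.FT.FreeKer
import Cfsg.Agent.Lib.OddChar.KappaCaseSplit

/-!
The part `C_Q(D) C_D(Q)` of the nonnilpotent core: it lies in the kernel of every invariant
irreducible character, whose degree then divides `|D : C_D(Q)|`.
-/

set_option autoImplicit false
set_option linter.unusedSectionVars false
set_option linter.style.haveILetI false

open Cfsg Cfsg.Agent.Char Cfsg.Agent.OddChar
open scoped commutatorElement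
open Cfsg.Agent.Fusion (cj cj_eq_self mem_normalizer_of_cj_le)
open Cfsg.Agent.OddLocal

namespace Cfsg.Agent.OddFT

universe u

variable {G : Type u} [Group G] [Fintype G] {T Z K Q D H₁ : Subgroup G}

namespace TSplit

/-- The part acting trivially on the top section. -/
def triv (c : TSplit T Z K Q D H₁) : Subgroup G := c.qFix ⊔ c.dKer

variable (c : TSplit T Z K Q D H₁)
include c

theorem triv_eq : c.triv = c.qFix ⊔ c.dKer := rfl

theorem dKer_norm_qFix : c.dKer ≤ Subgroup.normalizer (c.qFix : Set G) :=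
  ((c.dKer_le.trans c.D_le).trans c.core_le).trans c.T_norm_qFix

theorem mem_triv {x : G} : x ∈ c.triv ↔ ∃ y ∈ c.qFix, ∃ d ∈ c.dKer, x = y * d := by
  rw [c.triv_eq, ← SetLike.mem_coe, Subgroup.coe_mul_of_right_le_normalizer_left _ _ c.dKer_norm_qFix]
  exact ⟨fun ⟨v, hv, j, hj, e⟩ => ⟨v, hv, j, hj, e.symm⟩, fun ⟨v, hv, j, hj, e⟩ => ⟨v, hv, j, hj, e.symm⟩⟩

theorem triv_le : c.triv ≤ sigmaCore T := sup_le (c.qFix_le.trans c.Q_le) (c.dKer_le.trans c.D_le)

theorem card_triv : Nat.card c.triv = Nat.card c.qFix * Nat.card c.dKer := by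
  have h := Solv.card_sup_mul_card_inf' c.qFix c.dKer c.dKer_norm_qFix
  rwa [le_bot_iff.1 ((inf_le_inf c.qFix_le c.dKer_le).trans c.Q_D.le), Subgroup.card_bot, mul_one] at h

theorem T_norm_triv : T ≤ Subgroup.normalizer (c.triv : Set G) := by
  have hQ : ∀ y ∈ Q, ∀ x ∈ c.triv, y * x * y⁻¹ ∈ c.triv := fun y hy x hx => by
    obtain ⟨a, ha, d, hd, rfl⟩ := c.mem_triv.1 hx
    have e : y * d = d * y := Subgroup.mem_centralizer_iff.1 hd.2 y hy
    refine c.mem_triv.2 ⟨y * a * y⁻¹, Solv.conj_mem_of_mem_normalizer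
      (c.T_norm_qFix (c.core_le (c.Q_le hy))) ha, d, hd, ?_⟩
    rw [mul_assoc (y * a) y⁻¹ d, show y⁻¹ * d = d * y⁻¹ by
      rw [inv_mul_eq_iff_eq_mul, ← mul_assoc, e, mul_inv_cancel_right]]
    group
  refine c.normal_of (fun y hy => mem_normalizer_of_cj_le ?_) (fun d hd => mem_normalizer_of_cj_le ?_)
    fun z hz => mem_normalizer_of_cj_le ?_
  · rintro _ ⟨x, hx, rfl⟩
    exact hQ y hy x hx
  · rw [c.triv_eq, Fusion.cj_sup, cj_eq_self (c.T_norm_qFix (c.core_le (c.D_le hd))), cj_eq_self (c.D_norm_dKer hd)]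
  · rw [c.triv_eq, Fusion.cj_sup, cj_eq_self (c.T_norm_qFix (c.Z_le hz)), cj_eq_self (c.Z_norm_dKer hz)]

theorem triv_free {z : G} (hz : z ∈ Z) (hz1 : z ≠ 1) {x : G} (hx : x ∈ c.triv) (e : z * x = x * z) :
    x = 1 := by
  have h1 : x ∈ K := c.prime_action hz hz1 ▸ ⟨c.triv_le hx, Subgroup.mem_centralizer_singleton_iff.2 e.symm⟩
  obtain ⟨a, ha, d, hd, rfl⟩ := c.mem_triv.1 hx
  have hd1 : d ∈ Q ⊓ D :=
    ⟨by simpa using Q.mul_mem (Q.inv_mem (c.qFix_le ha)) (c.K_le_Q h1), c.dKer_le hd⟩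
  rw [c.Q_D, Subgroup.mem_bot] at hd1
  subst hd1
  have h2 : a * 1 ∈ K ⊓ c.qFix := ⟨h1, by rwa [mul_one]⟩
  rwa [c.K_inf_qFix, Subgroup.mem_bot] at h2

/-- `|H : C D₀| = q ^ w |D : D₀|`. -/
theorem relIndex_triv :
    c.triv.relIndex (sigmaCore T) = Nat.card K ^ Nat.card Z * c.dKer.relIndex D := by
  refine Nat.eq_of_mul_eq_mul_left (show 0 < Nat.card c.qFix * Nat.card c.dKer from
    Nat.mul_pos Nat.card_pos Nat.card_pos) ?_
  have h1 := (c.triv.subgroupOf (sigmaCore T)).card_mul_index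
  rw [Solv.card_subgroupOf c.triv_le, c.card_triv, c.card_core, c.card_Q] at h1
  have h2 := (c.dKer.subgroupOf D).card_mul_index
  rw [Solv.card_subgroupOf c.dKer_le] at h2
  refine h1.trans ?_
  rw [← h2, Subgroup.relIndex]
  ring

theorem three_le_dKer_index : 3 ≤ c.dKer.relIndex D := by
  have h2 := (c.dKer.subgroupOf D).card_mul_index
  rw [Solv.card_subgroupOf c.dKer_le] at h2
  have hodd : Odd (c.dKer.relIndex D) := (Nat.odd_mul.1 (h2 ▸ c.odd_card D)).2
  have hne : c.dKer.relIndex D ≠ 1 := fun h => c.dKer_ne (le_antisymm c.dKer_le (Subgroup.relIndex_eq_one.1 h))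
  obtain ⟨k, hk⟩ := hodd
  omega

theorem big_quotient : Nat.card K * (2 * Nat.card Z + 1) ≤ c.triv.relIndex (sigmaCore T) := by
  rw [c.relIndex_triv]
  obtain ⟨q0, hq0⟩ : ∃ n, Nat.card K = n + 3 := by
    have := c.q_prime.two_le
    obtain ⟨k, hk⟩ := c.odd_card K
    exact ⟨Nat.card K - 3, by omega⟩
  obtain ⟨w0, hw0⟩ : ∃ n, Nat.card Z = n + 1 := ⟨Nat.card Z - 1, by have := c.w_prime.two_le; omega⟩
  have key : ∀ n, 2 * (n + 1) + 1 ≤ (q0 + 3) ^ n * 3 := by
    intro n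
    induction n with
    | zero => simp
    | succ n ih =>
      have : (q0 + 3) ^ n * 3 * 3 ≤ (q0 + 3) ^ (n + 1) * 3 := by
        rw [pow_succ, mul_assoc ((q0 + 3) ^ n) (q0 + 3) 3]
        calc (q0 + 3) ^ n * 3 * 3 = (q0 + 3) ^ n * (3 * 3) := by ring
          _ ≤ (q0 + 3) ^ n * ((q0 + 3) * 3) := Nat.mul_le_mul_left _ (by omega)
      omega
  rw [hq0, hw0, pow_succ', mul_assoc]
  exact Nat.mul_le_mul_left _ ((key w0).trans (Nat.mul_le_mul_left _ c.three_le_dKer_index))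

/-- An invariant irreducible character is trivial on `C D₀`. -/
theorem ker_fixed [Fintype T] (θ : IrrCharacter (sigmaCore T))
    (hθ : ∀ z ∈ Z, ∀ x y : sigmaCore T, (y : G) = z * x * z⁻¹ → (θ : sigmaCore T → ℂ) y = (θ : sigmaCore T → ℂ) x) :
    ∀ x : sigmaCore T, (x : G) ∈ c.triv → (θ : sigmaCore T → ℂ) x = (θ : sigmaCore T → ℂ) 1 := by
  classical
  haveI hHn : ((sigmaCore T).subgroupOf T).Normal := Subgroup.normal_subgroupOf_of_le_normalizer c.T_norm_core
  haveI : (c.triv.subgroupOf T).Normal := Subgroup.normal_subgroupOf_of_le_normalizer c.T_norm_triv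
  haveI := Fintype.ofFinite ((sigmaCore T).subgroupOf T)
  haveI := Fintype.ofFinite (c.triv.subgroupOf T)
  have htop : (sigmaCore T).subgroupOf T ⊔ Z.subgroupOf T = ⊤ := by
    refine eq_top_iff.2 fun t _ => ?_
    obtain ⟨z, hz, x, hx, e⟩ := c.exists_mul t.2
    rw [show t = ⟨z, c.Z_le hz⟩ * ⟨x, c.core_le hx⟩ from Subtype.ext e]
    exact mul_mem (Subgroup.mem_sup_right (show z ∈ Z from hz)) (Subgroup.mem_sup_left (show x ∈ sigmaCore T from hx))
  let e := Subgroup.subgroupOfEquivOfLe c.core_le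
  let θ' : IrrCharacter ((sigmaCore T).subgroupOf T) :=
    ⟨fun x => (θ : sigmaCore T → ℂ) (e x), isIrrCharacter_comp_equiv e θ.2⟩
  have hcop : (Nat.card ((sigmaCore T).subgroupOf T)).Coprime (Nat.card (Z.subgroupOf T)) := by
    rw [Solv.card_subgroupOf c.core_le, Solv.card_subgroupOf c.Z_le]
    refine Nat.coprime_of_dvd fun p hp h1 h2 => Decomp.kappa_not_sigma (c.decomp.hall.2.1 p hp h2) ?_
    exact (Sig.sigmaCore_hall c.minSimple c.coatom).1.2.1 p hp h1
  have hker := ker_of_free ((sigmaCore T).subgroupOf T) (c.triv.subgroupOf T) (Z.subgroupOf T)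
    (fun x hx => c.triv_le hx) htop (by rw [Solv.card_subgroupOf c.Z_le]; exact c.w_prime) hcop
    (fun n hn hs => by
      obtain ⟨z, hz, hz1⟩ := Subgroup.bot_or_exists_ne_one Z |>.resolve_left c.Z_ne
      exact Subtype.ext (c.triv_free hz hz1 hn (congrArg Subtype.val (hs ⟨z, c.Z_le hz⟩ hz))))
    θ' (fun s hs g => hθ s hs (e g) (e (MulAut.conjNormal s g)) (by
      simp [e, Subgroup.subgroupOfEquivOfLe, MulAut.conjNormal_apply]))
  intro x hx
  have h := hker (e.symm x) hx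
  simpa [θ'] using h

/-- A character trivial on `C D₀` has degree dividing `|D : D₀|`. -/
theorem deg_ker_dvd (θ : IrrCharacter (sigmaCore T))
    (hker : ∀ x : sigmaCore T, (x : G) ∈ c.triv → (θ : sigmaCore T → ℂ) x = (θ : sigmaCore T → ℂ) 1) :
    deg (θ : sigmaCore T → ℂ) ∣ c.dKer.relIndex D := by
  classical
  haveI : (c.triv.subgroupOf (sigmaCore T)).Normal :=
    Subgroup.normal_subgroupOf_of_le_normalizer (c.core_le.trans c.T_norm_triv)
  have hB : c.qMov ⊔ c.triv ≤ sigmaCore T := sup_le (c.qMov_le.trans c.Q_le) c.triv_le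
  haveI : ((c.qMov ⊔ c.triv).subgroupOf (sigmaCore T)).Normal := Subgroup.normal_subgroupOf_of_le_normalizer fun g hg =>
    mem_normalizer_of_cj_le (by
      rw [Fusion.cj_sup, cj_eq_self (c.T_norm_qMov (c.core_le hg)), cj_eq_self (c.T_norm_triv (c.core_le hg))])
  have hnq : c.triv ≤ Subgroup.normalizer (c.qMov : Set G) := (c.triv_le.trans c.core_le).trans c.T_norm_qMov
  have hinf : c.qMov ⊓ c.triv = ⊥ := by
    refine (Subgroup.eq_bot_iff_forall _).2 fun x ⟨h1, h2⟩ => ?_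
    obtain ⟨a, ha, d, hd, rfl⟩ := c.mem_triv.1 h2
    have hd1 : d ∈ Q ⊓ D :=
      ⟨by simpa using Q.mul_mem (Q.inv_mem (c.qFix_le ha)) (c.qMov_le h1), c.dKer_le hd⟩
    rw [c.Q_D, Subgroup.mem_bot] at hd1
    subst hd1
    have h3 : a * 1 ∈ c.qMov ⊓ c.qFix := ⟨h1, by rwa [mul_one]⟩
    rwa [c.qMov_inf_qFix, Subgroup.mem_bot] at h3
  have hidx : ((c.qMov ⊔ c.triv).subgroupOf (sigmaCore T)).index = c.dKer.relIndex D := by
    have h1 := ((c.qMov ⊔ c.triv).subgroupOf (sigmaCore T)).card_mul_index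
    have h2 := Solv.card_sup_mul_card_inf' c.qMov c.triv hnq
    rw [hinf, Subgroup.card_bot, mul_one, c.card_qMov, c.card_triv] at h2
    rw [Solv.card_subgroupOf hB, h2, c.card_core, c.card_Q] at h1
    have h3 := (c.dKer.subgroupOf D).card_mul_index
    rw [Solv.card_subgroupOf c.dKer_le] at h3
    refine Nat.eq_of_mul_eq_mul_left (show 0 < Nat.card K ^ Nat.card Z * (Nat.card c.qFix * Nat.card c.dKer) from
      Nat.mul_pos (pow_pos c.q_prime.pos _) (Nat.mul_pos Nat.card_pos Nat.card_pos)) (h1.trans ?_)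
    rw [← h3, Subgroup.relIndex]
    ring
  rw [← hidx]
  refine deg_dvd_index_mod θ (c.triv.subgroupOf (sigmaCore T)) (fun n hn => hker n hn) _
    (fun x hx => Subgroup.mem_sup_right (S := c.qMov) hx) fun a ha b hb => ?_
  show ((⁅a, b⁆ : sigmaCore T) : G) ∈ c.triv
  have hle : ⁅c.qMov ⊔ c.triv, c.qMov ⊔ c.triv⁆ ≤ c.triv := by
    refine Kappa.derived_le_of_mul (D := c.qMov) (K := c.triv) ?_ ?_ le_sup_left le_sup_right ?_ ?_ ?_ ?_
    · exact sup_le ((c.qMov_le.trans c.Q_le).trans (c.core_le.trans c.T_norm_triv)) Subgroup.le_normalizer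
    · exact le_sup_right
    · intro m hm
      rwa [← SetLike.mem_coe, Subgroup.coe_mul_of_right_le_normalizer_left _ _ hnq, Set.mem_mul,
        show (∃ x ∈ (c.qMov : Set G), ∃ y ∈ (c.triv : Set G), x * y = m) ↔
          ∃ d ∈ c.qMov, ∃ k ∈ c.triv, m = d * k from
          ⟨fun ⟨v, hv, j, hj, e⟩ => ⟨v, hv, j, hj, e.symm⟩, fun ⟨v, hv, j, hj, e⟩ => ⟨v, hv, j, hj, e.symm⟩⟩] at hm
    · intro x hx y hy
      rw [commutatorElement_eq_one_iff_commute.2 (c.qMov_comm hx hy)]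
      exact one_mem _
    · exact fun x hx y hy => Subgroup.commutator_le_self _ (Subgroup.commutator_mem_commutator hx hy)
    · intro x hx y hy
      rw [commutatorElement_def]
      exact c.triv.mul_mem (Solv.conj_mem_of_mem_normalizer
        (c.T_norm_triv (c.core_le (c.Q_le (c.qMov_le hx)))) hy) (c.triv.inv_mem hy)
  exact hle (Subgroup.commutator_mem_commutator (show (a : G) ∈ c.qMov ⊔ c.triv from ha)
    (show (b : G) ∈ c.qMov ⊔ c.triv from hb))

/-- The degree of an invariant irreducible character divides `|D : D₀|`. -/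
theorem deg_fixed_dvd [Fintype T] (θ : IrrCharacter (sigmaCore T))
    (hθ : ∀ z ∈ Z, ∀ x y : sigmaCore T, (y : G) = z * x * z⁻¹ → (θ : sigmaCore T → ℂ) y = (θ : sigmaCore T → ℂ) x) :
    deg (θ : sigmaCore T → ℂ) ∣ c.dKer.relIndex D := c.deg_ker_dvd θ (c.ker_fixed θ hθ)

/-- Either `|H : H'|` is at least `3 d`, or `C = 1`, `D₀ = D'` and `d = |D : D'|`. -/
theorem small_or_large {d : ℕ} (hd : d ∣ c.dKer.relIndex D) :
    3 * d ≤ (⁅sigmaCore T, sigmaCore T⁆).relIndex (sigmaCore T) ∨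
      (c.qFix = ⊥ ∧ c.dKer = ⁅D, D⁆ ∧ d = (⁅D, D⁆).relIndex D ∧
        (⁅sigmaCore T, sigmaCore T⁆).relIndex (sigmaCore T) = d) := by
  rw [c.relIndex_derived]
  set a := (⁅c.qFix, c.qFix⁆).relIndex c.qFix with ha
  set m := c.dKer.relIndex D with hm
  set b := (⁅D, D⁆).relIndex D with hb
  have hmb : (⁅D, D⁆).relIndex c.dKer * m = b := Subgroup.relIndex_mul_relIndex _ _ _ c.derived_le_dKer c.dKer_le
  set e := (⁅D, D⁆).relIndex c.dKer with he
  have hoddrel : ∀ {A B : Subgroup G}, Odd (A.relIndex B) := fun {A B} =>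
    (c.odd_card B).of_dvd_nat (Subgroup.relIndex_dvd_card A B)
  obtain ⟨f, hf⟩ := hd
  have hpos : 0 < m := lt_of_lt_of_le (by norm_num) c.three_le_dKer_index
  by_cases hsmall : a = 1 ∧ e = 1 ∧ f = 1
  · obtain ⟨h1, h2, h3⟩ := hsmall
    refine Or.inr ⟨?_, le_antisymm (Subgroup.relIndex_eq_one.1 h2) c.derived_le_dKer, ?_, ?_⟩
    · have hle := Subgroup.relIndex_eq_one.1 (ha ▸ h1)
      by_contra hC
      haveI : Group.IsSolvable c.qFix := by
        haveI := Fact.mk c.q_prime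
        haveI := (c.isPGroup_Q.to_le c.qFix_le).isNilpotent
        infer_instance
      haveI : Nontrivial c.qFix := (Subgroup.nontrivial_iff_ne_bot _).2 hC
      refine (IsSolvable.commutator_lt_top_of_nontrivial (G := c.qFix)).ne (eq_top_iff.2 fun x _ => ?_)
      have : (x : G) ∈ (commutator c.qFix).map c.qFix.subtype :=
        Subgroup.map_subtype_commutator c.qFix ▸ hle x.2
      obtain ⟨y, hy, e'⟩ := this
      exact Subtype.ext e' ▸ hy
    · rw [← hmb, h2, hf, h3]; ring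
    · rw [h1, ← hmb, h2, hf, h3]; ring
  left
  rw [← hmb, hf]
  have hodda : Odd a := hoddrel
  have hodde : Odd e := hoddrel
  have hoddf : Odd f := by
    have h : Odd m := hoddrel
    rw [hf] at h
    exact (Nat.odd_mul.1 h).2
  have h3 : 3 ≤ a * e * f := by
    obtain ⟨i, hi⟩ := hodda
    obtain ⟨j, hj⟩ := hodde
    obtain ⟨k, hk⟩ := hoddf
    rw [hi, hj, hk]
    have : i ≠ 0 ∨ j ≠ 0 ∨ k ≠ 0 := by
      by_contra hc
      push Not at hc
      exact hsmall ⟨by omega, by omega, by omega⟩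
    have h1 : 1 ≤ i + j + k := by omega
    nlinarith [Nat.zero_le (i * j), Nat.zero_le (i * k), Nat.zero_le (j * k), Nat.zero_le (i * j * k)]
  calc 3 * d ≤ a * e * f * d := Nat.mul_le_mul_right _ h3
    _ = a * (e * (d * f)) := by ring

end TSplit

end Cfsg.Agent.OddFT
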