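import Cfsg.Agent.Lib.OddLocal.KappaNonnilpotent
import Cfsg.Agent.Lib.Solv.PLengthFixed
import Cfsg.Agent.Lib.Solv.Coprime
import Cfsg.Agent.Lib.Char.Linear
import Cfsg.Agent.Lib.OddChar.NormBound
import Cfsg.Agent.Lib.OddChar.FT.AltRadical

/-!
The group theory of a maximal subgroup `T = (Q D) Z` with nonnilpotent `σ`-core: the `σ`-core is
`([Q, D] D) × C_Q(D)` and `[Q, D]` is elementary abelian of order `|K| ^ |Z|`.
-/

set_option autoImplicit false
set_option linter.unusedSectionVars false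
set_option linter.style.haveILetI false

open Cfsg
open scoped commutatorElement
open Cfsg.Agent.Fusion (SylIn cj cj_eq_self mem_normalizer_of_cj_le)
open Cfsg.Agent.OddLocal

namespace Cfsg.Agent.OddFT

universe u

variable {G : Type u} [Group G] [Finite G] {T Z K Q D H₁ : Subgroup G}

/-- The configuration. -/
structure TSplit (T Z K Q D H₁ : Subgroup G) : Prop where
  minSimple : IsMinSimpleOddOrder G
  coatom : IsCoatom T
  decomp : IsSigmaDecomposition T Z ⊥
  Z_ne : Z ≠ ⊥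
  star : sigmaCore T ⊓ Subgroup.centralizer (Z : Set G) = K
  ne : fittingHallOf T ≠ sigmaCore T
  spl : Kappa.Split T Z Q D H₁

theorem exists_tsplit (hG : IsMinSimpleOddOrder G) (hT : IsCoatom T) (hdec : IsSigmaDecomposition T Z ⊥)
    (hK : sigmaCore T ⊓ Subgroup.centralizer (Z : Set G) = K) (hne : fittingHallOf T ≠ sigmaCore T) :
    ∃ Q D H₁ : Subgroup G, TSplit T Z K Q D H₁ := by
  obtain ⟨-, hZ, Q, D, H₁, hS⟩ := Kappa.exists_split hG hT hdec hne
  exact ⟨Q, D, H₁, hG, hT, hdec, hZ, hK, hne, hS⟩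

theorem fittingHallOf_ne_of_not_nilpotent (hnil : ¬ Group.IsNilpotent ↥(sigmaCore T)) :
    fittingHallOf T ≠ sigmaCore T := by
  intro h
  refine hnil ?_
  rw [← h]
  haveI := TypePBasic.fittingOf_nilpotent T
  exact Kappa.isNilpotent_of_le (show fittingHallOf T ≤ fittingOf T from
    Subgroup.map_mono TypePBasic.fittingHall_le_fitting)

namespace TSplit

/-- The fixed points of `D` on `Q`. -/
def qFix (_ : TSplit T Z K Q D H₁) : Subgroup G := Q ⊓ Subgroup.centralizer (D : Set G)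

/-- The moved part of `Q`. -/
def qMov (_ : TSplit T Z K Q D H₁) : Subgroup G := ⁅Q, D⁆

/-- The kernel of `D` on `Q`. -/
def dKer (_ : TSplit T Z K Q D H₁) : Subgroup G := D ⊓ Subgroup.centralizer (Q : Set G)

variable (c : TSplit T Z K Q D H₁)
include c

theorem qFix_eq : c.qFix = Q ⊓ Subgroup.centralizer (D : Set G) := rfl

theorem qMov_eq : c.qMov = ⁅Q, D⁆ := rfl

theorem q_prime : (Nat.card K).Prime := by
  have h := Kappa.Split.prime c.minSimple c.coatom c.decomp c.ne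
  rwa [c.star] at h

theorem facts : (Nat.card Z).Prime ∧ c.qFix < Q ∧ K ⊓ Subgroup.centralizer (D : Set G) = ⊥ ∧
    Nat.card Q = Nat.card c.qFix * Nat.card K ^ Nat.card Z := by
  have h := c.spl.facts c.minSimple c.coatom c.decomp c.Z_ne c.ne
  rwa [c.star] at h

theorem w_prime : (Nat.card Z).Prime := c.facts.1

theorem qFix_lt : c.qFix < Q := c.facts.2.1

theorem card_Q : Nat.card Q = Nat.card c.qFix * Nat.card K ^ Nat.card Z := c.facts.2.2.2

theorem odd_card (X : Subgroup G) : Odd (Nat.card X) := c.minSimple.1.of_dvd_nat X.card_subgroup_dvd_card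

theorem sylQ : SylIn (Nat.card K) Q T := by
  have h := c.spl.syl
  rwa [c.star] at h

theorem isPGroup_Q : IsPGroup (Nat.card K) Q := c.sylQ.isPGroup

theorem core_le : sigmaCore T ≤ T := Subgroup.map_subtype_le _

theorem Z_le : Z ≤ T := Decomp.K_le c.decomp

theorem Q_le : Q ≤ sigmaCore T := c.spl.compl.1

theorem D_le : D ≤ sigmaCore T := c.spl.compl.2.1

theorem Q_D : Q ⊓ D = ⊥ := c.spl.compl.2.2.1

theorem mul {x : G} (hx : x ∈ sigmaCore T) : ∃ y ∈ Q, ∃ d ∈ D, x = y * d := c.spl.compl.2.2.2 x hx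

theorem K_le_Q : K ≤ Q := c.star ▸ c.spl.star

theorem K_le : K ≤ sigmaCore T := c.K_le_Q.trans c.Q_le

theorem T_norm_Q : T ≤ Subgroup.normalizer (Q : Set G) := c.spl.norm

theorem D_norm_Q : D ≤ Subgroup.normalizer (Q : Set G) := (c.D_le.trans c.core_le).trans c.T_norm_Q

theorem T_norm_core : T ≤ Subgroup.normalizer (sigmaCore T : Set G) := Sig.le_normalizer_piCoreOf

theorem Z_norm_D : Z ≤ Subgroup.normalizer (D : Set G) := c.spl.invariant

theorem exists_mul {t : G} (ht : t ∈ T) : ∃ z ∈ Z, ∃ s ∈ sigmaCore T, t = z * s := by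
  obtain ⟨u, hu, x, hx, rfl⟩ := c.decomp.compl.2.2.2 t ht
  rw [Subgroup.mem_bot] at hu
  rw [← SetLike.mem_coe, Decomp.coe_sup c.decomp] at hx
  obtain ⟨z, hz, s, hs, rfl⟩ := hx
  exact ⟨z, hz, s, hs, by rw [hu, one_mul]⟩

/-- A subgroup normalized by `Q`, `D` and `Z` is normalized by `T`. -/
theorem normal_of {N : Subgroup G} (hQ : Q ≤ Subgroup.normalizer (N : Set G))
    (hD : D ≤ Subgroup.normalizer (N : Set G)) (hZ : Z ≤ Subgroup.normalizer (N : Set G)) :
    T ≤ Subgroup.normalizer (N : Set G) := fun t ht => by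
  obtain ⟨z, hz, s, hs, rfl⟩ := c.exists_mul ht
  obtain ⟨y, hy, d, hd, rfl⟩ := c.mul hs
  exact mul_mem (hZ hz) (mul_mem (hQ hy) (hD hd))

theorem coprime_Q_D : (Nat.card Q).Coprime (Nat.card D) := by
  haveI := Fact.mk c.q_prime
  obtain ⟨j, hj⟩ := IsPGroup.iff_card.1 c.isPGroup_Q
  rw [hj]
  refine ((c.q_prime.coprime_iff_not_dvd).2 fun h => c.spl.coprime ?_).pow_left j
  rw [c.star]
  exact h.trans (Subgroup.card_dvd_of_le c.spl.hallD)

theorem Q_solvable : Group.IsSolvable Q := by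
  haveI := Fact.mk c.q_prime
  haveI := c.isPGroup_Q.isNilpotent
  infer_instance

theorem card_core : Nat.card (sigmaCore T) = Nat.card Q * Nat.card D := by
  have h := Solv.card_sup_mul_card_inf' Q D c.D_norm_Q
  rw [c.Q_D, Subgroup.card_bot, mul_one] at h
  have e : sigmaCore T = Q ⊔ D := le_antisymm (fun x hx => by
    obtain ⟨y, hy, d, hd, rfl⟩ := c.mul hx
    exact Subgroup.mul_mem_sup hy hd) (sup_le c.Q_le c.D_le)
  rw [e, h]

theorem prime_action {z : G} (hz : z ∈ Z) (hz1 : z ≠ 1) :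
    sigmaCore T ⊓ Subgroup.centralizer ({z} : Set G) = K := by
  rw [Kappa.prime_action c.minSimple c.coatom c.decomp.hall hz hz1, c.star]

theorem Z_free {z : G} (hz : z ∈ Z) (hz1 : z ≠ 1) {d : G} (hd : d ∈ D) (e : z * d = d * z) : d = 1 := by
  have h1 : d ∈ K := c.prime_action hz hz1 ▸ ⟨c.D_le hd, Subgroup.mem_centralizer_singleton_iff.2 e.symm⟩
  have h2 : d ∈ Q ⊓ D := ⟨c.K_le_Q h1, hd⟩
  rwa [c.Q_D, Subgroup.mem_bot] at h2

theorem qFix_le : c.qFix ≤ Q := inf_le_left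

theorem T_norm_qFix : T ≤ Subgroup.normalizer (c.qFix : Set G) :=
  (c.spl.frattini_le c.minSimple c.coatom c.decomp c.Z_ne c.ne).2

theorem frattini_le_qFix : (frattini ↥Q).map Q.subtype ≤ c.qFix :=
  (c.spl.frattini_le c.minSimple c.coatom c.decomp c.Z_ne c.ne).1

theorem pow_mem_qFix {x : G} (hx : x ∈ Q) : x ^ Nat.card K ∈ c.qFix := by
  haveI := Fact.mk c.q_prime
  exact c.frattini_le_qFix ⟨_, Solv.pow_mem_frattini c.isPGroup_Q ⟨x, hx⟩, rfl⟩

theorem comm_mem_qFix {x y : G} (hx : x ∈ Q) (hy : y ∈ Q) : ⁅x, y⁆ ∈ c.qFix := by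
  haveI := Fact.mk c.q_prime
  exact c.frattini_le_qFix ⟨_, Solv.commutatorElement_mem_frattini c.isPGroup_Q ⟨x, hx⟩ ⟨y, hy⟩, rfl⟩

theorem K_inf_qFix : K ⊓ c.qFix = ⊥ :=
  le_bot_iff.1 (c.facts.2.2.1 ▸ inf_le_inf_left K inf_le_right)

theorem qMov_le : c.qMov ≤ Q := (Solv.commutator_normal_in (K := Q) (A := D) c.D_norm_Q).1

theorem T_norm_qMov : T ≤ Subgroup.normalizer (c.qMov : Set G) := by
  obtain ⟨-, hQ, hD⟩ := Solv.commutator_normal_in (K := Q) (A := D) c.D_norm_Q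
  refine c.normal_of hQ hD fun z hz => mem_normalizer_of_cj_le ?_
  rw [c.qMov_eq, Fusion.cj_commutator, cj_eq_self (c.T_norm_Q (c.Z_le hz)), cj_eq_self (c.Z_norm_D hz)]

theorem qMov_sup_qFix : c.qMov ⊔ c.qFix = Q :=
  Solv.commutator_sup_fixed (K := Q) (A := D) c.D_norm_Q c.coprime_Q_D.symm (Or.inr c.Q_solvable)

theorem exists_qMov_mul {x : G} (hx : x ∈ Q) : ∃ a ∈ c.qMov, ∃ b ∈ c.qFix, x = a * b :=
  Solv.exists_commutator_mul_fixed (K := Q) (A := D) c.D_norm_Q c.coprime_Q_D.symm (Or.inr c.Q_solvable) hx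

theorem qFix_commute_qMov : c.qMov ≤ Subgroup.centralizer (c.qFix : Set G) := by
  rw [c.qMov_eq, ← Subgroup.commutator_eq_bot_iff_le_centralizer]
  have h1 : ⁅⁅D, c.qFix⁆, Q⁆ = ⊥ := by
    have : ⁅D, c.qFix⁆ = ⊥ := by
      rw [Subgroup.commutator_eq_bot_iff_le_centralizer]
      exact fun d hd => Subgroup.mem_centralizer_iff.2 fun y hy =>
        (Subgroup.mem_centralizer_iff.1 hy.2 d hd).symm
    rw [this, Subgroup.commutator_bot_left]
  have h2 : ⁅⁅c.qFix, Q⁆, D⁆ = ⊥ := by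
    rw [Subgroup.commutator_eq_bot_iff_le_centralizer]
    refine (Subgroup.commutator_le.2 fun a ha b hb => ?_ : ⁅c.qFix, Q⁆ ≤ c.qFix).trans inf_le_right
    exact c.comm_mem_qFix (c.qFix_le ha) hb
  exact Subgroup.commutator_commutator_eq_bot_of_rotate h1 h2

theorem commute_qFix {a b : G} (ha : a ∈ c.qMov) (hb : b ∈ c.qFix) : Commute a b :=
  (Subgroup.mem_centralizer_iff.1 (c.qFix_commute_qMov ha) b hb).symm

theorem comm_central {a b y : G} (ha : a ∈ c.qMov) (hb : b ∈ c.qMov) (hy : y ∈ c.qMov) :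
    Commute ⁅a, b⁆ y :=
  (c.commute_qFix hy (c.comm_mem_qFix (c.qMov_le ha) (c.qMov_le hb))).symm

theorem comm_mul_left {a b y : G} (ha : a ∈ c.qMov) (hb : b ∈ c.qMov) (hy : y ∈ c.qMov) :
    ⁅a * b, y⁆ = ⁅a, y⁆ * ⁅b, y⁆ := by
  have h : ⁅a * b, y⁆ = a * ⁅b, y⁆ * a⁻¹ * ⁅a, y⁆ := by
    simp only [commutatorElement_def]; group
  have hay : ⁅a, y⁆ ∈ c.qMov := by
    rw [commutatorElement_def]
    exact mul_mem (mul_mem (mul_mem ha hy) (inv_mem ha)) (inv_mem hy)
  rw [h, ← (c.comm_central hb hy ha).eq, mul_inv_cancel_right]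
  exact (c.comm_central hb hy hay).eq

theorem comm_pow_left {a y : G} (ha : a ∈ c.qMov) (hy : y ∈ c.qMov) (n : ℕ) : ⁅a ^ n, y⁆ = ⁅a, y⁆ ^ n := by
  induction n with
  | zero => simp
  | succ n ih => rw [pow_succ, c.comm_mul_left (pow_mem ha n) ha hy, ih, pow_succ]

theorem comm_pow_right {a y : G} (ha : a ∈ c.qMov) (hy : y ∈ c.qMov) (n : ℕ) : ⁅y, a ^ n⁆ = ⁅y, a⁆ ^ n := by
  rw [← commutatorElement_inv (a ^ n) y, c.comm_pow_left ha hy, ← inv_pow, commutatorElement_inv]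

theorem comm_pow_eq_one {a y : G} (ha : a ∈ c.qMov) (hy : y ∈ c.qMov) : ⁅a, y⁆ ^ Nat.card K = 1 := by
  rw [← c.comm_pow_left ha hy, commutatorElement_eq_one_iff_mul_comm]
  exact (c.commute_qFix hy (c.pow_mem_qFix (c.qMov_le ha))).eq.symm

theorem comm_mul_fix {a b b' y : G} (ha : a ∈ c.qMov) (hb : b ∈ c.qFix) (hy : y ∈ c.qMov) (hb' : b' ∈ c.qFix) :
    (a * b ∈ c.qMov → y * b' ∈ c.qMov → ⁅a * b, y * b'⁆ = ⁅a, y⁆) := by
  intro hab hyb
  have h1 : b ∈ c.qMov := by simpa using (c.qMov).mul_mem ((c.qMov).inv_mem ha) hab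
  have h2 : b' ∈ c.qMov := by simpa using (c.qMov).mul_mem ((c.qMov).inv_mem hy) hyb
  rw [c.comm_mul_left ha h1 hyb, commutatorElement_eq_one_iff_mul_comm.2 (c.commute_qFix hyb hb).eq.symm,
    mul_one, ← commutatorElement_inv (y * b') a, c.comm_mul_left hy h2 ha,
    commutatorElement_eq_one_iff_mul_comm.2 (c.commute_qFix ha hb').eq.symm, mul_one, commutatorElement_inv]

/-- A `D`-invariant subgroup between `C_Q(D)` and `Q` is normalized by `Q`. -/
theorem Q_norm_between {N : Subgroup G} (h1 : c.qFix ≤ N) (h2 : N ≤ Q) : Q ≤ Subgroup.normalizer (N : Set G) :=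
  fun x hx => mem_normalizer_of_cj_le (by
    rintro _ ⟨y, hy, rfl⟩
    show x * y * x⁻¹ ∈ N
    rw [show x * y * x⁻¹ = ⁅x, y⁆ * y by rw [commutatorElement_def]; group]
    exact N.mul_mem (h1 (c.comm_mem_qFix hx (h2 hy))) hy)

theorem eq_Q_of_invariant {N : Subgroup G} (h1 : c.qFix < N) (h2 : N ≤ Q)
    (hD : D ≤ Subgroup.normalizer (N : Set G)) (hZ : Z ≤ Subgroup.normalizer (N : Set G)) : N = Q := by
  by_contra h
  exact c.spl.chief c.minSimple c.coatom c.decomp c.Z_ne c.ne h1 (lt_of_le_of_ne h2 h)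
    (c.normal_of (c.Q_norm_between h1.le h2) hD hZ)

theorem mem_qFix_of_fixed_mod {x : G} (hx : x ∈ Q) (h : ∀ d ∈ D, x⁻¹ * (d * x * d⁻¹) ∈ c.qFix) : x ∈ c.qFix := by
  obtain ⟨y, hy, hxy⟩ := Solv.exists_fixed_in_coset' D Q c.qFix c.D_norm_Q c.coprime_Q_D.symm
    (Or.inr c.Q_solvable) c.qFix_le ((c.D_le.trans c.core_le).trans c.T_norm_qFix) hx h
  have h1 := c.qFix.mul_mem (show y ∈ c.qFix from hy) (c.qFix.inv_mem hxy)
  simpa using h1

/-- The sum of the conjugates of a `D`-invariant subgroup under a generator of `Z`. -/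
theorem sum_conj {W : Subgroup G} (h1 : c.qFix < W) (h2 : W ≤ Q) (hD : D ≤ Subgroup.normalizer (W : Set G))
    {z : G} (hz : Subgroup.zpowers z = Z) : (⨆ i : ℕ, cj W (z ^ i)) = Q := by
  have hzZ : z ∈ Z := hz ▸ Subgroup.mem_zpowers z
  have hle : ∀ i : ℕ, cj W (z ^ i) ≤ Q := fun i =>
    (Subgroup.map_mono h2).trans (cj_eq_self (c.T_norm_Q (c.Z_le (pow_mem hzZ i)))).le
  have hsup : W ≤ ⨆ i : ℕ, cj W (z ^ i) := le_trans (by simp [cj_eq_self (one_mem _)]) (le_iSup _ 0)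
  refine c.eq_Q_of_invariant (lt_of_lt_of_le h1 hsup) (iSup_le hle) (fun d hd => ?_) ?_
  · refine mem_normalizer_of_cj_le ?_
    rw [Fusion.cj, Subgroup.map_iSup]
    refine iSup_le fun i => ?_
    have hd' : (z ^ i)⁻¹ * d * z ^ i ∈ D := by
      have := Solv.conj_mem_of_mem_normalizer (inv_mem (c.Z_norm_D (pow_mem hzZ i))) hd
      rwa [inv_inv] at this
    refine le_trans (le_of_eq ?_) (le_iSup (fun i : ℕ => cj W (z ^ i)) i)
    rw [Fusion.cj, Subgroup.map_map]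
    conv_rhs => rw [← cj_eq_self (hD hd'), Fusion.cj, Subgroup.map_map]
    congr 1
    ext x
    simp [mul_assoc]
  · rw [← hz, Subgroup.zpowers_le]
    refine mem_normalizer_of_cj_le ?_
    rw [Fusion.cj, Subgroup.map_iSup]
    refine iSup_le fun i => le_trans (le_of_eq ?_) (le_iSup (fun i : ℕ => cj W (z ^ i)) (i + 1))
    rw [Fusion.cj, Subgroup.map_map]
    congr 1
    ext x
    simp [pow_succ', mul_assoc]

/-- The line case: two conjugates of a `D`-eigenvector modulo `C_Q(D)` commute. -/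
theorem comm_of_line {x : G} (hx : x ∈ c.qMov) (hxC : x ∉ c.qFix)
    (hline : ∀ d ∈ D, ∃ n : ℕ, (x ^ n)⁻¹ * (d * x * d⁻¹) ∈ c.qFix) {z : G} (hz : z ∈ Z) :
    Commute x (z * x * z⁻¹) := by
  haveI := Fact.mk c.q_prime
  choose! a ha using hline
  have hzT := c.Z_le hz
  have hzx : z * x * z⁻¹ ∈ c.qMov := Solv.conj_mem_of_mem_normalizer (c.T_norm_qMov hzT) hx
  rw [commute_iff_eq, ← commutatorElement_eq_one_iff_mul_comm]
  by_contra hu
  have huo : orderOf ⁅x, z * x * z⁻¹⁆ = Nat.card K := orderOf_eq_prime (c.comm_pow_eq_one hx hzx) hu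
  let η : G → ZMod (Nat.card K) := fun d => (a d : ZMod (Nat.card K))
  have key : ∀ d ∈ D, η d * η (z⁻¹ * d * z) = 1 := by
    intro d hd
    have hd' : z⁻¹ * d * z ∈ D := by
      have := Solv.conj_mem_of_mem_normalizer (inv_mem (c.Z_norm_D hz)) hd
      rwa [inv_inv] at this
    obtain ⟨b, hb, e1⟩ : ∃ b ∈ c.qFix, d * x * d⁻¹ = x ^ a d * b := ⟨_, ha d hd, by group⟩
    obtain ⟨b₂, hb₂, e2⟩ : ∃ b ∈ c.qFix, d * (z * x * z⁻¹) * d⁻¹ = (z * x * z⁻¹) ^ a (z⁻¹ * d * z) * b := by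
      refine ⟨z * ((x ^ a (z⁻¹ * d * z))⁻¹ * ((z⁻¹ * d * z) * x * (z⁻¹ * d * z)⁻¹)) * z⁻¹,
        Solv.conj_mem_of_mem_normalizer (c.T_norm_qFix hzT) (ha _ hd'), ?_⟩
      rw [conj_pow]
      group
    have hdT := (c.D_le.trans c.core_le) hd
    have h1 : d * x * d⁻¹ ∈ c.qMov := Solv.conj_mem_of_mem_normalizer (c.T_norm_qMov hdT) hx
    have h2 : d * (z * x * z⁻¹) * d⁻¹ ∈ c.qMov := Solv.conj_mem_of_mem_normalizer (c.T_norm_qMov hdT) hzx
    have hfix : d * ⁅x, z * x * z⁻¹⁆ * d⁻¹ = ⁅x, z * x * z⁻¹⁆ := by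
      rw [Subgroup.mem_centralizer_iff.1 (c.comm_mem_qFix (c.qMov_le hx) (c.qMov_le hzx)).2 d hd,
        mul_inv_cancel_right]
    rw [show d * ⁅x, z * x * z⁻¹⁆ * d⁻¹ = ⁅d * x * d⁻¹, d * (z * x * z⁻¹) * d⁻¹⁆ by
      simp only [commutatorElement_def]; group] at hfix
    rw [e1] at h1 hfix
    rw [e2] at h2 hfix
    rw [c.comm_mul_fix (pow_mem hx _) hb (pow_mem hzx _) hb₂ h1 h2, c.comm_pow_left hx (pow_mem hzx _),
      c.comm_pow_right hzx hx, ← pow_mul] at hfix
    conv_rhs at hfix => rw [← pow_one ⁅x, z * x * z⁻¹⁆]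
    rw [pow_eq_pow_iff_modEq, huo, ← ZMod.natCast_eq_natCast_iff, Nat.cast_mul, Nat.cast_one] at hfix
    show (a d : ZMod (Nat.card K)) * (a (z⁻¹ * d * z) : ZMod (Nat.card K)) = 1
    rw [mul_comm]
    exact hfix
  refine hxC (c.mem_qFix_of_fixed_mod (c.qMov_le hx) fun d hd => ?_)
  have hsq : ∀ e ∈ D, η e * η e = 1 := by
    intro e he
    obtain ⟨k, hk⟩ := c.odd_card Z
    have hcj : ∀ n : ℕ, (z ^ n)⁻¹ * e * z ^ n ∈ D := fun n => by
      have := Solv.conj_mem_of_mem_normalizer (inv_mem (c.Z_norm_D (pow_mem hz n))) he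
      rwa [inv_inv] at this
    have hstep : ∀ n : ℕ, η ((z ^ n)⁻¹ * e * z ^ n) * η ((z ^ (n + 1))⁻¹ * e * z ^ (n + 1)) = 1 := fun n => by
      have := key _ (hcj n)
      rwa [show z⁻¹ * ((z ^ n)⁻¹ * e * z ^ n) * z = (z ^ (n + 1))⁻¹ * e * z ^ (n + 1) by
        rw [pow_succ]; group] at this
    have hper : ∀ n : ℕ, η ((z ^ (2 * n + 1))⁻¹ * e * z ^ (2 * n + 1)) = η (z⁻¹ * e * z) := by
      intro n
      induction n with
      | zero => simp
      | succ n ih =>
        rw [← ih]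
        have s1 := hstep (2 * n + 1)
        have s2 := hstep (2 * n + 2)
        rw [show 2 * (n + 1) + 1 = 2 * n + 2 + 1 by ring]
        exact left_inv_eq_right_inv ((mul_comm _ _).trans s2) ((mul_comm _ _).trans s1)
    have h1 := hper k
    rw [← hk, orderOf_dvd_iff_pow_eq_one.1 (Subgroup.orderOf_dvd_natCard Z hz)] at h1
    simp only [inv_one, one_mul, mul_one] at h1
    have := key e he
    rwa [← h1] at this
  -- every element of `D` is a square
  have h2 : (orderOf d).Coprime 2 := Nat.coprime_two_right.2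
    ((c.odd_card D).of_dvd_nat (Subgroup.orderOf_dvd_natCard D hd))
  obtain ⟨m, hm⟩ := exists_pow_eq_self_of_coprime h2.symm
  have he : d ^ m ∈ D := pow_mem hd m
  have hem : d = d ^ m * d ^ m := by
    rw [← pow_add, ← two_mul, pow_mul]
    exact hm.symm
  obtain ⟨b, hb, e1⟩ : ∃ b ∈ c.qFix, d ^ m * x * (d ^ m)⁻¹ = x ^ a (d ^ m) * b := ⟨_, ha _ he, by group⟩
  have e3 : d * x * d⁻¹ = x ^ (a (d ^ m) * a (d ^ m)) * (b ^ a (d ^ m) * b) := by
    have hbd : d ^ m * b * (d ^ m)⁻¹ = b := by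
      rw [Subgroup.mem_centralizer_iff.1 hb.2 _ he, mul_inv_cancel_right]
    calc d * x * d⁻¹ = d ^ m * (d ^ m * x * (d ^ m)⁻¹) * (d ^ m)⁻¹ := by
          conv_lhs => rw [hem]
          group
      _ = d ^ m * (x ^ a (d ^ m) * b) * (d ^ m)⁻¹ := by rw [e1]
      _ = (d ^ m * x * (d ^ m)⁻¹) ^ a (d ^ m) * (d ^ m * b * (d ^ m)⁻¹) := by rw [conj_pow]; group
      _ = _ := by
          rw [e1, hbd, ((c.commute_qFix (pow_mem hx _) hb)).mul_pow, ← pow_mul, mul_assoc]
  have h3 : ((a (d ^ m) * a (d ^ m) : ℕ) : ZMod (Nat.card K)) = ((1 : ℕ) : ZMod (Nat.card K)) := by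
    push_cast
    exact hsq _ he
  rw [ZMod.natCast_eq_natCast_iff] at h3
  rw [e3, ← Nat.mod_add_div (a (d ^ m) * a (d ^ m)) (Nat.card K), h3, Nat.mod_eq_of_lt c.q_prime.one_lt,
    pow_add, pow_one, pow_mul, mul_assoc x, inv_mul_cancel_left]
  exact c.qFix.mul_mem (pow_mem (c.pow_mem_qFix (c.qMov_le hx)) _) (c.qFix.mul_mem (pow_mem hb _) hb)

/-- Either some line modulo `C_Q(D)` is `D`-invariant or `D` is irreducible. -/
theorem line_or_irreducible :
    (∃ x ∈ c.qMov, x ∉ c.qFix ∧ ∀ d ∈ D, ∃ n : ℕ, (x ^ n)⁻¹ * (d * x * d⁻¹) ∈ c.qFix) ∨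
    ∀ N : Subgroup G, c.qFix ≤ N → N ≤ Q → D ≤ Subgroup.normalizer (N : Set G) → N = c.qFix ∨ N = Q := by
  classical
  haveI := Fact.mk c.q_prime
  by_contra hcon
  push Not at hcon
  obtain ⟨hno, N, hN1, hN2, hN3, hN4, hN5⟩ := hcon
  let P : Subgroup G → Prop := fun W => c.qFix < W ∧ W ≤ Q ∧ D ≤ Subgroup.normalizer (W : Set G)
  obtain ⟨W, -, hWmin⟩ := Finite.exists_le_minimal (p := P) ⟨lt_of_le_of_ne hN1 (Ne.symm hN4), hN2, hN3⟩
  obtain ⟨⟨hW1, hW2, hW3⟩, hmin⟩ := hWmin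
  have hWQ : W ≠ Q := by
    intro h
    have h' : W ≤ N := hmin ⟨lt_of_le_of_ne hN1 (Ne.symm hN4), hN2, hN3⟩ (h ▸ hN2)
    exact hN5 (le_antisymm hN2 (h ▸ h'))
  obtain ⟨z, hz⟩ : ∃ z, Subgroup.zpowers z = Z := by
    haveI := c.decomp.cyclic
    exact (Subgroup.isCyclic_iff_exists_zpowers_eq_top Z).1 inferInstance
  have hzZ : z ∈ Z := hz ▸ Subgroup.mem_zpowers z
  obtain ⟨j, hj⟩ := IsPGroup.iff_card.1 (c.isPGroup_Q.to_le hW2)
  obtain ⟨i0, hi0⟩ := IsPGroup.iff_card.1 (c.isPGroup_Q.to_le c.qFix_le)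
  have hqle : ∀ i, c.qFix ≤ cj W (z ^ i) := fun i =>
    (cj_eq_self (c.T_norm_qFix (c.Z_le (pow_mem hzZ i)))).ge.trans (Subgroup.map_mono hW1.le)
  have hcjQ : ∀ i, cj W (z ^ i) ≤ Q := fun i =>
    (Subgroup.map_mono hW2).trans (cj_eq_self (c.T_norm_Q (c.Z_le (pow_mem hzZ i)))).le
  have hcjD : ∀ i, D ≤ Subgroup.normalizer (cj W (z ^ i) : Set G) := fun i d hd => by
    have hd' : (z ^ i)⁻¹ * d * z ^ i ∈ D := by
      have := Solv.conj_mem_of_mem_normalizer (inv_mem (c.Z_norm_D (pow_mem hzZ i))) hd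
      rwa [inv_inv] at this
    refine mem_normalizer_of_cj_le (le_of_eq ?_)
    rw [Fusion.cj, Fusion.cj, Subgroup.map_map]
    conv_rhs => rw [← cj_eq_self (hW3 hd'), Fusion.cj, Subgroup.map_map]
    congr 1
    ext x
    simp [mul_assoc]
  have hWcard : c.qFix ≤ W := hW1.le
  have hi0j : i0 ≤ j := by
    have := Subgroup.card_le_of_le hWcard
    rw [hi0, hj] at this
    exact (Nat.pow_le_pow_iff_right c.q_prime.one_lt).1 this
  -- the successive sums
  let S : ℕ → Subgroup G := fun n => Nat.rec (motive := fun _ => Subgroup G) c.qFix (fun i s => s ⊔ cj W (z ^ i)) n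
  have hS : ∀ n, c.qFix ≤ S n ∧ S n ≤ Q ∧ D ≤ Subgroup.normalizer (S n : Set G) ∧
      ∃ r, Nat.card (S n) = Nat.card K ^ (i0 + r * (j - i0)) ∧ ∀ i < n, cj W (z ^ i) ≤ S n := by
    intro n
    induction n with
    | zero =>
      exact ⟨le_rfl, c.qFix_le, (c.D_le.trans c.core_le).trans c.T_norm_qFix, 0, by simp [S, hi0],
        fun i hi => absurd hi (Nat.not_lt_zero i)⟩
    | succ n ih =>
      obtain ⟨a1, a2, a3, r, a4, a5⟩ := ih
      have hnorm : cj W (z ^ n) ≤ Subgroup.normalizer (S n : Set G) :=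
        (hcjQ n).trans (c.Q_norm_between a1 a2)
      have hD' : D ≤ Subgroup.normalizer ((S n ⊔ cj W (z ^ n) : Subgroup G) : Set G) := fun d hd =>
        mem_normalizer_of_cj_le (by rw [Fusion.cj_sup, cj_eq_self (a3 hd), cj_eq_self (hcjD n hd)])
      have hcard := Solv.card_sup_mul_card_inf' (S n) (cj W (z ^ n)) hnorm
      have hmin' : S n ⊓ cj W (z ^ n) = c.qFix ∨ S n ⊓ cj W (z ^ n) = cj W (z ^ n) := by
        by_cases h : c.qFix = S n ⊓ cj W (z ^ n)
        · exact Or.inl h.symm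
        right
        refine inf_eq_right.2 ?_
        have hinv : cj (S n ⊓ cj W (z ^ n)) (z ^ n)⁻¹ ≤ W := by
          rw [Fusion.cj_le_iff, inv_inv]
          exact inf_le_right
        have hD2 : D ≤ Subgroup.normalizer (cj (S n ⊓ cj W (z ^ n)) (z ^ n)⁻¹ : Set G) := fun d hd => by
          have hd' : z ^ n * d * (z ^ n)⁻¹ ∈ D :=
            Solv.conj_mem_of_mem_normalizer (c.Z_norm_D (pow_mem hzZ n)) hd
          have h2 : z ^ n * d * (z ^ n)⁻¹ ∈ Subgroup.normalizer ((S n ⊓ cj W (z ^ n) : Subgroup G) : Set G) :=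
            mem_normalizer_of_cj_le (by rw [Fusion.cj_inf, cj_eq_self (a3 hd'), cj_eq_self (hcjD n hd')])
          refine mem_normalizer_of_cj_le ?_
          rintro _ ⟨_, ⟨y, hy, rfl⟩, rfl⟩
          refine ⟨_, Solv.conj_mem_of_mem_normalizer h2 hy, ?_⟩
          simp only [MulEquiv.coe_toMonoidHom, MulAut.conj_apply]
          group
        have hlt : c.qFix < cj (S n ⊓ cj W (z ^ n)) (z ^ n)⁻¹ := by
          refine lt_of_le_of_ne ?_ fun e => h ?_
          · rw [← cj_eq_self (c.T_norm_qFix (c.Z_le (inv_mem (pow_mem hzZ n))))]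
            exact Subgroup.map_mono (le_inf a1 (hqle n))
          · refine Subgroup.map_injective (f := (MulAut.conj (z ^ n)⁻¹).toMonoidHom) (MulAut.conj (z ^ n)⁻¹).injective ?_
            show cj c.qFix (z ^ n)⁻¹ = cj (S n ⊓ cj W (z ^ n)) (z ^ n)⁻¹
            rw [cj_eq_self (c.T_norm_qFix (c.Z_le (inv_mem (pow_mem hzZ n))))]
            exact e
        have := hmin ⟨hlt, hinv.trans hW2, hD2⟩ hinv
        rw [← Fusion.cj_le_iff] at this
        exact this.trans inf_le_left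
      rw [Fusion.card_cj, hj, a4] at hcard
      rcases hmin' with e | e
      · refine ⟨le_sup_of_le_left a1, sup_le a2 (hcjQ n), hD', r + 1, ?_, fun i hi => ?_⟩
        · rw [e, hi0, ← pow_add] at hcard
          refine Nat.eq_of_mul_eq_mul_right (pow_pos c.q_prime.pos i0) ?_
          rw [← pow_add]
          refine hcard.trans ?_
          congr 1
          rw [Nat.succ_mul]
          omega
        · rcases Nat.lt_succ_iff_lt_or_eq.1 hi with h | rfl
          · exact (a5 i h).trans le_sup_left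
          · exact le_sup_right
      · have he : S n ⊔ cj W (z ^ n) = S n := sup_eq_left.2 (inf_eq_right.1 e)
        refine ⟨le_sup_of_le_left a1, sup_le a2 (hcjQ n), hD', r, by show Nat.card ↥(S n ⊔ cj W (z ^ n)) = _; rw [he, a4], fun i hi => ?_⟩
        rcases Nat.lt_succ_iff_lt_or_eq.1 hi with h | rfl
        · exact (a5 i h).trans le_sup_left
        · exact le_sup_right
  obtain ⟨b1, b2, -, r, b4, b5⟩ := hS (Nat.card Z)
  have hSQ : S (Nat.card Z) = Q := le_antisymm b2 ((c.sum_conj hW1 hW2 hW3 hz).ge.trans (iSup_le fun i => by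
    rw [← Nat.mod_add_div i (Nat.card Z), pow_add, pow_mul,
      orderOf_dvd_iff_pow_eq_one.1 (Subgroup.orderOf_dvd_natCard Z hzZ), one_pow, mul_one]
    exact b5 _ (Nat.mod_lt _ Nat.card_pos)))
  rw [hSQ, c.card_Q, hi0, ← pow_add] at b4
  have b6 : Nat.card Z = r * (j - i0) := by
    have := Nat.pow_right_injective c.q_prime.two_le b4
    omega
  rcases (Nat.dvd_prime c.w_prime).1 (Dvd.intro_left r b6.symm) with h1 | h1
  · obtain ⟨x, hxW, hxC⟩ := SetLike.exists_of_lt hW1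
    obtain ⟨a, ha, b, hb, rfl⟩ := c.exists_qMov_mul (hW2 hxW)
    have haC : a ∉ c.qFix := fun h => hxC (c.qFix.mul_mem h hb)
    have haW : a ∈ W := by simpa using W.mul_mem hxW (W.inv_mem (hW1.le hb))
    refine absurd (hno a ha haC) ?_
    push Not
    intro d hd
    have hX : c.qFix ⊔ Subgroup.zpowers a = W := by
      refine Subgroup.eq_of_le_of_card_ge (sup_le hW1.le (Subgroup.zpowers_le.2 haW)) ?_
      have hlt : Nat.card c.qFix < Nat.card ↥(c.qFix ⊔ Subgroup.zpowers a) := by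
        refine lt_of_le_of_ne (Subgroup.card_le_of_le le_sup_left) fun e => haC ?_
        exact (Subgroup.eq_of_le_of_card_ge le_sup_left e.ge).ge (Subgroup.mem_sup_right (Subgroup.mem_zpowers a))
      obtain ⟨l, hl⟩ := IsPGroup.iff_card.1 ((c.isPGroup_Q.to_le hW2).to_le
        (sup_le hW1.le (Subgroup.zpowers_le.2 haW)))
      rw [hi0, hl] at hlt
      rw [hl, hj]
      have := (Nat.pow_lt_pow_iff_right c.q_prime.one_lt).1 hlt
      exact Nat.pow_le_pow_right c.q_prime.pos (by omega)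
    have hmem : d * a * d⁻¹ ∈ W := Solv.conj_mem_of_mem_normalizer (hW3 hd) haW
    rw [← hX, ← SetLike.mem_coe, Subgroup.coe_mul_of_right_le_normalizer_left _ _
      ((Subgroup.zpowers_le.2 ((c.T_norm_qFix) (c.core_le (c.Q_le (c.qMov_le ha))))))] at hmem
    obtain ⟨b', hb', p, hp, e⟩ := hmem
    obtain ⟨n, rfl⟩ := (isOfFinOrder_of_finite a).mem_powers_iff_mem_zpowers.2 hp
    refine ⟨n, ?_⟩
    simp only at e
    rw [← e, show b' * a ^ n = a ^ n * b' from (c.commute_qFix (pow_mem ha n) hb').eq.symm, inv_mul_cancel_left]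
    exact hb'
  · refine hWQ (Subgroup.eq_of_le_of_card_ge hW2 ?_)
    rw [c.card_Q, hi0, hj, ← pow_add]
    exact Nat.pow_le_pow_right c.q_prime.pos (by omega)

theorem qMov_comm {a b : G} (ha : a ∈ c.qMov) (hb : b ∈ c.qMov) : Commute a b := by
  classical
  haveI := Fact.mk c.q_prime
  rcases c.line_or_irreducible with ⟨x, hx, hxC, hline⟩ | hirr
  · obtain ⟨z, hz⟩ : ∃ z, Subgroup.zpowers z = Z := by
      haveI := c.decomp.cyclic
      exact (Subgroup.isCyclic_iff_exists_zpowers_eq_top Z).1 inferInstance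
    have hzZ : z ∈ Z := hz ▸ Subgroup.mem_zpowers z
    let x' : ℕ → G := fun i => z ^ i * x * (z ^ i)⁻¹
    have hx' : ∀ i, x' i ∈ c.qMov := fun i =>
      Solv.conj_mem_of_mem_normalizer (c.T_norm_qMov (c.Z_le (pow_mem hzZ i))) hx
    have hcc : ∀ i k, Commute (x' i) (x' k) := by
      have hle : ∀ i k, i ≤ k → Commute (x' i) (x' k) := fun i k hik => by
        obtain ⟨l, rfl⟩ := Nat.exists_eq_add_of_le hik
        have h := c.comm_of_line hx hxC hline (pow_mem hzZ l)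
        have e : x' (i + l) = z ^ i * (z ^ l * x * (z ^ l)⁻¹) * (z ^ i)⁻¹ := by
          simp only [x', pow_add]; group
        rw [e, commute_iff_eq]
        show z ^ i * x * (z ^ i)⁻¹ * _ = _ * (z ^ i * x * (z ^ i)⁻¹)
        rw [conj_mul, conj_mul, h.eq]
      exact fun i k => (le_total i k).elim (hle i k) fun h => (hle k i h).symm
    let S := Subgroup.closure (Set.range x')
    have hSm : S ≤ c.qMov := (Subgroup.closure_le _).2 (by rintro _ ⟨i, rfl⟩; exact hx' i)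
    have hScomm : ∀ s ∈ S, ∀ t ∈ S, Commute s t := by
      intro s hs t ht
      induction hs, ht using Subgroup.closure_induction₂ with
      | mem s t hs ht => obtain ⟨i, rfl⟩ := hs; obtain ⟨k, rfl⟩ := ht; exact hcc i k
      | one_left t ht => exact Commute.one_left t
      | one_right s hs => exact Commute.one_right s
      | mul_left _ _ _ _ _ _ h1 h2 => exact h1.mul_left h2
      | mul_right _ _ _ _ _ _ h1 h2 => exact h1.mul_right h2
      | inv_left _ _ _ _ h => exact h.inv_left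
      | inv_right _ _ _ _ h => exact h.inv_right
    have hW : D ≤ Subgroup.normalizer ((c.qFix ⊔ Subgroup.zpowers x : Subgroup G) : Set G) := fun d hd => by
      refine mem_normalizer_of_cj_le ?_
      rw [Fusion.cj_sup, cj_eq_self ((c.D_le.trans c.core_le).trans c.T_norm_qFix hd)]
      refine sup_le le_sup_left ?_
      rw [Fusion.cj, MonoidHom.map_zpowers, Subgroup.zpowers_le]
      obtain ⟨n, hn⟩ := hline d hd
      show d * x * d⁻¹ ∈ _
      rw [show d * x * d⁻¹ = x ^ n * ((x ^ n)⁻¹ * (d * x * d⁻¹)) by group]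
      exact mul_mem (Subgroup.mem_sup_right (pow_mem (Subgroup.mem_zpowers x) n)) (Subgroup.mem_sup_left hn)
    have hQ : c.qFix ⊔ S = Q := by
      refine le_antisymm (sup_le c.qFix_le (hSm.trans c.qMov_le)) ?_
      refine (c.sum_conj (lt_of_le_of_ne le_sup_left fun e =>
          hxC (e.ge (Subgroup.mem_sup_right (Subgroup.mem_zpowers x))))
        (sup_le c.qFix_le (Subgroup.zpowers_le.2 (c.qMov_le hx))) hW hz).ge.trans (iSup_le fun i => ?_)
      rw [Fusion.cj_sup, cj_eq_self (c.T_norm_qFix (c.Z_le (pow_mem hzZ i))), Fusion.cj, MonoidHom.map_zpowers]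
      exact sup_le le_sup_left (Subgroup.zpowers_le.2 (Subgroup.mem_sup_right (Subgroup.subset_closure ⟨i, rfl⟩)))
    have hsplit : ∀ y ∈ c.qMov, ∃ s ∈ S, ∃ r ∈ c.qFix, r ∈ c.qMov ∧ y = s * r := by
      intro y hy
      have h1 : y ∈ S ⊔ c.qFix := by rw [sup_comm, hQ]; exact c.qMov_le hy
      rw [← SetLike.mem_coe, Subgroup.coe_mul_of_left_le_normalizer_right _ _
        ((hSm.trans c.qMov_le).trans ((c.Q_le.trans c.core_le).trans c.T_norm_qFix))] at h1
      obtain ⟨s, hs, r, hr, rfl⟩ := h1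
      exact ⟨s, hs, r, hr, by simpa using (c.qMov).mul_mem ((c.qMov).inv_mem (hSm hs)) hy, rfl⟩
    obtain ⟨s, hs, r, hr, hrm, rfl⟩ := hsplit a ha
    obtain ⟨t, ht, r', hr', hrm', rfl⟩ := hsplit b hb
    rw [commute_iff_eq, ← commutatorElement_eq_one_iff_mul_comm,
      c.comm_mul_fix (hSm hs) hr (hSm ht) hr' ha hb, commutatorElement_eq_one_iff_mul_comm]
    exact (hScomm s hs t ht).eq
  · rw [commute_iff_eq, ← commutatorElement_eq_one_iff_mul_comm]
    by_contra hu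
    set R : Subgroup c.qMov := commutator c.qMov with hR
    haveI : Fintype c.qMov := Fintype.ofFinite _
    have hRfix : ∀ r ∈ R, (r : G) ∈ c.qFix := fun r hr => by
      have h := Subgroup.mem_map_of_mem (c.qMov).subtype hr
      rw [hR, Subgroup.map_subtype_commutator] at h
      exact (Subgroup.commutator_le.2 fun p hp p' hp' => c.comm_mem_qFix (c.qMov_le hp) (c.qMov_le hp')) h
    have hRc : ∀ r ∈ R, ∀ y : c.qMov, r * y = y * r := fun r hr y =>
      Subtype.ext (c.commute_qFix y.2 (hRfix r hr)).eq.symm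
    haveI : IsMulCommutative R := ⟨⟨fun r s => Subtype.ext (hRc r r.2 s)⟩⟩
    have huR : (⁅(⟨a, ha⟩ : c.qMov), ⟨b, hb⟩⁆) ∈ R :=
      Subgroup.commutator_mem_commutator (Subgroup.mem_top _) (Subgroup.mem_top _)
    obtain ⟨l, hl⟩ := OddChar.exists_hom_ne_one (Y := R) (y := ⟨_, huR⟩) (by
      rw [show commutator R = ⊥ by
        rw [commutator_def, Subgroup.commutator_eq_bot_iff_le_centralizer]
        exact fun p _ p' _ => mul_comm' p' p, Subgroup.mem_bot]
      exact fun e => hu (congrArg (fun y : R => ((y : c.qMov) : G)) e))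
    let cm : c.qMov → c.qMov → R := fun p p' =>
      ⟨⁅p, p'⁆, Subgroup.commutator_mem_commutator (Subgroup.mem_top _) (Subgroup.mem_top _)⟩
    have hcm : ∀ p p' : c.qMov, (((cm p p' : R) : c.qMov) : G) = ⁅(p : G), (p' : G)⁆ := fun p p' => rfl
    have hroot : ∀ p p' : c.qMov, l (cm p p') ∈ rootsOfUnity (Nat.card K) ℂ := fun p p' => by
      rw [mem_rootsOfUnity, ← map_pow, show (cm p p') ^ Nat.card K = 1 from Subtype.ext (Subtype.ext (by
        push_cast
        rw [hcm]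
        exact c.comm_pow_eq_one p.2 p'.2)), map_one]
    have hcml : ∀ p p' y : c.qMov, cm (p * p') y = cm p y * cm p' y := fun p p' y =>
      Subtype.ext (Subtype.ext (c.comm_mul_left p.2 p'.2 y.2))
    have hcmr : ∀ p y y' : c.qMov, cm p (y * y') = cm p y * cm p y' := fun p y y' => by
      have e : ∀ s t : c.qMov, cm s t = (cm t s)⁻¹ := fun s t =>
        Subtype.ext (commutatorElement_inv t s).symm
      rw [e p (y * y'), hcml, mul_inv_rev, ← e, ← e, mul_comm']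
    let f : c.qMov →* c.qMov →* rootsOfUnity (Nat.card K) ℂ := MonoidHom.mk' (fun p =>
      MonoidHom.mk' (fun y => ⟨l (cm p y), hroot p y⟩) fun y y' => Subtype.ext (by
        show l (cm p (y * y')) = l (cm p y) * l (cm p y')
        rw [hcmr, map_mul])) fun p p' => MonoidHom.ext fun y => Subtype.ext (by
        show l (cm (p * p') y) = l (cm p y) * l (cm p' y)
        rw [hcml, map_mul])
    have halt : ∀ p : c.qMov, f p p = 1 := fun p => Subtype.ext (by
      show l (cm p p) = 1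
      rw [show cm p p = 1 from Subtype.ext (commutatorElement_self p), map_one])
    have hA : Nat.card (rootsOfUnity (Nat.card K) ℂ) = Nat.card K := by
      haveI : NeZero (Nat.card K) := ⟨c.q_prime.ne_zero⟩
      exact Complex.card_rootsOfUnity _
    obtain ⟨m, hm⟩ := alt_radical c.q_prime hA f halt
    set Rad : Subgroup G := f.ker.map (c.qMov).subtype with hRad
    have hRadD : D ≤ Subgroup.normalizer (Rad : Set G) := fun d hd => mem_normalizer_of_cj_le (by
      rintro _ ⟨_, ⟨p, hp, rfl⟩, rfl⟩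
      have hdT : d ∈ T := (c.D_le.trans c.core_le) hd
      have hp' : d * (p : G) * d⁻¹ ∈ c.qMov := Solv.conj_mem_of_mem_normalizer (c.T_norm_qMov hdT) p.2
      refine ⟨⟨d * (p : G) * d⁻¹, hp'⟩, ?_, rfl⟩
      refine MonoidHom.mem_ker.2 (MonoidHom.ext fun y => Subtype.ext ?_)
      have hy' : d⁻¹ * (y : G) * d ∈ c.qMov := by
        have := Solv.conj_mem_of_mem_normalizer (c.T_norm_qMov (inv_mem hdT)) y.2
        rwa [inv_inv] at this
      have h1 := congrArg Subtype.val (DFunLike.congr_fun (MonoidHom.mem_ker.1 hp) ⟨_, hy'⟩)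
      show l (cm _ y) = 1
      rw [show cm ⟨d * (p : G) * d⁻¹, hp'⟩ y = cm p ⟨_, hy'⟩ from Subtype.ext (Subtype.ext ?_)]
      · exact h1
      · show ⁅d * (p : G) * d⁻¹, (y : G)⁆ = ⁅(p : G), d⁻¹ * (y : G) * d⁆
        have h2 : ⁅d * (p : G) * d⁻¹, (y : G)⁆ = d * ⁅(p : G), d⁻¹ * (y : G) * d⁆ * d⁻¹ := by
          simp only [commutatorElement_def]; group
        rw [h2, Subgroup.mem_centralizer_iff.1 (c.comm_mem_qFix (c.qMov_le p.2) (c.qMov_le hy')).2 d hd,
          mul_inv_cancel_right])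
    have hRadQ : Rad ≤ Q := (Subgroup.map_subtype_le _).trans c.qMov_le
    have hD' : D ≤ Subgroup.normalizer ((c.qFix ⊔ Rad : Subgroup G) : Set G) := fun d hd =>
      mem_normalizer_of_cj_le (by
        rw [Fusion.cj_sup, cj_eq_self ((c.D_le.trans c.core_le).trans c.T_norm_qFix hd), cj_eq_self (hRadD hd)])
    have hRrad : ∀ p : c.qMov, (p : G) ∈ c.qFix → p ∈ f.ker := fun p hp =>
      MonoidHom.mem_ker.2 (MonoidHom.ext fun y => Subtype.ext (by
        show l (cm p y) = 1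
        rw [show cm p y = 1 from Subtype.ext (Subtype.ext
          (commutatorElement_eq_one_iff_mul_comm.2 (c.commute_qFix y.2 hp).eq.symm)), map_one]))
    rcases hirr _ le_sup_left (sup_le c.qFix_le hRadQ) hD' with e | e
    · have hker : f.ker = c.qFix.subgroupOf c.qMov := le_antisymm
        (fun p hp => e.le (Subgroup.mem_sup_right ⟨p, hp, rfl⟩)) fun p hp => hRrad p hp
      rw [hker] at hm
      have h1 := Solv.card_sup_mul_card_inf' c.qFix c.qMov
        ((c.qMov_le.trans (c.Q_le.trans c.core_le)).trans c.T_norm_qFix)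
      rw [sup_comm, c.qMov_sup_qFix, c.card_Q] at h1
      have h2 := (c.qFix.subgroupOf c.qMov).card_mul_index
      have h3 : Nat.card (c.qFix.subgroupOf c.qMov) = Nat.card ↥(c.qFix ⊓ c.qMov) := by
        rw [← Solv.card_map_subtype, Subgroup.subgroupOf_map_subtype]
      rw [h3, hm] at h2
      rw [← h2, mul_assoc, mul_comm (Nat.card K ^ Nat.card Z)] at h1
      have h4 := Nat.pow_right_injective c.q_prime.two_le
        (Nat.eq_of_mul_eq_mul_left Nat.card_pos (Nat.eq_of_mul_eq_mul_left Nat.card_pos h1))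
      obtain ⟨k, hk⟩ := c.odd_card Z
      omega
    · refine hl ?_
      have hall : ∀ p : c.qMov, p ∈ f.ker := by
        intro p
        have h1 : (p : G) ∈ Rad ⊔ c.qFix := by rw [sup_comm, e]; exact c.qMov_le p.2
        rw [← SetLike.mem_coe, Subgroup.coe_mul_of_left_le_normalizer_right _ _
          (hRadQ.trans ((c.Q_le.trans c.core_le).trans c.T_norm_qFix))] at h1
        obtain ⟨s, ⟨s', hs', rfl⟩, r, hr, hsr⟩ := h1
        have hrm : r ∈ c.qMov := by
          have h := (c.qMov).mul_mem ((c.qMov).inv_mem s'.2) p.2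
          rw [← hsr] at h
          simpa using h
        rw [show p = s' * ⟨r, hrm⟩ from Subtype.ext hsr.symm]
        exact mul_mem hs' (hRrad _ hr)
      exact congrArg Subtype.val (DFunLike.congr_fun (MonoidHom.mem_ker.1 (hall ⟨a, ha⟩)) ⟨b, hb⟩)

theorem qMov_isMulCommutative : IsMulCommutative c.qMov :=
  ⟨⟨fun a b => Subtype.ext (c.qMov_comm a.2 b.2).eq⟩⟩

theorem qMov_inf_qFix : c.qMov ⊓ c.qFix = ⊥ := by
  have h := Solv.PLenFix.commutator_inf_centralizer c.qMov D c.qMov_isMulCommutative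
    ((c.D_le.trans c.core_le).trans c.T_norm_qMov)
    (c.coprime_Q_D.symm.coprime_dvd_right (Subgroup.card_dvd_of_le c.qMov_le))
  rw [c.qMov_eq, Solv.commutator_commutator_eq (K := Q) (A := D) c.D_norm_Q c.coprime_Q_D.symm
    (Or.inr c.Q_solvable)] at h
  exact le_bot_iff.1 (h ▸ inf_le_inf_left _ inf_le_right)

theorem card_qMov : Nat.card c.qMov = Nat.card K ^ Nat.card Z := by
  have h := Solv.card_sup_mul_card_inf' c.qMov c.qFix
    ((c.qFix_le.trans (c.Q_le.trans c.core_le)).trans c.T_norm_qMov)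
  rw [c.qMov_sup_qFix, c.qMov_inf_qFix, Subgroup.card_bot, mul_one, c.card_Q, mul_comm (Nat.card c.qMov)] at h
  exact (Nat.eq_of_mul_eq_mul_left Nat.card_pos h).symm

theorem qMov_pow {x : G} (hx : x ∈ c.qMov) : x ^ Nat.card K = 1 := by
  have h : x ^ Nat.card K ∈ c.qMov ⊓ c.qFix := ⟨pow_mem hx _, c.pow_mem_qFix (c.qMov_le hx)⟩
  rwa [c.qMov_inf_qFix, Subgroup.mem_bot] at h

theorem isElementaryAbelian_qMov : IsElementaryAbelian (Nat.card K) c.qMov :=
  ⟨c.qMov_isMulCommutative, fun x hx => c.qMov_pow hx⟩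

theorem qFix_free {z : G} (hz : z ∈ Z) (hz1 : z ≠ 1) {x : G} (hx : x ∈ c.qFix) (e : z * x = x * z) : x = 1 := by
  have h1 : x ∈ K := c.prime_action hz hz1 ▸
    ⟨c.Q_le (c.qFix_le hx), Subgroup.mem_centralizer_singleton_iff.2 e.symm⟩
  have h2 : x ∈ K ⊓ c.qFix := ⟨h1, hx⟩
  rwa [c.K_inf_qFix, Subgroup.mem_bot] at h2

theorem K_le_qMov : K ≤ c.qMov := by
  intro k hk
  obtain ⟨a, ha, b, hb, rfl⟩ := c.exists_qMov_mul (c.K_le_Q hk)
  obtain ⟨z, hz, hz1⟩ := Z.bot_or_exists_ne_one.resolve_left c.Z_ne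
  have hzk : z * (a * b) = a * b * z := Subgroup.mem_centralizer_iff.1 (c.star.symm ▸ hk).2 z hz
  have hzT := c.Z_le hz
  have ha' : z * a * z⁻¹ ∈ c.qMov := Solv.conj_mem_of_mem_normalizer (c.T_norm_qMov hzT) ha
  have hb' : z * b * z⁻¹ ∈ c.qFix := Solv.conj_mem_of_mem_normalizer (c.T_norm_qFix hzT) hb
  have e : (z * a * z⁻¹) * (z * b * z⁻¹) = a * b := by
    rw [show (z * a * z⁻¹) * (z * b * z⁻¹) = z * (a * b) * z⁻¹ by group, hzk, mul_inv_cancel_right]
  have h1 : a⁻¹ * (z * a * z⁻¹) = b * (z * b * z⁻¹)⁻¹ := by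
    rw [eq_mul_inv_iff_mul_eq, mul_assoc, e, inv_mul_cancel_left]
  have h2 : b * (z * b * z⁻¹)⁻¹ = 1 := by
    rw [← Subgroup.mem_bot, ← c.qMov_inf_qFix]
    exact ⟨h1 ▸ (c.qMov).mul_mem ((c.qMov).inv_mem ha) ha', c.qFix.mul_mem hb (c.qFix.inv_mem hb')⟩
  rw [mul_inv_eq_one] at h2
  rw [c.qFix_free hz hz1 hb ((mul_inv_eq_iff_eq_mul.1 h2.symm)), mul_one]
  exact ha

theorem derived_le_dKer : ⁅D, D⁆ ≤ c.dKer :=
  le_inf (Subgroup.commutator_le_self D) (Kappa.Q_compl_derived c.minSimple c.coatom c.decomp c.Z_ne rfl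
    c.spl.syl c.spl.norm c.spl.star c.spl.compl c.spl.nilpotent c.spl.invariant c.spl.hallK c.spl.hallD
    c.spl.hall_le c.spl.coprime)

theorem dKer_le : c.dKer ≤ D := inf_le_left

theorem Z_norm_dKer : Z ≤ Subgroup.normalizer (c.dKer : Set G) := fun z hz => mem_normalizer_of_cj_le (by
  show cj (D ⊓ Subgroup.centralizer (Q : Set G)) z ≤ D ⊓ Subgroup.centralizer (Q : Set G)
  rw [Fusion.cj_inf, Fusion.cj_centralizer, cj_eq_self (c.Z_norm_D hz), cj_eq_self (c.T_norm_Q (c.Z_le hz))])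

theorem D_norm_dKer : D ≤ Subgroup.normalizer (c.dKer : Set G) := fun d hd => mem_normalizer_of_cj_le (by
  show cj (D ⊓ Subgroup.centralizer (Q : Set G)) d ≤ D ⊓ Subgroup.centralizer (Q : Set G)
  rw [Fusion.cj_inf, Fusion.cj_centralizer, Fusion.cj_eq_self_of_mem hd, cj_eq_self (c.D_norm_Q hd)])

theorem dKer_ne : c.dKer ≠ D := fun h => c.spl.not_centralized c.minSimple c.coatom c.ne
  (by rw [c.star]; exact c.q_prime) (h ▸ inf_le_right)

theorem qMov_le_derived : c.qMov ≤ ⁅sigmaCore T, sigmaCore T⁆ := Subgroup.commutator_mono c.Q_le c.D_le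

theorem derived_core : ⁅sigmaCore T, sigmaCore T⁆ = c.qMov ⊔ ⁅c.qFix, c.qFix⁆ ⊔ ⁅D, D⁆ := by
  set N := c.qMov ⊔ ⁅c.qFix, c.qFix⁆ ⊔ ⁅D, D⁆ with hN
  have hQC : ∀ {a}, a ∈ c.qMov → a ∈ N := fun h => Subgroup.mem_sup_left (Subgroup.mem_sup_left h)
  have hle : N ≤ ⁅sigmaCore T, sigmaCore T⁆ := sup_le (sup_le c.qMov_le_derived
    (Subgroup.commutator_mono (c.qFix_le.trans c.Q_le) (c.qFix_le.trans c.Q_le)))
    (Subgroup.commutator_mono c.D_le c.D_le)
  refine le_antisymm ?_ hle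
  have hQD : ∀ x ∈ Q, ∀ d ∈ D, ⁅x, d⁆ ∈ N := fun x hx d hd => hQC (Subgroup.commutator_mem_commutator hx hd)
  have hQQ : ∀ x ∈ Q, ∀ y ∈ Q, ⁅x, y⁆ ∈ N := by
    intro x hx y hy
    obtain ⟨a, ha, b, hb, rfl⟩ := c.exists_qMov_mul hx
    obtain ⟨a', ha', b', hb', rfl⟩ := c.exists_qMov_mul hy
    have e : ⁅a * b, a' * b'⁆ = ⁅b, b'⁆ := by
      have e1 : b * a' = a' * b := (c.commute_qFix ha' hb).eq.symm
      have e2 : a * b' = b' * a := (c.commute_qFix ha hb').eq
      have e3 : a * a' = a' * a := (c.qMov_comm ha ha').eq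
      calc ⁅a * b, a' * b'⁆ = a * (b * a') * b' * b⁻¹ * a⁻¹ * b'⁻¹ * a'⁻¹ := by
            rw [commutatorElement_def]; group
        _ = a' * (a * b * b' * b⁻¹ * (b' * a)⁻¹) * a'⁻¹ := by
            rw [e1, ← mul_assoc a, e3]; group
        _ = a' * (a * ⁅b, b'⁆ * a⁻¹) * a'⁻¹ := by rw [← e2, commutatorElement_def]; group
        _ = ⁅b, b'⁆ := by
            rw [(c.commute_qFix ha (c.comm_mem_qFix (c.qFix_le hb) (c.qFix_le hb'))).eq, mul_inv_cancel_right,
              (c.commute_qFix ha' (c.comm_mem_qFix (c.qFix_le hb) (c.qFix_le hb'))).eq, mul_inv_cancel_right]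
    rw [e]
    exact Subgroup.mem_sup_left (Subgroup.mem_sup_right (Subgroup.commutator_mem_commutator hb hb'))
  refine Kappa.derived_le_of_mul (D := Q) (K := D) ?_ (hle.trans (Subgroup.commutator_le_self _)) c.Q_le
    c.D_le (fun m hm => c.mul hm) hQQ
    (fun a ha b hb => Subgroup.mem_sup_right (Subgroup.commutator_mem_commutator ha hb)) hQD
  intro g hg
  obtain ⟨y, hy, d, hd, rfl⟩ := c.mul hg
  refine mul_mem ?_ ?_
  · refine mem_normalizer_of_cj_le ?_
    rintro _ ⟨n, hn, rfl⟩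
    show y * n * y⁻¹ ∈ N
    have hnQD : n ∈ sigmaCore T := Subgroup.commutator_le_self _ (hle hn)
    obtain ⟨n₁, hn₁, d₁, hd₁, rfl⟩ := c.mul hnQD
    rw [show y * (n₁ * d₁) * y⁻¹ = ⁅y, n₁⁆ * (n₁ * ⁅y, d₁⁆ * n₁⁻¹) * (n₁ * d₁) by
      simp only [commutatorElement_def]; group]
    refine mul_mem (mul_mem (hQQ y hy n₁ hn₁) ?_) hn
    refine hQC (Solv.conj_mem_of_mem_normalizer (c.T_norm_qMov (c.core_le (c.Q_le hn₁))) ?_)
    exact Subgroup.commutator_mem_commutator hy hd₁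
  · refine mem_normalizer_of_cj_le ?_
    rw [hN, Fusion.cj_sup, Fusion.cj_sup, Fusion.cj_commutator, Fusion.cj_commutator,
      cj_eq_self (c.T_norm_qMov (c.core_le (c.D_le hd))), cj_eq_self (c.T_norm_qFix (c.core_le (c.D_le hd))),
      Fusion.cj_eq_self_of_mem hd]

theorem relIndex_derived : (⁅sigmaCore T, sigmaCore T⁆).relIndex (sigmaCore T) =
    (⁅c.qFix, c.qFix⁆).relIndex c.qFix * (⁅D, D⁆).relIndex D := by
  have hCC : ⁅c.qFix, c.qFix⁆ ≤ c.qFix := Subgroup.commutator_le_self _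
  have hDD : ⁅D, D⁆ ≤ D := Subgroup.commutator_le_self _
  have h1 : Nat.card ↥(c.qMov ⊔ ⁅c.qFix, c.qFix⁆) = Nat.card c.qMov * Nat.card ↥⁅c.qFix, c.qFix⁆ := by
    have h := Solv.card_sup_mul_card_inf' c.qMov ⁅c.qFix, c.qFix⁆
      (hCC.trans ((c.qFix_le.trans (c.Q_le.trans c.core_le)).trans c.T_norm_qMov))
    rwa [le_bot_iff.1 ((inf_le_inf_left _ hCC).trans c.qMov_inf_qFix.le), Subgroup.card_bot, mul_one] at h
  have hX : c.qMov ⊔ ⁅c.qFix, c.qFix⁆ ≤ Q := sup_le c.qMov_le (hCC.trans c.qFix_le)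
  have h2 := Solv.card_sup_mul_card_inf' (c.qMov ⊔ ⁅c.qFix, c.qFix⁆) ⁅D, D⁆ (fun d hd =>
    mem_normalizer_of_cj_le (by
      rw [Fusion.cj_sup, Fusion.cj_commutator, cj_eq_self (c.T_norm_qMov (c.core_le (c.D_le (hDD hd)))),
        cj_eq_self (c.T_norm_qFix (c.core_le (c.D_le (hDD hd))))]))
  rw [le_bot_iff.1 ((inf_le_inf hX hDD).trans c.Q_D.le), Subgroup.card_bot, mul_one, h1] at h2
  have h3 := ((⁅sigmaCore T, sigmaCore T⁆).subgroupOf (sigmaCore T)).card_mul_index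
  rw [Solv.card_subgroupOf (Subgroup.commutator_le_self _), c.derived_core, h2, c.card_core, c.card_Q,
    ← c.card_qMov] at h3
  have h4 := ((⁅c.qFix, c.qFix⁆).subgroupOf c.qFix).card_mul_index
  have h5 := ((⁅D, D⁆).subgroupOf D).card_mul_index
  rw [Solv.card_subgroupOf hCC] at h4
  rw [Solv.card_subgroupOf hDD] at h5
  rw [c.derived_core]
  refine Nat.eq_of_mul_eq_mul_left (show 0 < Nat.card c.qMov * Nat.card ↥⁅c.qFix, c.qFix⁆ * Nat.card ↥⁅D, D⁆ from
    Nat.mul_pos (Nat.mul_pos Nat.card_pos Nat.card_pos) Nat.card_pos) (h3.trans ?_)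
  show _ = _ * ((⁅c.qFix, c.qFix⁆.subgroupOf c.qFix).index * (⁅D, D⁆.subgroupOf D).index)
  rw [← h4, ← h5]
  ring

end TSplit

end Cfsg.Agent.OddFT
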