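import Cfsg.Agent.Lib.OddChar.FT.SplitReduce
import Cfsg.Agent.Lib.OddChar.FT.Congr
import Cfsg.Agent.Lib.OddChar.FT.TISet
import Cfsg.Agent.Lib.OddChar.KappaCaseSplit
import Cfsg.Agent.Lib.Char.CoherenceDescent

/-!
In the reduced configuration a uniform multiplicity of a signed irreducible character on the characters
of `H / J` that are nontrivial on `V` is an integer.
-/

set_option autoImplicit false
set_option linter.unusedSectionVars false
set_option linter.unusedVariables false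
set_option linter.style.haveILetI false

open Cfsg Cfsg.Agent.Char Cfsg.Agent.OddChar
open scoped commutatorElement ComplexConjugate

namespace Cfsg.Agent.OddFT

universe u

theorem sum_normal {X : Type u} [Group X] [Fintype X] (N : Subgroup X) [N.Normal] [DecidablePred (· ∈ N)]
    (θ : IrrCharacter X) :
    ((∀ n ∈ N, (θ : X → ℂ) n = (θ : X → ℂ) 1) ∧
      ∑ x : X with x ∈ N, (θ : X → ℂ) x = (Nat.card N : ℂ) * (θ : X → ℂ) 1) ∨
    ((¬ ∀ n ∈ N, (θ : X → ℂ) n = (θ : X → ℂ) 1) ∧ ∑ x : X with x ∈ N, (θ : X → ℂ) x = 0) := by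
  classical
  by_cases h : ∀ n ∈ N, (θ : X → ℂ) n = (θ : X → ℂ) 1
  · refine Or.inl ⟨h, ?_⟩
    rw [Finset.sum_congr rfl (fun x hx => h x (Finset.mem_filter.1 hx).2), Finset.sum_const, nsmul_eq_mul,
      Nat.card_eq_fintype_card, Fintype.card_subtype]
  refine Or.inr ⟨h, ?_⟩
  haveI := Fintype.ofFinite N
  have hs : ∑ x : X with x ∈ N, (θ : X → ℂ) x = ∑ n : N, (θ : X → ℂ) n :=
    Finset.sum_subtype _ (fun x => by simp) _
  rw [hs]
  by_contra h0
  let one : IrrCharacter N := ⟨_, isIrrCharacter_one⟩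
  have hc : classInner (fun m : N => (θ : X → ℂ) m) (one : N → ℂ) ≠ 0 := by
    simp only [classInner, one, map_one, mul_one]
    exact mul_ne_zero (inv_ne_zero (Nat.cast_ne_zero.2 Nat.card_pos.ne')) h0
  have horb : cliffOrbit N one = {one} := by
    refine Finset.eq_singleton_iff_unique_mem.2 ⟨self_mem_cliffOrbit one, fun ψ hψ => ?_⟩
    obtain ⟨g, rfl⟩ := mem_cliffOrbit.1 hψ
    exact Subtype.ext rfl
  have hres := clifford_restrict (N := N) θ one hc
  rw [horb, Finset.sum_singleton] at hres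
  exact h fun n hn => (congrFun hres ⟨n, hn⟩).trans (congrFun hres 1).symm

theorem eq_one_of_kerC {X : Type u} [Group X] [Fintype X] {θ : IrrCharacter X} {g : X}
    (h : g ∈ TwoDeg.kerC θ) : (θ : X → ℂ) g = (θ : X → ℂ) 1 := by
  simpa using h 1

variable {G : Type u} [Group G] [Fintype G] {T Z K Q D H₁ : Subgroup G}

theorem gen_restrict (H : Subgroup G) {X : G → ℂ} (h : IsGeneralizedCharacter G X) :
    IsGeneralizedCharacter H (fun x : H => X (x : G)) := by
  obtain ⟨a, b, ha, hb, rfl⟩ := h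
  exact ⟨_, _, isCharacter_comp H.subtype ha, isCharacter_comp H.subtype hb, rfl⟩

/-- The characters of `H / J` that are nontrivial on `V`. -/
def OnV (H J V : Subgroup G) [Fintype H] (θ : IrrCharacter H) : Prop :=
  (∀ x : H, (x : G) ∈ J → (θ : H → ℂ) x = (θ : H → ℂ) 1) ∧
    ∃ x : H, (x : G) ∈ V ∧ (θ : H → ℂ) x ≠ (θ : H → ℂ) 1

namespace SplitRed

variable {r : ℕ} {R J V : Subgroup G}

theorem R_inf_J (s : SplitRed T Z r R J V) : R ⊓ J = ⊥ := Subgroup.inf_eq_bot_of_coprime s.coprime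

theorem V_inf_J (s : SplitRed T Z r R J V) : V ⊓ J = ⊥ :=
  le_bot_iff.1 ((inf_le_inf_right J s.V_le).trans s.R_inf_J.le)

theorem V_core (s : SplitRed T Z r R J V) : V ≤ sigmaCore T := s.V_le.trans s.R_le

theorem V_norm_J (s : SplitRed T Z r R J V) : V ≤ Subgroup.normalizer (J : Set G) :=
  (s.V_core.trans (Subgroup.map_subtype_le _)).trans s.J_norm

theorem mem_sup (s : SplitRed T Z r R J V) {x : G} : x ∈ V ⊔ J ↔ ∃ v ∈ V, ∃ j ∈ J, x = v * j := by
  rw [← SetLike.mem_coe, Subgroup.coe_mul_of_left_le_normalizer_right _ _ s.V_norm_J]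
  exact ⟨fun ⟨v, hv, j, hj, e⟩ => ⟨v, hv, j, hj, e.symm⟩, fun ⟨v, hv, j, hj, e⟩ => ⟨v, hv, j, hj, e.symm⟩⟩

theorem card_sup (s : SplitRed T Z r R J V) : Nat.card ↥(V ⊔ J) = Nat.card V * Nat.card J := by
  have h := Solv.card_sup_mul_card_inf' J V s.V_norm_J
  rw [inf_comm, s.V_inf_J, Subgroup.card_bot, mul_one, sup_comm] at h
  rw [h, mul_comm]

theorem comm_mem (s : SplitRed T Z r R J V) {a x : G} (ha : a ∈ sigmaCore T) (hx : x ∈ V ⊔ J) :
    ⁅a, x⁆ ∈ J := by
  obtain ⟨v, hv, j, hj, rfl⟩ := s.mem_sup.1 hx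
  have e : a * v = v * a := s.central a ha v hv
  rw [show ⁅a, v * j⁆ = v * (a * j * a⁻¹ * j⁻¹) * v⁻¹ by
    rw [commutatorElement_def, ← mul_assoc a, e]; group]
  exact Solv.conj_mem_of_mem_normalizer (s.V_norm_J hv) (J.mul_mem
    (Solv.conj_mem_of_mem_normalizer (s.J_norm (Subgroup.map_subtype_le _ ha)) hj) (J.inv_mem hj))

end SplitRed

theorem card_T (c : TSplit T Z K Q D H₁) : Nat.card T = Nat.card Z * Nat.card (sigmaCore T) := by
  have hT : T = sigmaCore T ⊔ Z := le_antisymm (fun t ht => by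
    obtain ⟨z, hz, x, hx, rfl⟩ := c.exists_mul ht
    exact mul_mem (Subgroup.mem_sup_right hz) (Subgroup.mem_sup_left hx)) (sup_le c.core_le c.Z_le)
  have h := Solv.card_sup_mul_card_inf' (sigmaCore T) Z (c.Z_le.trans c.T_norm_core)
  rw [← hT, inf_comm, OddLocal.Decomp.K_inf_sigmaCore c.minSimple c.coatom c.decomp, Subgroup.card_bot, mul_one] at h
  rw [h, mul_comm]

theorem coprime_Z_core (c : TSplit T Z K Q D H₁) : (Nat.card Z).Coprime (Nat.card (sigmaCore T)) := by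
  obtain ⟨hle, h1, h2⟩ := c.decomp.hall
  have e : Z.relIndex T = Nat.card (sigmaCore T) := by
    refine Nat.eq_of_mul_eq_mul_left Nat.card_pos (?_ : Nat.card Z * _ = Nat.card Z * _)
    rw [← card_T c, Subgroup.relIndex, ← Solv.card_subgroupOf hle, Subgroup.card_mul_index]
  rw [e] at h2
  exact Nat.coprime_of_dvd fun p hp hpZ hpH => h2 p hp (h1 p hp hpZ) hpH

open Classical in
theorem exists_onV (c : TSplit T Z K Q D H₁) {r : ℕ} {R J V J₁ : Subgroup G} (s : SplitRed T Z r R J V)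
    (ss : SplitSub T J J₁) :
    ∃ Y : Finset (IrrCharacter (sigmaCore T)), (∀ θ, θ ∈ Y ↔ OnV (sigmaCore T) J₁ V θ) ∧
      (∀ θ ∈ Y, ∃ b, deg (θ : sigmaCore T → ℂ) = r ^ b ∧ deg (θ : sigmaCore T → ℂ) ^ 2 * Nat.card V ∣ Nat.card R) ∧
      (∑ θ ∈ Y, deg (θ : sigmaCore T → ℂ) ^ 2) * Nat.card V = J₁.relIndex (sigmaCore T) * (Nat.card V - 1) ∧
      Nat.card R ∣ J₁.relIndex (sigmaCore T) := by
  haveI := Fact.mk s.prime
  have hcT : sigmaCore T ≤ T := c.core_le
  haveI : (J₁.subgroupOf (sigmaCore T)).Normal :=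
    Subgroup.normal_subgroupOf_of_le_normalizer (hcT.trans ss.norm)
  haveI : (J.subgroupOf (sigmaCore T)).Normal :=
    Subgroup.normal_subgroupOf_of_le_normalizer (hcT.trans s.J_norm)
  have hnormsup : sigmaCore T ≤ Subgroup.normalizer ((V ⊔ J₁ : Subgroup G) : Set G) := fun g hg =>
    Fusion.mem_normalizer_of_cj_le (by
      rw [Fusion.cj_sup, Fusion.cj_eq_self (s.V_norm (hcT hg)), Fusion.cj_eq_self (ss.norm (hcT hg))])
  haveI : ((V ⊔ J₁).subgroupOf (sigmaCore T)).Normal := Subgroup.normal_subgroupOf_of_le_normalizer hnormsup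
  obtain ⟨A, hA, hA2⟩ := sum_sq_kernel_contains (J₁.subgroupOf (sigmaCore T))
  obtain ⟨B, hB, hB2⟩ := sum_sq_kernel_contains ((V ⊔ J₁).subgroupOf (sigmaCore T))
  have hJ₁H : J₁ ≤ sigmaCore T := ss.le.trans s.J_le
  have hVJH : V ⊔ J₁ ≤ sigmaCore T := sup_le s.V_core hJ₁H
  have hVn : V ≤ Subgroup.normalizer (J₁ : Set G) := (s.V_core.trans hcT).trans ss.norm
  have hdisj : V ⊓ J₁ = ⊥ := le_bot_iff.1 ((inf_le_inf_left V ss.le).trans s.V_inf_J.le)
  have hcs : Nat.card ↥(V ⊔ J₁) = Nat.card J₁ * Nat.card V := by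
    have h := Solv.card_sup_mul_card_inf' J₁ V hVn
    rwa [inf_comm, hdisj, Subgroup.card_bot, mul_one, sup_comm] at h
  have mem₁ : ∀ {x : G}, x ∈ V ⊔ J₁ → ∃ v ∈ V, ∃ j ∈ J₁, x = v * j := fun {x} hx => by
    rw [← SetLike.mem_coe, Subgroup.coe_mul_of_left_le_normalizer_right _ _ hVn] at hx
    obtain ⟨v, hv, j, hj, e⟩ := hx
    exact ⟨v, hv, j, hj, e.symm⟩
  have iA : (J₁.subgroupOf (sigmaCore T)).index = J₁.relIndex (sigmaCore T) := rfl
  have iB : ((V ⊔ J₁).subgroupOf (sigmaCore T)).index * Nat.card V = J₁.relIndex (sigmaCore T) := by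
    refine Nat.eq_of_mul_eq_mul_left (Nat.card_pos (α := J₁)) ?_
    have h1 := (J₁.subgroupOf (sigmaCore T)).card_mul_index
    have h2 := ((V ⊔ J₁).subgroupOf (sigmaCore T)).card_mul_index
    rw [Solv.card_subgroupOf hJ₁H] at h1
    rw [Solv.card_subgroupOf hVJH, hcs] at h2
    rw [Subgroup.relIndex, h1, ← h2]
    ring
  have hiJ : (J.subgroupOf (sigmaCore T)).index = Nat.card R := by
    refine Nat.eq_of_mul_eq_mul_left (Nat.card_pos (α := J)) ?_
    conv_lhs => rw [← Solv.card_subgroupOf s.J_le]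
    rw [Subgroup.card_mul_index, ← s.card, mul_comm]
  have hiVJ : ((V ⊔ J).subgroupOf (sigmaCore T)).index * Nat.card V = Nat.card R := by
    refine Nat.eq_of_mul_eq_mul_left (Nat.card_pos (α := J)) ?_
    have h2 := ((V ⊔ J).subgroupOf (sigmaCore T)).card_mul_index
    rw [Solv.card_subgroupOf (sup_le s.V_core s.J_le), s.card_sup] at h2
    rw [mul_comm (Nat.card J) (Nat.card R), s.card, ← h2]
    ring
  have hRdvd : Nat.card R ∣ J₁.relIndex (sigmaCore T) := by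
    refine ⟨J₁.relIndex J, ?_⟩
    rw [← Subgroup.relIndex_mul_relIndex J₁ J (sigmaCore T) ss.le s.J_le, mul_comm]
    exact congrArg (· * J₁.relIndex J) hiJ
  have hBA : B ⊆ A := fun θ hθ => (hA θ).2 fun x hx => (hB θ).1 hθ x (Subgroup.mem_sup_right (S := V) hx)
  have hY : ∀ θ, θ ∈ A \ B ↔ OnV (sigmaCore T) J₁ V θ := fun θ => by
    rw [Finset.mem_sdiff, hA, hB]
    refine ⟨fun ⟨h1, h2⟩ => ⟨h1, ?_⟩, fun ⟨h1, x, hx, h2⟩ => ⟨h1, fun h => h2 (h x (Subgroup.mem_sup_left (T := J₁) hx))⟩⟩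
    by_contra hno
    push Not at hno
    refine h2 fun x hx => ?_
    obtain ⟨v, hv, j, hj, e⟩ := mem₁ (show (x : G) ∈ V ⊔ J₁ from hx)
    obtain rfl : x = ⟨v, s.V_core hv⟩ * ⟨j, hJ₁H hj⟩ := Subtype.ext e
    exact eq_one_of_kerC ((TwoDeg.kerC θ).mul_mem (TwoDeg.mem_kerC_of_eq _ (hno _ hv))
      (TwoDeg.mem_kerC_of_eq _ (h1 _ hj)))
  refine ⟨A \ B, hY, fun θ hθ => ?_, ?_, hRdvd⟩
  · obtain ⟨k, hk⟩ := IsPGroup.iff_card.1 s.pgroup
    have hker := ((hY θ).1 hθ).1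
    have hd : deg (θ : sigmaCore T → ℂ) ∣ Nat.card R := hiJ ▸ deg_dvd_index_mod θ (J₁.subgroupOf (sigmaCore T))
      hker (J.subgroupOf (sigmaCore T)) (fun x hx => ss.le hx) (fun a ha b hb => ss.comm (a : G) a.2 (b : G) hb)
    obtain ⟨b, -, hb⟩ := (Nat.dvd_prime_pow s.prime).1 (hk ▸ hd)
    refine ⟨b, hb, ?_⟩
    have h := sq_deg_le_index_mod θ (J₁.subgroupOf (sigmaCore T)) ((V ⊔ J).subgroupOf (sigmaCore T)) hker
      fun a ha g => by
        obtain ⟨v, hv, j, hj, e⟩ := s.mem_sup.1 (show (a : G) ∈ V ⊔ J from ha)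
        have h1 := J₁.inv_mem (ss.comm (g : G) g.2 j hj)
        rw [commutatorElement_inv, commutatorElement_def] at h1
        show (a : G) * (g : G) * (a : G)⁻¹ * (g : G)⁻¹ ∈ J₁
        have e1 : (g : G) * v = v * (g : G) := s.central _ g.2 v hv
        rw [e, show v * j * (g : G) * (v * j)⁻¹ * (g : G)⁻¹ =
          v * (j * (g : G) * j⁻¹ * (g : G)⁻¹) * ((g : G) * v⁻¹ * (g : G)⁻¹) by group,
          show (g : G) * v⁻¹ * (g : G)⁻¹ = v⁻¹ by
            rw [← s.central _ g.2 _ (V.inv_mem hv) |>.symm, mul_inv_cancel_right]]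
        exact Solv.conj_mem_of_mem_normalizer (hVn hv) h1
    obtain ⟨e, -, he⟩ := (Nat.dvd_prime_pow s.prime).1
      (show ((V ⊔ J).subgroupOf (sigmaCore T)).index ∣ r ^ k from ⟨Nat.card V, by rw [hiVJ, hk]⟩)
    rw [← hiVJ, mul_comm, mul_comm _ (Nat.card V), hb, ← pow_mul, he]
    refine Nat.mul_dvd_mul_left _ (pow_dvd_pow r ?_)
    refine (Nat.pow_le_pow_iff_right s.prime.one_lt).1 ?_
    rw [pow_mul, ← hb, ← he]
    exact h
  · have h := Finset.sum_sdiff hBA (f := fun θ : IrrCharacter (sigmaCore T) => deg (θ : sigmaCore T → ℂ) ^ 2)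
    rw [hA2, hB2, iA] at h
    rw [Nat.mul_sub, mul_one]
    conv_rhs => lhs; rw [← h, add_mul, iB]
    omega

open Classical in
/-- A uniform multiplicity is an integer. -/
theorem kappa_int (c : TSplit T Z K Q D H₁) (hκ : kappa T ≠ ∅) {r : ℕ} {R J V : Subgroup G}
    (s : SplitRed T Z r R J V) {ψ : G → ℂ} (hψ : IsSigned G ψ)
    (hreal : ∀ v ∈ V, ∑ j : J, ψ (v⁻¹ * (j : G)) = ∑ j : J, ψ (v * (j : G))) {x : ℂ}
    (hx : ∀ θ : IrrCharacter (sigmaCore T), OnV (sigmaCore T) J V θ →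
      classInner (fun h : sigmaCore T => ψ (h : G)) (θ : sigmaCore T → ℂ) = x * (θ : sigmaCore T → ℂ) 1) :
    ∃ z : ℤ, x = z := by
  haveI := Fact.mk s.prime
  set H := sigmaCore T
  have hTJ := s.J_norm
  have hVJH : V ⊔ J ≤ H := sup_le s.V_core s.J_le
  haveI : (J.subgroupOf H).Normal := Subgroup.normal_subgroupOf_of_le_normalizer (c.core_le.trans hTJ)
  haveI : ((V ⊔ J).subgroupOf H).Normal := Subgroup.normal_subgroupOf_of_le_normalizer
    fun g hg => Fusion.mem_normalizer_of_cj_le (by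
      rw [Fusion.cj_sup, Fusion.cj_eq_self (s.V_norm (c.core_le hg)), Fusion.cj_eq_self (hTJ (c.core_le hg))])
  obtain ⟨Yf, hYf, hdeg, hN0, -⟩ := exists_onV c s s.subSelf
  rw [show J.relIndex (sigmaCore T) = Nat.card R by
    refine Nat.eq_of_mul_eq_mul_left (Nat.card_pos (α := J)) ?_
    conv_lhs => rw [← Solv.card_subgroupOf s.J_le]
    rw [Subgroup.relIndex, Subgroup.card_mul_index, ← s.card, mul_comm]] at hN0
  -- the restriction
  obtain ⟨a, ha, ha'⟩ := exists_int_coords (gen_restrict H hψ.gen)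
  -- some member
  have hV1 : 2 ≤ Nat.card V := (Subgroup.one_lt_card_iff_ne_bot V).2 s.V_ne
  obtain ⟨θ₀, hθ₀⟩ : Yf.Nonempty := Finset.nonempty_iff_ne_empty.2 fun h => by
    rw [h, Finset.sum_empty, zero_mul] at hN0
    exact (Nat.mul_pos Nat.card_pos (by omega)).ne hN0
  obtain ⟨b, hb, hbdvd⟩ := hdeg θ₀ hθ₀
  have hx0 : (a θ₀ : ℂ) = x * (r ^ b : ℕ) := by
    rw [← ha' θ₀, hx θ₀ ((hYf θ₀).1 hθ₀), char_one_eq_deg (irr_isCharacter θ₀.2), hb]
  obtain ⟨m, hm⟩ : r ^ b * Nat.card V ∣ Nat.card R :=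
    (Nat.mul_dvd_mul_right (by rw [hb]; exact dvd_pow_self _ two_ne_zero) _).trans hbdvd
  -- the sums over the two subgroups
  have hS : ∀ X : Subgroup G, X ≤ H → ∀ [(X.subgroupOf H).Normal],
      ∑ g : G with g ∈ X, ψ g = ∑ θ : IrrCharacter H, (a θ : ℂ) *
        ∑ h : H with h ∈ X.subgroupOf H, (θ : H → ℂ) h := by
    intro X hX _
    have e1 : ∑ g : G with g ∈ X, ψ g = ∑ h : H with h ∈ X.subgroupOf H, ψ (h : G) := by
      symm
      refine Finset.sum_bij (s := Finset.univ.filter fun h : H => h ∈ X.subgroupOf H) (fun h _ => (h : G))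
        (fun h hh => ?_) (fun h _ h' _ e => Subtype.ext e) (fun g hg => ?_) fun h _ => rfl
      · simpa [Subgroup.mem_subgroupOf] using hh
      · exact ⟨(⟨g, hX (Finset.mem_filter.1 hg).2⟩ : H), by simpa [Subgroup.mem_subgroupOf] using hg, rfl⟩
    rw [e1, Finset.sum_congr rfl fun h _ => congrFun ha h]
    simp only [Finset.sum_apply, Pi.smul_apply, smul_eq_mul]
    rw [Finset.sum_comm]
    exact Finset.sum_congr rfl fun θ _ => by rw [Finset.mul_sum]
  have hterm : ∀ θ : IrrCharacter H,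
      (Nat.card ↥(V ⊔ J) : ℂ) * ((a θ : ℂ) * ∑ h : H with h ∈ J.subgroupOf H, (θ : H → ℂ) h) -
        (Nat.card J : ℂ) * ((a θ : ℂ) * ∑ h : H with h ∈ (V ⊔ J).subgroupOf H, (θ : H → ℂ) h) =
      if θ ∈ Yf then x * ((Nat.card ↥(V ⊔ J) : ℂ) * Nat.card J * (deg (θ : H → ℂ) : ℂ) ^ 2) else 0 := by
    intro θ
    rcases sum_normal (J.subgroupOf H) θ with ⟨h1, e1⟩ | ⟨h1, e1⟩ <;>
      rcases sum_normal ((V ⊔ J).subgroupOf H) θ with ⟨h2, e2⟩ | ⟨h2, e2⟩ <;>
      rw [e1, e2] <;>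
      simp only [show Nat.card ↥(J.subgroupOf H) = Nat.card J from Solv.card_subgroupOf s.J_le,
        show Nat.card ↥((V ⊔ J).subgroupOf H) = Nat.card ↥(V ⊔ J) from Solv.card_subgroupOf hVJH,
        mul_zero, sub_zero, zero_sub]
    · rw [if_neg fun h => by
        obtain ⟨-, y, hy, hne⟩ := (hYf θ).1 h
        exact hne (h2 y (Subgroup.mem_sup_left (T := J) hy))]
      ring
    · have hmem : θ ∈ Yf := (hYf θ).2 ⟨h1, by
        by_contra hno
        push Not at hno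
        refine h2 fun y hy => ?_
        obtain ⟨v, hv, j, hj, e⟩ := s.mem_sup.1 (show (y : G) ∈ V ⊔ J from hy)
        obtain rfl : y = ⟨v, s.V_core hv⟩ * ⟨j, s.J_le hj⟩ := Subtype.ext e
        exact eq_one_of_kerC ((TwoDeg.kerC θ).mul_mem (TwoDeg.mem_kerC_of_eq _ (hno _ hv))
          (TwoDeg.mem_kerC_of_eq _ (h1 _ hj)))⟩
      rw [if_pos hmem, ← ha' θ, hx θ ((hYf θ).1 hmem), char_one_eq_deg (irr_isCharacter θ.2)]
      ring
    · exact absurd (fun y hy => h2 y (Subgroup.mem_sup_right (S := V) hy)) h1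
    · rw [if_neg fun h => h1 ((hYf θ).1 h).1]
  have hY : ∑ z : G with z ∈ V ⊔ J ∧ z ∉ J, ∑ j : J, (ψ (j : G) - ψ (z * (j : G))) =
      (((Nat.card J : ℤ) * Nat.card J * Nat.card V * (Nat.card V - 1) * m * a θ₀ : ℤ) : ℂ) := by
    have hsplit : ∀ f : G → ℂ, ∑ z : G with z ∈ V ⊔ J ∧ z ∉ J, f z =
        ∑ z : G with z ∈ V ⊔ J, f z - ∑ z : G with z ∈ J, f z := fun f => by
      rw [eq_sub_iff_add_eq, ← Finset.sum_filter_add_sum_filter_not (Finset.univ.filter fun z => z ∈ V ⊔ J)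
        (fun z => z ∉ J), Finset.filter_filter, Finset.filter_filter]
      congr 1
      refine Finset.sum_congr (Finset.ext fun z => ?_) fun _ _ => rfl
      simp only [Finset.mem_filter, Finset.mem_univ, true_and, not_not]
      exact ⟨fun h => ⟨Subgroup.mem_sup_right h, h⟩, fun h => h.2⟩
    have hJs : ∀ f : G → ℂ, ∑ j : J, f (j : G) = ∑ z : G with z ∈ J, f z := fun f =>
      (Finset.sum_subtype _ (fun z => by simp) f).symm
    have hcnt : ∀ X : Subgroup G, ∑ z : G with z ∈ X, (1 : ℂ) = Nat.card X := fun X => by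
      rw [Finset.sum_const, nsmul_eq_mul, mul_one, Nat.card_eq_fintype_card, Fintype.card_subtype]
    have hshift : ∀ j : J, ∑ z : G with z ∈ V ⊔ J ∧ z ∉ J, ψ (z * (j : G)) =
        ∑ z : G with z ∈ V ⊔ J ∧ z ∉ J, ψ z := fun j =>
      Finset.sum_equiv (Equiv.mulRight (j : G)) (fun z => by
        simp [Subgroup.mul_mem_cancel_right _ (Subgroup.mem_sup_right (S := V) j.2),
          Subgroup.mul_mem_cancel_right _ j.2]) fun z _ => rfl
    have e1 : ∑ z : G with z ∈ V ⊔ J ∧ z ∉ J, (1 : ℂ) = Nat.card ↥(V ⊔ J) - Nat.card J := by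
      rw [hsplit, hcnt, hcnt]
    have e2 : ∑ j : J, (1 : ℂ) = Nat.card J := by simp [Nat.card_eq_fintype_card]
    have e3 : ∀ (S : Finset G) (y : ℂ), ∑ _z ∈ S, y = (∑ _z ∈ S, (1 : ℂ)) * y := fun S y => by
      rw [Finset.sum_mul]; simp
    have e4 : ∀ y : ℂ, ∑ _j : J, y = (∑ _j : J, (1 : ℂ)) * y := fun y => by
      rw [Finset.sum_mul]; simp
    rw [Finset.sum_congr rfl fun z _ => Finset.sum_sub_distrib _ _, Finset.sum_sub_distrib,
      Finset.sum_comm (f := fun z (j : J) => ψ (z * (j : G))), Finset.sum_congr rfl fun j _ => hshift j,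
      e3, e1, e4 (∑ z ∈ _, ψ z), e2, hsplit, hJs ψ]
    rw [hS J s.J_le, hS (V ⊔ J) hVJH]
    have hmain := Finset.sum_congr (s₁ := (Finset.univ : Finset (IrrCharacter H))) rfl fun θ _ => hterm θ
    rw [Finset.sum_sub_distrib, ← Finset.mul_sum, ← Finset.mul_sum, Finset.sum_ite_mem, Finset.univ_inter,
      ← Finset.mul_sum, ← Finset.mul_sum] at hmain
    have hN : (∑ θ ∈ Yf, (deg (θ : H → ℂ) : ℂ) ^ 2) * Nat.card V =
        (r ^ b : ℕ) * Nat.card V * m * ((Nat.card V : ℂ) - 1) := by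
      have h := congrArg (fun n : ℕ => (n : ℂ)) hN0
      rw [hm] at h
      push_cast [Nat.cast_sub (show 1 ≤ Nat.card V by omega)] at h ⊢
      exact h
    rw [s.card_sup] at hmain ⊢
    push_cast at hmain hN hx0 ⊢
    rw [hx0]
    linear_combination hmain + x * (Nat.card J : ℂ) ^ 2 * hN
  have hdvd := congr_pair (c.minSimple.1) hψ (T := T) (P := R) (Z0 := V ⊔ J) (J := J)
    (s.R_le.trans c.core_le) (hVJH.trans c.core_le) le_sup_right hTJ
    (fun t ht => Fusion.mem_normalizer_of_cj_le (by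
      rw [Fusion.cj_sup, Fusion.cj_eq_self (s.V_norm ht), Fusion.cj_eq_self (hTJ ht)]))
    (fun g hg p hp hgp => by
      by_contra hp1
      exact hg (mem_of_conj_mem c.minSimple c.coatom hκ (s.R_le hp) hp1 (c.core_le (s.R_le hgp))))
    (fun p hp z hz => s.comm_mem (s.R_le hp) hz) (fun y hy z hz => s.comm_mem (hVJH hy) hz)
    (fun g hg => by
      obtain ⟨z, hz, h, hh, rfl⟩ := c.exists_mul hg
      by_cases hz1 : z = 1
      · subst hz1
        exact Or.inl fun y hy => by rw [one_mul]; exact s.comm_mem hh hy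
      refine Or.inr fun y hy hc => ?_
      obtain ⟨v, hv, j, hj, rfl⟩ := s.mem_sup.1 hy
      have hzT := c.Z_le hz
      have hv' : z * v * z⁻¹ ∈ V := Solv.conj_mem_of_mem_normalizer (s.V_norm hzT) hv
      have hj' : z * h * j * (z * h)⁻¹ ∈ J :=
        Solv.conj_mem_of_mem_normalizer (hTJ (mul_mem hzT (c.core_le hh))) hj
      have e : z * h * (v * j) * (z * h)⁻¹ = z * v * z⁻¹ * (z * h * j * (z * h)⁻¹) := by
        rw [show z * h * (v * j) = z * (h * v) * j by group, s.central h hh v hv]; group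
      rw [commutatorElement_def, e] at hc
      have h4 : v⁻¹ * (z * v * z⁻¹) ∈ J := by
        convert J.mul_mem (J.mul_mem (Solv.conj_mem_of_mem_normalizer (s.V_norm_J (V.inv_mem hv)) hc) hj)
          (J.inv_mem hj') using 1
        group
      have h5 : v⁻¹ * (z * v * z⁻¹) ∈ V ⊓ J := ⟨V.mul_mem (V.inv_mem hv) hv', h4⟩
      rw [s.V_inf_J, Subgroup.mem_bot, inv_mul_eq_one] at h5
      rw [s.free z hz hz1 v hv (mul_inv_eq_iff_eq_mul.1 h5.symm), one_mul]
      exact hj)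
    s.coprime
    (by
      have e : R.relIndex T = Nat.card Z * Nat.card J := by
        refine Nat.eq_of_mul_eq_mul_left (Nat.card_pos (α := R)) ?_
        rw [mul_left_comm, s.card, ← card_T c, Subgroup.relIndex,
          ← Solv.card_subgroupOf (s.R_le.trans c.core_le), Subgroup.card_mul_index]
      rw [e]
      exact Nat.Coprime.mul_right ((coprime_Z_core c).symm.coprime_dvd_left (Subgroup.card_dvd_of_le s.R_le))
        s.coprime)
    (fun z hz hzJ => by
      obtain ⟨v, hv, j, hj, rfl⟩ := s.mem_sup.1 hz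
      refine (cosetSum_congr ψ ?_).trans ((hreal v hv).trans (cosetSum_congr ψ ?_))
      · show ((v * j)⁻¹)⁻¹ * v⁻¹ ∈ J
        simpa using Solv.conj_mem_of_mem_normalizer (s.V_norm_J hv) hj
      · show v⁻¹ * (v * j) ∈ J
        simpa using hj)
    hY
  -- `r ^ b` divides the coordinate
  have h1 : ((r ^ b : ℕ) : ℤ) ∣ (Nat.card J : ℤ) * Nat.card J * ((Nat.card V : ℤ) - 1) * a θ₀ := by
    rw [hm] at hdvd
    push_cast at hdvd ⊢
    refine Int.dvd_of_mul_dvd_mul_right (a := (Nat.card V : ℤ) * m) ?_ (by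
      refine dvd_trans (dvd_of_eq ?_) (hdvd.trans (dvd_of_eq ?_)) <;> ring)
    have hm0 : m ≠ 0 := fun h => Nat.card_pos.ne' (hm.trans (by rw [h, mul_zero]))
    exact mul_ne_zero (Nat.cast_ne_zero.2 Nat.card_pos.ne') (Nat.cast_ne_zero.2 hm0)
  obtain ⟨k, hk⟩ := IsPGroup.iff_card.1 s.pgroup
  obtain ⟨i, -, hi⟩ := (Nat.dvd_prime_pow s.prime).1 (hk ▸ Subgroup.card_dvd_of_le s.V_le)
  have hi0 : i ≠ 0 := fun h => by rw [h, pow_zero] at hi; omega
  have hrV : r ∣ Nat.card V := hi ▸ dvd_pow_self r hi0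
  have hcJ : r.Coprime (Nat.card J) := s.coprime.coprime_dvd_left (hrV.trans (Subgroup.card_dvd_of_le s.V_le))
  have hcV : r.Coprime (Nat.card V - 1) := Nat.coprime_of_dvd fun p hp h1 h2 => by
    have := Nat.dvd_sub (h1.trans hrV) h2
    rw [Nat.sub_sub_self (by omega)] at this
    exact hp.one_lt.ne' (Nat.dvd_one.1 this)
  have hco : IsCoprime ((r ^ b : ℕ) : ℤ) ((Nat.card J : ℤ) * Nat.card J * ((Nat.card V : ℤ) - 1)) := by
    rw [show (Nat.card J : ℤ) * Nat.card J * ((Nat.card V : ℤ) - 1) =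
      ((Nat.card J * Nat.card J * (Nat.card V - 1) : ℕ) : ℤ) by
      push_cast [Nat.cast_sub (show 1 ≤ Nat.card V by omega)]; ring]
    exact Int.isCoprime_iff_nat_coprime.2 (by
      rw [Int.natAbs_natCast, Int.natAbs_natCast]
      exact ((hcJ.mul_right hcJ).mul_right hcV).pow_left b)
  obtain ⟨z, hz⟩ := hco.dvd_of_dvd_mul_left h1
  refine ⟨z, mul_right_cancel₀ (b := ((r ^ b : ℕ) : ℂ)) (Nat.cast_ne_zero.2 (pow_ne_zero _ s.prime.ne_zero)) ?_⟩
  rw [← hx0, hz]
  push_cast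
  ring

end Cfsg.Agent.OddFT
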