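import Cfsg.Agent.Lib.OddChar.FT.SplitGroup
import Cfsg.Agent.Lib.OddLocal.SigmaSubgroups
import Cfsg.Agent.Lib.Char.GaloisDegrees

/-!
A nonabelian Sylow subgroup `R` of the nilpotent complement `D`, the product `J` of `Q` with the rest
of `D`, and a central subgroup `V ≤ R ⊓ H'` on which `Z` acts without fixed points.
-/

set_option autoImplicit false
set_option linter.unusedSectionVars false
set_option linter.style.haveILetI false

open Cfsg
open scoped commutatorElement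
open Cfsg.Agent.Fusion (SylIn cj cj_eq_self mem_normalizer_of_cj_le)
open Cfsg.Agent.OddLocal

namespace Cfsg.Agent.OddFT

universe u

variable {G : Type u} [Group G] [Finite G] {T Z K Q D H₁ : Subgroup G}

/-- The data of the reduction. -/
structure SplitRed (T Z : Subgroup G) (r : ℕ) (R J V : Subgroup G) : Prop where
  prime : r.Prime
  pgroup : IsPGroup r R
  R_le : R ≤ sigmaCore T
  J_le : J ≤ sigmaCore T
  J_norm : T ≤ Subgroup.normalizer (J : Set G)
  V_norm : T ≤ Subgroup.normalizer (V : Set G)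
  coprime : (Nat.card R).Coprime (Nat.card J)
  card : Nat.card R * Nat.card J = Nat.card (sigmaCore T)
  mul : ∀ x ∈ sigmaCore T, ∃ a ∈ R, ∃ j ∈ J, x = a * j
  V_le : V ≤ R
  V_derived : V ≤ ⁅sigmaCore T, sigmaCore T⁆
  central : ∀ x ∈ sigmaCore T, ∀ v ∈ V, x * v = v * x
  V_ne : V ≠ ⊥
  free : ∀ z ∈ Z, z ≠ 1 → ∀ v ∈ V, z * v = v * z → v = 1
  V_big : 2 * Nat.card Z + 1 ≤ Nat.card V

/-- A normal subgroup `J₁ ≤ J` of `T` with `[H, J] ≤ J₁`. -/
structure SplitSub (T J J₁ : Subgroup G) : Prop where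
  le : J₁ ≤ J
  norm : T ≤ Subgroup.normalizer (J₁ : Set G)
  comm : ∀ a ∈ sigmaCore T, ∀ j ∈ J, ⁅a, j⁆ ∈ J₁

theorem SplitRed.subSelf {r : ℕ} {R J V : Subgroup G} (s : SplitRed T Z r R J V) : SplitSub T J J :=
  ⟨le_rfl, s.J_norm, fun a ha j hj => by
    rw [commutatorElement_def]
    exact J.mul_mem (Solv.conj_mem_of_mem_normalizer (s.J_norm (Subgroup.map_subtype_le _ ha)) hj) (J.inv_mem hj)⟩

namespace TSplit

variable (c : TSplit T Z K Q D H₁)
include c

theorem exists_splitRed (hD : ⁅D, D⁆ ≠ ⊥) : ∃ (r : ℕ) (R J V J₁ : Subgroup G), SplitRed T Z r R J V ∧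
    SplitSub T J J₁ ∧ (⁅D, D⁆).relIndex D * (Nat.card V * Nat.card J₁) ≤ Nat.card (sigmaCore T) := by
  haveI := c.spl.nilpotent
  obtain ⟨r, hr, hrD⟩ := Nat.exists_prime_and_dvd (n := Nat.card ↥⁅D, D⁆)
    (fun h => hD (Subgroup.eq_bot_of_card_eq _ h))
  haveI := Fact.mk hr
  obtain ⟨R, hR⟩ := Fusion.exists_sylIn (p := r) D
  have hDR : D ≤ Subgroup.normalizer (R : Set G) :=
    SigmaSubgroups.sylow_of_nilpotent_normal c.spl.nilpotent Subgroup.le_normalizer hR
  have hZR : Z ≤ Subgroup.normalizer (R : Set G) := SigmaSubgroups.sylow_of_nilpotent_normal c.spl.nilpotent c.Z_norm_D hR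
  -- the elements of `D` of order prime to `r`
  haveI : (R.subgroupOf D).Normal := Subgroup.normal_subgroupOf_of_le_normalizer hDR
  obtain ⟨k, hk⟩ := IsPGroup.iff_card.1 hR.isPGroup
  have hcopR : (Nat.card (R.subgroupOf D)).Coprime (R.subgroupOf D).index := by
    rw [Solv.card_subgroupOf hR.le, hk]
    exact ((hr.coprime_iff_not_dvd).2 hR.not_dvd).pow_left k
  obtain ⟨M', hM'⟩ := Subgroup.exists_right_complement'_of_coprime hcopR
  set M : Subgroup G := M'.map D.subtype with hM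
  have hMD : M ≤ D := Subgroup.map_subtype_le _
  have hcM : Nat.card M = (R.subgroupOf D).index := by
    rw [hM, Subgroup.card_map_of_injective Subtype.coe_injective]
    exact Nat.eq_of_mul_eq_mul_left Nat.card_pos (hM'.card_mul_card.trans (R.subgroupOf D).card_mul_index.symm)
  have hRM : (Nat.card R).Coprime (Nat.card M) := by rw [hcM, ← Solv.card_subgroupOf hR.le]; exact hcopR
  have hmul : ∀ d ∈ D, ∃ a ∈ R, ∃ b ∈ M, d = a * b := fun d hd => by
    obtain ⟨⟨a, b⟩, hab, -⟩ := Function.Bijective.existsUnique hM' ⟨d, hd⟩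
    exact ⟨(a : G), a.2, ((b : D) : G), Subgroup.mem_map_of_mem _ b.2, (congrArg Subtype.val hab).symm⟩
  have hcomm : ∀ a ∈ R, ∀ b ∈ M, a * b = b * a := fun a ha b hb =>
    Subgroup.mem_centralizer_iff.1 (TypePBasic.nilpotent_coprime_commute (F := D) hR.le hMD hRM hb) a ha
  have hcardD : Nat.card R * Nat.card M = Nat.card D := by
    rw [hcM, ← Solv.card_subgroupOf hR.le, Subgroup.card_mul_index]
  have hMchar : ∀ x ∈ D, (orderOf x).Coprime r → x ∈ M := fun x hx hxr => by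
    obtain ⟨a, ha, b, hb, rfl⟩ := hmul x hx
    suffices a = 1 by rw [this, one_mul]; exact hb
    have hcm : Commute a b := hcomm a ha b hb
    have h0 : (orderOf a).Coprime (orderOf b) :=
      (hRM.coprime_dvd_left (Subgroup.orderOf_mk a ha ▸ orderOf_dvd_natCard _)).coprime_dvd_right
        (Subgroup.orderOf_mk b hb ▸ orderOf_dvd_natCard _)
    rw [hcm.orderOf_mul_eq_mul_orderOf_of_coprime h0] at hxr
    obtain ⟨i, hi⟩ := IsPGroup.iff_orderOf.1 hR.isPGroup ⟨a, ha⟩
    rw [Subgroup.orderOf_mk] at hi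
    exact orderOf_eq_one_iff.1 (Nat.eq_one_of_dvd_coprimes (hxr.pow_right i) (dvd_mul_right _ _) hi.dvd)
  have hMr : (Nat.card M).Coprime r := by
    rw [hcM]; exact ((hr.coprime_iff_not_dvd).2 hR.not_dvd).symm
  have hnormM : ∀ g ∈ Subgroup.normalizer (D : Set G), g ∈ Subgroup.normalizer (M : Set G) := fun g hg =>
    mem_normalizer_of_cj_le fun x hx => by
      obtain ⟨y, hy, rfl⟩ := hx
      refine hMchar _ ?_ ?_
      · exact Solv.conj_mem_of_mem_normalizer hg (hMD hy)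
      · refine hMr.coprime_dvd_left ?_
        rw [show ((MulAut.conj g).toMonoidHom y) = g * y * g⁻¹ from rfl, ← MulAut.conj_apply,
          MulEquiv.orderOf_eq]
        exact Subgroup.orderOf_mk y hy ▸ orderOf_dvd_natCard _
  -- `R` is not abelian
  have hRnab : ⁅R, R⁆ ≠ ⊥ := by
    intro hab
    have hle : ⁅D, D⁆ ≤ M := by
      refine Subgroup.commutator_le.2 fun x hx y hy => ?_
      obtain ⟨a, ha, b, hb, rfl⟩ := hmul x hx
      obtain ⟨a', ha', b', hb', rfl⟩ := hmul y hy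
      have h1 : Commute a a' := commutatorElement_eq_one_iff_commute.1 (Subgroup.mem_bot.1
        (hab ▸ Subgroup.commutator_mem_commutator ha ha'))
      have h2 : Commute a b' := hcomm a ha b' hb'
      have h3 : Commute b a' := (hcomm a' ha' b hb).symm
      have e : ⁅a * b, a' * b'⁆ = ⁅b, b'⁆ := by
        have e1 : Commute a (b * (a' * b') * b⁻¹) :=
          ((Commute.mul_right (hcomm a ha b hb) (h1.mul_right h2)).mul_right (Commute.inv_right (hcomm a ha b hb)))
        have e2 : Commute a' (b * b' * b⁻¹) :=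
          ((h3.symm.mul_right (hcomm a' ha' b' hb')).mul_right (Commute.inv_right h3.symm))
        calc ⁅a * b, a' * b'⁆ = a * (b * (a' * b') * b⁻¹) * a⁻¹ * (a' * b')⁻¹ := by
              rw [commutatorElement_def]; group
          _ = b * (a' * b') * b⁻¹ * (a' * b')⁻¹ := by rw [e1.eq, mul_inv_cancel_right]
          _ = a' * (b * b' * b⁻¹) * (a' * b')⁻¹ := by
              rw [show b * (a' * b') * b⁻¹ = b * a' * (b' * b⁻¹) by group, h3.eq]; group
          _ = b * b' * b⁻¹ * a' * (a' * b')⁻¹ := by rw [e2.eq]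
          _ = ⁅b, b'⁆ := by rw [hcomm a' ha' b' hb', commutatorElement_def]; group
      rw [e]
      exact Subgroup.commutator_le_self M (Subgroup.commutator_mem_commutator hb hb')
    exact hr.ne_one (Nat.eq_one_of_dvd_coprimes hMr (hrD.trans (Subgroup.card_dvd_of_le hle)) dvd_rfl)
  set V : Subgroup G := ⁅R, R⁆ ⊓ Subgroup.centralizer (R : Set G) with hV
  have hVR : V ≤ R := inf_le_left.trans (Subgroup.commutator_le_self R)
  have hVne : V ≠ ⊥ := by
    have hne : commutator R ≠ ⊥ := fun h => hRnab (by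
      rw [← Subgroup.map_subtype_commutator, h, Subgroup.map_bot])
    haveI := Fintype.ofFinite R
    have h2 := Char.GalDeg.inf_center_ne_bot hR.isPGroup (commutator R) hne
    obtain ⟨y, hy, hy1⟩ := Subgroup.bot_or_exists_ne_one (commutator R ⊓ Subgroup.center R) |>.resolve_left h2
    intro hbot
    refine hy1 (Subtype.ext ?_)
    have : (y : G) ∈ V := ⟨Subgroup.map_subtype_commutator R ▸ Subgroup.mem_map_of_mem _ hy.1,
      Subgroup.mem_centralizer_iff.2 fun x hx => congrArg Subtype.val (Subgroup.mem_center_iff.1 hy.2 ⟨x, hx⟩)⟩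
    rw [hbot, Subgroup.mem_bot] at this
    exact this
  have hVD' : V ≤ ⁅D, D⁆ := inf_le_left.trans (Subgroup.commutator_mono hR.le hR.le)
  have hVQ : ∀ v ∈ V, ∀ y ∈ Q, y * v = v * y := fun v hv y hy =>
    Subgroup.mem_centralizer_iff.1 (c.derived_le_dKer (hVD' hv)).2 y hy
  have hcent : ∀ x ∈ sigmaCore T, ∀ v ∈ V, x * v = v * x := fun x hx v hv => by
    obtain ⟨y, hy, d, hd, rfl⟩ := c.mul hx
    obtain ⟨a, ha, b, hb, rfl⟩ := hmul d hd
    exact ((show Commute y v from hVQ v hv y hy).mul_left ((show Commute a v from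
      Subgroup.mem_centralizer_iff.1 hv.2 a ha).mul_left
      (show Commute b v from (hcomm v (hVR hv) b hb).symm))).eq
  have hVZ : Z ≤ Subgroup.normalizer (V : Set G) := fun z hz => mem_normalizer_of_cj_le (by
    rw [hV, Fusion.cj_inf, Fusion.cj_commutator, Fusion.cj_centralizer, cj_eq_self (hZR hz)])
  have hVcore : V ≤ sigmaCore T := (hVR.trans hR.le).trans c.D_le
  have hVT : T ≤ Subgroup.normalizer (V : Set G) := fun t ht => by
    obtain ⟨z, hz, s, hs, rfl⟩ := c.exists_mul ht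
    refine mul_mem (hVZ hz) (mem_normalizer_of_cj_le ?_)
    rintro _ ⟨v, hv, rfl⟩
    show s * v * s⁻¹ ∈ V
    rwa [hcent s hs v hv, mul_inv_cancel_right]
  have hMQ : M ≤ Subgroup.normalizer (Q : Set G) := hMD.trans c.D_norm_Q
  set J : Subgroup G := Q ⊔ M with hJ
  have hJT : T ≤ Subgroup.normalizer (J : Set G) := by
    refine c.normal_of (le_sup_left.trans Subgroup.le_normalizer) (fun d hd => mem_normalizer_of_cj_le ?_)
      fun z hz => mem_normalizer_of_cj_le ?_
    · rw [hJ, Fusion.cj_sup, cj_eq_self (c.D_norm_Q hd), cj_eq_self (hnormM d (Subgroup.le_normalizer hd))]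
    · rw [hJ, Fusion.cj_sup, cj_eq_self (c.T_norm_Q (c.Z_le hz)), cj_eq_self (hnormM z (c.Z_norm_D hz))]
  have hcJ : Nat.card J = Nat.card Q * Nat.card M := by
    have h := Solv.card_sup_mul_card_inf' Q M hMQ
    rwa [le_bot_iff.1 ((inf_le_inf_left Q hMD).trans c.Q_D.le), Subgroup.card_bot, mul_one] at h
  have hM' : ∀ g ∈ Subgroup.normalizer (D : Set G), cj ⁅M, M⁆ g = ⁅M, M⁆ := fun g hg => by
    rw [Fusion.cj_commutator, cj_eq_self (hnormM g hg)]
  set J₁ : Subgroup G := Q ⊔ ⁅M, M⁆ with hJ₁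
  have hJ₁T : T ≤ Subgroup.normalizer (J₁ : Set G) := by
    refine c.normal_of (le_sup_left.trans Subgroup.le_normalizer) (fun d hd => mem_normalizer_of_cj_le ?_)
      fun z hz => mem_normalizer_of_cj_le ?_
    · rw [hJ₁, Fusion.cj_sup, cj_eq_self (c.D_norm_Q hd), hM' d (Subgroup.le_normalizer hd)]
    · rw [hJ₁, Fusion.cj_sup, cj_eq_self (c.T_norm_Q (c.Z_le hz)), hM' z (c.Z_norm_D hz)]
  have hsub : SplitSub T J J₁ := by
    refine ⟨sup_le le_sup_left ((Subgroup.commutator_le_self M).trans le_sup_right), hJ₁T, fun x hx j hj => ?_⟩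
    have hMD' : ∀ d ∈ D, ∀ b ∈ M, ⁅d, b⁆ ∈ J₁ := fun d hd b hb => by
      obtain ⟨a, ha, b', hb', rfl⟩ := hmul d hd
      have e : ⁅a * b', b⁆ = a * ⁅b', b⁆ * a⁻¹ := by
        have e1 : a * b = b * a := hcomm a ha b hb
        have e2 : ⁅a, b⁆ = 1 := commutatorElement_eq_one_iff_mul_comm.2 e1
        calc ⁅a * b', b⁆ = a * ⁅b', b⁆ * a⁻¹ * ⁅a, b⁆ := by simp only [commutatorElement_def]; group
          _ = a * ⁅b', b⁆ * a⁻¹ := by rw [e2, mul_one]
      rw [e]
      exact Subgroup.mem_sup_right (Solv.conj_mem_of_mem_normalizer (mem_normalizer_of_cj_le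
        (hM' a (Subgroup.le_normalizer (hR.le ha))).le) (Subgroup.commutator_mem_commutator hb' hb))
    have hkey : ∀ g ∈ T, ∀ y ∈ J₁, g * y * g⁻¹ ∈ J₁ := fun g hg y hy =>
      Solv.conj_mem_of_mem_normalizer (hJ₁T hg) hy
    obtain ⟨y, hy, b, hb, rfl⟩ : ∃ y ∈ Q, ∃ b ∈ M, j = y * b := by
      rw [hJ, ← SetLike.mem_coe, Subgroup.coe_mul_of_right_le_normalizer_left _ _ hMQ] at hj
      obtain ⟨y, hy, b, hb, e⟩ := hj
      exact ⟨y, hy, b, hb, e.symm⟩
    obtain ⟨y', hy', d, hd, rfl⟩ := c.mul hx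
    have hy1 : y ∈ J₁ := Subgroup.mem_sup_left hy
    have hy1' : y' ∈ J₁ := Subgroup.mem_sup_left hy'
    have hbT : b ∈ T := c.core_le (c.D_le (hMD hb))
    have hdT : d ∈ T := c.core_le (c.D_le hd)
    rw [show ⁅y' * d, y * b⁆ = y' * ((d * y * d⁻¹) * (⁅d, b⁆ * (b * y'⁻¹ * b⁻¹)) * y⁻¹) by
      simp only [commutatorElement_def]; group]
    exact J₁.mul_mem hy1' (J₁.mul_mem (J₁.mul_mem (hkey d hdT y hy1)
      (J₁.mul_mem (hMD' d hd b hb) (hkey b hbT _ (J₁.inv_mem hy1')))) (J₁.inv_mem hy1))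
  have hidx : (⁅D, D⁆).relIndex D * (Nat.card V * Nat.card J₁) ≤ Nat.card (sigmaCore T) := by
    have hDD : ⁅D, D⁆ ≤ D := Subgroup.commutator_le_self _
    have h5 := ((⁅D, D⁆).subgroupOf D).card_mul_index
    rw [Solv.card_subgroupOf hDD] at h5
    have hMM : ⁅M, M⁆ ≤ ⁅D, D⁆ := Subgroup.commutator_mono hMD hMD
    have hVM : V ⊓ ⁅M, M⁆ = ⊥ := le_bot_iff.1 (le_trans (inf_le_inf hVR (Subgroup.commutator_le_self M))
      (Subgroup.inf_eq_bot_of_coprime hRM).le)
    have hVn : V ≤ Subgroup.normalizer ((⁅M, M⁆ : Subgroup G) : Set G) := fun v hv =>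
      mem_normalizer_of_cj_le (hM' v (Subgroup.le_normalizer (hR.le (hVR hv)))).le
    have h1 := Solv.card_sup_mul_card_inf' ⁅M, M⁆ V hVn
    rw [inf_comm, hVM, Subgroup.card_bot, mul_one] at h1
    have h2 : Nat.card ↥(⁅M, M⁆ ⊔ V) ≤ Nat.card ↥⁅D, D⁆ :=
      Nat.le_of_dvd Nat.card_pos (Subgroup.card_dvd_of_le (sup_le hMM hVD'))
    have h3 := Solv.card_sup_mul_card_inf' Q ⁅M, M⁆ ((Subgroup.commutator_le_self M).trans hMQ)
    rw [le_bot_iff.1 ((inf_le_inf_left Q ((Subgroup.commutator_le_self M).trans hMD)).trans c.Q_D.le),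
      Subgroup.card_bot, mul_one] at h3
    rw [h3, c.card_core, ← h5, Subgroup.relIndex]
    calc (⁅D, D⁆.subgroupOf D).index * (Nat.card V * (Nat.card Q * Nat.card ↥⁅M, M⁆))
        = Nat.card Q * (Nat.card ↥(⁅M, M⁆ ⊔ V) * (⁅D, D⁆.subgroupOf D).index) := by rw [h1]; ring
      _ ≤ _ := Nat.mul_le_mul_left _ (Nat.mul_le_mul_right _ h2)
  refine ⟨r, R, J, V, J₁, ⟨hr, hR.isPGroup, hR.le.trans c.D_le, sup_le c.Q_le (hMD.trans c.D_le), hJT, hVT, ?_, ?_,
    fun x hx => ?_, hVR, hVD'.trans (Subgroup.commutator_mono c.D_le c.D_le), hcent, hVne,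
    fun z hz hz1 v hv e => c.Z_free hz hz1 (hR.le (hVR hv)) e, ?_⟩, hsub, hidx⟩
  · rw [hcJ]
    exact Nat.Coprime.mul_right ((c.coprime_Q_D.coprime_dvd_right (Subgroup.card_dvd_of_le hR.le)).symm) hRM
  · rw [hcJ, c.card_core, mul_left_comm, hcardD]
  · obtain ⟨y, hy, d, hd, rfl⟩ := c.mul hx
    obtain ⟨a, ha, b, hb, rfl⟩ := hmul d hd
    exact ⟨a, ha, a⁻¹ * y * a * b, J.mul_mem (Subgroup.mem_sup_left (by
      simpa using Solv.conj_mem_of_mem_normalizer (c.D_norm_Q (D.inv_mem (hR.le ha))) hy)) (Subgroup.mem_sup_right hb),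
      by group⟩
  · have hw2 := c.w_prime
    haveI := Fact.mk hw2
    haveI : Finite V := inferInstance
    let φ : Z →* MulAut V := (Subgroup.normalizerMonoidHom V).comp (Subgroup.inclusion hVZ)
    letI : MulAction Z V := MulAction.compHom V φ
    have hfix : Nat.card (MulAction.fixedPoints Z V) = 1 := by
      refine Nat.card_eq_one_iff_exists.2 ⟨⟨1, fun z => map_one (φ z)⟩, fun v => Subtype.ext ?_⟩
      obtain ⟨z, hz, hz1⟩ := Subgroup.bot_or_exists_ne_one Z |>.resolve_left c.Z_ne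
      refine Subtype.ext (c.Z_free hz hz1 (hR.le (hVR v.1.2)) ?_)
      exact mul_inv_eq_iff_eq_mul.1 (congrArg Subtype.val (v.2 ⟨z, hz⟩))
    have hmod := (IsPGroup.of_card (p := Nat.card Z) (n := 1) (G := Z) (pow_one _).symm).card_modEq_card_fixedPoints
      (α := V)
    rw [hfix] at hmod
    have h1 : 1 < Nat.card V := (Subgroup.one_lt_card_iff_ne_bot V).2 hVne
    obtain ⟨m, hm⟩ := (Nat.modEq_iff_dvd' h1.le).1 hmod.symm
    have hoddV := c.odd_card V
    have hoddZ := c.odd_card Z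
    rcases m with _ | _ | m
    · omega
    · exfalso
      rw [zero_add, mul_one] at hm
      have : Nat.card V = Nat.card Z + 1 := by omega
      rw [this, Nat.odd_add_one] at hoddV
      exact hoddV hoddZ
    · have : 2 * Nat.card Z ≤ Nat.card Z * (m + 1 + 1) := by nlinarith
      omega

end TSplit

end Cfsg.Agent.OddFT
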