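import Cfsg.Agent.Lib.OddChar.FT.SplitDeg

/-!
An invariant nonlinear irreducible character of the nonnilpotent core has degree exactly
`|D : C_D(Q)|`.
-/

set_option autoImplicit false
set_option linter.unusedSectionVars false
set_option linter.unusedVariables false
set_option linter.style.haveILetI false

open Cfsg Cfsg.Agent.Char Cfsg.Agent.OddChar
open scoped commutatorElement
open Cfsg.Agent.Fusion (cj cj_eq_self mem_normalizer_of_cj_le)
open Cfsg.Agent.OddLocal

namespace Cfsg.Agent.OddFT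

universe u

variable {G : Type u} [Group G] [Fintype G] {T Z K Q D H₁ : Subgroup G}

namespace TSplit

variable (c : TSplit T Z K Q D H₁)
include c

/-- `Q` centralises `[Q, D]`. -/
theorem Q_cent_qMov {y x : G} (hy : y ∈ Q) (hx : x ∈ c.qMov) : y * x * y⁻¹ = x := by
  obtain ⟨a, ha, b, hb, rfl⟩ := c.exists_qMov_mul hy
  have h : Commute (a * b) x := (c.qMov_comm ha hx).mul_left (c.commute_qFix hx hb).symm
  rw [h.eq, mul_inv_cancel_right]

/-- The derived subgroup lies in `[Q, D] C D₀`. -/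
theorem derived_le_mov_triv : ⁅sigmaCore T, sigmaCore T⁆ ≤ c.qMov ⊔ c.triv := by
  rw [c.derived_core]
  refine sup_le (sup_le le_sup_left ?_) ?_
  · exact (Subgroup.commutator_le_self c.qFix).trans (le_sup_left.trans le_sup_right)
  · exact c.derived_le_dKer.trans (le_sup_right.trans le_sup_right)

theorem T_norm_mov_triv : T ≤ Subgroup.normalizer ((c.qMov ⊔ c.triv : Subgroup G) : Set G) := fun t ht =>
  mem_normalizer_of_cj_le (by
    rw [Fusion.cj_sup, cj_eq_self (c.T_norm_qMov ht), cj_eq_self (c.T_norm_triv ht)])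

/-- An element of `D` fixing a nontrivial character of `[Q, D]` whose `D`-orbit is invariant under `Z`
centralises `Q`. -/
theorem stab_le_dKer {f : G → ℂ} (hmul : ∀ a ∈ c.qMov, ∀ b ∈ c.qMov, f (a * b) = f a * f b)
    (hone : f 1 = 1) (hne : ∃ a ∈ c.qMov, f a ≠ 1)
    (hZ : ∀ z ∈ Z, ∃ d ∈ D, ∀ a ∈ c.qMov, f (z * a * z⁻¹) = f (d * a * d⁻¹)) {s : G} (hs : s ∈ D)
    (hfix : ∀ a ∈ c.qMov, f (s * a * s⁻¹) = f a) : s ∈ c.dKer := by
  have hcj : ∀ g ∈ T, ∀ a ∈ c.qMov, g * a * g⁻¹ ∈ c.qMov := fun g hg a ha =>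
    Solv.conj_mem_of_mem_normalizer (c.T_norm_qMov hg) ha
  have hDT : ∀ d ∈ D, d ∈ T := fun d hd => c.core_le (c.D_le hd)
  let W : Subgroup G :=
    { carrier := {a | a ∈ c.qMov ∧ ∀ d ∈ D, f (d * a * d⁻¹) = 1}
      one_mem' := ⟨one_mem _, fun d _ => by rw [mul_one, mul_inv_cancel, hone]⟩
      mul_mem' := fun {a b} ha hb => ⟨mul_mem ha.1 hb.1, fun d hd => by
        rw [show d * (a * b) * d⁻¹ = (d * a * d⁻¹) * (d * b * d⁻¹) by group,
          hmul _ (hcj d (hDT d hd) a ha.1) _ (hcj d (hDT d hd) b hb.1), ha.2 d hd, hb.2 d hd, mul_one]⟩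
      inv_mem' := fun {a} ha => ⟨inv_mem ha.1, fun d hd => by
        have h := hmul _ (hcj d (hDT d hd) a ha.1) _ (hcj d (hDT d hd) a⁻¹ (inv_mem ha.1))
        rw [show d * a * d⁻¹ * (d * a⁻¹ * d⁻¹) = 1 by group, hone, ha.2 d hd, one_mul] at h
        exact h.symm⟩ }
  have hW : W = ⊥ := by
    by_contra hW
    obtain ⟨a₀, ha₀, ha₀1⟩ := (Subgroup.bot_or_exists_ne_one W).resolve_left hW
    have hWM : W ≤ c.qMov := fun a ha => ha.1
    have hWD : D ≤ Subgroup.normalizer (W : Set G) := fun e he => mem_normalizer_of_cj_le fun b hb => by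
      obtain ⟨a, ha, rfl⟩ := hb
      refine ⟨hcj e (hDT e he) a ha.1, fun d hd => ?_⟩
      show f (d * (e * a * e⁻¹) * d⁻¹) = 1
      rw [show d * (e * a * e⁻¹) * d⁻¹ = (d * e) * a * (d * e)⁻¹ by group]
      exact ha.2 _ (mul_mem hd he)
    have hWZ : Z ≤ Subgroup.normalizer (W : Set G) := fun z hz => mem_normalizer_of_cj_le fun b hb => by
      obtain ⟨a, ha, rfl⟩ := hb
      refine ⟨hcj z (c.Z_le hz) a ha.1, fun d hd => ?_⟩
      show f (d * (z * a * z⁻¹) * d⁻¹) = 1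
      have hd' : z⁻¹ * d * z ∈ D := by
        simpa using Solv.conj_mem_of_mem_normalizer (c.Z_norm_D (Z.inv_mem hz)) hd
      obtain ⟨d₀, hd₀, e₀⟩ := hZ z hz
      rw [show d * (z * a * z⁻¹) * d⁻¹ = z * ((z⁻¹ * d * z) * a * (z⁻¹ * d * z)⁻¹) * z⁻¹ by group,
        e₀ _ (hcj _ (hDT _ hd') a ha.1),
        show d₀ * ((z⁻¹ * d * z) * a * (z⁻¹ * d * z)⁻¹) * d₀⁻¹ =
          (d₀ * (z⁻¹ * d * z)) * a * (d₀ * (z⁻¹ * d * z))⁻¹ by group]
      exact ha.2 _ (mul_mem hd₀ hd')
    have hlt : c.qFix < W ⊔ c.qFix := lt_of_le_not_ge le_sup_right fun h => ha₀1 (by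
      have h2 : a₀ ∈ c.qMov ⊓ c.qFix := ⟨hWM ha₀, h (Subgroup.mem_sup_left ha₀)⟩
      rwa [c.qMov_inf_qFix, Subgroup.mem_bot] at h2)
    have hQ : W ⊔ c.qFix = Q := c.eq_Q_of_invariant hlt (sup_le (hWM.trans c.qMov_le) c.qFix_le)
      (fun e he => mem_normalizer_of_cj_le (by
        rw [Fusion.cj_sup, cj_eq_self (hWD he), cj_eq_self (c.T_norm_qFix (hDT e he))]))
      (fun e he => mem_normalizer_of_cj_le (by
        rw [Fusion.cj_sup, cj_eq_self (hWZ he), cj_eq_self (c.T_norm_qFix (c.Z_le he))]))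
    obtain ⟨a, ha, ha1⟩ := hne
    have haQ : a ∈ W ⊔ c.qFix := hQ.ge (c.qMov_le ha)
    rw [← SetLike.mem_coe, Subgroup.coe_mul_of_left_le_normalizer_right _ _
      ((hWM.trans (c.qMov_le.trans c.Q_le)).trans (c.core_le.trans c.T_norm_qFix))] at haQ
    obtain ⟨p, hp, b, hb, rfl⟩ := haQ
    have hb1 : b ∈ c.qMov ⊓ c.qFix :=
      ⟨by simpa using c.qMov.mul_mem (c.qMov.inv_mem (hWM hp)) ha, hb⟩
    rw [c.qMov_inf_qFix, Subgroup.mem_bot] at hb1
    subst hb1
    refine ha1 ?_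
    show f (p * 1) = 1
    rw [mul_one]
    simpa using hp.2 1 D.one_mem
  have hsM : ∀ a ∈ c.qMov, s * a = a * s := by
    intro a ha
    have hsa := hcj s (hDT s hs) a ha
    have hmem : s * a * s⁻¹ * a⁻¹ ∈ W := by
      refine ⟨mul_mem hsa (inv_mem ha), fun d hd => ?_⟩
      have hda := hcj d (hDT d hd) a ha
      have hu : s⁻¹ * (d * s * d⁻¹) ∈ c.dKer := by
        refine c.derived_le_dKer ?_
        have := Subgroup.commutator_mem_commutator (D.inv_mem hs) hd
        rw [commutatorElement_def, inv_inv] at this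
        convert this using 1
        group
      have hu' : (s⁻¹ * (d * s * d⁻¹)) * (d * a * d⁻¹) = (d * a * d⁻¹) * (s⁻¹ * (d * s * d⁻¹)) :=
        (Subgroup.mem_centralizer_iff.1 hu.2 _ (c.qMov_le hda)).symm
      have e1 : d * (s * a * s⁻¹) * d⁻¹ = s * (d * a * d⁻¹) * s⁻¹ := by
        calc d * (s * a * s⁻¹) * d⁻¹ =
            s * ((s⁻¹ * (d * s * d⁻¹)) * (d * a * d⁻¹)) * (s⁻¹ * (d * s * d⁻¹))⁻¹ * s⁻¹ := by group
          _ = s * (d * a * d⁻¹) * s⁻¹ := by rw [hu']; group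
      rw [show d * (s * a * s⁻¹ * a⁻¹) * d⁻¹ = (d * (s * a * s⁻¹) * d⁻¹) * (d * a⁻¹ * d⁻¹) by group,
        hmul _ (hcj d (hDT d hd) _ hsa) _ (hcj d (hDT d hd) _ (inv_mem ha)), e1, hfix _ hda,
        ← hmul _ hda _ (hcj d (hDT d hd) _ (inv_mem ha)), show d * a * d⁻¹ * (d * a⁻¹ * d⁻¹) = 1 by group, hone]
    rw [hW, Subgroup.mem_bot, mul_inv_eq_one, mul_inv_eq_iff_eq_mul] at hmem
    exact hmem
  refine ⟨hs, Subgroup.mem_centralizer_iff.2 fun y hy => ?_⟩
  obtain ⟨a, ha, b, hb, rfl⟩ := c.exists_qMov_mul hy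
  have h2 : Commute b s := (Subgroup.mem_centralizer_iff.1 hb.2 s hs).symm
  exact ((show Commute a s from (hsM a ha).symm).mul_left h2).eq

open Classical in
/-- The degree of an invariant nonlinear irreducible character. -/
theorem deg_fixed_eq [Fintype T] (θ : IrrCharacter (sigmaCore T))
    (hθ : ∀ z ∈ Z, ∀ x y : sigmaCore T, (y : G) = z * x * z⁻¹ → (θ : sigmaCore T → ℂ) y = (θ : sigmaCore T → ℂ) x)
    (hlin : deg (θ : sigmaCore T → ℂ) ≠ 1) : deg (θ : sigmaCore T → ℂ) = c.dKer.relIndex D := by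
  have hMH : c.qMov ≤ sigmaCore T := c.qMov_le.trans c.Q_le
  haveI : (c.qMov.subgroupOf (sigmaCore T)).Normal :=
    Subgroup.normal_subgroupOf_of_le_normalizer (c.core_le.trans c.T_norm_qMov)
  haveI : ((c.qMov ⊔ c.triv).subgroupOf (sigmaCore T)).Normal :=
    Subgroup.normal_subgroupOf_of_le_normalizer (c.core_le.trans c.T_norm_mov_triv)
  haveI := Fintype.ofFinite (c.qMov.subgroupOf (sigmaCore T))
  set M := c.qMov.subgroupOf (sigmaCore T) with hM
  have hab : ∀ η : IrrCharacter M, (η : M → ℂ) 1 = 1 := (forall_linear_iff_comm (G := M)).1 fun a b =>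
    Subtype.ext (Subtype.ext (c.qMov_comm a.2 b.2).eq)
  -- a nontrivial constituent on `[Q, D]`
  obtain ⟨η, hη, hη1⟩ : ∃ η : IrrCharacter M,
      classInner (fun m : M => (θ : sigmaCore T → ℂ) m) (η : M → ℂ) ≠ 0 ∧ ∃ m : M, (η : M → ℂ) m ≠ 1 := by
    by_contra hno
    push Not at hno
    refine hlin (Nat.dvd_one.1 ?_)
    have hker : ∀ n ∈ (c.qMov ⊔ c.triv).subgroupOf (sigmaCore T),
        (θ : sigmaCore T → ℂ) n = (θ : sigmaCore T → ℂ) 1 := by
      intro n hn
      have hm : ∀ m : M, (θ : sigmaCore T → ℂ) m = (θ : sigmaCore T → ℂ) 1 := fun m => by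
        have hc : IsClassFunction M (fun m : M => (θ : sigmaCore T → ℂ) m) := fun a k => by
          simp [isClassFunction_character (irr_isCharacter θ.2) (a : sigmaCore T) k]
        have key : ∀ m' : M, (θ : sigmaCore T → ℂ) m' =
            ∑ η : IrrCharacter M, classInner (fun m : M => (θ : sigmaCore T → ℂ) m) (η : M → ℂ) := fun m' => by
          rw [show (θ : sigmaCore T → ℂ) m' = _ from congrFun (classFun_expansion hc) m', Finset.sum_apply]
          refine Finset.sum_congr rfl fun η _ => ?_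
          by_cases h0 : classInner (fun m : M => (θ : sigmaCore T → ℂ) m) (η : M → ℂ) = 0
          · simp [h0]
          · rw [Pi.smul_apply, smul_eq_mul, hno η h0 m', mul_one]
        rw [key m, ← key 1]; rfl
      obtain ⟨a, ha, b, hb, e⟩ : ∃ a ∈ c.qMov, ∃ b ∈ c.triv, (n : G) = a * b := by
        have hn' : (n : G) ∈ c.qMov ⊔ c.triv := hn
        rw [← SetLike.mem_coe, Subgroup.coe_mul_of_right_le_normalizer_left _ _
          ((c.triv_le.trans c.core_le).trans c.T_norm_qMov)] at hn'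
        obtain ⟨a, ha, b, hb, e⟩ := hn'
        exact ⟨a, ha, b, hb, e.symm⟩
      obtain rfl : n = ⟨a, hMH ha⟩ * ⟨b, c.triv_le hb⟩ := Subtype.ext e
      have k1 := TwoDeg.mem_kerC_of_eq θ (hm ⟨⟨a, hMH ha⟩, ha⟩)
      have k2 := TwoDeg.mem_kerC_of_eq θ (c.ker_fixed θ hθ ⟨b, c.triv_le hb⟩ hb)
      simpa using (TwoDeg.kerC θ).mul_mem k1 k2 1
    have h := deg_dvd_index_mod θ _ hker ⊤ le_top (fun a _ b _ => c.derived_le_mov_triv
      (Subgroup.commutator_mem_commutator a.2 b.2))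
    rwa [Subgroup.index_top] at h
  -- the orbit
  have hres := clifford_restrict (N := M) θ η hη
  have hdeg : ∃ m : ℕ, 0 < m ∧ deg (θ : sigmaCore T → ℂ) = m * (cliffOrbit M η).card := by
    obtain ⟨a, ha⟩ := exists_decomposition (isCharacter_comp M.subtype (irr_isCharacter θ.2))
    have hco : classInner (fun m : M => (θ : sigmaCore T → ℂ) m) (η : M → ℂ) = (a η : ℂ) :=
      decomposition_coeff a ha η
    refine ⟨a η, Nat.pos_of_ne_zero fun h => hη (by rw [hco, h, Nat.cast_zero]), ?_⟩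
    have h1 := congrFun hres 1
    simp only [Pi.smul_apply, Finset.sum_apply, hab, Finset.sum_const, nsmul_eq_mul, mul_one, smul_eq_mul,
      OneMemClass.coe_one, hco, char_one_eq_deg (irr_isCharacter θ.2)] at h1
    exact_mod_cast h1
  obtain ⟨m, hm0, hm⟩ := hdeg
  refine le_antisymm (Nat.le_of_dvd (lt_of_lt_of_le (by norm_num) c.three_le_dKer_index) (c.deg_fixed_dvd θ hθ)) ?_
  refine le_trans ?_ (le_trans (le_mul_of_one_le_left (Nat.zero_le _) hm0) hm.ge)
  -- the function on `[Q, D]`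
  obtain ⟨l, hl⟩ := exists_hom_of_degree_one (irr_isCharacter η.2) (hab η)
  set f : G → ℂ := fun g => if h : g ∈ c.qMov then (η : M → ℂ) ⟨⟨g, hMH h⟩, h⟩ else 0 with hf
  have hfv : ∀ x : M, f ((x : sigmaCore T) : G) = (η : M → ℂ) x := fun x => by
    have hx : ((x : sigmaCore T) : G) ∈ c.qMov := x.2
    simp only [hf, dif_pos hx]
  have hfmul : ∀ a ∈ c.qMov, ∀ b ∈ c.qMov, f (a * b) = f a * f b := fun a ha b hb => by
    have h := congrArg (fun u : ℂˣ => (u : ℂ)) (map_mul l ⟨⟨a, hMH ha⟩, ha⟩ ⟨⟨b, hMH hb⟩, hb⟩)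
    simp only [Units.val_mul] at h
    simp only [hf, dif_pos ha, dif_pos hb, dif_pos (mul_mem ha hb), hl]
    exact h
  have hfone : f 1 = 1 := (hfv 1).trans (hab η)
  have hfne : ∃ a ∈ c.qMov, f a ≠ 1 := by
    obtain ⟨x, hx⟩ := hη1
    exact ⟨((x : sigmaCore T) : G), x.2, by rw [hfv]; exact hx⟩
  have horb : ∀ g : sigmaCore T, ∀ x : M, (irrComp (MulAut.conjNormal g) η : M → ℂ) x =
      f ((g : G) * ((x : sigmaCore T) : G) * (g : G)⁻¹) := fun g x => by
    rw [irrComp_apply, ← hfv]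
    simp [MulAut.conjNormal_apply]
  have hZD : ∀ z ∈ Z, ∃ d ∈ D, ∀ a ∈ c.qMov, f (z * a * z⁻¹) = f (d * a * d⁻¹) := by
    intro z hz
    let α : MulAut M := MulEquiv.mk'
      { toFun := fun x => ⟨⟨z * ((x : sigmaCore T) : G) * z⁻¹,
            Solv.conj_mem_of_mem_normalizer (c.T_norm_core (c.Z_le hz)) (x : sigmaCore T).2⟩,
            Solv.conj_mem_of_mem_normalizer (c.T_norm_qMov (c.Z_le hz)) x.2⟩
        invFun := fun x => ⟨⟨z⁻¹ * ((x : sigmaCore T) : G) * z, by
            simpa using Solv.conj_mem_of_mem_normalizer (c.T_norm_core (c.Z_le (Z.inv_mem hz))) (x : sigmaCore T).2⟩,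
            by
            show z⁻¹ * ((x : sigmaCore T) : G) * z ∈ c.qMov
            simpa using Solv.conj_mem_of_mem_normalizer (c.T_norm_qMov (c.Z_le (Z.inv_mem hz))) x.2⟩
        left_inv := fun x => Subtype.ext (Subtype.ext (by
          show z⁻¹ * (z * ((x : sigmaCore T) : G) * z⁻¹) * z = _; group))
        right_inv := fun x => Subtype.ext (Subtype.ext (by
          show z * (z⁻¹ * ((x : sigmaCore T) : G) * z) * z⁻¹ = _; group)) }
      fun x y => Subtype.ext (Subtype.ext (by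
        show z * (((x : sigmaCore T) : G) * ((y : sigmaCore T) : G)) * z⁻¹ =
          z * ((x : sigmaCore T) : G) * z⁻¹ * (z * ((y : sigmaCore T) : G) * z⁻¹)
        group))
    have hαv : ∀ x : M, ((α x : sigmaCore T) : G) = z * ((x : sigmaCore T) : G) * z⁻¹ := fun x => rfl
    have hc : classInner (fun x : M => (θ : sigmaCore T → ℂ) x) (irrComp α η : M → ℂ) ≠ 0 := by
      intro h0
      refine hη (Eq.trans ?_ h0)
      simp only [classInner]
      congr 1
      refine (Fintype.sum_equiv α.toEquiv _ _ fun x => ?_).symm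
      rw [irrComp_apply]
      show _ * _ = (θ : sigmaCore T → ℂ) ((α x : M) : sigmaCore T) * _
      rw [hθ z hz (x : sigmaCore T) ((α x : M) : sigmaCore T) (hαv x)]
      rfl
    obtain ⟨g, hg⟩ := mem_cliffOrbit.1 (mem_cliffOrbit_of_constituent hη hc)
    obtain ⟨y, hy, d, hd, e⟩ := c.mul g.2
    refine ⟨d, hd, fun a ha => ?_⟩
    have h := congrFun (congrArg Subtype.val hg) (⟨⟨a, hMH ha⟩, ha⟩ : M)
    rw [horb, irrComp_apply, ← hfv, hαv] at h
    rw [← h]
    show f ((g : G) * a * (g : G)⁻¹) = f (d * a * d⁻¹)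
    rw [e, show y * d * a * (y * d)⁻¹ = y * (d * a * d⁻¹) * y⁻¹ by group,
      c.Q_cent_qMov hy (Solv.conj_mem_of_mem_normalizer (c.T_norm_qMov (c.core_le (c.D_le hd))) ha)]
  -- count
  let φ : D → IrrCharacter M := fun d => irrComp (MulAut.conjNormal (⟨(d : G), c.D_le d.2⟩ : sigmaCore T)) η
  have hsub : (Finset.univ : Finset D).image φ ⊆ cliffOrbit M η := fun x hx => by
    obtain ⟨d, -, rfl⟩ := Finset.mem_image.1 hx
    exact mem_cliffOrbit.2 ⟨_, rfl⟩
  refine le_trans ?_ (Finset.card_le_card hsub)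
  have hfib : ∀ x ∈ (Finset.univ : Finset D).image φ,
      ((Finset.univ : Finset D).filter fun d => φ d = x).card ≤ Nat.card c.dKer := by
    intro x hx
    obtain ⟨d₀, -, rfl⟩ := Finset.mem_image.1 hx
    rw [Nat.card_eq_fintype_card, ← Finset.card_univ (α := c.dKer)]
    refine Finset.card_le_card_of_injOn (fun d => if h : (d : G) * (d₀ : G)⁻¹ ∈ c.dKer then ⟨_, h⟩ else 1)
      (fun d _ => Finset.mem_univ _) fun d hd d' hd' e => ?_
    have hmem : ∀ d : D, φ d = φ d₀ → (d : G) * (d₀ : G)⁻¹ ∈ c.dKer := fun d hd => by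
      refine c.stab_le_dKer hfmul hfone hfne hZD (D.mul_mem d.2 (D.inv_mem d₀.2)) fun a ha => ?_
      have hb : (d₀ : G)⁻¹ * a * d₀ ∈ c.qMov := by
        simpa using Solv.conj_mem_of_mem_normalizer
          (c.T_norm_qMov (c.core_le (c.D_le (D.inv_mem d₀.2)))) ha
      have h := congrFun (congrArg Subtype.val hd) (⟨⟨_, hMH hb⟩, hb⟩ : M)
      simp only [φ] at h
      rw [horb, horb] at h
      convert h using 2 <;> group
    simp only [Finset.coe_filter, Finset.mem_univ, true_and, Set.mem_setOf_eq] at hd hd'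
    simp only [dif_pos (hmem d hd), dif_pos (hmem d' hd'), Subtype.mk.injEq, mul_left_inj] at e
    exact Subtype.ext e
  have h1 := Finset.card_le_mul_card_image (Finset.univ : Finset D) _ hfib
  rw [Finset.card_univ, ← Nat.card_eq_fintype_card] at h1
  have h3 := (c.dKer.subgroupOf D).card_mul_index
  rw [Solv.card_subgroupOf c.dKer_le] at h3
  rw [← h3] at h1
  exact Nat.le_of_mul_le_mul_left h1 Nat.card_pos

end TSplit

end Cfsg.Agent.OddFT
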