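import Cfsg.Agent.Lib.OddChar.FT.TailConcl
import Cfsg.Agent.Lib.OddChar.FT.SplitStab
import Cfsg.Agent.Lib.OddChar.FT.SplitCoh

/-!
The data of `T = (Q D) Z` in terms of `TData`: sizes, the degree of the invariant characters, and the
transfer between characters of `H` and of `H` inside `T`.
-/

set_option autoImplicit false
set_option linter.unusedSectionVars false
set_option linter.unusedVariables false
set_option linter.style.haveILetI false

open Cfsg Cfsg.Agent.Char Cfsg.Agent.OddChar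
open scoped ComplexConjugate commutatorElement
open Cfsg.Agent.OddLocal

namespace Cfsg.Agent.OddFT

universe u

variable {G : Type u} [Group G] [Fintype G] {T Z K H Q D H₁ : Subgroup G}

theorem TSplit.toTail (c : TSplit T Z K Q D H₁) : Tail T Z K (sigmaCore T) :=
  ⟨c.minSimple, c.coatom, c.decomp, c.Z_ne, rfl, c.star.symm⟩

/-- Characters of `H` read on `H` inside `T`. -/
noncomputable def pullT (hHT : H ≤ T) [Fintype H] [Fintype ↥(H.subgroupOf T)] (θ : IrrCharacter H) :
    IrrCharacter ↥(H.subgroupOf T) :=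
  ⟨fun x => (θ : H → ℂ) (Subgroup.subgroupOfEquivOfLe hHT x),
    isIrrCharacter_comp_equiv (Subgroup.subgroupOfEquivOfLe hHT) θ.2⟩

/-- Characters of `H` inside `T` read on `H`. -/
noncomputable def pushT (hHT : H ≤ T) [Fintype H] [Fintype ↥(H.subgroupOf T)]
    (θ : IrrCharacter ↥(H.subgroupOf T)) : IrrCharacter H :=
  ⟨fun x => (θ : ↥(H.subgroupOf T) → ℂ) ((Subgroup.subgroupOfEquivOfLe hHT).symm x),
    isIrrCharacter_comp_equiv (Subgroup.subgroupOfEquivOfLe hHT).symm θ.2⟩

section Transfer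

variable (hHT : H ≤ T) [Fintype H] [Fintype ↥(H.subgroupOf T)]

theorem pullT_pushT (θ : IrrCharacter ↥(H.subgroupOf T)) : pullT hHT (pushT hHT θ) = θ :=
  Subtype.ext (funext fun x => by simp [pullT, pushT])

theorem pushT_pullT (θ : IrrCharacter H) : pushT hHT (pullT hHT θ) = θ :=
  Subtype.ext (funext fun x => by simp [pullT, pushT])

theorem deg_pullT (θ : IrrCharacter H) :
    deg (pullT hHT θ : ↥(H.subgroupOf T) → ℂ) = deg (θ : H → ℂ) := by simp [deg, pullT]

theorem deg_pushT (θ : IrrCharacter ↥(H.subgroupOf T)) :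
    deg (pushT hHT θ : H → ℂ) = deg (θ : ↥(H.subgroupOf T) → ℂ) := by simp [deg, pushT]

include hHT in
theorem index_derived :
    (commutator ↥(H.subgroupOf T)).index = (⁅H, H⁆).relIndex H := by
  rw [← card_hom_units (G := ↥(H.subgroupOf T)),
    Nat.card_congr (MulEquiv.monoidHomCongrLeftEquiv (Subgroup.subgroupOfEquivOfLe hHT)), card_hom_units,
    Subgroup.relIndex]
  congr 1
  rw [← Subgroup.map_subtype_commutator, Subgroup.subgroupOf, Subgroup.comap_map_eq_self_of_injective
    (Subgroup.subtype_injective H)]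

end Transfer

variable [Fintype T] [Fintype ↥(H.subgroupOf T)] [(H.subgroupOf T).Normal]

/-- Membership of an irreducible constituent. -/
theorem lin_derived (l : ↥(H.subgroupOf T) →* ℂˣ) {x : ↥(H.subgroupOf T)}
    (hx : ((x : T) : G) ∈ ⁅H, H⁆) (hHT : H ≤ T) : l x = 1 := by
  have hle : ⁅H, H⁆ ≤ (commutator ↥(H.subgroupOf T)).map ((T.subtype).comp (H.subgroupOf T).subtype) := by
    rw [commutator_def, Subgroup.map_commutator]
    have h1 : H ≤ (⊤ : Subgroup ↥(H.subgroupOf T)).map ((T.subtype).comp (H.subgroupOf T).subtype) :=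
      fun g hg => ⟨⟨⟨g, hHT hg⟩, hg⟩, trivial, rfl⟩
    exact Subgroup.commutator_mono h1 h1
  obtain ⟨y, hy, e⟩ := hle hx
  obtain rfl : y = x := Subtype.ext (Subtype.ext e)
  exact Subgroup.mem_bot.1 (by simpa using (Abelianization.commutator_subset_ker l hy))

namespace TData

variable (C : TData T Z K H)
include C

/-- `n w + 1 = |H : H'|`. -/
theorem card_linFam_eq : (linFam T H).card * Nat.card Z + 1 = (⁅H, H⁆).relIndex H := by
  classical
  haveI := Fintype.ofFinite H
  rw [← index_derived C.tail.H_le]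
  refine le_antisymm (card_linFam_le C.M C.E C.tail) ?_
  rw [← card_hom_units, Nat.card_eq_fintype_card (α := ↥(H.subgroupOf T) →* ℂˣ), ← Finset.card_univ,
    ← Finset.card_erase_add_one (Finset.mem_univ (1 : ↥(H.subgroupOf T) →* ℂˣ)), linFam, mul_comm]
  refine Nat.add_le_add_right (Finset.card_le_mul_card_image _ _ fun a ha => ?_) 1
  obtain ⟨l, hl, rfl⟩ := Finset.mem_image.1 ha
  have hl1 : l ≠ 1 := (Finset.mem_erase.1 hl).1
  have key : ∀ l' : ↥(H.subgroupOf T) →* ℂˣ, indFun (H.subgroupOf T) (linIrr l' : ↥(H.subgroupOf T) → ℂ) =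
      indFun (H.subgroupOf T) (linIrr l : ↥(H.subgroupOf T) → ℂ) → ∃ z : Z, conjT (⟨z, C.tail.Z_le z.2⟩ : T) (linIrr l') = linIrr l := by
    intro l' e
    have h1 := irr_self (lin_irr C.M C.E C.tail hl1)
    nth_rewrite 1 [← e] at h1
    obtain ⟨t, ht⟩ : ∃ t : T, conjT t (linIrr l') = linIrr l := by
      by_contra hno
      push Not at hno
      have h0 : classInner (indFun (H.subgroupOf T) (linIrr l : ↥(H.subgroupOf T) → ℂ))
          (indFun (H.subgroupOf T) (linIrr l' : ↥(H.subgroupOf T) → ℂ)) = 0 :=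
        indFun_inner_zero _ fun t h => hno t h
      rw [← classInner_symm, h0, map_zero] at h1
      exact zero_ne_one h1
    obtain ⟨h, hh, z, hz, et⟩ := C.tail.mul t.2
    refine ⟨⟨z, hz⟩, ?_⟩
    rw [show t = (⟨h, C.tail.H_le hh⟩ : T) * ⟨z, C.tail.Z_le hz⟩ from Subtype.ext et, conjT_mul,
      show conjT (⟨h, C.tail.H_le hh⟩ : T) (linIrr l') = linIrr l' from
        irrComp_conjNormal_of_mem (H.subgroupOf T) _ ⟨⟨h, C.tail.H_le hh⟩, hh⟩] at ht
    exact ht
  choose! f hf using key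
  refine le_trans (Finset.card_le_card_of_injOn f (fun x _ => Finset.mem_univ _) fun a ha b hb e => ?_)
    (le_of_eq (Finset.card_univ.trans Nat.card_eq_fintype_card.symm))
  simp only [Finset.coe_filter, Set.mem_setOf_eq] at ha hb
  have h1 := hf a ha.2
  rw [e, ← hf b hb.2] at h1
  have h2 := congrArg (conjT (⟨(f b : G), C.tail.Z_le (f b).2⟩ : T)⁻¹) h1
  rw [conjT_inv, conjT_inv] at h2
  exact MonoidHom.ext fun x => Units.ext (congrFun (congrArg Subtype.val h2) x)

/-- The invariant characters of `H` are invariant under `Z`. -/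
theorem theta_invariant [Fintype H] (i : ↥K →* ℂˣ) :
    ∀ z ∈ Z, ∀ x y : H, (y : G) = z * x * z⁻¹ →
      (pushT C.tail.H_le (C.M.theta C.tail i) : H → ℂ) y = (pushT C.tail.H_le (C.M.theta C.tail i) : H → ℂ) x := by
  intro z hz x y e
  show C.M.mu i 1 _ = C.M.mu i 1 _
  rw [← isClassFunction_character (irr_isCharacter (C.M.irr i 1))
    (((Subgroup.subgroupOfEquivOfLe C.tail.H_le).symm x : ↥(H.subgroupOf T)) : T) (⟨z, C.tail.Z_le hz⟩ : T)]
  congr 1
  exact Subtype.ext e

theorem w_three : 3 ≤ Nat.card Z := C.tail.three_le_card Z C.tail.Z_ne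

theorem n_even : Even (linFam T H).card := by
  have h := C.card_linFam_eq
  have hodd : Odd ((⁅H, H⁆).relIndex H) := (C.tail.odd.of_dvd_nat (Subgroup.card_subgroup_dvd_card H)).of_dvd_nat
    (Subgroup.relIndex_dvd_card _ _)
  rw [← h, Nat.odd_add_one, Nat.not_odd_iff_even, Nat.even_mul] at hodd
  exact hodd.resolve_right (Nat.not_even_iff_odd.2 (C.tail.odd.of_dvd_nat (Subgroup.card_subgroup_dvd_card Z)))

theorem cF_ne : C.cF ≠ 0 := fun h => by
  have h1 := C.ed_cong
  rw [h, mul_zero, sub_eq_zero] at h1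
  have h2 := C.one_lt_d
  rcases C.M.sgn_cases C.i₀ with he | he <;> simp only [e, he] at h1 <;> omega

/-- The invariant degree is at least `2 w - 1`. -/
theorem two_w_le : 2 * Nat.card Z ≤ C.d + 1 := by
  have h1 := C.ed_cong
  have h2 : 1 ≤ |C.cF| := Int.one_le_abs C.cF_ne
  have h3 : |C.e * C.d - 1| ≤ (C.d : ℤ) + 1 := by
    rcases C.M.sgn_cases C.i₀ with he | he <;> simp only [e, he] <;> rw [abs_le] <;> constructor <;> linarith
  rw [h1, abs_mul, abs_of_nonneg (show (0 : ℤ) ≤ 2 * (Nat.card Z : ℤ) by positivity)] at h3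
  have : 2 * (Nat.card Z : ℤ) * 1 ≤ 2 * (Nat.card Z : ℤ) * |C.cF| := by gcongr
  omega

theorem k_swap (hn : (linFam T H).card = 2) : (C.swap hn).k = -C.k - 2 * C.cF := by
  classical
  have h := (C.swap hn).k_spec (i := C.i₀) C.i₀_ne
  rw [show (C.swap hn).F C.i₀ = C.F C.i₀ from rfl,
    show (C.swap hn).φ (C.swap hn).ζ = -C.φ (conjFun C.ζ) from rfl, classInner_neg_right,
    C.F_inner C.i₀_ne C.conj_mem, if_pos (Or.inr rfl), show (C.swap hn).cF = C.cF from rfl] at h
  have : (((C.swap hn).k : ℤ) : ℂ) = ((-C.k - 2 * C.cF : ℤ) : ℂ) := by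
    push_cast at h ⊢; linear_combination -h
  exact_mod_cast this

theorem c_swap (hn : (linFam T H).card = 2) : (C.swap hn).c = 1 - C.c := by
  have h := C.kk_swap hn C.nonLin_one
  rw [C.deg_one] at h
  exact h

/-- A member of the family is constant on the cosets of `H'` in `H`. -/
theorem zeta_derived {a : T → ℂ} (ha : a ∈ linFam T H) {v x : T} (hv : (v : G) ∈ ⁅H, H⁆) (hx : (x : G) ∈ H) :
    a (v * x) = a x := by
  obtain ⟨l, hl, rfl⟩ := mem_linFam.1 ha
  have hvH : (v : G) ∈ H := Subgroup.commutator_le_self H hv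
  have h1 : v * x = (((⟨v, hvH⟩ : ↥(H.subgroupOf T)) * ⟨x, hx⟩ : ↥(H.subgroupOf T)) : T) := rfl
  conv_rhs => rw [show x = ((⟨x, hx⟩ : ↥(H.subgroupOf T)) : T) from rfl]
  rw [h1, indFun_restrict_normal, indFun_restrict_normal]
  congr 1
  refine Finset.sum_congr rfl fun g _ => ?_
  show ((l _ : ℂˣ) : ℂ) = ((l _ : ℂˣ) : ℂ)
  rw [map_mul, map_mul, lin_derived l ?_ C.tail.H_le, one_mul]
  simp only [MulAut.conjNormal_apply]
  have hn : T ≤ Subgroup.normalizer ((⁅H, H⁆ : Subgroup G) : Set G) := fun t ht =>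
    Fusion.mem_normalizer_of_cj_le (by rw [Fusion.cj_commutator, Fusion.cj_eq_self (C.tail.H_norm ht)])
  exact Solv.conj_mem_of_mem_normalizer (hn g.2) hv

end TData

/-- The degree of the nontrivial invariant characters is `|D : C_D(Q)|`. -/
theorem TData.d_eq [Fintype ↥((sigmaCore T).subgroupOf T)] [((sigmaCore T).subgroupOf T).Normal]
    (c : TSplit T Z K Q D H₁) (C : TData T Z K (sigmaCore T)) : C.d = c.dKer.relIndex D := by
  classical
  rw [← c.deg_fixed_eq (pushT C.tail.H_le (C.M.theta C.tail C.i₀)) (C.theta_invariant C.i₀)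
    (by rw [deg_pushT, C.deg_theta C.i₀_ne]; exact C.one_lt_d.ne'), deg_pushT, C.deg_theta C.i₀_ne]

end Cfsg.Agent.OddFT
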