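import Cfsg.Agent.Lib.OddChar.FT.TailFam

/-!
The coefficients `k_θ` of `τ(Ind θ - θ(1) ζ)` at the coherent family, the shapes of `τβ'` and `τF`, and the
bound on invariant sets of characters.
-/

set_option autoImplicit false
set_option linter.unusedSectionVars false
set_option linter.unusedVariables false
set_option linter.style.haveILetI false

open Cfsg Cfsg.Agent.Char Cfsg.Agent.OddChar
open scoped ComplexConjugate commutatorElement

namespace Cfsg.Agent.OddFT

universe u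

/-- `T` with its grid, characters on the middle, coherent family, and chosen members. -/
structure TData {G : Type u} [Group G] [Fintype G] (T Z K H : Subgroup G) [Fintype T]
    [Fintype ↥(H.subgroupOf T)] [(H.subgroupOf T).Normal] where
  tail : Tail T Z K H
  E : Grid K Z
  M : Mu T Z K
  φ : (T → ℂ) → G → ℂ
  ζ : T → ℂ
  i₀ : ↥K →* ℂˣ
  fam : TailFam T H E φ
  mem : ζ ∈ linFam T H
  i₀_ne : i₀ ≠ 1

variable {G : Type u} [Group G] [Fintype G] {T Z K H : Subgroup G} [Fintype T]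
  [Fintype ↥(H.subgroupOf T)] [(H.subgroupOf T).Normal]

theorem Tail.exists_data (t : Tail T Z K H) (E : Grid K Z) : ∃ C : TData T Z K H, C.E = E := by
  classical
  obtain ⟨M⟩ := t.exists_mu
  obtain ⟨φ, hφ⟩ := exists_tailFam M E t
  obtain ⟨ζ, hζ⟩ := exists_mem_linFam M E t
  obtain ⟨i, hi⟩ := Finset.exists_mem_ne (s := (Finset.univ : Finset (↥K →* ℂˣ)))
    (by rw [Finset.card_univ, E.card_left]; exact t.prime.one_lt) 1
  exact ⟨⟨t, E, M, φ, ζ, i, hφ, hζ, hi.2⟩, rfl⟩

namespace TData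

variable (C : TData T Z K H)

/-- The degree of the nontrivial invariant characters. -/
noncomputable def d : ℕ := deg (C.M.mu C.i₀ 1)

/-- Their sign on the middle. -/
def e : ℤ := C.M.sgn C.i₀

/-- `(εd - 1) / 2w`. -/
noncomputable def cF : ℤ := (C.e * C.d - 1) / (2 * Nat.card Z)

/-- Induction from `H`. -/
noncomputable abbrev ind (_C : TData T Z K H) (θ : IrrCharacter ↥(H.subgroupOf T)) : T → ℂ :=
  indFun (H.subgroupOf T) (θ : ↥(H.subgroupOf T) → ℂ)

/-- `Ind θ - θ(1) ζ`. -/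
noncomputable def g (θ : IrrCharacter ↥(H.subgroupOf T)) : T → ℂ :=
  C.ind θ - (deg (θ : ↥(H.subgroupOf T) → ℂ) : ℂ) • C.ζ

/-- The coefficient `k_θ`. -/
noncomputable def kk (θ : IrrCharacter ↥(H.subgroupOf T)) : ℤ :=
  icoef (indFun T (C.g θ)) (C.φ C.ζ) + deg (θ : ↥(H.subgroupOf T) → ℂ)

/-- The trivial character of `H`. -/
noncomputable abbrev one (_C : TData T Z K H) : IrrCharacter ↥(H.subgroupOf T) := ⟨fun _ => 1, isIrrCharacter_one⟩

/-- The coefficient of `τβ'`. -/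
noncomputable def c : ℤ := C.kk C.one

/-- The function `F i`. -/
noncomputable def F (i : ↥K →* ℂˣ) : T → ℂ :=
  (fun _ => (1 : ℂ)) - (C.e : ℂ) • C.M.mu i 1 + (C.cF : ℂ) • (C.ζ + conjFun C.ζ)

/-- The coefficient of `τF`. -/
noncomputable def k : ℤ := icoef (indFun T (C.F C.i₀)) (C.φ C.ζ) - C.cF

/-- The first column of the coordinates of `τβ'`. -/
noncomputable def a : ℤ := icoef (indFun T (C.g C.one)) (C.E.eta C.i₀ 1)

/-- The first row of the coordinates of `τβ'`. -/
noncomputable def b (j : ↥Z →* ℂˣ) : ℤ := icoef (indFun T (C.g C.one)) (C.E.eta 1 j)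

/-- The multiple of the regular character in the restriction of `φ ζ`. -/
noncomputable def bb : ℤ := icoef (indFun T C.ζ) (C.φ C.ζ) - 1

/-- Trivial or nonlinear. -/
def NonLin (θ : IrrCharacter ↥(H.subgroupOf T)) : Prop :=
  deg (θ : ↥(H.subgroupOf T) → ℂ) ≠ 1 ∨ θ = C.one

include C

/-! ### Basic facts -/

theorem odd_T : Odd (Nat.card T) := C.tail.odd.of_dvd_nat (Subgroup.card_subgroup_dvd_card T)

theorem w_pos : 0 < Nat.card Z := Nat.card_pos

theorem one_w : (1 : ℕ) < Nat.card Z := by have := C.tail.three_le_card Z C.tail.Z_ne; omega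

theorem sgn_eq {i : ↥K →* ℂˣ} (hi : i ≠ 1) : C.M.sgn i = C.e := C.M.sgn_eq C.tail C.i₀_ne hi

theorem e_sq : (C.e : ℂ) * C.e = 1 := by
  rcases C.M.sgn_cases C.i₀ with h | h <;> simp [e, h]

theorem deg_mu {i : ↥K →* ℂˣ} (hi : i ≠ 1) : deg (C.M.mu i 1) = C.d := by
  have h := C.M.deg_eq C.tail C.i₀_ne hi
  unfold d
  simp only [deg, h]

theorem deg_theta {i : ↥K →* ℂˣ} (hi : i ≠ 1) :
    deg (C.M.theta C.tail i : ↥(H.subgroupOf T) → ℂ) = C.d := (C.M.deg_theta C.tail i).trans (C.deg_mu hi)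

theorem one_lt_d : 1 < C.d := C.M.one_lt_deg C.tail C.i₀_ne

theorem theta_one_eq : C.M.theta C.tail 1 = C.one := Subtype.ext (C.M.theta_one C.tail)

theorem deg_one : deg (C.one : ↥(H.subgroupOf T) → ℂ) = 1 := by simp [deg]

theorem odd_d : Odd C.d := by
  refine C.odd_T.of_dvd_nat ?_
  have := deg_dvd_index_central (C.M.irr C.i₀ 1) ⊥ bot_le
  rwa [Subgroup.index_bot] at this

theorem ed_cong : C.e * C.d - 1 = 2 * Nat.card Z * C.cF := by
  obtain ⟨m, hm⟩ := C.M.cong C.i₀ 1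
  have h1 : (C.d : ℤ) - C.e = m * Nat.card Z := by
    have : ((C.d : ℤ) : ℂ) - (C.e : ℂ) = (m : ℂ) * (Nat.card Z : ℂ) := by
      rw [← hm]; simp only [d, e]; push_cast; rw [C.M.deg_irr C.tail]
    exact_mod_cast this
  have he : C.e = 1 ∨ C.e = -1 := C.M.sgn_cases C.i₀
  have hdvd : (2 * Nat.card Z : ℤ) ∣ C.e * C.d - 1 := by
    refine IsCoprime.mul_dvd ?_ ?_ ⟨C.e * m, ?_⟩
    · rw [show (2 : ℤ) = ((2 : ℕ) : ℤ) from rfl, Int.isCoprime_iff_nat_coprime]
      exact Nat.coprime_two_left.2 (C.tail.odd.of_dvd_nat (Subgroup.card_subgroup_dvd_card Z))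
    · obtain ⟨j, hj⟩ := C.odd_d
      rcases he with h | h <;> rw [h, hj] <;> push_cast
      · exact ⟨j, by ring⟩
      · exact ⟨-j - 1, by ring⟩
    · rcases he with h | h <;> rw [h] at h1 ⊢ <;> linarith
  rw [cF, Int.mul_ediv_cancel' hdvd]

theorem ed_congC : (C.e : ℂ) * C.d = 1 + 2 * (Nat.card Z : ℂ) * C.cF := by
  have h := congrArg (fun x : ℤ => (x : ℂ)) C.ed_cong
  push_cast at h
  linear_combination h

theorem conj_mem : conjFun C.ζ ∈ linFam T H := linFam_conj C.M C.E C.tail C.mem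

theorem conj_ne : conjFun C.ζ ≠ C.ζ := linFam_conj_ne C.M C.E C.tail C.mem

theorem two_le : 2 ≤ (linFam T H).card := two_le_card_linFam C.M C.E C.tail

theorem irr_ne {a : T → ℂ} (ha : a ∈ linFam T H) (i : ↥K →* ℂˣ) (j : ↥Z →* ℂˣ) : C.M.mu i j ≠ a := by
  intro h
  obtain ⟨z, hz, -⟩ := Mu.exists_z C.tail
  have h1 := C.M.val i j 1 z (Mu.hatT C.tail 1 z) hz rfl
  rw [h, linFam_vanish C.M C.E C.tail ha (C.tail.hat_notMem (one_mem K) z.2 fun e => hz (Subtype.ext e))] at h1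
  simp [C.M.sgn_ne C.tail i] at h1

theorem mu_lin {a : T → ℂ} (ha : a ∈ linFam T H) (i : ↥K →* ℂˣ) (j : ↥Z →* ℂˣ) :
    classInner (C.M.mu i j) a = 0 := by
  rw [irr_orth (C.M.irr i j) (linFam_irr C.M C.E C.tail ha), if_neg (C.irr_ne ha i j)]

theorem lin_mu {a : T → ℂ} (ha : a ∈ linFam T H) (i : ↥K →* ℂˣ) (j : ↥Z →* ℂˣ) :
    classInner a (C.M.mu i j) = 0 := by
  rw [← classInner_symm, C.mu_lin ha, map_zero]

theorem lin_orth {a b : T → ℂ} (ha : a ∈ linFam T H) (hb : b ∈ linFam T H) [Decidable (a = b)] :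
    classInner a b = if a = b then 1 else 0 := by
  rw [irr_orth (linFam_irr C.M C.E C.tail ha) (linFam_irr C.M C.E C.tail hb)]
  split_ifs <;> rfl

theorem ind_gen (θ : IrrCharacter ↥(H.subgroupOf T)) : IsGeneralizedCharacter T (C.ind θ) :=
  gen_of_char (isCharacter_indFun _ (irr_isCharacter θ.2))

theorem g_gen (θ : IrrCharacter ↥(H.subgroupOf T)) : IsGeneralizedCharacter T (C.g θ) := by
  refine isGenChar_sub (C.ind_gen θ) ?_
  have := isGenChar_int_smul (gen_of_char (irr_isCharacter (linFam_irr C.M C.E C.tail C.mem)))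
    (deg (θ : ↥(H.subgroupOf T) → ℂ) : ℤ)
  simpa using this

theorem g_class (θ : IrrCharacter ↥(H.subgroupOf T)) : IsClassFunction T (C.g θ) :=
  isClassFunction_genChar (C.g_gen θ)

theorem ind_vanish (θ : IrrCharacter ↥(H.subgroupOf T)) {t : T} (ht : (t : G) ∉ H) : C.ind θ t = 0 :=
  indFun_normal_not_mem _ _ ht

theorem g_vanish (θ : IrrCharacter ↥(H.subgroupOf T)) {t : T} (ht : (t : G) ∉ H) : C.g θ t = 0 := by
  simp [g, C.ind_vanish θ ht, linFam_vanish C.M C.E C.tail C.mem ht]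

theorem g_at_one (θ : IrrCharacter ↥(H.subgroupOf T)) : C.g θ 1 = 0 := by
  rw [g, Pi.sub_apply, Pi.smul_apply, ind, indFun_one, C.tail.index_H, linFam_deg C.M C.E C.tail C.mem,
    char_one_eq_deg (irr_isCharacter θ.2), smul_eq_mul]
  ring

theorem g_supp (θ : IrrCharacter ↥(H.subgroupOf T)) : Supp T (C.g θ) :=
  supp_of_vanish C.M C.E C.tail (C.g_class θ) (C.g_at_one θ) fun t ht => C.g_vanish θ ht

theorem iso {α β : T → ℂ} (hα : Supp T α) (hβc : IsClassFunction T β) (hβ : Supp T β) :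
    classInner (indFun T α) (indFun T β) = classInner α β := C.tail.isTI.inner hα hβc hβ

theorem tau_gen {α : T → ℂ} (hα : IsGeneralizedCharacter T α) : IsGeneralizedCharacter G (indFun T α) :=
  C.tail.isTI.ind_gen hα

theorem phi_gen {a : T → ℂ} (ha : a ∈ linFam T H) : IsGeneralizedCharacter G (C.φ a) := (C.fam.signed a ha).gen

theorem kk_spec (θ : IrrCharacter ↥(H.subgroupOf T)) :
    classInner (indFun T (C.g θ)) (C.φ C.ζ) = (C.kk θ : ℂ) - deg (θ : ↥(H.subgroupOf T) → ℂ) := by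
  rw [icoef_spec (C.tau_gen (C.g_gen θ)) (C.phi_gen C.mem), kk]
  push_cast
  ring

theorem nonLin_theta (i : ↥K →* ℂˣ) : C.NonLin (C.M.theta C.tail i) := by
  by_cases h : i = 1
  · exact Or.inr (h ▸ C.theta_one_eq)
  · exact Or.inl (by rw [C.deg_theta h]; exact C.one_lt_d.ne')

theorem conjT_one_char (t : T) : conjT t C.one = C.one := Subtype.ext (funext fun x => rfl)

theorem ind_lin_inner {θ : IrrCharacter ↥(H.subgroupOf T)} (hθ : C.NonLin θ) {a : T → ℂ}
    (ha : a ∈ linFam T H) : classInner (C.ind θ) a = 0 := by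
  obtain ⟨l, hl, rfl⟩ := mem_linFam.1 ha
  refine indFun_inner_zero _ fun t h => ?_
  have h' : conjT t (linIrr l) = θ := h
  rcases hθ with hθ | hθ
  · exact hθ (by rw [← h', deg_conjT, linIrr_deg])
  · refine hl (MonoidHom.ext fun x => Units.ext ?_)
    have : linIrr l = C.one := by
      rw [← conjT_inv t (linIrr l), h', hθ, C.conjT_one_char]
    exact congrFun (congrArg Subtype.val this) x

theorem g_lin_inner {θ : IrrCharacter ↥(H.subgroupOf T)} (hθ : C.NonLin θ) {a : T → ℂ}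
    (ha : a ∈ linFam T H) [Decidable (C.ζ = a)] :
    classInner (C.g θ) a = -(if C.ζ = a then (deg (θ : ↥(H.subgroupOf T) → ℂ) : ℂ) else 0) := by
  rw [g, classInner_sub_left, classInner_smul_left, C.ind_lin_inner hθ ha, C.lin_orth C.mem ha]
  split_ifs <;> ring

open Classical in
/-- The coefficients of `τ g_θ` at the family. -/
theorem g_inner {θ : IrrCharacter ↥(H.subgroupOf T)} (hθ : C.NonLin θ) {a : T → ℂ} (ha : a ∈ linFam T H) :
    classInner (indFun T (C.g θ)) (C.φ a) =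
      ((C.kk θ - if a = C.ζ then (deg (θ : ↥(H.subgroupOf T) → ℂ) : ℤ) else 0 : ℤ) : ℂ) := by
  by_cases h : a = C.ζ
  · rw [if_pos h, h, C.kk_spec]; push_cast; ring
  · have e : classInner (indFun T (C.g θ)) (C.φ a - C.φ C.ζ) = (deg (θ : ↥(H.subgroupOf T) → ℂ) : ℂ) := by
      rw [← C.fam.diff a ha C.ζ C.mem, C.iso (C.g_supp θ)
        (classFun_sub (isClassFunction_character (irr_isCharacter (linFam_irr C.M C.E C.tail ha)))
          (isClassFunction_character (irr_isCharacter (linFam_irr C.M C.E C.tail C.mem))))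
        (sub_supp C.M C.E C.tail ha C.mem), classInner_sub_right, C.g_lin_inner hθ ha,
        C.g_lin_inner hθ C.mem, if_neg (Ne.symm h), if_pos rfl]
      ring
    rw [classInner_sub_right, C.kk_spec] at e
    rw [if_neg h, sub_zero]
    linear_combination e

theorem g_g_inner {θ θ' : IrrCharacter ↥(H.subgroupOf T)} (hθ : C.NonLin θ) (hθ' : C.NonLin θ') :
    classInner (indFun T (C.g θ)) (indFun T (C.g θ')) = classInner (C.ind θ) (C.ind θ') +
      (deg (θ : ↥(H.subgroupOf T) → ℂ) : ℂ) * deg (θ' : ↥(H.subgroupOf T) → ℂ) := by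
  classical
  rw [C.iso (C.g_supp θ) (C.g_class θ') (C.g_supp θ'), g, g, classInner_sub_left, classInner_sub_right,
    classInner_sub_right, classInner_smul_left, classInner_smul_left, classInner_smul_right,
    classInner_smul_right, C.ind_lin_inner hθ C.mem, C.lin_orth C.mem C.mem, if_pos rfl,
    show classInner C.ζ (C.ind θ') = 0 by rw [← classInner_symm, C.ind_lin_inner hθ' C.mem, map_zero],
    Complex.conj_natCast]
  ring

theorem g_norm {θ : IrrCharacter ↥(H.subgroupOf T)} (hθ : C.NonLin θ) :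
    ∃ s : ℕ, s ≤ Nat.card Z ∧ classInner (C.ind θ) (C.ind θ) = (s : ℂ) ∧
      classInner (indFun T (C.g θ)) (indFun T (C.g θ)) =
        ((s + deg (θ : ↥(H.subgroupOf T) → ℂ) ^ 2 : ℕ) : ℂ) := by
  obtain ⟨s, hs, hle⟩ := indFun_norm_le (H.subgroupOf T) θ
  refine ⟨s, C.tail.index_H ▸ hle, hs, ?_⟩
  rw [C.g_g_inner hθ hθ, hs]
  push_cast
  ring

theorem bessel_fam {X : G → ℂ} (hX : IsGeneralizedCharacter G X) (y : (T → ℂ) → ℤ)
    (hy : ∀ a ∈ linFam T H, classInner X (C.φ a) = y a) {N : ℤ} (hN : classInner X X = N) :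
    ∑ a ∈ linFam T H, y a ^ 2 ≤ N := by
  have h := bessel (linFam T H) C.φ C.fam.signed C.fam.orth hX y hy
  rw [hN, Complex.intCast_re] at h
  exact_mod_cast h

/-- Moved characters of one degree have the same coefficient. -/
theorem kk_eq {θ θ' : IrrCharacter ↥(H.subgroupOf T)} (hθ : C.NonLin θ) (hθ' : C.NonLin θ')
    (hm : IsIrrCharacter T (C.ind θ)) (hm' : IsIrrCharacter T (C.ind θ'))
    (hd : deg (θ : ↥(H.subgroupOf T) → ℂ) = deg (θ' : ↥(H.subgroupOf T) → ℂ)) : C.kk θ = C.kk θ' := by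
  classical
  by_cases he : C.ind θ = C.ind θ'
  · simp only [kk, g, he, hd]
  set α := C.ind θ - C.ind θ' with hα
  have hg : α = C.g θ - C.g θ' := by rw [hα, g, g, hd]; abel
  set X := indFun T α with hX
  set Δ := C.kk θ - C.kk θ' with hΔ
  have hy : ∀ a ∈ linFam T H, classInner X (C.φ a) = (Δ : ℂ) := fun a ha => by
    rw [hX, hg, indFun_sub, classInner_sub_left, C.g_inner hθ ha, C.g_inner hθ' ha, hΔ, hd]
    push_cast
    ring
  have hXg : IsGeneralizedCharacter G X := C.tau_gen (isGenChar_sub (C.ind_gen θ) (C.ind_gen θ'))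
  have hN : classInner X X = ((2 : ℤ) : ℂ) := by
    rw [hX, hg, indFun_sub, classInner_sub_left, classInner_sub_right, classInner_sub_right, C.g_g_inner hθ hθ,
      C.g_g_inner hθ hθ', C.g_g_inner hθ' hθ, C.g_g_inner hθ' hθ', irr_self hm, irr_self hm',
      irr_orth hm hm', irr_orth hm' hm, if_neg he, if_neg (Ne.symm he), hd]
    push_cast
    ring
  have hb := C.bessel_fam hXg (fun _ => Δ) hy hN
  rw [Finset.sum_const, nsmul_eq_mul] at hb
  have h2 : (2 : ℤ) ≤ ((linFam T H).card : ℤ) := by exact_mod_cast C.two_le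
  by_contra hne
  have hne' : Δ ≠ 0 := sub_ne_zero.2 hne
  have hsq : 1 ≤ Δ ^ 2 := by nlinarith [Int.one_le_abs hne', sq_abs Δ]
  have hn : ((linFam T H).card : ℤ) = 2 := by nlinarith
  have hΔ2 : Δ ^ 2 = 1 := by nlinarith
  obtain ⟨-, -, h3⟩ := signed_split (linFam T H) C.φ C.fam.signed C.fam.orth hXg (fun _ => Δ) hy
  rw [hN, Finset.sum_const, nsmul_eq_mul] at h3
  have hR : classInner (X - ∑ a ∈ linFam T H, (Δ : ℂ) • C.φ a) (X - ∑ a ∈ linFam T H, (Δ : ℂ) • C.φ a) = 0 := by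
    rw [h3, show ((linFam T H).card : ℂ) = 2 by exact_mod_cast hn,
      show ((Δ : ℂ)) ^ 2 = 1 by exact_mod_cast hΔ2]
    norm_num
  have hXeq := sub_eq_zero.1 (classInner_self_eq_zero hR)
  have hfam : linFam T H = {C.ζ, conjFun C.ζ} := by
    refine (Finset.eq_of_subset_of_card_le (fun a ha => ?_) ?_).symm
    · rcases Finset.mem_insert.1 ha with rfl | ha
      · exact C.mem
      · rw [Finset.mem_singleton.1 ha]; exact C.conj_mem
    · rw [Finset.card_pair C.conj_ne.symm]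
      omega
  have h1 : X 1 = 0 := by
    rw [hX, indFun_one, hg, Pi.sub_apply, C.g_at_one, C.g_at_one, sub_zero, mul_zero]
  rw [hXeq, hfam, Finset.sum_pair C.conj_ne.symm, Pi.add_apply, Pi.smul_apply, Pi.smul_apply] at h1
  obtain ⟨z, hz⟩ := gen_one_int (C.phi_gen C.mem)
  have hz' : C.φ (conjFun C.ζ) 1 = z := by rw [← C.fam.conj_eq _ C.mem, cj_apply, hz, map_intCast]
  rw [hz, hz', smul_eq_mul] at h1
  have h4 : Δ * z + Δ * z = 0 := by exact_mod_cast h1
  have hz0 : z = 0 := (mul_eq_zero.1 (by linarith : Δ * z = 0)).resolve_left hne'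
  exact (C.fam.signed _ C.mem).one_ne_zero (by rw [hz, hz0, Int.cast_zero])

/-! ### The function `F` -/

theorem F_gen (i : ↥K →* ℂˣ) : IsGeneralizedCharacter T (C.F i) :=
  gen_add (isGenChar_sub gen_one (isGenChar_int_smul (gen_of_char (irr_isCharacter (C.M.irr i 1))) _))
    (isGenChar_int_smul (gen_add (gen_of_char (irr_isCharacter (linFam_irr C.M C.E C.tail C.mem)))
      (gen_of_char (irr_isCharacter (linFam_irr C.M C.E C.tail C.conj_mem)))) _)

theorem F_class (i : ↥K →* ℂˣ) : IsClassFunction T (C.F i) := isClassFunction_genChar (C.F_gen i)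

theorem F_hat {i : ↥K →* ℂˣ} (hi : i ≠ 1) (k : K) (z : Z) (t : T) (hz : z ≠ 1) (ht : (t : G) = k * z) :
    C.F i t = 1 - (i k : ℂ) := by
  have htH : (t : G) ∉ H := by rw [ht]; exact C.tail.hat_notMem k.2 z.2 fun e => hz (Subtype.ext e)
  simp only [F, Pi.add_apply, Pi.sub_apply, Pi.smul_apply, smul_eq_mul, C.M.val i 1 k z t hz ht, C.sgn_eq hi,
    linFam_vanish C.M C.E C.tail C.mem htH, linFam_vanish C.M C.E C.tail C.conj_mem htH, MonoidHom.one_apply,
    Units.val_one, mul_one, add_zero, mul_zero]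
  rw [← mul_assoc, C.e_sq, one_mul]

theorem F_supp {i : ↥K →* ℂˣ} (hi : i ≠ 1) : Supp T (C.F i) := by
  refine C.tail.supported (C.F_class i) ?_ fun z hz hz1 => ?_
  · have hd1 : C.M.mu i 1 1 = (C.d : ℂ) := by rw [← C.M.deg_irr C.tail, C.deg_mu hi]
    simp only [F, Pi.add_apply, Pi.sub_apply, Pi.smul_apply, smul_eq_mul, hd1,
      linFam_deg C.M C.E C.tail C.mem, linFam_deg C.M C.E C.tail C.conj_mem]
    rw [C.ed_congC]
    ring
  · rw [C.F_hat hi 1 ⟨z, hz⟩ z (fun e => hz1 (Subtype.ext (congrArg Subtype.val e :))) (one_mul _).symm,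
      map_one, Units.val_one, sub_self]

theorem one_mu {i : ↥K →* ℂˣ} (hi : i ≠ 1) (j : ↥Z →* ℂˣ) : classInner (fun _ => (1 : ℂ)) (C.M.mu i j) = 0 := by
  classical
  rw [← C.M.mu_one_one C.tail, C.M.mu_orth C.tail, if_neg fun h => hi h.1.symm]

theorem one_lin {a : T → ℂ} (ha : a ∈ linFam T H) : classInner (fun _ => (1 : ℂ)) a = 0 := by
  rw [← C.M.mu_one_one C.tail, C.mu_lin ha]

theorem F_F {i i' : ↥K →* ℂˣ} (hi : i ≠ 1) (hi' : i' ≠ 1) [Decidable (i = i')] :
    classInner (indFun T (C.F i)) (indFun T (C.F i')) =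
      1 + (if i = i' then 1 else 0) + 2 * (C.cF : ℂ) ^ 2 := by
  classical
  rw [C.iso (C.F_supp hi) (C.F_class i') (C.F_supp hi')]
  simp only [F, classInner_add_left, classInner_sub_left, classInner_smul_left, classInner_add_right,
    classInner_sub_right, classInner_smul_right, map_intCast, C.one_mu hi', C.one_lin C.mem,
    C.one_lin C.conj_mem, C.mu_lin C.mem, C.mu_lin C.conj_mem, C.lin_mu C.mem, C.lin_mu C.conj_mem,
    C.lin_orth C.mem C.mem, C.lin_orth C.mem C.conj_mem, C.lin_orth C.conj_mem C.mem,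
    C.lin_orth C.conj_mem C.conj_mem, C.M.mu_orth C.tail, irr_self (isIrrCharacter_one (G := T)),
    if_neg C.conj_ne, if_neg C.conj_ne.symm, if_pos,
    show classInner (C.M.mu i 1) (fun _ => (1 : ℂ)) = 0 by rw [← classInner_symm, C.one_mu hi, map_zero],
    show classInner C.ζ (fun _ => (1 : ℂ)) = 0 by rw [← classInner_symm, C.one_lin C.mem, map_zero],
    show classInner (conjFun C.ζ) (fun _ => (1 : ℂ)) = 0 by
      rw [← classInner_symm, C.one_lin C.conj_mem, map_zero], and_true]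
  split_ifs
  · linear_combination C.e_sq
  · ring

theorem F_one {i : ↥K →* ℂˣ} (hi : i ≠ 1) : classInner (indFun T (C.F i)) (fun _ => 1) = 1 := by
  rw [IsTI.inner_one C.tail.isTI, ← classInner_symm, F, classInner_add_right, classInner_sub_right,
    classInner_smul_right, classInner_smul_right, classInner_add_right, C.one_mu hi, C.one_lin C.mem,
    C.one_lin C.conj_mem, irr_self (isIrrCharacter_one (G := T))]
  simp

/-- `τF_i + η_{i1}` does not depend on `i`. -/
theorem F_shift {i i' : ↥K →* ℂˣ} (hi : i ≠ 1) (hi' : i' ≠ 1) :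
    indFun T (C.F i) + C.E.eta i 1 = indFun T (C.F i') + C.E.eta i' 1 := by
  classical
  by_cases he : i = i'
  · rw [he]
  set X := indFun T (C.F i) - indFun T (C.F i') with hX
  have hXg : IsGeneralizedCharacter G X := isGenChar_sub (C.tau_gen (C.F_gen i)) (C.tau_gen (C.F_gen i'))
  have hn : classInner X X = 2 := by
    rw [hX, classInner_sub_left, classInner_sub_right, classInner_sub_right, C.F_F hi hi, C.F_F hi hi',
      C.F_F hi' hi, C.F_F hi' hi', if_pos rfl, if_neg he, if_neg (Ne.symm he), if_pos rfl]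
    ring
  have h5 : 5 ≤ Nat.card Z ∨ 5 ≤ Nat.card K := by
    by_contra hc
    have hZ := C.tail.three_le_card Z C.tail.Z_ne
    have hK := C.tail.three_le_card K C.tail.K_ne
    have hoddZ := C.tail.odd.of_dvd_nat (Subgroup.card_subgroup_dvd_card Z)
    have hoddK := C.tail.odd.of_dvd_nat (Subgroup.card_subgroup_dvd_card K)
    have h3 : Nat.card Z = 3 := by obtain ⟨j, hj⟩ := hoddZ; omega
    have h3' : Nat.card K = 3 := by obtain ⟨j, hj⟩ := hoddK; omega
    have := C.tail.coprime.coprime_dvd_right (Subgroup.card_dvd_of_le C.tail.K_le_H)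
    rw [h3, h3'] at this
    norm_num at this
  have h := C.E.swap.eq_sub_of_norm_two (C.tail.three_le_card Z C.tail.Z_ne) (C.tail.three_le_card K C.tail.K_ne)
    h5 hXg hn (by rw [hX, classInner_sub_left, C.F_one hi, C.F_one hi', sub_self]) (j := i') (j' := i) hi' hi
    (Ne.symm he) fun a b ha hb => by
      have hk1 : (b : G) ≠ 1 := fun h => hb (Subtype.ext h)
      have hmem : (b : G) * a ∈ sigmaSet T := hat_sigma C.M C.E C.tail b.2 a.2 hk1
      rw [← C.tail.comm b.2 a.2, hX, Pi.sub_apply]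
      rw [show (b : G) * a = ((Mu.hatT C.tail b a : T) : G) from rfl, C.tail.isTI.ind_apply (C.F_class i) (C.F_supp hi) (a := Mu.hatT C.tail b a) hmem,
        C.tail.isTI.ind_apply (C.F_class i') (C.F_supp hi') (a := Mu.hatT C.tail b a) hmem,
        C.F_hat hi b a _ ha rfl, C.F_hat hi' b a _ ha rfl]
      ring
  funext x
  have hx : indFun T (C.F i) x - indFun T (C.F i') x = C.E.eta i' 1 x - C.E.eta i 1 x := congrFun h x
  simp only [Pi.add_apply]
  linear_combination hx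

theorem k_spec {i : ↥K →* ℂˣ} (hi : i ≠ 1) :
    classInner (indFun T (C.F i)) (C.φ C.ζ) = (C.k : ℂ) + C.cF := by
  have h := congrArg (fun X => classInner X (C.φ C.ζ)) (C.F_shift hi C.i₀_ne)
  simp only [classInner_add_left] at h
  rw [show classInner (C.E.eta i 1) (C.φ C.ζ) = 0 by rw [← classInner_symm, C.fam.eta _ C.mem, map_zero],
    show classInner (C.E.eta C.i₀ 1) (C.φ C.ζ) = 0 by rw [← classInner_symm, C.fam.eta _ C.mem, map_zero],
    add_zero, add_zero] at h
  rw [h, icoef_spec (C.tau_gen (C.F_gen C.i₀)) (C.phi_gen C.mem), k]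
  push_cast
  ring

open Classical in
theorem F_inner {i : ↥K →* ℂˣ} (hi : i ≠ 1) {a : T → ℂ} (ha : a ∈ linFam T H) :
    classInner (indFun T (C.F i)) (C.φ a) =
      ((C.k + if a = C.ζ ∨ a = conjFun C.ζ then C.cF else 0 : ℤ) : ℂ) := by
  have hval : ∀ b ∈ linFam T H, classInner (C.F i) b =
      if b = C.ζ ∨ b = conjFun C.ζ then (C.cF : ℂ) else 0 := fun b hb => by
    simp only [F, classInner_add_left, classInner_sub_left, classInner_smul_left, C.one_lin hb, C.mu_lin hb,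
      C.lin_orth C.mem hb, C.lin_orth C.conj_mem hb]
    by_cases h1 : b = C.ζ
    · simp [h1, C.conj_ne]
    · by_cases h2 : b = conjFun C.ζ
      · simp [h2, C.conj_ne.symm]
      · simp [Ne.symm h1, Ne.symm h2, h1, h2]
  have e : classInner (indFun T (C.F i)) (C.φ a - C.φ C.ζ) = classInner (C.F i) a - classInner (C.F i) C.ζ := by
    rw [← C.fam.diff a ha C.ζ C.mem, C.iso (C.F_supp hi)
      (classFun_sub (isClassFunction_character (irr_isCharacter (linFam_irr C.M C.E C.tail ha)))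
        (isClassFunction_character (irr_isCharacter (linFam_irr C.M C.E C.tail C.mem))))
      (sub_supp C.M C.E C.tail ha C.mem), classInner_sub_right]
  rw [classInner_sub_right, C.k_spec hi, hval a ha, hval _ C.mem, if_pos (Or.inl rfl)] at e
  by_cases h : a = C.ζ ∨ a = conjFun C.ζ
  · rw [if_pos h] at e ⊢; push_cast; linear_combination e
  · rw [if_neg h] at e ⊢; push_cast; linear_combination e

/-- `w k = c - ε k_i`. -/
theorem wk_eq {i : ↥K →* ℂˣ} (hi : i ≠ 1) :
    (Nat.card Z : ℤ) * C.k = C.c - C.e * C.kk (C.M.theta C.tail i) := by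
  classical
  set Gf : (↥Z →* ℂˣ) → T → ℂ := fun j => C.M.mu 1 j - (C.e : ℂ) • C.M.mu i j +
    (C.cF : ℂ) • (C.ζ + conjFun C.ζ) with hGf
  have h1 : Gf 1 = C.F i := by simp only [hGf, F, C.M.mu_one_one C.tail]
  have hzero : ∀ j, ∀ t : T, (Gf j - C.F i) t ≠ 0 → (t : G) ∈ hatG K Z := by
    intro j t ht
    rw [← h1] at ht
    simp only [hGf, Pi.sub_apply, Pi.add_apply, Pi.smul_apply, smul_eq_mul] at ht
    by_cases htH : (t : G) ∈ H
    · refine absurd ?_ ht
      rw [C.M.res_eq C.tail 1 j htH, C.M.res_eq C.tail i j htH]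
      ring
    obtain ⟨s, hs, k, hk, z, hz, hz1, e⟩ := C.tail.exists_hat t.2 htH
    refine mem_hatG C.M C.E C.tail hk hz (fun hk1 => ht ?_) hz1 e
    have ht' : t = (⟨s, hs⟩ : T) * Mu.hatT C.tail ⟨k, hk⟩ ⟨z, hz⟩ * (⟨s, hs⟩ : T)⁻¹ := Subtype.ext e
    have hz1' : (⟨z, hz⟩ : Z) ≠ 1 := fun h => hz1 (congrArg Subtype.val h)
    have hkk : (⟨k, hk⟩ : K) = 1 := Subtype.ext hk1
    simp only [ht', isClassFunction_character (irr_isCharacter (C.M.irr _ _)) _ _,
      C.M.val _ _ ⟨k, hk⟩ ⟨z, hz⟩ (Mu.hatT C.tail ⟨k, hk⟩ ⟨z, hz⟩) hz1' rfl]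
    simp only [hkk, map_one, MonoidHom.one_apply, Units.val_one,
      (C.M.mu_one C.tail (1 : ↥Z →* ℂˣ)).2, C.sgn_eq hi]
    push_cast
    linear_combination (1 - (j (⟨z, hz⟩ : Z) : ℂ)) * C.e_sq
  have heq : ∀ j, classInner (indFun T (Gf j)) (C.φ C.ζ) = (C.k : ℂ) + C.cF := by
    intro j
    have h0 : classInner (indFun T (Gf j - C.F i)) (C.φ C.ζ) = 0 := by
      rw [classInner, Finset.sum_eq_zero, mul_zero]
      intro x _
      by_cases hx : x ∈ hatG K Z
      · obtain ⟨y, a, ha, b, hb, ha1, hb1, rfl⟩ := hx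
        rw [isClassFunction_genChar (C.phi_gen C.mem),
          C.E.vanish _ (C.fam.signed _ C.mem) (C.fam.eta _ C.mem) a ha b hb ha1 hb1, map_zero, mul_zero]
      · rw [indFun, Finset.sum_eq_zero, mul_zero, zero_mul]
        intro y _
        by_cases hy : y⁻¹ * x * y ∈ T
        · rw [extendByZero_mem T _ hy]
          by_contra hc
          obtain ⟨s, a, ha, b, hb, ha1, hb1, e⟩ := hzero j _ hc
          exact hx ⟨y * s, a, ha, b, hb, ha1, hb1, by
            calc x = y * (y⁻¹ * x * y) * y⁻¹ := by group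
              _ = _ := by rw [show y⁻¹ * x * y = s * (a * b) * s⁻¹ from e]; group⟩
        · exact extendByZero_not_mem T _ hy
    rw [indFun_sub, classInner_sub_left, C.k_spec hi, sub_eq_zero] at h0
    exact h0
  have hsum : (∑ j, Gf j) = C.g C.one - (C.e : ℂ) • C.g (C.M.theta C.tail i) +
      ((Nat.card Z : ℂ) * C.cF) • (conjFun C.ζ - C.ζ) := by
    have hcard : ((Finset.univ : Finset (↥Z →* ℂˣ)).card : ℂ) = Nat.card Z := by
      rw [Finset.card_univ, C.E.card_right]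
    have e1 : C.ind C.one = ∑ j, C.M.mu 1 j := by rw [← C.theta_one_eq]; exact C.M.ind_theta C.tail 1
    have e2 : C.ind (C.M.theta C.tail i) = ∑ j, C.M.mu i j := C.M.ind_theta C.tail i
    funext t
    simp only [hGf, g, e1, e2, C.deg_one, C.deg_theta hi, Finset.sum_apply, Pi.add_apply, Pi.sub_apply,
      Pi.smul_apply, smul_eq_mul, Finset.sum_add_distrib, Finset.sum_sub_distrib, Finset.sum_const,
      nsmul_eq_mul, hcard, ← Finset.mul_sum, Nat.cast_one]
    linear_combination (-(C.ζ t)) * C.ed_congC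
  have h := congrArg (fun X => classInner (indFun T X) (C.φ C.ζ)) hsum
  simp only [indFun_sum, classInner_sum_left, heq, Finset.sum_const, Finset.card_univ, C.E.card_right,
    nsmul_eq_mul, indFun_add, indFun_sub, indFun_smul, classInner_add_left, classInner_sub_left,
    classInner_smul_left] at h
  rw [C.kk_spec, C.kk_spec, C.deg_one, C.deg_theta hi] at h
  have hz : classInner (indFun T (conjFun C.ζ)) (C.φ C.ζ) - classInner (indFun T C.ζ) (C.φ C.ζ) = -1 := by
    rw [← classInner_sub_left, ← indFun_sub, C.fam.diff _ C.conj_mem _ C.mem, classInner_sub_left,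
      C.fam.orth _ C.conj_mem _ C.mem C.conj_ne, (C.fam.signed _ C.mem).self]
    ring
  rw [hz] at h
  have : (((Nat.card Z : ℤ) * C.k : ℤ) : ℂ) = ((C.c - C.e * C.kk (C.M.theta C.tail i) : ℤ) : ℂ) := by
    simp only [c]
    push_cast at h ⊢
    linear_combination h + C.ed_congC
  exact_mod_cast this

theorem kk_theta_eq {i i' : ↥K →* ℂˣ} (hi : i ≠ 1) (hi' : i' ≠ 1) :
    C.kk (C.M.theta C.tail i) = C.kk (C.M.theta C.tail i') := by
  have h := (C.wk_eq hi).symm.trans (C.wk_eq hi')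
  rcases C.M.sgn_cases C.i₀ with he | he <;> simp only [e, he] at h <;> linarith

/-! ### The bound on invariant sets -/

/-- `Σ d²`. -/
noncomputable def wt (Y : Finset (IrrCharacter ↥(H.subgroupOf T))) : ℕ :=
  ∑ θ ∈ Y, deg (θ : ↥(H.subgroupOf T) → ℂ) ^ 2

/-- `Σ d k`. -/
noncomputable def tot (Y : Finset (IrrCharacter ↥(H.subgroupOf T))) : ℤ :=
  ∑ θ ∈ Y, (deg (θ : ↥(H.subgroupOf T) → ℂ) : ℤ) * C.kk θ

/-- `Σ d g`. -/
noncomputable def comb (Y : Finset (IrrCharacter ↥(H.subgroupOf T))) : G → ℂ :=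
  ∑ θ ∈ Y, (deg (θ : ↥(H.subgroupOf T) → ℂ) : ℂ) • indFun T (C.g θ)

variable {Y : Finset (IrrCharacter ↥(H.subgroupOf T))} (hYc : ∀ t : T, ∀ θ ∈ Y, conjT t θ ∈ Y)
  (hYn : ∀ θ ∈ Y, C.NonLin θ)

open Classical in
include hYn in
theorem comb_fam {a : T → ℂ} (ha : a ∈ linFam T H) :
    classInner (C.comb Y) (C.φ a) = ((C.tot Y - if a = C.ζ then (wt Y : ℤ) else 0 : ℤ) : ℂ) := by
  rw [comb, classInner_sum_left, Finset.sum_congr rfl fun θ hθ => by
    rw [classInner_smul_left, C.g_inner (hYn θ hθ) ha]]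
  simp only [tot, wt]
  by_cases h : a = C.ζ
  · simp only [if_pos h]; push_cast; rw [← Finset.sum_sub_distrib]
    exact Finset.sum_congr rfl fun θ _ => by ring
  · simp only [if_neg h]; push_cast; simp

open Classical in
include hYc hYn in
theorem g_comb {θ : IrrCharacter ↥(H.subgroupOf T)} (hθ : C.NonLin θ) :
    classInner (indFun T (C.g θ)) (C.comb Y) = (((if θ ∈ Y then (Nat.card Z : ℤ) else 0) + (wt Y : ℤ)) *
      deg (θ : ↥(H.subgroupOf T) → ℂ) : ℤ) := by
  rw [comb, classInner_sum_right, Finset.sum_congr rfl fun ξ hξ => by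
    rw [classInner_smul_right, Complex.conj_natCast, C.g_g_inner hθ (hYn ξ hξ), mul_add],
    Finset.sum_add_distrib, ind_sum_inner Y hYc θ, C.tail.index_H]
  simp only [wt]
  push_cast
  rw [show ∑ ξ ∈ Y, (deg (ξ : ↥(H.subgroupOf T) → ℂ) : ℂ) *
      ((deg (θ : ↥(H.subgroupOf T) → ℂ) : ℂ) * deg (ξ : ↥(H.subgroupOf T) → ℂ)) =
      (∑ ξ ∈ Y, (deg (ξ : ↥(H.subgroupOf T) → ℂ) : ℂ) ^ 2) * deg (θ : ↥(H.subgroupOf T) → ℂ) by
    rw [Finset.sum_mul]; exact Finset.sum_congr rfl fun _ _ => by ring]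
  split_ifs <;> ring

include hYc hYn in
theorem comb_norm : classInner (C.comb Y) (C.comb Y) =
    (((Nat.card Z : ℤ) * wt Y + (wt Y : ℤ) ^ 2 : ℤ) : ℂ) := by
  classical
  conv_lhs => arg 1; rw [comb]
  rw [classInner_sum_left, Finset.sum_congr rfl fun θ hθ => by
    rw [classInner_smul_left, C.g_comb hYc hYn (hYn θ hθ), if_pos hθ]]
  simp only [wt]
  push_cast
  rw [sq, Finset.mul_sum (a := (Nat.card Z : ℂ)), ← add_mul_sum_eq]
where
  add_mul_sum_eq {ι : Type u} {s : Finset ι} {f : ι → ℂ} {w N : ℂ} :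
      ∑ i ∈ s, f i * ((w + N) * f i) = ∑ i ∈ s, w * f i ^ 2 + N * ∑ i ∈ s, f i ^ 2 := by
    rw [Finset.mul_sum, ← Finset.sum_add_distrib]
    exact Finset.sum_congr rfl fun i _ => by ring

theorem comb_gen (Y : Finset (IrrCharacter ↥(H.subgroupOf T))) : IsGeneralizedCharacter G (C.comb Y) := by
  refine isGenChar_sum _ _ fun θ _ => ?_
  simpa using isGenChar_int_smul (C.tau_gen (C.g_gen θ)) (deg (θ : ↥(H.subgroupOf T) → ℂ) : ℤ)

include hYc hYn in
/-- `n X² - 2 N X ≤ w N`. -/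
theorem tot_bound : ((linFam T H).card : ℤ) * C.tot Y ^ 2 - 2 * (wt Y : ℤ) * C.tot Y ≤
    (Nat.card Z : ℤ) * wt Y := by
  classical
  have h := C.bessel_fam (C.comb_gen Y) _ (fun a ha => C.comb_fam hYn ha) (C.comb_norm hYc hYn)
  rw [sum_sq_single (linFam T H) C.mem] at h
  linarith

include hYc hYn in
/-- With `X = 0` every coefficient is small. -/
theorem kk_bound (hX : C.tot Y = 0) (hN : 0 < wt Y) {θ : IrrCharacter ↥(H.subgroupOf T)}
    (hθ : C.NonLin θ) : (wt Y : ℤ) * C.kk θ ^ 2 ≤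
      (Nat.card Z : ℤ) * ((Nat.card Z : ℤ) + 2 * deg (θ : ↥(H.subgroupOf T) → ℂ) * |C.kk θ|) := by
  classical
  obtain ⟨s, hsw, -, hn⟩ := C.g_norm hθ
  set dd := (deg (θ : ↥(H.subgroupOf T) → ℂ) : ℤ) with hdd
  set N := (wt Y : ℤ) with hN'
  set y : (T → ℂ) → ℤ := fun a => C.kk θ - if a = C.ζ then dd else 0 with hy
  set z : (T → ℂ) → ℤ := fun a => C.tot Y - if a = C.ζ then N else 0 with hz
  obtain ⟨-, hR0, hR⟩ := signed_split (linFam T H) C.φ C.fam.signed C.fam.orth (C.tau_gen (C.g_gen θ)) y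
    fun a ha => C.g_inner hθ ha
  obtain ⟨-, hF0, hF⟩ := signed_split (linFam T H) C.φ C.fam.signed C.fam.orth (C.comb_gen Y) z
    fun a ha => C.comb_fam hYn ha
  set R := indFun T (C.g θ) - ∑ a ∈ linFam T H, (y a : ℂ) • C.φ a with hRdef
  set F := C.comb Y - ∑ a ∈ linFam T H, (z a : ℂ) • C.φ a with hFdef
  have hF1 : classInner F F = (((Nat.card Z : ℤ) * N : ℤ) : ℂ) := by
    rw [hF, C.comb_norm hYc hYn, show ∑ a ∈ linFam T H, (z a : ℂ) ^ 2 = ((∑ a ∈ linFam T H, z a ^ 2 : ℤ) : ℂ) by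
      push_cast; rfl, hz, sum_sq_single (linFam T H) C.mem, hX, hN']
    push_cast
    ring
  have hR1 : classInner R R = (((s : ℤ) + dd ^ 2 - (((linFam T H).card : ℤ) * C.kk θ ^ 2 - 2 * C.kk θ * dd + dd ^ 2) : ℤ) : ℂ) := by
    rw [hR, hn, show ∑ a ∈ linFam T H, (y a : ℂ) ^ 2 = ((∑ a ∈ linFam T H, y a ^ 2 : ℤ) : ℂ) by
      push_cast; rfl, hy, sum_sq_single (linFam T H) C.mem, hdd]
    push_cast
    ring
  have hRF : classInner R F = ((((if θ ∈ Y then (Nat.card Z : ℤ) * dd else 0)) + N * C.kk θ : ℤ) : ℂ) := by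
    have e : classInner R F = classInner R (C.comb Y) := by
      rw [hFdef, classInner_sub_right, classInner_sum_right, Finset.sum_eq_zero, sub_zero]
      exact fun a ha => by rw [classInner_smul_right, hR0 a ha, mul_zero]
    rw [e, hRdef, classInner_sub_left, classInner_sum_left, C.g_comb hYc hYn hθ,
      Finset.sum_congr rfl (g := fun a => ((y a * (C.tot Y - if a = C.ζ then N else 0) : ℤ) : ℂ)) fun a ha => by
        rw [classInner_smul_left, ← classInner_symm, C.comb_fam hYn ha, map_intCast]; push_cast; rfl]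
    rw [← Int.cast_sum, Finset.sum_eq_single C.ζ (fun a _ ha => by rw [hX, if_neg ha, sub_zero, mul_zero])
      (fun h => absurd C.mem h), hy, hX, if_pos rfl]
    simp only [if_pos rfl, hdd, hN']
    split_ifs <;> push_cast <;> ring
  have hcs := classInner_sq_le R F
  rw [hR1, hF1, hRF, Complex.intCast_re, Complex.intCast_re, Complex.intCast_re] at hcs
  have hcs' : ((if θ ∈ Y then (Nat.card Z : ℤ) * dd else 0) + N * C.kk θ) ^ 2 ≤
      ((s : ℤ) + dd ^ 2 - (((linFam T H).card : ℤ) * C.kk θ ^ 2 - 2 * C.kk θ * dd + dd ^ 2)) *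
        ((Nat.card Z : ℤ) * N) := by exact_mod_cast hcs
  have hsw' : (s : ℤ) ≤ Nat.card Z := by exact_mod_cast hsw
  have hNpos : 0 < N := by rw [hN']; exact_mod_cast hN
  have hw0 : (0 : ℤ) ≤ Nat.card Z := by positivity
  have hdd0 : 0 ≤ dd := by rw [hdd]; positivity
  have habs : C.kk θ ≤ |C.kk θ| := le_abs_self _
  refine le_of_mul_le_mul_left ?_ hNpos
  split_ifs at hcs' <;>
    nlinarith [mul_nonneg (mul_nonneg hw0 hNpos.le) (mul_nonneg (Nat.cast_nonneg (linFam T H).card : (0 : ℤ) ≤ _) (sq_nonneg (C.kk θ))),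
      mul_le_mul_of_nonneg_left hsw' (mul_nonneg hw0 hNpos.le),
      mul_le_mul_of_nonneg_left habs (mul_nonneg (mul_nonneg hw0 hNpos.le) hdd0),
      mul_nonneg (mul_nonneg hw0 hNpos.le) (mul_nonneg hdd0 (abs_nonneg (C.kk θ))),
      sq_nonneg ((Nat.card Z : ℤ) * dd)]

end TData

end Cfsg.Agent.OddFT
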