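import Cfsg.Agent.Lib.OddChar.FT.TailT
import Cfsg.Agent.Lib.OddChar.FT.GridOrth
import Cfsg.Agent.Lib.OddChar.InducedFamily

/-!
The characters of `H` under `T = H ⋊ Z`: the invariant ones are the restrictions of the characters on the
middle, all others induce irreducibly.
-/

set_option autoImplicit false
set_option linter.unusedSectionVars false
set_option linter.unusedVariables false
set_option linter.style.haveILetI false

open Cfsg Cfsg.Agent.Char Cfsg.Agent.OddChar
open scoped ComplexConjugate commutatorElement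

namespace Cfsg.Agent.OddFT

universe u

variable {G : Type u} [Group G] [Fintype G] {T Z K H : Subgroup G} [Fintype T]
  [Fintype ↥(H.subgroupOf T)] [(H.subgroupOf T).Normal]

/-- The action of `T` on the characters of `H`. -/
noncomputable abbrev conjT (t : T) (θ : IrrCharacter ↥(H.subgroupOf T)) : IrrCharacter ↥(H.subgroupOf T) :=
  irrComp (MulAut.conjNormal t) θ

theorem deg_conjT (t : T) (θ : IrrCharacter ↥(H.subgroupOf T)) :
    deg (conjT t θ : ↥(H.subgroupOf T) → ℂ) = deg (θ : ↥(H.subgroupOf T) → ℂ) := by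
  simp only [deg, irrComp_apply, map_one]

theorem conjT_mul (s t : T) (θ : IrrCharacter ↥(H.subgroupOf T)) :
    conjT (s * t) θ = conjT t (conjT s θ) :=
  Subtype.ext (funext fun x => by simp [MulAut.mul_apply])

theorem conjT_one (θ : IrrCharacter ↥(H.subgroupOf T)) : conjT (1 : T) θ = θ :=
  Subtype.ext (funext fun x => by simp)

theorem conjT_inv (t : T) (θ : IrrCharacter ↥(H.subgroupOf T)) : conjT t⁻¹ (conjT t θ) = θ := by
  rw [← conjT_mul, mul_inv_cancel, conjT_one]

theorem ind_conjT (t : T) (θ : IrrCharacter ↥(H.subgroupOf T)) :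
    indFun (H.subgroupOf T) (conjT t θ : ↥(H.subgroupOf T) → ℂ) =
      indFun (H.subgroupOf T) (θ : ↥(H.subgroupOf T) → ℂ) := by
  funext x
  simp only [indFun]
  refine congrArg _ (Fintype.sum_equiv (Equiv.mulRight t⁻¹) _ _ fun y => ?_)
  rw [Equiv.coe_mulRight]
  have hn : (H.subgroupOf T).Normal := inferInstance
  by_cases h : y⁻¹ * x * y ∈ H.subgroupOf T
  · have h' : (y * t⁻¹)⁻¹ * x * (y * t⁻¹) ∈ H.subgroupOf T := by
      rw [show (y * t⁻¹)⁻¹ * x * (y * t⁻¹) = t * (y⁻¹ * x * y) * t⁻¹ by group]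
      exact hn.conj_mem _ h t
    rw [extendByZero_mem _ _ h, extendByZero_mem _ _ h', irrComp_apply]
    refine congrArg (θ : ↥(H.subgroupOf T) → ℂ) (Subtype.ext ?_)
    simp only [MulAut.conjNormal_apply]
    group
  · have h' : (y * t⁻¹)⁻¹ * x * (y * t⁻¹) ∉ H.subgroupOf T := fun hc => h (by
      rw [show y⁻¹ * x * y = t⁻¹ * ((y * t⁻¹)⁻¹ * x * (y * t⁻¹)) * t⁻¹⁻¹ by group]
      exact hn.conj_mem _ hc t⁻¹)
    rw [extendByZero_not_mem _ _ h, extendByZero_not_mem _ _ h']

open Classical in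
/-- The inner product with a sum over an invariant set weighted by degrees. -/
theorem ind_sum_inner (Y : Finset (IrrCharacter ↥(H.subgroupOf T)))
    (hY : ∀ t : T, ∀ θ ∈ Y, conjT t θ ∈ Y) (θ : IrrCharacter ↥(H.subgroupOf T)) :
    ∑ ξ ∈ Y, (deg (ξ : ↥(H.subgroupOf T) → ℂ) : ℂ) *
        classInner (indFun (H.subgroupOf T) (θ : ↥(H.subgroupOf T) → ℂ))
          (indFun (H.subgroupOf T) (ξ : ↥(H.subgroupOf T) → ℂ)) =
      if θ ∈ Y then ((H.subgroupOf T).index : ℂ) * deg (θ : ↥(H.subgroupOf T) → ℂ) else 0 := by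
  simp only [indFun_inner, Finset.card_filter, Nat.cast_sum, Finset.mul_sum]
  rw [Finset.sum_comm]
  have hin : ∀ g : T, ∑ ξ ∈ Y, (deg (ξ : ↥(H.subgroupOf T) → ℂ) : ℂ) *
      ((Nat.card ↥(H.subgroupOf T) : ℂ)⁻¹ * ((if conjT g ξ = θ then 1 else 0 : ℕ) : ℂ)) =
      if θ ∈ Y then (Nat.card ↥(H.subgroupOf T) : ℂ)⁻¹ * deg (θ : ↥(H.subgroupOf T) → ℂ) else 0 := by
    intro g
    have hiff : ∀ ξ, conjT g ξ = θ ↔ ξ = conjT g⁻¹ θ := fun ξ => by
      constructor
      · rintro rfl; exact (conjT_inv g ξ).symm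
      · rintro rfl
        simpa using conjT_inv g⁻¹ θ
    simp only [hiff, Nat.cast_ite, Nat.cast_one, Nat.cast_zero, mul_ite, mul_one, mul_zero]
    rw [Finset.sum_ite_eq', deg_conjT]
    refine if_congr ⟨fun h => ?_, fun h => hY _ _ h⟩ (mul_comm _ _) rfl
    simpa using (by simpa using conjT_inv g⁻¹ θ : conjT g (conjT g⁻¹ θ) = θ) ▸ hY g _ h
  rw [Finset.sum_congr rfl fun g _ => hin g, Finset.sum_const, Finset.card_univ,
    ← Nat.card_eq_fintype_card]
  split_ifs
  · rw [← (H.subgroupOf T).index_mul_card, nsmul_eq_mul, Nat.cast_mul, mul_assoc, ← mul_assoc (Nat.card _ : ℂ),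
      mul_inv_cancel₀ (Nat.cast_ne_zero.2 Nat.card_pos.ne'), one_mul]
  · rw [smul_zero]

namespace Mu

variable (M : Mu T Z K) (d : Tail T Z K H)
include d

open Classical in
theorem sum_lin (t : T) : ∑ j : ↥Z →* ℂˣ, (lin d j t : ℂ) = if (t : G) ∈ H then (Nat.card Z : ℂ) else 0 := by
  classical
  haveI := d.decomp.cyclic
  have hcomm : ∀ a b : Z, a * b = b * a := fun a b => (IsCyclic.commGroup (α := Z)).mul_comm a b
  have hclass : ∀ j : ↥Z →* ℂˣ, ∀ s x : T, lin d j (s * x * s⁻¹) = lin d j x := fun j s x => by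
    rw [map_mul, map_mul, map_inv, mul_comm (lin d j s), mul_assoc, mul_inv_cancel, mul_one]
  split_ifs with ht
  · rw [Finset.sum_congr rfl (g := fun j => (j 1 : ℂ)) fun j _ => by rw [lin_H d j ht, map_one],
      sum_hom_apply hcomm, if_pos rfl]
  · obtain ⟨s, hs, k, hk, z, hz, hz1, e⟩ := d.exists_hat t.2 ht
    have he : t = (⟨s, hs⟩ : T) * hatT d ⟨k, hk⟩ ⟨z, hz⟩ * (⟨s, hs⟩ : T)⁻¹ := Subtype.ext e
    rw [Finset.sum_congr rfl (g := fun j => (j ⟨z, hz⟩ : ℂ)) fun j _ => by rw [he, hclass, lin_hat],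
      sum_hom_apply hcomm, if_neg fun h => hz1 (congrArg Subtype.val h)]

theorem ind_res (i : ↥K →* ℂˣ) :
    indFun (H.subgroupOf T) (fun h => M.mu i 1 h) = ∑ j : ↥Z →* ℂˣ, M.mu i j := by
  funext t
  rw [Finset.sum_apply, Finset.sum_congr rfl fun j _ => M.mu_eq d i j t, ← Finset.sum_mul, sum_lin d]
  split_ifs with ht
  · rw [show indFun (H.subgroupOf T) (fun h => M.mu i 1 h) t = _ from
      indFun_invariant (H.subgroupOf T) _ (fun g n => by
        simp only [MulAut.conjNormal_apply]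
        exact isClassFunction_character (irr_isCharacter (M.irr i 1)) _ _)
        (⟨t, ht⟩ : ↥(H.subgroupOf T)), d.index_H]
  · rw [indFun_normal_not_mem (H.subgroupOf T) _ ht, zero_mul]

theorem mu_orth (i i' : ↥K →* ℂˣ) (j j' : ↥Z →* ℂˣ) [Decidable (i = i' ∧ j = j')] :
    classInner (M.mu i j) (M.mu i' j') = if i = i' ∧ j = j' then 1 else 0 := by
  rw [irr_orth (M.irr i j) (M.irr i' j')]
  split_ifs with h1 h2 h2
  · rfl
  · exact absurd (M.inj d h1) h2
  · exact absurd (by rw [h2.1, h2.2]) h1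
  · rfl

theorem sum_mu_inner (i i' : ↥K →* ℂˣ) (j' : ↥Z →* ℂˣ) [Decidable (i = i')] :
    classInner (∑ j : ↥Z →* ℂˣ, M.mu i j) (M.mu i' j') = if i = i' then 1 else 0 := by
  classical
  rw [classInner_sum_left, Finset.sum_congr rfl fun j _ => M.mu_orth d i i' j j']
  by_cases h : i = i' <;> simp [h]

theorem res_isIrr (i : ↥K →* ℂˣ) : IsIrrCharacter ↥(H.subgroupOf T) (fun h => M.mu i 1 h) := by
  classical
  have hc : IsCharacter ↥(H.subgroupOf T) (fun h => M.mu i 1 h) :=
    isCharacter_comp (H.subgroupOf T).subtype (irr_isCharacter (M.irr i 1))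
  refine isIrr_of_norm_one hc ?_
  rw [← frobenius (H.subgroupOf T) _ (isClassFunction_character (irr_isCharacter (M.irr i 1))),
    M.ind_res d, M.sum_mu_inner d, if_pos rfl]

/-- The invariant characters of `H`. -/
noncomputable def theta (M : Mu T Z K) (d : Tail T Z K H) (i : ↥K →* ℂˣ) : IrrCharacter ↥(H.subgroupOf T) :=
  ⟨fun h => M.mu i 1 h, M.res_isIrr d i⟩

theorem theta_apply (i : ↥K →* ℂˣ) (h : ↥(H.subgroupOf T)) :
    (M.theta d i : ↥(H.subgroupOf T) → ℂ) h = M.mu i 1 h := rfl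

theorem deg_theta (i : ↥K →* ℂˣ) : deg (M.theta d i : ↥(H.subgroupOf T) → ℂ) = deg (M.mu i 1) := rfl

theorem theta_one : (M.theta d 1 : ↥(H.subgroupOf T) → ℂ) = fun _ => 1 := by
  funext h
  rw [theta_apply, M.mu_one_one d]

theorem ind_theta (i : ↥K →* ℂˣ) :
    indFun (H.subgroupOf T) (M.theta d i : ↥(H.subgroupOf T) → ℂ) = ∑ j : ↥Z →* ℂˣ, M.mu i j :=
  M.ind_res d i

theorem theta_inj : Function.Injective (M.theta d) := fun i i' h => by
  classical
  have h1 := M.sum_mu_inner d i i' 1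
  rw [← M.ind_theta d, h, M.ind_theta d, M.sum_mu_inner d, if_pos rfl] at h1
  by_contra hne
  rw [if_neg hne] at h1
  exact one_ne_zero h1

theorem conjT_theta (t : T) (i : ↥K →* ℂˣ) : conjT t (M.theta d i) = M.theta d i :=
  Subtype.ext (funext fun h => by
    simp only [irrComp_apply, theta_apply, MulAut.conjNormal_apply]
    exact isClassFunction_character (irr_isCharacter (M.irr i 1)) _ _)

/-- Every character of `H` is invariant or induces irreducibly. -/
theorem cases (E : Grid K Z) (θ : IrrCharacter ↥(H.subgroupOf T)) :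
    IsIrrCharacter T (indFun (H.subgroupOf T) (θ : ↥(H.subgroupOf T) → ℂ)) ∨ ∃ i, θ = M.theta d i := by
  classical
  set W₁ := Z.subgroupOf T
  set P : IrrCharacter ↥(H.subgroupOf T) → Prop := fun θ => ∀ x ∈ W₁,
    (fun k : ↥(H.subgroupOf T) => (θ : ↥(H.subgroupOf T) → ℂ) ⟨x * k * x⁻¹,
      (inferInstance : (H.subgroupOf T).Normal).conj_mem (k : T) k.2 x⟩) = θ with hP
  by_cases hθ : P θ
  · right
    let f : (↥K →* ℂˣ) → {θ : IrrCharacter ↥(H.subgroupOf T) // P θ} := fun i => ⟨M.theta d i, fun x _ =>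
      funext fun k => isClassFunction_character (irr_isCharacter (M.irr i 1)) _ _⟩
    have hb : Function.Bijective f := (Nat.bijective_iff_injective_and_card f).2
      ⟨fun a b e => M.theta_inj d (congrArg Subtype.val e), by
        rw [Nat.card_eq_fintype_card (α := ↥K →* ℂˣ), E.card_left, typeP_card_invariant d.ctx d.K_cyclic,
          Solv.card_subgroupOf d.K_le]⟩
    obtain ⟨i, hi⟩ := hb.2 ⟨θ, hθ⟩
    exact ⟨i, (congrArg Subtype.val hi).symm⟩
  · left
    simp only [hP] at hθ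
    push Not at hθ
    exact typeP_irr_indFun d.ctx d.K_cyclic d.cent_sub θ hθ

theorem deg_irr (i : ↥K →* ℂˣ) : (deg (M.mu i 1) : ℂ) = M.mu i 1 1 :=
  (char_one_eq_deg (irr_isCharacter (M.irr i 1))).symm

/-- A nontrivial invariant character is not linear. -/
theorem one_lt_deg {i : ↥K →* ℂˣ} (hi : i ≠ 1) : 1 < deg (M.mu i 1) := by
  by_contra hc
  have h1 : deg (M.mu i 1) = 1 := le_antisymm (not_lt.1 hc) (deg_pos (M.irr i 1))
  obtain ⟨l, hl⟩ := exists_hom_of_degree_one (irr_isCharacter (M.irr i 1)) (by rw [← M.deg_irr d, h1, Nat.cast_one])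
  obtain ⟨z, hz, -⟩ := exists_z d
  refine hi (MonoidHom.ext fun k => Units.ext ?_)
  have hk : l ⟨k, d.K_le k.2⟩ = 1 := by
    have hker : ∀ x ∈ (⁅H, H⁆).subgroupOf T, l x = 1 := by
      intro x hx
      have : x ∈ commutator ↥T := by
        obtain hx' := Subgroup.mem_subgroupOf.1 hx
        have hle : ⁅H, H⁆ ≤ (commutator ↥T).map T.subtype := by
          rw [commutator_def, Subgroup.map_commutator]
          exact Subgroup.commutator_mono (fun y hy => ⟨⟨y, d.H_le hy⟩, trivial, rfl⟩)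
            (fun y hy => ⟨⟨y, d.H_le hy⟩, trivial, rfl⟩)
        obtain ⟨y, hy, e⟩ := hle hx'
        rwa [← Subtype.ext (show (y : G) = x from e)]
      exact Subgroup.mem_bot.1 (by simpa using (Abelianization.commutator_subset_ker l this))
    exact hker _ (d.K_le_derived k.2)
  have e1 := M.val i 1 k z (hatT d k z) hz rfl
  have e2 := M.val i 1 1 z (hatT d 1 z) hz rfl
  rw [hl] at e1 e2
  simp only [MonoidHom.one_apply, Units.val_one, mul_one, map_one] at e1 e2
  have : hatT d k z = (⟨k, d.K_le k.2⟩ : T) * hatT d 1 z := Subtype.ext (by simp [hatT])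
  rw [this, map_mul, hk, one_mul, e2] at e1
  rw [MonoidHom.one_apply, Units.val_one]
  exact (mul_left_cancel₀ (M.sgn_ne d i) (by rw [mul_one]; exact e1)).symm

end Mu

/-- Linear characters of `H` as irreducible characters. -/
noncomputable def linIrr (l : ↥(H.subgroupOf T) →* ℂˣ) : IrrCharacter ↥(H.subgroupOf T) :=
  ⟨fun h => (l h : ℂ), isIrrCharacter_linear l⟩

theorem linIrr_deg (l : ↥(H.subgroupOf T) →* ℂˣ) : deg (linIrr l : ↥(H.subgroupOf T) → ℂ) = 1 := by
  simp [deg, linIrr]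

theorem eq_linIrr {θ : IrrCharacter ↥(H.subgroupOf T)} (h : deg (θ : ↥(H.subgroupOf T) → ℂ) = 1) :
    ∃ l, θ = linIrr l := by
  obtain ⟨l, hl⟩ := exists_hom_of_degree_one (irr_isCharacter θ.2)
    (by rw [char_one_eq_deg (irr_isCharacter θ.2), h, Nat.cast_one])
  exact ⟨l, Subtype.ext hl⟩

open Classical in
variable (T H) in
/-- The characters of `T` induced from the nontrivial linear characters of `H`. -/
noncomputable def linFam : Finset (T → ℂ) :=
  ((Finset.univ : Finset (↥(H.subgroupOf T) →* ℂˣ)).erase 1).image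
    fun l => indFun (H.subgroupOf T) (linIrr l : ↥(H.subgroupOf T) → ℂ)

theorem mem_linFam {a : T → ℂ} : a ∈ linFam T H ↔ ∃ l : ↥(H.subgroupOf T) →* ℂˣ, l ≠ 1 ∧
    a = indFun (H.subgroupOf T) (linIrr l : ↥(H.subgroupOf T) → ℂ) := by
  simp [linFam, eq_comm]

section Lin

variable (M : Mu T Z K) (E : Grid K Z) (d : Tail T Z K H)
include M E d

theorem lin_irr {l : ↥(H.subgroupOf T) →* ℂˣ} (hl : l ≠ 1) :
    IsIrrCharacter T (indFun (H.subgroupOf T) (linIrr l : ↥(H.subgroupOf T) → ℂ)) := by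
  refine (M.cases d E (linIrr l)).resolve_right ?_
  rintro ⟨i, hi⟩
  by_cases h1 : i = 1
  · refine hl (MonoidHom.ext fun h => Units.ext ?_)
    have := congrFun (congrArg Subtype.val hi) h
    rw [h1, M.theta_one d] at this
    exact this
  · have := M.one_lt_deg d h1
    rw [← M.deg_theta d, ← hi, linIrr_deg] at this
    omega

theorem linFam_irr {a : T → ℂ} (ha : a ∈ linFam T H) : IsIrrCharacter T a := by
  obtain ⟨l, hl, rfl⟩ := mem_linFam.1 ha
  exact lin_irr M E d hl

theorem linFam_deg {a : T → ℂ} (ha : a ∈ linFam T H) : a 1 = (Nat.card Z : ℂ) := by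
  obtain ⟨l, hl, rfl⟩ := mem_linFam.1 ha
  rw [indFun_one, d.index_H]
  simp [linIrr]

theorem linFam_vanish {a : T → ℂ} (ha : a ∈ linFam T H) {t : T} (ht : (t : G) ∉ H) : a t = 0 := by
  obtain ⟨l, hl, rfl⟩ := mem_linFam.1 ha
  exact indFun_normal_not_mem _ _ ht

theorem linFam_conj {a : T → ℂ} (ha : a ∈ linFam T H) : conjFun a ∈ linFam T H := by
  obtain ⟨l, hl, rfl⟩ := mem_linFam.1 ha
  refine mem_linFam.2 ⟨l⁻¹, fun h1 => hl (MonoidHom.ext fun x =>
    inv_eq_one.1 (by simpa using DFunLike.congr_fun h1 x)), ?_⟩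
  rw [conjFun_indFun']
  congr 1
  funext h
  show conj (l h : ℂ) = ((l⁻¹ h : ℂˣ) : ℂ)
  rw [conj_hom_apply, MonoidHom.inv_apply, Units.val_inv_eq_inv_val]

theorem linFam_conj_ne {a : T → ℂ} (ha : a ∈ linFam T H) : conjFun a ≠ a := by
  intro h
  have h1 : a = fun _ => 1 := irrConj_eq_self_iff_one (d.odd.of_dvd_nat (Subgroup.card_subgroup_dvd_card T))
    ⟨a, linFam_irr M E d ha⟩ (Subtype.ext h)
  have := linFam_deg M E d ha
  rw [h1] at this
  have h2 : (1 : ℂ) = ((Nat.card Z : ℕ) : ℂ) := this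
  have := d.three_le_card Z d.Z_ne
  have h3 : (1 : ℕ) = Nat.card Z := by exact_mod_cast h2
  omega

theorem linFam_pow {a : T → ℂ} (ha : a ∈ linFam T H) {m : ℕ} (hm : m.Coprime (Nat.card G)) :
    (fun t => a (t ^ m)) ∈ linFam T H := by
  obtain ⟨l, hl, rfl⟩ := mem_linFam.1 ha
  have hmT : m.Coprime (Nat.card T) := hm.coprime_dvd_right (Subgroup.card_subgroup_dvd_card T)
  refine mem_linFam.2 ⟨l ^ m, fun h => hl (MonoidHom.ext fun x => ?_), ?_⟩
  · obtain ⟨y, hy⟩ := (powCoprime_bijective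
      (hmT.coprime_dvd_right (Subgroup.card_subgroup_dvd_card (H.subgroupOf T)))).surjective x
    have := DFunLike.congr_fun h y
    rw [MonoidHom.pow_apply, ← map_pow] at this
    rw [MonoidHom.one_apply, ← hy]
    exact this
  · rw [indFun_pow (H.subgroupOf T) hmT]
    congr 1
    funext y
    simp [linIrr]

theorem exists_mem_linFam : ∃ a, a ∈ linFam T H := by
  have hsol : Group.IsSolvable ↥(H.subgroupOf T) := by
    haveI : Group.IsSolvable T := d.minSimple.2.2.2 T d.coatom.1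
    infer_instance
  haveI : Nontrivial ↥(H.subgroupOf T) := by
    rw [Subgroup.nontrivial_iff_ne_bot]
    intro h
    rw [Subgroup.subgroupOf_eq_bot, disjoint_iff, inf_eq_left.2 d.H_le] at h
    exact d.K_ne (le_bot_iff.1 (h ▸ d.K_le_H))
  have hlt := Group.IsSolvable.commutator_lt_top_of_nontrivial (G := ↥(H.subgroupOf T))
  obtain ⟨l, hl⟩ : ∃ l : ↥(H.subgroupOf T) →* ℂˣ, l ≠ 1 := by
    by_contra hc
    push Not at hc
    haveI : Subsingleton (↥(H.subgroupOf T) →* ℂˣ) := ⟨fun a b => (hc a).trans (hc b).symm⟩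
    have h1 : Nat.card (↥(H.subgroupOf T) →* ℂˣ) = 1 := Nat.card_of_subsingleton 1
    rw [card_hom_units, Subgroup.index_eq_one] at h1
    exact hlt.ne h1
  exact ⟨_, mem_linFam.2 ⟨l, hl, rfl⟩⟩

theorem two_le_card_linFam : 2 ≤ (linFam T H).card := by
  obtain ⟨a, ha⟩ := exists_mem_linFam M E d
  exact Finset.one_lt_card.2 ⟨a, ha, conjFun a, linFam_conj M E d ha, (linFam_conj_ne M E d ha).symm⟩

/-- `|H : H'|` exceeds `|Z|` times the size of the family. -/
theorem card_linFam_le :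
    (linFam T H).card * Nat.card Z + 1 ≤ (commutator ↥(H.subgroupOf T)).index := by
  classical
  rw [← card_hom_units, Nat.card_eq_fintype_card (α := ↥(H.subgroupOf T) →* ℂˣ), ← Finset.card_univ,
    ← Finset.card_erase_add_one (Finset.mem_univ (1 : ↥(H.subgroupOf T) →* ℂˣ))]
  refine Nat.add_le_add_right ?_ 1
  rw [linFam, mul_comm]
  refine Finset.mul_card_image_le_card _ _ fun a ha => ?_
  rw [← linFam] at ha
  obtain ⟨l, hl, rfl⟩ := mem_linFam.1 ha
  have hstab : ∀ t : T, conjT t (linIrr l) = linIrr l → (t : G) ∈ H := by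
    intro t ht
    have h := irr_self (lin_irr M E d hl)
    rw [indFun_inner, inv_mul_eq_one₀ (Nat.cast_ne_zero.2 Nat.card_pos.ne')] at h
    have hc : Nat.card ↥(H.subgroupOf T) =
        (Finset.univ.filter fun g : T => conjT g (linIrr l) = linIrr l).card := by exact_mod_cast h
    have hsub : (Finset.univ.filter fun g : T => g ∈ H.subgroupOf T) ⊆
        Finset.univ.filter fun g : T => conjT g (linIrr l) = linIrr l := fun g hg => by
      simp only [Finset.mem_filter, Finset.mem_univ, true_and] at hg ⊢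
      exact irrComp_conjNormal_of_mem _ _ ⟨g, hg⟩
    have heq := Finset.eq_of_subset_of_card_le hsub (le_of_eq (by
      rw [← hc, Nat.card_eq_fintype_card, Fintype.card_subtype]))
    have : t ∈ Finset.univ.filter fun g : T => conjT g (linIrr l) = linIrr l :=
      Finset.mem_filter.2 ⟨Finset.mem_univ _, ht⟩
    rw [← heq] at this
    exact (Finset.mem_filter.1 this).2
  choose m hm using fun z : Z => eq_linIrr (θ := conjT (⟨z, d.Z_le z.2⟩ : T) (linIrr l))
    (by rw [deg_conjT, linIrr_deg])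
  refine le_trans (le_of_eq (Nat.card_eq_fintype_card.trans Finset.card_univ.symm))
    (Finset.card_le_card_of_injOn m (fun z _ => ?_) fun z₁ _ z₂ _ e => ?_)
  · refine Finset.mem_coe.2 (Finset.mem_filter.2 ⟨Finset.mem_erase.2 ⟨fun h => hl ?_, Finset.mem_univ _⟩, ?_⟩)
    · have h1 := hm z
      rw [h] at h1
      refine MonoidHom.ext fun x => Units.ext ?_
      obtain ⟨y, hy⟩ := (MulAut.conjNormal (⟨z, d.Z_le z.2⟩ : T) : MulAut ↥(H.subgroupOf T)).surjective x
      have := congrFun (congrArg Subtype.val h1) y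
      rw [← hy]
      exact this
    · rw [← hm z, ind_conjT]
  · have h1 : conjT (⟨z₁, d.Z_le z₁.2⟩ : T) (linIrr l) = conjT (⟨z₂, d.Z_le z₂.2⟩ : T) (linIrr l) := by
      rw [hm, hm, e]
    have h2 := congrArg (conjT (⟨z₂, d.Z_le z₂.2⟩ : T)⁻¹) h1
    rw [conjT_inv, ← conjT_mul] at h2
    have h3 := hstab _ h2
    have h4 := d.one_of_mem (Z.mul_mem z₁.2 (Z.inv_mem z₂.2)) h3
    exact Subtype.ext (mul_inv_eq_one.1 h4)

end Lin

end Cfsg.Agent.OddFT
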