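import Cfsg.Agent.Lib.OddChar.FT.TailBase

/-!
The shapes of `τβ'` and `τF`, the parity linking them, and the vanishing of coefficients in the exact case.
-/

set_option autoImplicit false
set_option linter.unusedSectionVars false
set_option linter.unusedVariables false
set_option linter.style.haveILetI false

open Cfsg Cfsg.Agent.Char Cfsg.Agent.OddChar
open scoped ComplexConjugate commutatorElement

namespace Cfsg.Agent.OddFT

universe u

theorem sum_col {W : Type*} [Fintype W] [DecidableEq W] (i₁ : W) (A B : ℤ) :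
    ∑ i : W, (if i = i₁ then A else B) = A + ((Fintype.card W : ℤ) - 1) * B := by
  rw [← Finset.add_sum_erase _ _ (Finset.mem_univ i₁), if_pos rfl,
    Finset.sum_congr rfl fun i hi => if_neg (Finset.mem_erase.1 hi).1, Finset.sum_const, nsmul_eq_mul,
    Finset.card_erase_of_mem (Finset.mem_univ _), Finset.card_univ]
  congr 2
  have : 0 < Fintype.card W := Fintype.card_pos_iff.2 ⟨i₁⟩
  push_cast [Nat.cast_sub this]
  ring

variable {G : Type u} [Group G] [Fintype G] {T Z K H : Subgroup G} [Fintype T]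
  [Fintype ↥(H.subgroupOf T)] [(H.subgroupOf T).Normal]

namespace TData

variable (C : TData T Z K H)
include C

/-- The coordinates of `τβ'`. -/
noncomputable def zb (i : ↥K →* ℂˣ) (j : ↥Z →* ℂˣ) : ℤ :=
  icoef (indFun T (C.g C.one)) (C.E.eta i j)

theorem zb_spec (i : ↥K →* ℂˣ) (j : ↥Z →* ℂˣ) :
    classInner (indFun T (C.g C.one)) (C.E.eta i j) = (C.zb i j : ℂ) :=
  icoef_spec (C.tau_gen (C.g_gen _)) (C.E.eta_gen i j)

theorem nonLin_one : C.NonLin C.one := Or.inr rfl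

theorem beta_one : classInner (indFun T (C.g C.one)) (fun _ => 1) = 1 := by
  rw [IsTI.inner_one C.tail.isTI, g, classInner_sub_left, classInner_smul_left, ind,
    frobenius (H.subgroupOf T) _ (χ := fun _ => 1) (fun _ _ => rfl), ← classInner_symm (fun _ => (1 : ℂ)) C.ζ,
    C.one_lin C.mem, map_zero, mul_zero, sub_zero]
  exact irr_self isIrrCharacter_one

theorem zb_one : C.zb 1 1 = 1 := by
  have h := C.zb_spec 1 1
  rw [C.E.one, C.beta_one] at h
  exact_mod_cast h.symm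

theorem ind_one_inner (i : ↥K →* ℂˣ) (j : ↥Z →* ℂˣ) [Decidable (1 = i)] :
    classInner (C.ind C.one) (C.M.mu i j) = if 1 = i then 1 else 0 := by
  rw [← C.theta_one_eq, ind, C.M.ind_theta C.tail, C.M.sum_mu_inner C.tail]

theorem beta_norm : classInner (indFun T (C.g C.one)) (indFun T (C.g C.one)) =
    ((Nat.card Z + 1 : ℤ) : ℂ) := by
  classical
  rw [C.g_g_inner C.nonLin_one C.nonLin_one, C.deg_one]
  have h : classInner (C.ind C.one) (C.ind C.one) = (Nat.card Z : ℂ) := by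
    conv_lhs => arg 2; rw [← C.theta_one_eq, ind, C.M.ind_theta C.tail]
    rw [classInner_sum_right, Finset.sum_congr rfl fun j _ => C.ind_one_inner 1 j]
    simp [C.E.card_right]
  rw [h]
  simp

theorem beta_hat : ∀ a ∈ K, ∀ b ∈ Z, a ≠ 1 → b ≠ 1 → indFun T (C.g C.one) (a * b) = 0 := by
  intro a ha b hb ha1 hb1
  rw [show a * b = ((⟨a * b, T.mul_mem (C.tail.K_le ha) (C.tail.Z_le hb)⟩ : T) : G) from rfl,
    C.tail.isTI.ind_apply (C.g_class _) (C.g_supp _) (hat_sigma C.M C.E C.tail ha hb ha1),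
    C.g_vanish _ (C.tail.hat_notMem ha hb hb1)]

theorem zb_col {i : ↥K →* ℂˣ} (hi : i ≠ 1) : C.zb i 1 = C.a := by
  obtain ⟨m, hm, rfl⟩ := C.tail.exists_pow C.i₀_ne hi
  have hmT : m.Coprime (Nat.card T) := hm.coprime_dvd_right (Subgroup.card_subgroup_dvd_card T)
  set ζ' : T → ℂ := fun t => C.ζ (t ^ m) with hζ'
  have hmem : ζ' ∈ linFam T H := linFam_pow C.M C.E C.tail C.mem hm
  have hb : (fun t => C.g C.one (t ^ m)) = C.g C.one + (C.ζ - ζ') := by
    have h1 : (fun t => C.ind C.one (t ^ m)) = C.ind C.one := by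
      rw [ind, indFun_comp_pow (H.subgroupOf T) hmT]
    funext t
    have h2 := congrFun h1 t
    simp only [g, Pi.add_apply, Pi.sub_apply, Pi.smul_apply, smul_eq_mul, hζ', C.deg_one, Nat.cast_one, one_mul]
    rw [h2]
    ring
  have hpow : (fun g => C.E.eta C.i₀ 1 (g ^ m)) = C.E.eta (C.i₀ ^ m) 1 := by
    funext g
    rw [C.E.power _ _ m hm, show (1 : ↥Z →* ℂˣ) ^ m = 1 from MonoidHom.ext fun _ => by simp]
  have h := classInner_powMap hm (indFun T (C.g C.one)) (C.E.eta C.i₀ 1)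
  rw [hpow, indFun_comp_pow T hm, hb, indFun_add, C.fam.diff _ C.mem _ hmem, classInner_add_left,
    classInner_sub_left, C.fam.eta _ C.mem, C.fam.eta _ hmem, sub_zero, add_zero, C.zb_spec,
    icoef_spec (C.tau_gen (C.g_gen _)) (C.E.eta_gen C.i₀ 1)] at h
  exact_mod_cast h

theorem zb_eq {i : ↥K →* ℂˣ} (hi : i ≠ 1) (j : ↥Z →* ℂˣ) : C.zb i j = C.a + C.b j - 1 := by
  have h := C.E.rect _ (isClassFunction_indFun T _) C.beta_hat i j
  rw [C.zb_spec, C.zb_spec, C.zb_spec, C.zb_spec, C.zb_one, C.zb_col hi] at h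
  have h' : C.zb i j + 1 = C.a + C.b j := by simp only [b, zb] at h ⊢; exact_mod_cast h
  omega

theorem zb_row (j : ↥Z →* ℂˣ) : C.zb 1 j = C.b j := rfl

open Classical in
theorem beta_sum : ∑ i, ∑ j, C.zb i j ^ 2 = 1 + ((Nat.card K : ℤ) - 1) * C.a ^ 2 +
    ∑ j ∈ Finset.univ.erase 1, (C.b j ^ 2 + ((Nat.card K : ℤ) - 1) * (C.a + C.b j - 1) ^ 2) := by
  rw [Finset.sum_comm]
  have hcol : ∀ j, ∑ i, C.zb i j ^ 2 = C.b j ^ 2 + ((Nat.card K : ℤ) - 1) * (C.a + C.b j - 1) ^ 2 := by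
    intro j
    rw [Finset.sum_congr rfl (g := fun i => if i = 1 then C.b j ^ 2 else (C.a + C.b j - 1) ^ 2) fun i _ => by
      split_ifs with h
      · rw [h, C.zb_row]
      · rw [C.zb_eq h], sum_col, C.E.card_left]
  rw [Finset.sum_congr rfl fun j _ => hcol j, ← Finset.add_sum_erase _ _ (Finset.mem_univ (1 : ↥Z →* ℂˣ))]
  have hb1 : C.b 1 = 1 := C.zb_one
  rw [hb1]
  ring

open Classical in
/-- The inequality for `τβ'`. -/
theorem energy : ((Nat.card K : ℤ) - 1) * C.a ^ 2 +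
    ∑ j ∈ Finset.univ.erase 1, (C.b j ^ 2 + ((Nat.card K : ℤ) - 1) * (C.a + C.b j - 1) ^ 2) +
    (((linFam T H).card : ℤ) * C.c ^ 2 - 2 * C.c) ≤ (Nat.card Z : ℤ) - 1 := by
  have h := (grid_bessel C.E (linFam T H) C.φ C.fam.signed C.fam.orth C.fam.eta (C.tau_gen (C.g_gen C.one))
    C.zb_spec _ (fun a ha => C.g_inner C.nonLin_one ha) C.beta_norm).1
  rw [C.beta_sum, sum_sq_single (linFam T H) C.mem, C.deg_one, show C.kk C.one = C.c from rfl] at h
  push_cast at h
  linarith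

/-- `τF - 1 + η i 1`. -/
noncomputable def D : G → ℂ := indFun T (C.F C.i₀) - (fun _ => 1) + C.E.eta C.i₀ 1

theorem D_gen : IsGeneralizedCharacter G C.D :=
  gen_add (isGenChar_sub (C.tau_gen (C.F_gen _)) gen_one) (C.E.eta_gen _ _)

theorem eta_one_inner {i : ↥K →* ℂˣ} (hi : i ≠ 1) : classInner (C.E.eta i 1) (fun _ => 1) = 0 := by
  rw [← C.E.one, C.E.orth _ _ _ _ (Or.inl hi)]

theorem D_one : classInner C.D (fun _ => 1) = 0 := by
  rw [D, classInner_add_left, classInner_sub_left, C.F_one C.i₀_ne, C.eta_one_inner C.i₀_ne,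
    irr_self isIrrCharacter_one]
  ring

theorem D_real : cj C.D = C.D := by
  have hi' : C.i₀⁻¹ ≠ 1 := fun h => C.i₀_ne (MonoidHom.ext fun x =>
    inv_eq_one.1 (by simpa using DFunLike.congr_fun h x))
  have h1 : (1 : ↥Z →* ℂˣ)⁻¹ = 1 := MonoidHom.ext fun x => by simp
  have hF : conjFun (C.F C.i₀) = C.F C.i₀⁻¹ := by
    have hc := (C.M.conj_eq C.tail C.i₀ 1).1
    rw [h1] at hc
    funext t
    have hct := congrFun hc t
    simp only [conjFun] at hct
    simp only [F, conjFun, Pi.add_apply, Pi.sub_apply, Pi.smul_apply, smul_eq_mul, map_add, map_sub, map_mul,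
      map_one, map_intCast, hct, Complex.conj_conj]
    ring
  have hshift := C.F_shift hi' C.i₀_ne
  rw [D, cj_add, cj_sub, C.E.cj_eta, h1,
    show cj (indFun T (C.F C.i₀)) = conjFun (indFun T (C.F C.i₀)) from rfl, conj_indFun, hF]
  funext x
  have hx := congrFun hshift x
  simp only [Pi.add_apply, Pi.sub_apply, cj_apply, map_one] at hx ⊢
  linear_combination hx

theorem Y_real : cj (indFun T (C.g C.one) + C.φ C.ζ) = indFun T (C.g C.one) + C.φ C.ζ := by
  have hg : conjFun (C.g C.one) = C.g C.one + (C.ζ - conjFun C.ζ) := by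
    have h1 : conjFun (C.ind C.one) = C.ind C.one := by
      rw [ind, conj_indFun]; congr 1; funext x; simp [conjFun]
    funext t
    have h2 := congrFun h1 t
    simp only [conjFun] at h2
    simp only [g, conjFun, Pi.add_apply, Pi.sub_apply, Pi.smul_apply, smul_eq_mul, map_sub, map_mul,
      map_natCast, h2, C.deg_one, Nat.cast_one, one_mul]
    ring
  rw [cj_add, C.fam.conj_eq _ C.mem, show cj (indFun T (C.g C.one)) = conjFun (indFun T (C.g C.one)) from rfl,
    conj_indFun, hg, indFun_add, C.fam.diff _ C.mem _ C.conj_mem]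
  abel

/-- `k + a` is even. -/
theorem even_k_add_a : Even (C.k + C.a) := by
  classical
  refine even_inner C.tail.odd C.D_gen (gen_add (C.tau_gen (C.g_gen C.one)) (C.phi_gen C.mem)) C.D_real
    C.Y_real C.D_one ?_
  have hFg : classInner (indFun T (C.F C.i₀)) (indFun T (C.g C.one)) = 1 - (C.cF : ℂ) := by
    rw [C.iso (C.F_supp C.i₀_ne) (C.g_class _) (C.g_supp _)]
    have e1 : classInner (fun _ => (1 : ℂ)) (C.ind C.one) = 1 := by
      rw [← C.M.mu_one_one C.tail, ← classInner_symm, C.ind_one_inner, if_pos rfl, map_one]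
    have e2 : classInner (C.M.mu C.i₀ 1) (C.ind C.one) = 0 := by
      rw [← classInner_symm, C.ind_one_inner, if_neg (Ne.symm C.i₀_ne), map_zero]
    have e3 : ∀ a ∈ linFam T H, classInner a (C.ind C.one) = 0 := fun a ha => by
      rw [← classInner_symm, C.ind_lin_inner C.nonLin_one ha, map_zero]
    simp only [g, F, classInner_add_left, classInner_sub_left, classInner_smul_left, classInner_sub_right,
      classInner_smul_right, e1, e2, e3 _ C.mem, e3 _ C.conj_mem, C.deg_one, C.one_lin C.mem,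
      C.mu_lin C.mem, C.lin_orth C.mem C.mem, C.lin_orth C.conj_mem C.mem, if_neg C.conj_ne]
    simp [sub_eq_add_neg]
  have hDY : classInner C.D (indFun T (C.g C.one) + C.φ C.ζ) =
      classInner (indFun T (C.F C.i₀)) (indFun T (C.g C.one)) - classInner (fun _ => (1 : ℂ)) (indFun T (C.g C.one)) +
        classInner (C.E.eta C.i₀ 1) (indFun T (C.g C.one)) +
        (classInner (indFun T (C.F C.i₀)) (C.φ C.ζ) - classInner (fun _ => (1 : ℂ)) (C.φ C.ζ) +
          classInner (C.E.eta C.i₀ 1) (C.φ C.ζ)) := by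
    simp only [D, classInner_add_left, classInner_sub_left, classInner_add_right]
  have f1 : classInner (fun _ => (1 : ℂ)) (indFun T (C.g C.one)) = 1 := by
    rw [← classInner_symm, C.beta_one, map_one]
  have f2 : classInner (C.E.eta C.i₀ 1) (indFun T (C.g C.one)) = (C.a : ℂ) := by
    rw [← classInner_symm, C.zb_spec, map_intCast, C.zb_col C.i₀_ne]
  have f3 : classInner (C.E.eta C.i₀ 1) (C.φ C.ζ) = 0 := by
    rw [← classInner_symm, C.fam.eta _ C.mem, map_zero]
  have f4 : classInner (fun _ => (1 : ℂ)) (C.φ C.ζ) = 0 := by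
    rw [← C.E.one, ← classInner_symm, C.fam.eta _ C.mem, map_zero]
  rw [hDY, hFg, f1, f2, C.k_spec C.i₀_ne, f4, f3]
  push_cast
  ring

open Classical in
/-- In the case `c = k = 0` the shape of `τβ'` is determined. -/
theorem beta_exact (hc : C.c = 0) (hk : C.k = 0) :
    C.a = 0 ∧ indFun T (C.g C.one) =
      (fun _ => 1) - C.φ C.ζ + ∑ j ∈ Finset.univ.erase 1, C.E.eta 1 j := by
  classical
  have hq : (3 : ℤ) ≤ Nat.card K := by exact_mod_cast C.tail.three_le_card K C.tail.K_ne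
  have hE := C.energy
  rw [hc] at hE
  have ha2 : Even C.a := by simpa [hk] using C.even_k_add_a
  have hterm : ∀ j, (1 : ℤ) ≤ C.b j ^ 2 + ((Nat.card K : ℤ) - 1) * (C.a + C.b j - 1) ^ 2 := by
    intro j
    by_cases hb : C.b j = 0
    · have : C.a - 1 ≠ 0 := by obtain ⟨r, hr⟩ := ha2; omega
      have h1 : 1 ≤ (C.a - 1) ^ 2 := by nlinarith [Int.one_le_abs this, sq_abs (C.a - 1)]
      rw [hb, add_zero]; nlinarith
    · have h1 : 1 ≤ C.b j ^ 2 := by nlinarith [Int.one_le_abs hb, sq_abs (C.b j)]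
      nlinarith [sq_nonneg (C.a + C.b j - 1)]
  have hcard : ((Finset.univ.erase (1 : ↥Z →* ℂˣ)).card : ℤ) = (Nat.card Z : ℤ) - 1 := by
    rw [Finset.card_erase_of_mem (Finset.mem_univ _), Finset.card_univ, C.E.card_right,
      Nat.cast_sub (Nat.one_le_iff_ne_zero.2 Nat.card_pos.ne')]
    simp
  have hlow := Finset.card_nsmul_le_sum (Finset.univ.erase (1 : ↥Z →* ℂˣ))
    (fun j => C.b j ^ 2 + ((Nat.card K : ℤ) - 1) * (C.a + C.b j - 1) ^ 2) 1 fun j _ => hterm j
  rw [nsmul_one, hcard] at hlow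
  have ha0 : C.a = 0 := by
    by_contra hne
    have : 1 ≤ C.a ^ 2 := by nlinarith [Int.one_le_abs hne, sq_abs C.a]
    nlinarith [mul_le_mul_of_nonneg_left this (by linarith : (0 : ℤ) ≤ (Nat.card K : ℤ) - 1)]
  refine ⟨ha0, ?_⟩
  have hb1 : ∀ j ∈ Finset.univ.erase (1 : ↥Z →* ℂˣ), C.b j = 1 := by
    intro j hj
    have hs := Finset.add_sum_erase _ (fun j => C.b j ^ 2 + ((Nat.card K : ℤ) - 1) * (C.a + C.b j - 1) ^ 2) hj
    have hl := Finset.card_nsmul_le_sum ((Finset.univ.erase (1 : ↥Z →* ℂˣ)).erase j)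
      (fun j => C.b j ^ 2 + ((Nat.card K : ℤ) - 1) * (C.a + C.b j - 1) ^ 2) 1 fun j _ => hterm j
    rw [nsmul_one, Finset.card_erase_of_mem hj, Nat.cast_sub (Finset.card_pos.2 ⟨j, hj⟩), hcard] at hl
    have h3 : C.b j ^ 2 + ((Nat.card K : ℤ) - 1) * (C.b j - 1) ^ 2 ≤ 1 := by
      rw [ha0] at hs hl hE
      simp only [zero_add] at hs hl hE
      push_cast at hl
      linarith
    by_contra hne
    have : C.b j - 1 ≠ 0 := sub_ne_zero.2 hne
    nlinarith [Int.one_le_abs this, sq_abs (C.b j - 1), sq_nonneg (C.b j)]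
  obtain ⟨-, heq⟩ := grid_bessel C.E (linFam T H) C.φ C.fam.signed C.fam.orth C.fam.eta
    (C.tau_gen (C.g_gen C.one)) C.zb_spec _ (fun a ha => C.g_inner C.nonLin_one ha) C.beta_norm
  have h := heq (by
    rw [C.beta_sum, sum_sq_single (linFam T H) C.mem, C.deg_one, show C.kk C.one = C.c from rfl, hc, ha0,
      Finset.sum_congr rfl (g := fun _ => (1 : ℤ)) fun j hj => by rw [hb1 j hj]; ring,
      Finset.sum_const, nsmul_one, hcard]
    push_cast
    ring)
  rw [h]
  have h1 : ∀ i, ∑ j, (C.zb i j : ℂ) • C.E.eta i j = if i = 1 then ∑ j, C.E.eta 1 j else 0 := by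
    intro i
    split_ifs with hi
    · subst hi
      refine Finset.sum_congr rfl fun j _ => ?_
      by_cases hj : j = 1
      · subst hj; rw [C.zb_one]; simp
      · rw [C.zb_row, hb1 j (Finset.mem_erase.2 ⟨hj, Finset.mem_univ _⟩)]; simp
    · refine Finset.sum_eq_zero fun j _ => ?_
      rw [C.zb_eq hi, ha0]
      by_cases hj : j = 1
      · subst hj; rw [show C.b 1 = 1 from C.zb_one]; simp
      · rw [hb1 j (Finset.mem_erase.2 ⟨hj, Finset.mem_univ _⟩)]; simp
  rw [Finset.sum_congr rfl fun i _ => h1 i, Finset.sum_ite_eq' Finset.univ, if_pos (Finset.mem_univ _),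
    ← Finset.add_sum_erase _ _ (Finset.mem_univ (1 : ↥Z →* ℂˣ)), C.E.one]
  rw [Finset.sum_congr rfl (g := fun a => if a = C.ζ then -C.φ a else 0) fun a _ => by
    rw [show C.kk C.one = C.c from rfl, hc, C.deg_one]
    split_ifs <;> simp, Finset.sum_ite_eq' (linFam T H), if_pos C.mem]
  abel

/-- The coordinates of `τF`. -/
noncomputable def xF (i : ↥K →* ℂˣ) (k : ↥K →* ℂˣ) (l : ↥Z →* ℂˣ) : ℤ :=
  icoef (indFun T (C.F i)) (C.E.eta k l)

theorem xF_spec (i k : ↥K →* ℂˣ) (l : ↥Z →* ℂˣ) :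
    classInner (indFun T (C.F i)) (C.E.eta k l) = (C.xF i k l : ℂ) :=
  icoef_spec (C.tau_gen (C.F_gen i)) (C.E.eta_gen k l)

theorem xF_one {i : ↥K →* ℂˣ} (hi : i ≠ 1) : C.xF i 1 1 = 1 := by
  have h := C.xF_spec i 1 1
  rw [C.E.one, C.F_one hi] at h
  exact_mod_cast h.symm

open Classical in
theorem F_bessel {i : ↥K →* ℂˣ} (hi : i ≠ 1) :
    (∑ k, ∑ l, C.xF i k l ^ 2 + (((linFam T H).card : ℤ) * C.k ^ 2 + 4 * C.cF * C.k + 2 * C.cF ^ 2) ≤
      2 + 2 * C.cF ^ 2) ∧
    (∑ k, ∑ l, C.xF i k l ^ 2 + (((linFam T H).card : ℤ) * C.k ^ 2 + 4 * C.cF * C.k + 2 * C.cF ^ 2) =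
      2 + 2 * C.cF ^ 2 → indFun T (C.F i) = ∑ k, ∑ l, (C.xF i k l : ℂ) • C.E.eta k l +
        ∑ a ∈ linFam T H, ((C.k + if a = C.ζ ∨ a = conjFun C.ζ then C.cF else 0 : ℤ) : ℂ) • C.φ a) := by
  have hN : classInner (indFun T (C.F i)) (indFun T (C.F i)) = ((2 + 2 * C.cF ^ 2 : ℤ) : ℂ) := by
    rw [C.F_F hi hi, if_pos rfl]; push_cast; ring
  have hs : ∑ a ∈ linFam T H, (C.k + if a = C.ζ ∨ a = conjFun C.ζ then C.cF else 0) ^ 2 =
      ((linFam T H).card : ℤ) * C.k ^ 2 + 4 * C.cF * C.k + 2 * C.cF ^ 2 := by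
    rw [Finset.sum_congr rfl (g := fun a => C.k ^ 2 + ((if a = C.ζ then 2 * C.cF * C.k + C.cF ^ 2 else 0) +
      if a = conjFun C.ζ then 2 * C.cF * C.k + C.cF ^ 2 else 0)) fun a _ => by
        by_cases h1 : a = C.ζ
        · simp [h1, C.conj_ne.symm]; ring
        · by_cases h2 : a = conjFun C.ζ
          · simp [h2, C.conj_ne]; ring
          · simp [h1, h2], Finset.sum_add_distrib, Finset.sum_add_distrib, Finset.sum_const, nsmul_eq_mul,
      Finset.sum_ite_eq', Finset.sum_ite_eq', if_pos C.mem, if_pos C.conj_mem]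
    ring
  have h := grid_bessel C.E (linFam T H) C.φ C.fam.signed C.fam.orth C.fam.eta (C.tau_gen (C.F_gen i))
    (C.xF_spec i) _ (fun a ha => C.F_inner hi ha) hN
  rw [hs] at h
  exact h

open Classical in
/-- At least one coordinate of `τF` besides the trivial one; if only one, it is `-η i 1`. -/
theorem xF_shape {i : ↥K →* ℂˣ} (hi : i ≠ 1) :
    2 ≤ ∑ k, ∑ l, C.xF i k l ^ 2 ∧
      (∑ k, ∑ l, C.xF i k l ^ 2 ≤ 2 →
        ∀ k l, C.xF i k l = (if k = 1 ∧ l = 1 then 1 else 0) - if k = i ∧ l = 1 then 1 else 0) := by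
  set X := indFun T (C.F i) - (fun _ => 1) + C.E.eta i 1 with hX
  set u : (↥K →* ℂˣ) → (↥Z →* ℂˣ) → ℤ := fun k l =>
    C.xF i k l - (if k = 1 ∧ l = 1 then 1 else 0) + if k = i ∧ l = 1 then 1 else 0 with hu
  have hcoord : ∀ k l, classInner X (C.E.eta k l) = (u k l : ℂ) := fun k l => by
    rw [hX, classInner_add_left, classInner_sub_left, C.xF_spec, ← C.E.one, C.E.inner_eq, C.E.inner_eq, hu]
    push_cast
    simp [eq_comm]
  have hv : ∀ a ∈ K, ∀ b ∈ Z, a ≠ 1 → b ≠ 1 → X (a * b) = 0 := fun a ha b hb ha1 hb1 => by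
    have hb1' : (⟨b, hb⟩ : Z) ≠ 1 := fun h => hb1 (congrArg Subtype.val h)
    have ha1' : (⟨a, ha⟩ : K) ≠ 1 := fun h => ha1 (congrArg Subtype.val h)
    have h1 := C.E.onHat i 1 ⟨a, ha⟩ ⟨b, hb⟩ ha1' hb1'
    simp only [MonoidHom.one_apply, Units.val_one, mul_one] at h1
    rw [hX, Pi.add_apply, Pi.sub_apply, h1,
      show a * b = ((⟨a * b, T.mul_mem (C.tail.K_le ha) (C.tail.Z_le hb)⟩ : T) : G) from rfl,
      C.tail.isTI.ind_apply (C.F_class i) (C.F_supp hi) (hat_sigma C.M C.E C.tail ha hb ha1),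
      C.F_hat hi ⟨a, ha⟩ ⟨b, hb⟩ _ hb1' rfl]
    ring
  have hXg : IsGeneralizedCharacter G X := gen_add (isGenChar_sub (C.tau_gen (C.F_gen i)) gen_one) (C.E.eta_gen i 1)
  have hadd : ∀ k l, u k l = u k 1 + u 1 l := by
    intro k l
    have h := C.E.rect X (isClassFunction_genChar hXg) hv k l
    rw [hcoord, hcoord, hcoord, hcoord] at h
    have h11 : u 1 1 = 0 := by simp [hu, C.xF_one hi, hi.symm]
    rw [h11] at h
    push_cast at h
    exact_mod_cast (by linear_combination h : (u k l : ℂ) = (u k 1 : ℂ) + u 1 l)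
  have sq1 : ∀ n : ℤ, n ≠ 0 → 1 ≤ n ^ 2 := fun n hn => by nlinarith [Int.one_le_abs hn, sq_abs n]
  rw [← Fintype.sum_prod_type' (fun k l => C.xF i k l ^ 2)]
  set f : (↥K →* ℂˣ) × (↥Z →* ℂˣ) → ℤ := fun p => C.xF i p.1 p.2 ^ 2 with hf
  have hf0 : ∀ p, 0 ≤ f p := fun p => sq_nonneg _
  have hf11 : f (1, 1) = 1 := by simp [hf, C.xF_one hi]
  have hpair : (((1, 1) : (↥K →* ℂˣ) × (↥Z →* ℂˣ))) ≠ (i, 1) := fun h => hi (congrArg Prod.fst h).symm
  have hsplit := Finset.add_sum_erase Finset.univ f (Finset.mem_univ ((1, 1) : (↥K →* ℂˣ) × (↥Z →* ℂˣ)))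
  by_cases h1 : C.xF i i 1 = 0
  · -- at least two further coordinates
    have hui : u i 1 = 1 := by simp [hu, h1, hi]
    have hw : (3 : ℕ) ≤ Nat.card Z := C.tail.three_le_card Z C.tail.Z_ne
    have hl : ∀ l ∈ Finset.univ.erase (1 : ↥Z →* ℂˣ), (1 : ℤ) ≤ f (i, l) + f (1, l) := by
      intro l hl
      have hl1 := (Finset.mem_erase.1 hl).1
      have e := hadd i l
      rw [hui] at e
      simp only [hu, hl1, and_false, if_false, sub_zero, add_zero] at e
      show 1 ≤ C.xF i i l ^ 2 + C.xF i 1 l ^ 2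
      by_cases hz : C.xF i 1 l = 0
      · rw [hz] at e ⊢; rw [e]; norm_num
      · nlinarith [sq1 _ hz, sq_nonneg (C.xF i i l)]
    have h2 := Finset.card_nsmul_le_sum _ _ 1 hl
    rw [nsmul_one, Finset.card_erase_of_mem (Finset.mem_univ _), Finset.card_univ, C.E.card_right] at h2
    have h3 : ∑ l ∈ Finset.univ.erase (1 : ↥Z →* ℂˣ), (f (i, l) + f (1, l)) ≤
        ∑ p ∈ Finset.univ.erase ((1, 1) : (↥K →* ℂˣ) × (↥Z →* ℂˣ)), f p := by
      rw [Finset.sum_add_distrib, ← Finset.sum_image (g := fun l => (i, l)) (fun a _ b _ h => (Prod.ext_iff.1 h).2),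
        ← Finset.sum_image (g := fun l => ((1 : ↥K →* ℂˣ), l)) (fun a _ b _ h => (Prod.ext_iff.1 h).2),
        ← Finset.sum_union (Finset.disjoint_left.2 fun p hp hp' => by
          obtain ⟨a, -, rfl⟩ := Finset.mem_image.1 hp
          obtain ⟨b, -, hb⟩ := Finset.mem_image.1 hp'
          exact hi (congrArg Prod.fst hb).symm)]
      refine Finset.sum_le_sum_of_subset_of_nonneg (fun p hp => Finset.mem_erase.2 ⟨?_, Finset.mem_univ _⟩)
        fun p _ _ => hf0 p
      rcases Finset.mem_union.1 hp with hp | hp <;> obtain ⟨a, ha, rfl⟩ := Finset.mem_image.1 hp <;>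
        exact fun h => (Finset.mem_erase.1 ha).1 (congrArg Prod.snd h)
    have : (2 : ℤ) ≤ ((Nat.card Z - 1 : ℕ) : ℤ) := by
      have : 2 ≤ Nat.card Z - 1 := by omega
      exact_mod_cast this
    exact ⟨by linarith, fun hle => by linarith⟩
  · have hi1 : 1 ≤ f (i, 1) := sq1 _ h1
    have hsplit2 := Finset.add_sum_erase (Finset.univ.erase ((1, 1) : (↥K →* ℂˣ) × (↥Z →* ℂˣ))) f
      (Finset.mem_erase.2 ⟨hpair.symm, Finset.mem_univ (i, (1 : ↥Z →* ℂˣ))⟩)
    have hrest0 : 0 ≤ ∑ p ∈ (Finset.univ.erase ((1, 1) : (↥K →* ℂˣ) × (↥Z →* ℂˣ))).erase (i, 1), f p :=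
      Finset.sum_nonneg fun p _ => hf0 p
    refine ⟨by linarith, fun hle k l => ?_⟩
    have hz : ∀ p, p ≠ (1, 1) → p ≠ (i, 1) → C.xF i p.1 p.2 = 0 := fun p hp hp' => by
      have h := (Finset.sum_eq_zero_iff_of_nonneg fun p _ => hf0 p).1 (by linarith) p
        (Finset.mem_erase.2 ⟨hp', Finset.mem_erase.2 ⟨hp, Finset.mem_univ p⟩⟩)
      exact sq_eq_zero_iff.1 h
    have hii : C.xF i i 1 = -1 := by
      obtain ⟨l, hl⟩ := Finset.exists_mem_ne (s := (Finset.univ : Finset (↥Z →* ℂˣ)))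
        (by rw [Finset.card_univ, C.E.card_right]; exact C.one_w) 1
      have e := hadd i l
      simp only [hu, hl.2, and_false, if_false, sub_zero, add_zero, hi, false_and, if_true, and_self] at e
      rw [hz (i, l) (fun h => hl.2 (congrArg Prod.snd h)) (fun h => hl.2 (congrArg Prod.snd h)),
        hz (1, l) (fun h => hl.2 (congrArg Prod.snd h)) (fun h => hl.2 (congrArg Prod.snd h))] at e
      omega
    by_cases h11 : k = 1 ∧ l = 1
    · rw [h11.1, h11.2, C.xF_one hi]; simp [hi.symm]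
    · by_cases hi1' : k = i ∧ l = 1
      · rw [hi1'.1, hi1'.2, hii]; simp [hi]
      · rw [hz (k, l) (fun h => h11 (Prod.ext_iff.1 h)) (fun h => hi1' (Prod.ext_iff.1 h)), if_neg h11, if_neg hi1',
          sub_zero]

/-- `n k² + 4 cF k ≤ 0`. -/
theorem k_bound : ((linFam T H).card : ℤ) * C.k ^ 2 + 4 * C.cF * C.k ≤ 0 := by
  classical
  have h1 := (C.F_bessel C.i₀_ne).1
  have h2 := (C.xF_shape C.i₀_ne).1
  linarith

/-- In the case `k = 0` the shape of `τF` is determined. -/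
theorem F_exact (hk : C.k = 0) {i : ↥K →* ℂˣ} (hi : i ≠ 1) :
    indFun T (C.F i) = (fun _ => 1) - C.E.eta i 1 + (C.cF : ℂ) • (C.φ C.ζ + C.φ (conjFun C.ζ)) := by
  classical
  obtain ⟨h1, h2⟩ := C.F_bessel hi
  obtain ⟨h3, h4⟩ := C.xF_shape hi
  rw [hk] at h1 h2
  have hsh := h4 (by linarith)
  have he := h2 (by nlinarith)
  rw [he, Finset.sum_congr rfl (g := fun k : ↥K →* ℂˣ => (if k = 1 then ((fun _ => 1) : G → ℂ) else 0) -
      if k = i then C.E.eta i 1 else 0) fun k _ => by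
    rw [← Finset.add_sum_erase _ _ (Finset.mem_univ (1 : ↥Z →* ℂˣ)), Finset.sum_eq_zero fun l hl => by
      rw [hsh]; simp [(Finset.mem_erase.1 hl).1], add_zero, hsh]
    simp only [and_true]
    by_cases h : k = 1
    · subst h
      simp [hi.symm, C.E.one]
    · by_cases h' : k = i
      · subst h'; simp [h]
      · simp [h, h'], Finset.sum_sub_distrib, Finset.sum_ite_eq', Finset.sum_ite_eq',
    if_pos (Finset.mem_univ _), if_pos (Finset.mem_univ _)]
  congr 1
  rw [Finset.sum_congr rfl (g := fun a => (if a = C.ζ then (C.cF : ℂ) • C.φ a else 0) +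
      if a = conjFun C.ζ then (C.cF : ℂ) • C.φ a else 0) fun a _ => by
    by_cases h : a = C.ζ
    · simp [h, C.conj_ne.symm]
    · by_cases h' : a = conjFun C.ζ
      · simp [h', C.conj_ne]
      · simp [h, h'], Finset.sum_add_distrib, Finset.sum_ite_eq', Finset.sum_ite_eq', if_pos C.mem,
    if_pos C.conj_mem, smul_add]

end TData

end Cfsg.Agent.OddFT
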