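import Cfsg.Agent.Lib.OddChar.FT.TailChars
import Cfsg.Agent.Lib.Char.FrobCoherence

/-!
The coherent family over `H / H'` for a maximal subgroup `T = H ⋊ Z`, and general inequalities.
-/

set_option autoImplicit false
set_option linter.unusedSectionVars false
set_option linter.unusedVariables false
set_option linter.style.haveILetI false

open Cfsg Cfsg.Agent.Char Cfsg.Agent.OddChar
open scoped ComplexConjugate commutatorElement

namespace Cfsg.Agent.OddFT

universe u

section General

variable {G : Type u} [Group G] [Fintype G]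

/-- The integral value of an inner product. -/
noncomputable def icoef (X Y : G → ℂ) : ℤ := ⌊(classInner X Y).re⌋

theorem icoef_spec {X Y : G → ℂ} (hX : IsGeneralizedCharacter G X) (hY : IsGeneralizedCharacter G Y) :
    classInner X Y = (icoef X Y : ℂ) := by
  obtain ⟨z, hz⟩ := gen_inner_int hX hY
  simp [icoef, hz]

theorem classInner_sq_le (A B : G → ℂ) :
    (classInner A B).re ^ 2 ≤ (classInner A A).re * (classInner B B).re := by
  set y := (classInner A B).re with hy
  set s := (classInner B B).re with hs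
  set r := (classInner A A).re with hr
  rcases (classInner_self_re_nonneg B).lt_or_eq with hpos | h0
  · have h := classInner_self_re_nonneg ((s : ℂ) • A - (y : ℂ) • B)
    rw [classInner_sub_left, classInner_sub_right, classInner_sub_right, classInner_smul_left,
      classInner_smul_left, classInner_smul_left, classInner_smul_left, classInner_smul_right,
      classInner_smul_right, classInner_smul_right, classInner_smul_right, Complex.conj_ofReal,
      Complex.conj_ofReal] at h
    simp only [Complex.sub_re, Complex.mul_re, Complex.mul_im, Complex.ofReal_re, Complex.ofReal_im, zero_mul,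
      sub_zero, add_zero, mul_zero, ← hy, ← hs, ← hr] at h
    have hBA : (classInner B A).re = y := by rw [← classInner_symm, Complex.conj_re]
    rw [hBA] at h
    have : s * y ^ 2 ≤ s * (r * s) := by nlinarith
    exact le_of_mul_le_mul_left this hpos
  · have hB : B = 0 := classInner_self_eq_zero (by
      rw [classInner_self_re] at h0 ⊢
      rw [Complex.ofReal_re] at h0
      rw [← h0, Complex.ofReal_zero])
    have : y = 0 := by
      rw [hy, hB, ← classInner_symm, classInner_zero_left, map_zero, Complex.zero_re]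
    rw [this, hs, ← h0]
    simp

/-- Precomposition with a coprime power preserves inner products. -/
theorem classInner_powMap {m : ℕ} (hm : m.Coprime (Nat.card G)) (X Y : G → ℂ) :
    classInner (fun g => X (g ^ m)) (fun g => Y (g ^ m)) = classInner X Y := by
  rw [classInner, classInner]
  exact congrArg _ (Function.Bijective.sum_comp (powCoprime_bijective hm) fun g => X g * conj (Y g))

/-- Bessel over the grid and an orthogonal family, with the case of equality. -/
theorem grid_bessel {W₁ W₂ : Subgroup G} (E : Grid W₁ W₂) {ι : Type*} (s : Finset ι) (f : ι → G → ℂ)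
    (hf : ∀ i ∈ s, IsSigned G (f i)) (ho : ∀ i ∈ s, ∀ j ∈ s, i ≠ j → classInner (f i) (f j) = 0)
    (he : ∀ i ∈ s, ∀ k l, classInner (f i) (E.eta k l) = 0) {X : G → ℂ} (hX : IsGeneralizedCharacter G X)
    {z : (↥W₁ →* ℂˣ) → (↥W₂ →* ℂˣ) → ℤ} (hz : ∀ k l, classInner X (E.eta k l) = z k l)
    (y : ι → ℤ) (hy : ∀ i ∈ s, classInner X (f i) = y i) {N : ℤ} (hN : classInner X X = N) :
    ∑ k, ∑ l, z k l ^ 2 + ∑ i ∈ s, y i ^ 2 ≤ N ∧
      (∑ k, ∑ l, z k l ^ 2 + ∑ i ∈ s, y i ^ 2 = N →
        X = ∑ k, ∑ l, (z k l : ℂ) • E.eta k l + ∑ i ∈ s, (y i : ℂ) • f i) := by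
  classical
  let F : ((↥W₁ →* ℂˣ) × (↥W₂ →* ℂˣ)) ⊕ ι → G → ℂ := Sum.elim (fun p => E.eta p.1 p.2) f
  let Zc : ((↥W₁ →* ℂˣ) × (↥W₂ →* ℂˣ)) ⊕ ι → ℤ := Sum.elim (fun p => z p.1 p.2) y
  have hsig : ∀ a ∈ Finset.univ.disjSum s, IsSigned G (F a) := fun a ha => by
    cases a with
    | inl p => exact E.signed _ _
    | inr i => exact hf i (Finset.inr_mem_disjSum.1 ha)
  have horth : ∀ a ∈ Finset.univ.disjSum s, ∀ b ∈ Finset.univ.disjSum s, a ≠ b → classInner (F a) (F b) = 0 := by
    intro a ha b hb hab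
    cases a with
    | inl p => cases b with
      | inl r => exact E.orth _ _ _ _ (not_and_or.1 fun e => hab (by rw [Prod.ext e.1 e.2]))
      | inr i =>
        show classInner (E.eta p.1 p.2) (f i) = 0
        rw [← classInner_symm, he i (Finset.inr_mem_disjSum.1 hb), map_zero]
    | inr i => cases b with
      | inl r => exact he i (Finset.inr_mem_disjSum.1 ha) _ _
      | inr j => exact ho i (Finset.inr_mem_disjSum.1 ha) j (Finset.inr_mem_disjSum.1 hb) fun e => hab (by rw [e])
  have hco : ∀ a ∈ Finset.univ.disjSum s, classInner X (F a) = Zc a := fun a ha => by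
    cases a with
    | inl p => exact hz _ _
    | inr i => exact hy i (Finset.inr_mem_disjSum.1 ha)
  obtain ⟨-, -, h3⟩ := signed_split _ F hsig horth hX Zc hco
  rw [Finset.sum_disjSum, Finset.sum_disjSum, hN] at h3
  simp only [F, Zc, Sum.elim_inl, Sum.elim_inr] at h3
  rw [Fintype.sum_prod_type (f := fun p => (z p.1 p.2 : ℂ) • E.eta p.1 p.2),
    Fintype.sum_prod_type (f := fun p => ((z p.1 p.2 : ℤ) : ℂ) ^ 2)] at h3
  set R := X - (∑ k, ∑ l, (z k l : ℂ) • E.eta k l + ∑ i ∈ s, (y i : ℂ) • f i) with hR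
  have h4 : classInner R R = ((N - (∑ k, ∑ l, z k l ^ 2 + ∑ i ∈ s, y i ^ 2) : ℤ) : ℂ) := by
    rw [h3]; push_cast; ring
  refine ⟨?_, fun heq => ?_⟩
  · have h0 := classInner_self_re_nonneg R
    rw [h4, Complex.intCast_re] at h0
    have : (0 : ℤ) ≤ N - (∑ k, ∑ l, z k l ^ 2 + ∑ i ∈ s, y i ^ 2) := by exact_mod_cast h0
    omega
  · rw [heq, sub_self, Int.cast_zero] at h4
    exact sub_eq_zero.1 (classInner_self_eq_zero h4)

theorem conj_indFun (A : Subgroup G) (θ : A → ℂ) : conjFun (indFun A θ) = indFun A (conjFun θ) := by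
  funext x
  rw [conjFun, indFun, indFun, map_mul, map_inv₀, Complex.conj_natCast, map_sum]
  refine congrArg _ (Finset.sum_congr rfl fun y _ => ?_)
  by_cases h : y⁻¹ * x * y ∈ A
  · rw [extendByZero_mem A _ h, extendByZero_mem A _ h]
    rfl
  · rw [extendByZero_not_mem A _ h, extendByZero_not_mem A _ h, map_zero]

theorem indFun_comp_pow (A : Subgroup G) {k : ℕ} (hk : k.Coprime (Nat.card G)) (θ : A → ℂ) :
    (fun x => indFun A θ (x ^ k)) = indFun A (fun y => θ (y ^ k)) := by
  funext x
  rw [indFun, indFun]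
  refine congrArg _ (Finset.sum_congr rfl fun y _ => ?_)
  have e : y⁻¹ * x ^ k * y = (y⁻¹ * x * y) ^ k := by
    conv_rhs => rw [show y⁻¹ * x * y = y⁻¹ * x * y⁻¹⁻¹ by rw [inv_inv], conj_pow, inv_inv]
  rw [e]
  by_cases h : y⁻¹ * x * y ∈ A
  · rw [extendByZero_mem A _ (pow_mem h k), extendByZero_mem A _ h]
    rfl
  · have h2 : (y⁻¹ * x * y) ^ k ∉ A := fun hh => h (by
      obtain ⟨j, hj⟩ := exists_pow_eq_self_of_coprime (x := y⁻¹ * x * y) (n := k)
        (hk.coprime_dvd_right (orderOf_dvd_natCard _))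
      exact hj ▸ pow_mem hh j)
    rw [extendByZero_not_mem A _ h2, extendByZero_not_mem A _ h]

theorem sum_sq_single {ι : Type*} [DecidableEq ι] (s : Finset ι) {a : ι} (ha : a ∈ s) (x y : ℤ) :
    ∑ i ∈ s, (x - if i = a then y else 0) ^ 2 = s.card * x ^ 2 - 2 * x * y + y ^ 2 := by
  rw [← Finset.add_sum_erase _ _ ha, if_pos rfl,
    Finset.sum_congr rfl fun i hi => by rw [if_neg (Finset.mem_erase.1 hi).1, sub_zero],
    Finset.sum_const, nsmul_eq_mul, ← Finset.card_erase_add_one ha]
  push_cast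
  ring

end General

variable {G : Type u} [Group G] [Fintype G] {T Z K H : Subgroup G} [Fintype T]
  [Fintype ↥(H.subgroupOf T)] [(H.subgroupOf T).Normal]

/-- Functions on `T` living on the TI set. -/
def Supp (T : Subgroup G) (α : T → ℂ) : Prop := ∀ x : T, (x : G) ∉ sigmaSet T → α x = 0

theorem classFun_sub {A : Type u} [Group A] {a b : A → ℂ} (ha : IsClassFunction A a)
    (hb : IsClassFunction A b) : IsClassFunction A (a - b) := fun g k => by
  simp only [Pi.sub_apply, ha g k, hb g k]

/-- A signed orthogonal family extending induction on differences of the linear family. -/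
structure TailFam (T H : Subgroup G) [Fintype T] [Fintype ↥(H.subgroupOf T)] [(H.subgroupOf T).Normal]
    {Z K : Subgroup G} (E : Grid K Z) (φ : (T → ℂ) → G → ℂ) : Prop where
  signed : ∀ a ∈ linFam T H, IsSigned G (φ a)
  orth : ∀ a ∈ linFam T H, ∀ b ∈ linFam T H, a ≠ b → classInner (φ a) (φ b) = 0
  diff : ∀ a ∈ linFam T H, ∀ b ∈ linFam T H, indFun T (a - b) = φ a - φ b
  conj_eq : ∀ a ∈ linFam T H, cj (φ a) = φ (conjFun a)
  eta : ∀ a ∈ linFam T H, ∀ i j, classInner (φ a) (E.eta i j) = 0

section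

variable (M : Mu T Z K) (E : Grid K Z) (d : Tail T Z K H)
include M E d

theorem supp_of_vanish {α : T → ℂ} (hα : IsClassFunction T α) (h1 : α 1 = 0)
    (h : ∀ t : T, (t : G) ∉ H → α t = 0) : Supp T α :=
  d.supported hα h1 fun z hz hz1 => h z fun hH => hz1 (Subtype.ext (d.one_of_mem hz hH))

theorem hat_sigma {k z : G} (hk : k ∈ K) (hz : z ∈ Z) (hk1 : k ≠ 1) : k * z ∈ sigmaSet T := by
  have h : (k * z) ^ Nat.card Z = k ^ Nat.card Z := by
    rw [Commute.mul_pow (d.comm hk hz)]
    have : z ^ Nat.card Z = 1 := by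
      simpa only [SubgroupClass.coe_pow, OneMemClass.coe_one] using
        congrArg Subtype.val (pow_card_eq_one' (x := (⟨z, hz⟩ : Z)))
    rw [this, mul_one]
  refine ⟨T.mul_mem (d.K_le hk) (d.Z_le hz), Nat.card Z, ?_, ?_⟩
  · rw [h, ← d.H_eq]
    exact H.pow_mem (d.K_le_H hk) _
  · rw [h]
    intro hc
    exact hk1 (orderOf_eq_one_iff.1 (Nat.eq_one_of_dvd_coprimes d.coprime (orderOf_dvd_of_pow_eq_one hc)
      (Subgroup.orderOf_dvd_natCard H (d.K_le_H hk))))

theorem mem_hatG {t : T} {k z s : G} (hk : k ∈ K) (hz : z ∈ Z) (hk1 : k ≠ 1) (hz1 : z ≠ 1)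
    (e : (t : G) = s * (k * z) * s⁻¹) : (t : G) ∈ hatG K Z := ⟨s, k, hk, z, hz, hk1, hz1, e⟩

theorem sub_supp {a b : T → ℂ} (ha : a ∈ linFam T H) (hb : b ∈ linFam T H) : Supp T (a - b) :=
  supp_of_vanish M E d
    (classFun_sub (isClassFunction_character (irr_isCharacter (linFam_irr M E d ha)))
      (isClassFunction_character (irr_isCharacter (linFam_irr M E d hb))))
    (by rw [Pi.sub_apply, linFam_deg M E d ha, linFam_deg M E d hb, sub_self])
    fun t ht => by rw [Pi.sub_apply, linFam_vanish M E d ha ht, linFam_vanish M E d hb ht, sub_self]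

theorem exists_tailFam : ∃ φ, TailFam T H E φ := by
  classical
  set F := linFam T H
  have hTI := d.isTI
  have hclass : ∀ a ∈ F, IsClassFunction T a := fun a ha =>
    isClassFunction_character (irr_isCharacter (linFam_irr M E d ha))
  have hvan : ∀ α ∈ zspan (↑F : Set (T → ℂ)), IsClassFunction T α ∧ IsGeneralizedCharacter T α ∧
      ∀ t : T, (t : G) ∉ H → α t = 0 := fun α hα => by
    induction hα using Submodule.span_induction with
    | mem a ha => exact ⟨hclass a ha, gen_of_char (irr_isCharacter (linFam_irr M E d ha)),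
        fun t ht => linFam_vanish M E d ha ht⟩
    | zero => exact ⟨fun _ _ => rfl, isGenChar_zero, fun _ _ => rfl⟩
    | add a b _ _ ha hb => exact ⟨fun g k => by simp only [Pi.add_apply, ha.1 g k, hb.1 g k],
        gen_add ha.2.1 hb.2.1, fun t ht => by rw [Pi.add_apply, ha.2.2 t ht, hb.2.2 t ht, add_zero]⟩
    | smul n a _ ha => exact ⟨fun g k => by simp only [Pi.smul_apply, ha.1 g k],
        by rw [← Int.cast_smul_eq_zsmul ℂ]; exact isGenChar_int_smul ha.2.1 n,
        fun t ht => by rw [Pi.smul_apply, ha.2.2 t ht, smul_zero]⟩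
  have hsupp : ∀ α ∈ zspanOn (↑F : Set (T → ℂ)) {1}ᶜ, Supp T α := fun α hα =>
    supp_of_vanish M E d (hvan α hα.1).1 (hα.2 1 (by simp)) (hvan α hα.1).2.2
  have hiso : IsLinearIsometryOn (zspanOn (↑F : Set (T → ℂ)) {1}ᶜ) (indFun T) :=
    ⟨fun a _ b _ => indFun_add T a b, fun a _ n => by
        rw [← Int.cast_smul_eq_zsmul ℂ, indFun_smul, Int.cast_smul_eq_zsmul],
      fun a ha b hb => hTI.inner (hsupp a ha) (hvan b hb.1).1 (hsupp b hb),
      fun a ha => hTI.ind_gen (hvan a ha.1).2.1⟩
  obtain ⟨-, τ₁, hτ₁, hext⟩ := coherent_const_exceptional F (fun a ha => linFam_irr M E d ha)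
    (two_le_card_linFam M E d) (fun a ha b hb => by rw [linFam_deg M E d ha, linFam_deg M E d hb])
    (indFun T) hiso (fun α hα => by rw [indFun_one, hα.2 1 (by simp), mul_zero])
  have hmem : ∀ a ∈ F, a ∈ zspan (↑F : Set (T → ℂ)) := fun a ha => mem_zspan_of_mem (Finset.mem_coe.2 ha)
  have horth : ∀ a ∈ F, ∀ b ∈ F, classInner (τ₁ a) (τ₁ b) = if a = b then 1 else 0 := fun a ha b hb => by
    rw [hτ₁.2.2.1 a (hmem a ha) b (hmem b hb), irr_orth (linFam_irr M E d ha) (linFam_irr M E d hb)]
  have hsig : ∀ a ∈ F, IsSigned G (τ₁ a) := fun a ha =>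
    signed_of_norm_one (hτ₁.2.2.2 a (hmem a ha)) (by rw [horth a ha a ha, if_pos rfl])
  have hdiff : ∀ a ∈ F, ∀ b ∈ F, indFun T (a - b) = τ₁ a - τ₁ b := fun a ha b hb => by
    rw [← hext (a - b) (cohSys_diff_mem (Finset.mem_coe.2 ha) (Finset.mem_coe.2 hb)
      ((linFam_deg M E d ha).trans (linFam_deg M E d hb).symm))]
    have e1 : a - b = a + (-1 : ℤ) • b := by rw [neg_one_smul, ← sub_eq_add_neg]
    rw [e1, hτ₁.1 a (hmem a ha) _ (Submodule.smul_mem _ _ (hmem b hb)), hτ₁.2.1 b (hmem b hb)]
    rw [neg_one_smul, ← sub_eq_add_neg]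
  have hcj : ∀ a ∈ F, cj (τ₁ a) = τ₁ (conjFun a) := fun a ha => by
    have ha' := linFam_conj M E d ha
    refine cj_eq_of_pair (hsig a ha) (hsig _ ha')
      (by rw [horth a ha _ ha', if_neg (linFam_conj_ne M E d ha).symm]) ?_
    rw [← cj_sub, ← hdiff a ha _ ha', ← hdiff _ ha' a ha]
    rw [show cj (indFun T (a - conjFun a)) = conjFun (indFun T (a - conjFun a)) from rfl, conj_indFun]
    refine congrArg _ (funext fun x => ?_)
    simp [conjFun]
  refine ⟨τ₁, hsig, fun a ha b hb hab => by rw [horth a ha b hb, if_neg hab], hdiff, hcj, fun a ha i j => ?_⟩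
  have ha' := linFam_conj M E d ha
  have hne := linFam_conj_ne M E d ha
  set D := indFun T (a - conjFun a) with hD
  have hDe : D = τ₁ a - τ₁ (conjFun a) := hdiff a ha _ ha'
  have hDgen : IsGeneralizedCharacter G D := hTI.ind_gen (hvan _ (Submodule.sub_mem _ (hmem a ha) (hmem _ ha'))).2.1
  have h0 : ∀ i j, classInner D (E.eta i j) = 0 := by
    refine E.orth_of_small (d.three_le_card K d.K_ne) (d.three_le_card Z d.Z_ne) hDgen ?_ ?_ ?_
    · rw [hDe, classInner_sub_left, classInner_sub_right, classInner_sub_right, horth a ha a ha,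
        horth a ha _ ha', horth _ ha' a ha, horth _ ha' _ ha', if_pos rfl, if_pos rfl, if_neg hne,
        if_neg hne.symm]
      norm_num
    · rw [hD, IsTI.inner_one hTI, classInner_sub_left]
      have h1 : ∀ b ∈ F, classInner b (fun _ => 1) = (0 : ℂ) := fun b hb => by
        rw [irr_orth (linFam_irr M E d hb) isIrrCharacter_one, if_neg]
        intro e
        have := congrFun e 1
        rw [linFam_deg M E d hb] at this
        have h2 : Nat.card Z = 1 := by exact_mod_cast this
        have := d.three_le_card Z d.Z_ne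
        omega
      rw [h1 a ha, h1 _ ha', sub_self]
    · intro k hk z hz hk1 hz1
      rw [hD, hTI.ind_apply (classFun_sub (hclass a ha) (hclass _ ha')) (sub_supp M E d ha ha')
        (a := ⟨k * z, T.mul_mem (d.K_le hk) (d.Z_le hz)⟩) (hat_sigma M E d hk hz hk1), Pi.sub_apply,
        linFam_vanish M E d ha (d.hat_notMem hk hz hz1), linFam_vanish M E d ha' (d.hat_notMem hk hz hz1), sub_self]
  have he := h0 i j
  rw [hDe, classInner_sub_left, sub_eq_zero] at he
  have hsq : classInner (τ₁ a) (τ₁ (conjFun a)) = 0 := by rw [horth a ha _ ha', if_neg hne.symm]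
  rcases (hsig a ha).inner_cases (E.signed i j) with h | h | h
  · exact h
  · exfalso
    rw [h, (E.signed i j).self] at he
    rw [h, ← classInner_symm, ← he, map_one] at hsq
    exact one_ne_zero hsq
  · exfalso
    rw [h, classInner_neg_left, (E.signed i j).self] at he
    rw [h, classInner_neg_left, ← classInner_symm, ← he] at hsq
    simp at hsq

end

end Cfsg.Agent.OddFT
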