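import Cfsg.Agent.Lib.OddChar.FT.TailRed
import Cfsg.Agent.Lib.Char.GaloisDegrees
import Cfsg.Agent.Lib.OddLocal.SigmaSubgroups

/-!
A nilpotent `H`: its Sylow subgroup containing `K`, the complement, and the central subgroup to be used.
-/

set_option autoImplicit false
set_option linter.unusedSectionVars false
set_option linter.unusedVariables false
set_option linter.style.haveILetI false

open Cfsg Cfsg.Agent.Char Cfsg.Agent.OddChar
open scoped ComplexConjugate commutatorElement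
open Cfsg.Agent.Fusion (SylIn cj cj_eq_self mem_normalizer_of_cj_le)
open Cfsg.Agent.OddLocal

namespace Cfsg.Agent.OddFT

universe u

variable {G : Type u} [Group G] [Fintype G] {T Z K H : Subgroup G}

/-- The Sylow subgroup of `H` at `|K|` and its complement. -/
structure NilpParts (T Z K H R J : Subgroup G) : Prop where
  tail : Tail T Z K H
  pgroup : IsPGroup (Nat.card K) R
  K_le : K ≤ R
  R_le : R ≤ H
  J_le : J ≤ H
  R_norm : T ≤ Subgroup.normalizer (R : Set G)
  J_norm : T ≤ Subgroup.normalizer (J : Set G)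
  coprime : (Nat.card R).Coprime (Nat.card J)
  card : Nat.card R * Nat.card J = Nat.card H
  mul : ∀ x ∈ H, ∃ a ∈ R, ∃ j ∈ J, x = a * j
  comm : ∀ a ∈ R, ∀ j ∈ J, a * j = j * a

theorem Tail.exists_parts (d : Tail T Z K H) (hn : Group.IsNilpotent H) :
    ∃ R J : Subgroup G, NilpParts T Z K H R J := by
  classical
  haveI := hn
  set q := Nat.card K with hq
  haveI : Fact q.Prime := ⟨d.prime⟩
  have hKp : IsPGroup q K := IsPGroup.of_card (n := 1) (pow_one _).symm
  obtain ⟨R, hR, hKR⟩ := Fusion.exists_sylIn_ge hKp d.K_le_H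
  have hTR : T ≤ Subgroup.normalizer (R : Set G) := fun t ht =>
    SigmaSubgroups.sylow_of_nilpotent_normal hn d.H_norm hR ht
  haveI : (R.subgroupOf H).Normal := Subgroup.normal_subgroupOf_of_le_normalizer (d.H_le.trans hTR)
  obtain ⟨k, hk⟩ := IsPGroup.iff_card.1 hR.isPGroup
  have hcopR : (Nat.card (R.subgroupOf H)).Coprime (R.subgroupOf H).index := by
    rw [Solv.card_subgroupOf hR.le, hk]
    exact ((d.prime.coprime_iff_not_dvd).2 hR.not_dvd).pow_left k
  obtain ⟨M', hM'⟩ := Subgroup.exists_right_complement'_of_coprime hcopR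
  set J : Subgroup G := M'.map H.subtype with hJ
  have hJH : J ≤ H := Subgroup.map_subtype_le _
  have hcJ : Nat.card J = (R.subgroupOf H).index := by
    rw [hJ, Subgroup.card_map_of_injective Subtype.coe_injective]
    exact Nat.eq_of_mul_eq_mul_left Nat.card_pos (hM'.card_mul_card.trans (R.subgroupOf H).card_mul_index.symm)
  have hcard : Nat.card R * Nat.card J = Nat.card H := by
    rw [hcJ, ← Solv.card_subgroupOf hR.le, Subgroup.card_mul_index]
  have hRJ : (Nat.card R).Coprime (Nat.card J) := by rw [hcJ, ← Solv.card_subgroupOf hR.le]; exact hcopR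
  have hmul : ∀ x ∈ H, ∃ a ∈ R, ∃ b ∈ J, x = a * b := fun x hx => by
    obtain ⟨⟨a, b⟩, hab, -⟩ := Function.Bijective.existsUnique hM' ⟨x, hx⟩
    exact ⟨(a : G), a.2, ((b : H) : G), Subgroup.mem_map_of_mem _ b.2, (congrArg Subtype.val hab).symm⟩
  have hcomm : ∀ a ∈ R, ∀ b ∈ J, a * b = b * a := fun a ha b hb =>
    Subgroup.mem_centralizer_iff.1 (TypePBasic.nilpotent_coprime_commute (F := H) hR.le hJH hRJ hb) a ha
  have hJchar : ∀ x ∈ H, (orderOf x).Coprime q → x ∈ J := fun x hx hxr => by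
    obtain ⟨a, ha, b, hb, rfl⟩ := hmul x hx
    suffices a = 1 by rw [this, one_mul]; exact hb
    have hcm : Commute a b := hcomm a ha b hb
    have h0 : (orderOf a).Coprime (orderOf b) :=
      (hRJ.coprime_dvd_left (Subgroup.orderOf_dvd_natCard _ ha)).coprime_dvd_right
        (Subgroup.orderOf_dvd_natCard _ hb)
    rw [hcm.orderOf_mul_eq_mul_orderOf_of_coprime h0] at hxr
    obtain ⟨i, hi⟩ := IsPGroup.iff_orderOf.1 hR.isPGroup ⟨a, ha⟩
    rw [Subgroup.orderOf_mk] at hi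
    exact orderOf_eq_one_iff.1 (Nat.eq_one_of_dvd_coprimes (hxr.pow_right i) (dvd_mul_right _ _) hi.dvd)
  have hJr : (Nat.card J).Coprime q := by
    rw [hcJ]; exact ((d.prime.coprime_iff_not_dvd).2 hR.not_dvd).symm
  refine ⟨R, J, d, hR.isPGroup, hKR, hR.le, hJH, hTR, fun t ht => mem_normalizer_of_cj_le fun x hx => ?_, hRJ,
    hcard, hmul, hcomm⟩
  obtain ⟨y, hy, rfl⟩ := hx
  refine hJchar _ (d.conj_mem ht (hJH hy)) ?_
  refine hJr.coprime_dvd_left ?_
  rw [show ((MulAut.conj t).toMonoidHom y) = (MulAut.conj t) y from rfl, MulEquiv.orderOf_eq]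
  exact Subgroup.orderOf_dvd_natCard _ hy

namespace NilpParts

variable {R J : Subgroup G} (p : NilpParts T Z K H R J)
include p

theorem R_inf_J : R ⊓ J = ⊥ := Subgroup.inf_eq_bot_of_coprime p.coprime

theorem conj_into {t x : G} {A : Subgroup G} (hA : T ≤ Subgroup.normalizer (A : Set G)) (ht : t ∈ T)
    (hx : x ∈ A) : t * x * t⁻¹ ∈ A := Solv.conj_mem_of_mem_normalizer (hA ht) hx

/-- The commutator subgroup of `H` is that of `R` times that of `J`. -/
theorem derived_mem {x : G} (hx : x ∈ ⁅H, H⁆) : ∃ a ∈ ⁅R, R⁆, ∃ j ∈ J, x = a * j := by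
  have hn : ∀ a ∈ ⁅R, R⁆, ∀ j ∈ J, a * j = j * a := fun a ha j hj =>
    p.comm a (Subgroup.commutator_le_self R ha) j hj
  let S : Subgroup G :=
    { carrier := {x | ∃ a ∈ ⁅R, R⁆, ∃ j ∈ J, x = a * j}
      one_mem' := ⟨1, one_mem _, 1, one_mem _, (one_mul 1).symm⟩
      mul_mem' := fun {x y} ⟨a, ha, j, hj, hx⟩ ⟨b, hb, i, hi, hy⟩ => ⟨a * b, mul_mem ha hb, j * i, mul_mem hj hi, by
        rw [hx, hy, mul_assoc, ← mul_assoc j, ← hn b hb j hj]; group⟩
      inv_mem' := fun {x} ⟨a, ha, j, hj, hx⟩ => ⟨a⁻¹, inv_mem ha, j⁻¹, inv_mem hj, by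
        rw [hx, mul_inv_rev, hn _ (inv_mem ha) _ (inv_mem hj)]⟩ }
  have : ⁅H, H⁆ ≤ S := Subgroup.commutator_le.2 fun x hx y hy => by
    obtain ⟨a, ha, j, hj, rfl⟩ := p.mul x hx
    obtain ⟨b, hb, i, hi, rfl⟩ := p.mul y hy
    refine ⟨⁅a, b⁆, Subgroup.commutator_mem_commutator ha hb, ⁅j, i⁆,
      Subgroup.commutator_le_self J (Subgroup.commutator_mem_commutator hj hi), ?_⟩
    have e1 : Commute j b := (p.comm b hb j hj).symm
    have e2 : Commute j a⁻¹ := (p.comm a⁻¹ (inv_mem ha) j hj).symm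
    have e3 : Commute i a⁻¹ := (p.comm a⁻¹ (inv_mem ha) i hi).symm
    have e4 : Commute (j * i * j⁻¹) b⁻¹ :=
      (p.comm b⁻¹ (inv_mem hb) _ (mul_mem (mul_mem hj hi) (inv_mem hj))).symm
    have e4' : Commute (j * i * j⁻¹) a⁻¹ :=
      (p.comm a⁻¹ (inv_mem ha) _ (mul_mem (mul_mem hj hi) (inv_mem hj))).symm
    have e5 : Commute i⁻¹ b⁻¹ := (p.comm b⁻¹ (inv_mem hb) _ (inv_mem hi)).symm
    calc ⁅a * j, b * i⁆ = a * (j * b) * i * j⁻¹ * a⁻¹ * (i⁻¹ * b⁻¹) := by rw [commutatorElement_def]; group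
      _ = a * b * ((j * i * j⁻¹) * a⁻¹) * (b⁻¹ * i⁻¹) := by rw [e1.eq, e5.eq]; group
      _ = a * b * a⁻¹ * ((j * i * j⁻¹) * b⁻¹) * i⁻¹ := by rw [e4'.eq]; group
      _ = ⁅a, b⁆ * ⁅j, i⁆ := by rw [e4.eq, commutatorElement_def, commutatorElement_def]; group
  exact this hx

theorem K_le_derived : K ≤ ⁅R, R⁆ := fun k hk => by
  obtain ⟨a, ha, j, hj, e⟩ := p.derived_mem (p.tail.K_le_derived hk)
  have : j ∈ R ⊓ J := ⟨by
    rw [show j = a⁻¹ * k by rw [e]; group]
    exact R.mul_mem (R.inv_mem (Subgroup.commutator_le_self R ha)) (p.K_le hk), hj⟩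
  rw [p.R_inf_J, Subgroup.mem_bot] at this
  rw [e, this, mul_one]; exact ha

theorem derived_R_le : ⁅R, R⁆ ≤ ⁅H, H⁆ := Subgroup.commutator_mono p.R_le p.R_le

theorem central_of_center {v : G} (hv : v ∈ R) (hc : ∀ a ∈ R, a * v = v * a) {x : G} (hx : x ∈ H) :
    x * v = v * x := by
  obtain ⟨a, ha, j, hj, rfl⟩ := p.mul x hx
  exact ((show Commute a v from hc a ha).mul_left (show Commute j v from (p.comm v hv j hj).symm)).eq

/-- The reduction with `V = K`. -/
theorem red_K (hc : ∀ x ∈ H, ∀ k ∈ K, x * k = k * x) : TailRed T H (Nat.card K) R J K where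
  prime := p.tail.prime
  pgroup := p.pgroup
  R_le := p.R_le
  J_le := p.J_le
  J_norm := p.J_norm
  V_norm := fun t ht => mem_normalizer_of_cj_le (by
    rintro _ ⟨k, hk, rfl⟩
    obtain ⟨h, hh, z, hz, rfl⟩ := p.tail.mul ht
    show h * z * k * (h * z)⁻¹ ∈ K
    rw [show h * z * k * (h * z)⁻¹ = h * (z * k * z⁻¹) * h⁻¹ by group, ← p.tail.comm hk hz, mul_inv_cancel_right,
      hc h hh k hk, mul_inv_cancel_right]
    exact hk)
  coprime := p.coprime
  card := p.card
  mul := p.mul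
  V_le := p.K_le
  V_derived := p.K_le_derived.trans p.derived_R_le
  central := hc
  V_ne := p.tail.K_ne

/-- The reduction when `K` is not central. -/
theorem red_V (hc : ¬ ∀ x ∈ H, ∀ k ∈ K, x * k = k * x) :
    ∃ V : Subgroup G, TailRed T H (Nat.card K) R J V ∧ ∀ z ∈ Z, z ≠ 1 → ∀ v ∈ V, z * v = v * z → v = 1 := by
  classical
  haveI : Fact (Nat.card K).Prime := ⟨p.tail.prime⟩
  set V : Subgroup G := ⁅R, R⁆ ⊓ Subgroup.centralizer (R : Set G) with hV
  have hVR : V ≤ R := inf_le_left.trans (Subgroup.commutator_le_self R)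
  have hne : ⁅R, R⁆ ≠ ⊥ := fun h => p.tail.K_ne (le_bot_iff.1 (h ▸ p.K_le_derived))
  have hVne : V ≠ ⊥ := by
    have hne' : commutator R ≠ ⊥ := fun h => hne (by rw [← Subgroup.map_subtype_commutator, h, Subgroup.map_bot])
    haveI := Fintype.ofFinite R
    have h2 := Char.GalDeg.inf_center_ne_bot p.pgroup (commutator R) hne'
    obtain ⟨y, hy, hy1⟩ := Subgroup.bot_or_exists_ne_one (commutator R ⊓ Subgroup.center R) |>.resolve_left h2
    intro hbot
    refine hy1 (Subtype.ext ?_)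
    have : (y : G) ∈ V := ⟨Subgroup.map_subtype_commutator R ▸ Subgroup.mem_map_of_mem _ hy.1,
      Subgroup.mem_centralizer_iff.2 fun x hx => congrArg Subtype.val (Subgroup.mem_center_iff.1 hy.2 ⟨x, hx⟩)⟩
    rw [hbot, Subgroup.mem_bot] at this
    exact this
  have hcent : ∀ x ∈ H, ∀ v ∈ V, x * v = v * x := fun x hx v hv =>
    p.central_of_center (hVR hv) (fun a ha => Subgroup.mem_centralizer_iff.1 hv.2 a ha) hx
  refine ⟨V, ⟨p.tail.prime, p.pgroup, p.R_le, p.J_le, p.J_norm, fun t ht => mem_normalizer_of_cj_le ?_, p.coprime,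
    p.card, p.mul, hVR, inf_le_left.trans p.derived_R_le, hcent, hVne⟩, fun z hz hz1 v hv e => ?_⟩
  · rw [hV, Fusion.cj_inf, Fusion.cj_commutator, Fusion.cj_centralizer, cj_eq_self (p.R_norm ht)]
  · by_contra hv1
    have hvK : v ∈ K := p.tail.mem_K_of_comm hz hz1 (p.R_le (hVR hv)) e
    refine hc fun x hx k hk => ?_
    have hgen : Subgroup.zpowers v = K := Subgroup.eq_of_le_of_card_ge (Subgroup.zpowers_le.2 hvK) (by
      rw [Nat.card_zpowers]
      have h1 := (Nat.dvd_prime p.tail.prime).1 (Subgroup.orderOf_dvd_natCard K hvK)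
      exact le_of_eq (h1.resolve_left fun h => hv1 (orderOf_eq_one_iff.1 h)).symm)
    rw [← hgen] at hk
    exact hcent x hx k ((Subgroup.zpowers_le.2 hv) hk)

variable [Fintype T] [Fintype ↥(H.subgroupOf T)] [(H.subgroupOf T).Normal]

/-- The invariant characters are trivial on `J`. -/
theorem theta_trivJ (C : TData T Z K H) (i : ↥K →* ℂˣ) : TrivOn J (C.M.theta C.tail i) := by
  classical
  haveI : (J.subgroupOf T).Normal := Subgroup.normal_subgroupOf_of_le_normalizer p.J_norm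
  haveI := Fintype.ofFinite ↥(J.subgroupOf T)
  obtain ⟨z, hz, -⟩ := Mu.exists_z C.tail
  set zz : T := ⟨z, C.tail.Z_le z.2⟩ with hzz
  have hval : C.M.mu i 1 zz = (C.M.sgn i : ℂ) := by
    have := C.M.val i 1 1 z zz hz (one_mul _).symm
    simpa using this
  have hconst : ∀ j : ↥(J.subgroupOf T), C.M.mu i 1 ((j : T) * zz) = C.M.mu i 1 zz := by
    let f : J → J := fun y => ⟨(y : G)⁻¹ * ((z : G) * y * (z : G)⁻¹),
      J.mul_mem (J.inv_mem y.2) (p.conj_into p.J_norm (C.tail.Z_le z.2) y.2)⟩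
    have hf : Function.Injective f := fun a b hab => by
      have e1 : (a : G)⁻¹ * ((z : G) * a * (z : G)⁻¹) = (b : G)⁻¹ * ((z : G) * b * (z : G)⁻¹) :=
        congrArg Subtype.val hab
      have e2 : (z : G) * ((a : G) * (b : G)⁻¹) = ((a : G) * (b : G)⁻¹) * z := by
        calc (z : G) * ((a : G) * (b : G)⁻¹) = (a : G) * ((a : G)⁻¹ * ((z : G) * a * (z : G)⁻¹)) * z * (b : G)⁻¹ := by group
          _ = _ := by rw [e1]; group
      have e3 : (a : G) * (b : G)⁻¹ ∈ K :=
        C.tail.mem_K_of_comm z.2 (fun h => hz (Subtype.ext h)) (p.J_le (J.mul_mem a.2 (J.inv_mem b.2))) e2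
      have e4 : (a : G) * (b : G)⁻¹ ∈ R ⊓ J := ⟨p.K_le e3, J.mul_mem a.2 (J.inv_mem b.2)⟩
      rw [p.R_inf_J, Subgroup.mem_bot] at e4
      exact Subtype.ext (mul_inv_eq_one.1 e4)
    intro j
    obtain ⟨y, hy⟩ := (Finite.injective_iff_surjective.1 hf) ⟨((j : T) : G), j.2⟩
    have e : (j : T) * zz = (⟨y, C.tail.H_le (p.J_le y.2)⟩ : T)⁻¹ * zz * (⟨y, C.tail.H_le (p.J_le y.2)⟩ : T) := by
      refine Subtype.ext ?_
      show ((j : T) : G) * z = _
      rw [← congrArg Subtype.val hy]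
      simp [hzz, f, mul_assoc]
    rw [e]
    simpa using isClassFunction_character (irr_isCharacter (C.M.irr i 1)) zz
      (⟨y, C.tail.H_le (p.J_le y.2)⟩ : T)⁻¹
  have h := sum_translate (J.subgroupOf T) (C.M.irr i 1) zz
  rw [Finset.sum_congr rfl fun j _ => hconst j, Finset.sum_const, Finset.card_univ, nsmul_eq_mul, hval] at h
  have hne : ∑ j : ↥(J.subgroupOf T), C.M.mu i 1 (j : T) ≠ 0 := by
    intro h0
    rw [h0, zero_mul, mul_eq_zero, mul_eq_zero] at h
    rcases h with h | h | h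
    · exact irr_one_ne_zero (C.M.irr i 1) h
    · exact Fintype.card_ne_zero (Nat.cast_eq_zero.1 h)
    · exact C.M.sgn_ne C.tail i h
  intro x hx
  by_contra hc
  have h2 := sum_normal_subgroup (J.subgroupOf T) (⟨C.M.mu i 1, C.M.irr i 1⟩ : IrrCharacter T)
  rw [if_neg (fun hall => hc (by simpa [Mu.theta_apply] using hall (x : T) hx)),
    Finset.sum_subtype (p := fun t : T => t ∈ J.subgroupOf T) _ (fun t => by simp)] at h2
  exact hne h2

end NilpParts

end Cfsg.Agent.OddFT
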