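import Cfsg.Agent.Lib.OddChar.FT.TailNilpGroup
import Cfsg.Agent.Lib.Char.CoherenceCentralPGroup

/-!
The total coefficient is an integral multiple of the weight: by the Galois action when `K` is central,
by coherence when `Z` acts freely on `V`.
-/

set_option autoImplicit false
set_option linter.unusedSectionVars false
set_option linter.unusedVariables false
set_option linter.style.haveILetI false

open Cfsg Cfsg.Agent.Char Cfsg.Agent.OddChar
open scoped ComplexConjugate commutatorElement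

namespace Cfsg.Agent.OddFT

universe u

variable {G : Type u} [Group G] [Fintype G] {T Z K H R J V : Subgroup G} [Fintype T]
  [Fintype ↥(H.subgroupOf T)] [(H.subgroupOf T).Normal]

theorem TailRed.mem_center {r : ℕ} (s : TailRed T H r R J V) {x : ↥(H.subgroupOf T)}
    (hx : ((x : T) : G) ∈ V) : x ∈ Subgroup.center ↥(H.subgroupOf T) :=
  Subgroup.mem_center_iff.2 fun y => Subtype.ext (Subtype.ext (s.central _ y.2 _ hx))

theorem conj_coe_mem {X : Subgroup G} (hX : T ≤ Subgroup.normalizer (X : Set G)) (t : T)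
    {x : ↥(H.subgroupOf T)} (hx : ((x : T) : G) ∈ X) :
    (((MulAut.conjNormal t x : ↥(H.subgroupOf T)) : T) : G) ∈ X := by
  simpa [MulAut.conjNormal_apply] using Solv.conj_mem_of_mem_normalizer (hX t.2) hx

namespace NilpParts

variable (p : NilpParts T Z K H R J)
include p

/-- The case of central `K`. -/
theorem kappa_K (hc : ∀ x ∈ H, ∀ k ∈ K, x * k = k * x) (C : TData T Z K H)
    (hζ : ∀ x : ↥(H.subgroupOf T), ((x : T) : G) ∈ K ⊔ J → C.ζ (x : T) = C.ζ 1) :
    ∃ κ : ℤ, C.tot (redY T H J K) = κ * (TData.wt (redY T H J K) : ℤ) := by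
  classical
  have s := p.red_K hc
  have d := C.tail
  set Y := redY T H J K with hY
  have hdvd := s.congr_tot C hζ fun g hg => Or.inl fun x hx => by
    obtain ⟨v, hv, j, hj, rfl⟩ := (s.mem_sup d).1 hx
    obtain ⟨h, hh, z, hz, rfl⟩ := d.mul hg
    have e : h * z * v * (h * z)⁻¹ = v := by
      rw [show h * z * v * (h * z)⁻¹ = h * (z * v * z⁻¹) * h⁻¹ by group, ← d.comm hv hz, mul_inv_cancel_right,
        hc h hh v hv, mul_inv_cancel_right]
    rw [show ⁅h * z, v * j⁆ = (h * z * v * (h * z)⁻¹) * ((h * z) * j * (h * z)⁻¹ * j⁻¹) * v⁻¹ by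
      rw [commutatorElement_def]; group, e]
    exact Solv.conj_mem_of_mem_normalizer (p.J_norm (d.K_le hv))
      (J.mul_mem (Solv.conj_mem_of_mem_normalizer (p.J_norm hg) hj) (J.inv_mem hj))
  -- the central character
  let inc : K → ↥(H.subgroupOf T) := fun k => ⟨⟨k, d.K_le k.2⟩, d.K_le_H k.2⟩
  have hinc : ∀ a b : K, inc (a * b) = inc a * inc b := fun a b => rfl
  have hinc1 : inc 1 = 1 := rfl
  have hcen : ∀ (θ : IrrCharacter ↥(H.subgroupOf T)) (k : K) (x : ↥(H.subgroupOf T)),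
      (θ : ↥(H.subgroupOf T) → ℂ) (inc k * x) =
        (θ : ↥(H.subgroupOf T) → ℂ) (inc k) / (θ : ↥(H.subgroupOf T) → ℂ) 1 * (θ : ↥(H.subgroupOf T) → ℂ) x :=
    fun θ k x => char_central_mul θ.2 (s.mem_center k.2) x
  let g : IrrCharacter ↥(H.subgroupOf T) → K →* ℂ := fun θ =>
    { toFun := fun k => (θ : ↥(H.subgroupOf T) → ℂ) (inc k) / (θ : ↥(H.subgroupOf T) → ℂ) 1
      map_one' := by simp only [hinc1]; exact div_self (irr_one_ne_zero θ.2)
      map_mul' := fun a b => by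
        simp only [hinc]
        rw [hcen θ a (inc b)]
        ring }
  let lam : IrrCharacter ↥(H.subgroupOf T) → (↥K →* ℂˣ) := fun θ => (g θ).toHomUnits
  have hlam : ∀ θ k, ((lam θ k : ℂˣ) : ℂ) = (θ : ↥(H.subgroupOf T) → ℂ) (inc k) / (θ : ↥(H.subgroupOf T) → ℂ) 1 :=
    fun θ k => rfl
  have hlam1 : ∀ θ ∈ Y, lam θ ∈ Finset.univ.erase (1 : ↥K →* ℂˣ) := fun θ hθ => by
    refine Finset.mem_erase.2 ⟨fun h1 => (mem_redY.1 hθ).2 fun x hx => ?_, Finset.mem_univ _⟩
    have := hlam θ ⟨((x : T) : G), hx⟩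
    rw [h1, MonoidHom.one_apply, Units.val_one, eq_comm, div_eq_one_iff_eq (irr_one_ne_zero θ.2)] at this
    exact this
  set f : IrrCharacter ↥(H.subgroupOf T) → ℤ := fun θ =>
    (deg (θ : ↥(H.subgroupOf T) → ℂ) : ℤ) * C.kk θ with hf
  set X : (↥K →* ℂˣ) → ℤ := fun l => ∑ θ ∈ Y.filter fun θ => lam θ = l, f θ with hX
  have htot : C.tot Y = ∑ l ∈ Finset.univ.erase 1, X l := (Finset.sum_fiberwise_of_maps_to hlam1 f).symm
  have hconst : ∀ l ∈ Finset.univ.erase (1 : ↥K →* ℂˣ), X l = X C.i₀ := by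
    intro l hl
    obtain ⟨m, hm, rfl⟩ := d.exists_pow C.i₀_ne (Finset.mem_erase.1 hl).1
    have hmT : m.Coprime (Nat.card T) := hm.coprime_dvd_right (Subgroup.card_subgroup_dvd_card T)
    have hmH : m.Coprime (Nat.card ↥(H.subgroupOf T)) :=
      hmT.coprime_dvd_right (Subgroup.card_subgroup_dvd_card _)
    have hbH := powCoprime_bijective hmH
    let P : IrrCharacter ↥(H.subgroupOf T) → IrrCharacter ↥(H.subgroupOf T) := fun θ =>
      ⟨fun x => (θ : ↥(H.subgroupOf T) → ℂ) (x ^ m), isIrrCharacter_pow θ.2 hmH⟩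
    have hPinj : Function.Injective P := fun a b e => Subtype.ext (funext fun x => by
      obtain ⟨y, rfl⟩ := hbH.surjective x
      exact congrFun (congrArg Subtype.val e) y)
    have hPdeg : ∀ θ, deg (P θ : ↥(H.subgroupOf T) → ℂ) = deg (θ : ↥(H.subgroupOf T) → ℂ) := fun θ => by
      simp [deg, P]
    have hPT : ∀ (W : Subgroup G) θ, TrivOn W (P θ) ↔ TrivOn W θ := by
      intro W θ
      refine ⟨fun h x hx => ?_, fun h x hx => ?_⟩
      · obtain ⟨l, hl⟩ := exists_pow_eq_self_of_coprime (x := x) (n := m)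
          (hmH.coprime_dvd_right (orderOf_dvd_natCard x))
        have h1 : (θ : ↥(H.subgroupOf T) → ℂ) ((x ^ l) ^ m) = (θ : ↥(H.subgroupOf T) → ℂ) (1 ^ m) :=
          h (x ^ l) (by simpa using pow_mem hx l)
        rwa [← pow_mul, mul_comm, pow_mul, hl, one_pow] at h1
      · show (θ : ↥(H.subgroupOf T) → ℂ) (x ^ m) = (θ : ↥(H.subgroupOf T) → ℂ) (1 ^ m)
        rw [one_pow]
        exact h _ (by simpa using pow_mem hx m)
    have hPY : ∀ θ, P θ ∈ Y ↔ θ ∈ Y := fun θ => by simp only [hY, mem_redY, hPT]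
    have hPlam : ∀ θ, lam (P θ) = lam θ ^ m := fun θ => MonoidHom.ext fun k => Units.ext (by
      have e : (inc k) ^ m = inc (k ^ m) := Subtype.ext (Subtype.ext (by simp [inc]))
      rw [MonoidHom.pow_apply, ← map_pow, hlam, hlam]
      simp only [P, one_pow, e])
    have hPtheta : ∀ i, P (C.M.theta d i) = C.M.theta d (i ^ m) := fun i => Subtype.ext (funext fun x => by
      have h1 := congrFun (C.M.pow d hm i 1).1 (x : T)
      rw [show (1 : ↥Z →* ℂˣ) ^ m = 1 from MonoidHom.ext fun _ => by simp] at h1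
      simpa [P, Mu.theta_apply] using h1)
    have hPf : ∀ θ ∈ Y, f (P θ) = f θ := by
      intro θ hθ
      have hnl := s.nonLin C hθ
      have hnl' := s.nonLin C ((hPY θ).2 hθ)
      suffices C.kk (P θ) = C.kk θ by simp only [hf, this, hPdeg]
      rcases C.M.cases d C.E θ with hm1 | ⟨i, hi⟩
      · rcases C.M.cases d C.E (P θ) with hm2 | ⟨i, hi⟩
        · exact C.kk_eq hnl' hnl hm2 hm1 (hPdeg θ)
        · exfalso
          have hfix : ∀ t : T, conjT t θ = θ := fun t => hPinj (Subtype.ext (funext fun x => by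
            have h1 := congrFun (congrArg Subtype.val (C.M.conjT_theta d t i)) x
            rw [← hi] at h1
            simpa [P, map_pow] using h1))
          have h1 := irr_self hm1
          rw [indFun_inner, Finset.filter_true_of_mem fun t _ => hfix t, Finset.card_univ,
            ← Nat.card_eq_fintype_card, inv_mul_eq_one₀ (Nat.cast_ne_zero.2 Nat.card_pos.ne'),
            ← (H.subgroupOf T).index_mul_card, d.index_H] at h1
          have h2 : Nat.card ↥(H.subgroupOf T) = Nat.card Z * Nat.card ↥(H.subgroupOf T) := by exact_mod_cast h1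
          have := C.one_w
          nlinarith [Nat.card_pos (α := ↥(H.subgroupOf T))]
      · subst hi
        have hi1 : i ≠ 1 := fun h1 => (mem_redY.1 hθ).2 (by
          subst h1; intro x _; rw [C.M.theta_one d])
        have hi2 : i ^ m ≠ 1 := fun h1 => by
          have h3 := (hPY _).2 hθ
          rw [hPtheta, h1] at h3
          exact (mem_redY.1 h3).2 (by intro x _; rw [C.M.theta_one d])
        rw [hPtheta]
        exact C.kk_theta_eq hi2 hi1
    refine (Finset.sum_bij (fun θ _ => P θ) (fun θ hθ => ?_) (fun a _ b _ e => hPinj e) (fun η hη => ?_)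
      fun θ hθ => (hPf θ (Finset.mem_filter.1 hθ).1).symm).symm
    · obtain ⟨h1, h2⟩ := Finset.mem_filter.1 hθ
      exact Finset.mem_filter.2 ⟨(hPY θ).2 h1, by rw [hPlam, h2]⟩
    · obtain ⟨h1, h2⟩ := Finset.mem_filter.1 hη
      obtain ⟨θ, rfl⟩ := (Finite.injective_iff_surjective.1 hPinj) η
      refine ⟨θ, Finset.mem_filter.2 ⟨(hPY θ).1 h1, ?_⟩, rfl⟩
      rw [hPlam] at h2
      refine MonoidHom.ext fun k => ?_
      obtain ⟨y, hy⟩ := (powCoprime_bijective
        (hm.coprime_dvd_right (Subgroup.card_subgroup_dvd_card K))).surjective k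
      have h3 := DFunLike.congr_fun h2 y
      simp only [MonoidHom.pow_apply, ← map_pow] at h3
      rw [← hy]
      exact h3
  rw [Finset.sum_congr rfl hconst, Finset.sum_const, Finset.card_erase_of_mem (Finset.mem_univ _),
    Finset.card_univ, C.E.card_left, nsmul_eq_mul] at htot
  have hq1 : 1 ≤ Nat.card K := Nat.card_pos
  have hw : (TData.wt Y : ℤ) * Nat.card K = (Nat.card R : ℤ) * ((Nat.card K - 1 : ℕ) : ℤ) := by
    exact_mod_cast s.wt_eq d
  have hcop : IsCoprime (Nat.card R : ℤ) ((Nat.card K - 1 : ℕ) : ℤ) := by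
    refine Int.isCoprime_iff_nat_coprime.2 ?_
    rw [Int.natAbs_natCast, Int.natAbs_natCast]
    haveI := Fact.mk d.prime
    obtain ⟨k, hk⟩ := IsPGroup.iff_card.1 p.pgroup
    rw [hk]
    exact ((d.prime.coprime_iff_not_dvd).2 fun h =>
      (Nat.not_dvd_of_pos_of_lt (by have := d.prime.one_lt; omega) (by omega)) h).pow_left k
  rw [htot, mul_left_comm] at hdvd
  obtain ⟨m, hm⟩ := hcop.dvd_of_dvd_mul_left hdvd
  refine ⟨m, mul_right_cancel₀ (b := (Nat.card K : ℤ)) (Nat.cast_ne_zero.2 Nat.card_pos.ne') ?_⟩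
  rw [htot]
  linear_combination ((Nat.card K - 1 : ℕ) : ℤ) * hm - m * hw

/-- The case of a free action on `V`. -/
theorem kappa_V (s : TailRed T H (Nat.card K) R J V)
    (hfree : ∀ z ∈ Z, z ≠ 1 → ∀ v ∈ V, z * v = v * z → v = 1) (C : TData T Z K H)
    (hζ : ∀ x : ↥(H.subgroupOf T), ((x : T) : G) ∈ V ⊔ J → C.ζ (x : T) = C.ζ 1) :
    ∃ κ : ℤ, C.tot (redY T H J V) = κ * (TData.wt (redY T H J V) : ℤ) := by
  classical
  have d := C.tail
  haveI := Fact.mk d.prime
  set q := Nat.card K with hq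
  set Y := redY T H J V with hY
  have hdvd := s.congr_tot C hζ fun g hg => by
    obtain ⟨h, hh, z, hz, rfl⟩ := d.mul hg
    by_cases hz1 : z = 1
    · subst hz1
      exact Or.inl fun y hy => by rw [mul_one]; exact s.comm_mem d hh hy
    refine Or.inr fun y hy hc => ?_
    obtain ⟨v, hv, j, hj, rfl⟩ := (s.mem_sup d).1 hy
    have hv' : z * v * z⁻¹ ∈ V := Solv.conj_mem_of_mem_normalizer (s.V_norm (d.Z_le hz)) hv
    have hj' : h * z * j * (h * z)⁻¹ ∈ J := Solv.conj_mem_of_mem_normalizer (s.J_norm hg) hj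
    have e : h * z * (v * j) * (h * z)⁻¹ = z * v * z⁻¹ * (h * z * j * (h * z)⁻¹) := by
      rw [show h * z * (v * j) = h * (z * v * z⁻¹) * z * j by group, s.central h hh _ hv']; group
    rw [commutatorElement_def, e] at hc
    have hvJ : ∀ x ∈ J, v⁻¹ * x * v ∈ J := fun x hx => by
      simpa using Solv.conj_mem_of_mem_normalizer (s.J_norm (d.H_le (H.inv_mem (s.V_core hv)))) hx
    have h4 : v⁻¹ * (z * v * z⁻¹) ∈ J := by
      convert J.mul_mem (J.mul_mem (hvJ _ hc) hj) (J.inv_mem hj') using 1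
      group
    have h5 : v⁻¹ * (z * v * z⁻¹) ∈ V ⊓ J := ⟨V.mul_mem (V.inv_mem hv) hv', h4⟩
    rw [s.V_inf_J, Subgroup.mem_bot, inv_mul_eq_one] at h5
    rw [hfree z hz hz1 v hv (mul_inv_eq_iff_eq_mul.1 h5.symm), one_mul]
    exact hj
  -- the inertia groups
  have hinert : ∀ θ ∈ Y, ∀ t : T, conjT t θ = θ → (t : G) ∈ H := by
    intro θ hθ t ht
    obtain ⟨h, hh, z, hz, e⟩ := d.mul t.2
    by_contra htH
    have hz1 : z ≠ 1 := fun h1 => htH (by rw [e, h1, mul_one]; exact hh)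
    refine (mem_redY.1 hθ).2 fun x hx => ?_
    let F : V → V := fun v => ⟨(v : G)⁻¹ * (z * (v : G) * z⁻¹),
      V.mul_mem (V.inv_mem v.2) (Solv.conj_mem_of_mem_normalizer (s.V_norm (d.Z_le hz)) v.2)⟩
    have hFinj : Function.Injective F := fun a b hab => by
      have e1 : (a : G)⁻¹ * (z * a * z⁻¹) = (b : G)⁻¹ * (z * b * z⁻¹) := congrArg Subtype.val hab
      have h3 : z * ((a : G) * (b : G)⁻¹) = ((a : G) * (b : G)⁻¹) * z := by
        calc z * ((a : G) * (b : G)⁻¹) = (a : G) * ((a : G)⁻¹ * (z * a * z⁻¹)) * (z * b * z⁻¹)⁻¹ * z := by group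
          _ = _ := by rw [e1]; group
      exact Subtype.ext (mul_inv_eq_one.1 (hfree z hz hz1 _ (V.mul_mem a.2 (V.inv_mem b.2)) h3))
    obtain ⟨v, hv⟩ := (Finite.injective_iff_surjective.1 hFinj) ⟨((x : T) : G), hx⟩
    let xv : ↥(H.subgroupOf T) := ⟨⟨v, d.H_le (s.V_core v.2)⟩, s.V_core v.2⟩
    have hconj : MulAut.conjNormal t xv = xv * x := Subtype.ext (Subtype.ext (by
      rw [MulAut.conjNormal_apply]
      show (t : G) * v * (t : G)⁻¹ = (v : G) * ((x : T) : G)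
      rw [← congrArg Subtype.val hv, e]
      have hv' : z * (v : G) * z⁻¹ ∈ V := Solv.conj_mem_of_mem_normalizer (s.V_norm (d.Z_le hz)) v.2
      show h * z * (v : G) * (h * z)⁻¹ = (v : G) * ((v : G)⁻¹ * (z * (v : G) * z⁻¹))
      rw [show h * z * (v : G) * (h * z)⁻¹ = h * (z * (v : G) * z⁻¹) * h⁻¹ by group, s.central h hh _ hv']
      group))
    have h1 := congrFun (congrArg Subtype.val ht) xv
    rw [irrComp_apply, hconj, char_central_mul θ.2 (s.mem_center (x := xv) v.2)] at h1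
    have hne : (θ : ↥(H.subgroupOf T) → ℂ) xv ≠ 0 := by
      intro h0
      have h2 := char_central_mul θ.2 (s.mem_center (x := xv) v.2) xv⁻¹
      rw [mul_inv_cancel, h0, zero_div, zero_mul] at h2
      exact irr_one_ne_zero θ.2 h2
    have h0 := irr_one_ne_zero θ.2
    field_simp at h1
    linear_combination h1
  have hirr : ∀ θ ∈ Y, IsIrrCharacter T (C.ind θ) := fun θ hθ => isIrr_indFun_of_inertia _ θ (hinert θ hθ)
  set Yt : Finset (T → ℂ) := Y.image fun θ => C.ind θ with hYt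
  have hind1 : ∀ θ : IrrCharacter ↥(H.subgroupOf T), C.ind θ 1 =
      ((Nat.card Z * deg (θ : ↥(H.subgroupOf T) → ℂ) : ℕ) : ℂ) := fun θ => by
    rw [TData.ind, indFun_one, d.index_H, char_one_eq_deg (irr_isCharacter θ.2)]; push_cast; rfl
  have hYd : ∀ χ ∈ Yt, ∃ b, deg χ = Nat.card Z * q ^ b := fun χ hχ => by
    obtain ⟨θ, hθ, rfl⟩ := Finset.mem_image.1 hχ
    obtain ⟨-, b, hb, -⟩ := s.deg_bound d (mem_redY.1 hθ).1
    refine ⟨b, ?_⟩
    have h1 := hind1 θ
    rw [char_one_eq_deg (irr_isCharacter (hirr θ hθ)), hb] at h1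
    exact_mod_cast h1
  choose! bY hbY using hYd
  have hbθ : ∀ θ ∈ Y, deg (θ : ↥(H.subgroupOf T) → ℂ) = q ^ bY (C.ind θ) := fun θ hθ => by
    have h1 := hind1 θ
    rw [char_one_eq_deg (irr_isCharacter (hirr θ hθ)), hbY _ (Finset.mem_image.2 ⟨θ, hθ, rfl⟩)] at h1
    exact (Nat.eq_of_mul_eq_mul_left Nat.card_pos (by exact_mod_cast h1)).symm
  have hsumY : Nat.card Z * ∑ χ ∈ Yt, q ^ (2 * bY χ) = TData.wt Y := by
    rw [TData.wt, ← Finset.sum_fiberwise_of_maps_to (g := fun θ => C.ind θ)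
      (fun θ hθ => Finset.mem_image_of_mem (fun θ => C.ind θ) hθ), Finset.mul_sum]
    refine Finset.sum_congr rfl fun χ hχ => ?_
    rw [Finset.sum_congr rfl (g := fun _ => q ^ (2 * bY χ)) fun θ hθ => by
      obtain ⟨h1, h2⟩ := Finset.mem_filter.1 hθ
      rw [hbθ θ h1, h2, ← pow_mul, mul_comm], Finset.sum_const, smul_eq_mul]
    congr 1
    obtain ⟨θ₀, hθ₀, rfl⟩ := Finset.mem_image.1 hχ
    rw [Nat.card_eq_fintype_card, ← Finset.card_univ]
    refine Finset.card_bij (fun z _ => conjT (⟨z, d.Z_le z.2⟩ : T) θ₀) (fun z _ => ?_) (fun a _ b _ e => ?_)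
      fun θ hθ => ?_
    · exact Finset.mem_filter.2 ⟨s.redY_conj _ hθ₀, ind_conjT _ θ₀⟩
    · have h2 := congrArg (conjT (⟨b, d.Z_le b.2⟩ : T)⁻¹) e
      rw [conjT_inv, ← conjT_mul] at h2
      exact Subtype.ext (mul_inv_eq_one.1 (d.one_of_mem (Z.mul_mem a.2 (Z.inv_mem b.2)) (hinert θ₀ hθ₀ _ h2)))
    · obtain ⟨h1, h2⟩ := Finset.mem_filter.1 hθ
      obtain ⟨t, ht⟩ := exists_conj_of_indFun_eq (H.subgroupOf T) h2.symm
      obtain ⟨h, hh, z, hz, e⟩ := d.mul t.2
      refine ⟨⟨z, hz⟩, Finset.mem_univ _, ?_⟩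
      have e' : t = (⟨h, d.H_le hh⟩ : T) * ⟨z, d.Z_le hz⟩ := Subtype.ext e
      have h3 : conjT (⟨h, d.H_le hh⟩ : T) θ₀ = θ₀ :=
        irrComp_conjNormal_of_mem (H.subgroupOf T) θ₀ ⟨⟨h, d.H_le hh⟩, hh⟩
      rw [← ht]
      show conjT (⟨z, d.Z_le hz⟩ : T) θ₀ = conjT t θ₀
      rw [e', conjT_mul, h3]
  have hqV : q ∣ Nat.card V := by
    obtain ⟨i, hi⟩ := IsPGroup.iff_card.1 (p.pgroup.to_le s.V_le)
    have h1 := (Subgroup.one_lt_card_iff_ne_bot V).2 s.V_ne
    refine hi ▸ dvd_pow_self q fun h0 => ?_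
    rw [h0, pow_zero] at hi
    omega
  have hqodd : Odd q := d.odd.of_dvd_nat (Subgroup.card_subgroup_dvd_card K)
  have hne : Y.Nonempty := by
    rw [Finset.nonempty_iff_ne_empty]
    intro h0
    have := s.wt_pos d
    rw [← hY, h0] at this
    simp [TData.wt] at this
  have hdvdY : ∀ χ ∈ Yt, q ^ (2 * bY χ) ∣ ∑ ξ ∈ Yt, q ^ (2 * bY ξ) := by
    intro χ hχ
    obtain ⟨θ, hθ, rfl⟩ := Finset.mem_image.1 hχ
    obtain ⟨-, b, hb, hb2⟩ := s.deg_bound d (mem_redY.1 hθ).1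
    have h1 : q ^ (2 * bY (C.ind θ)) * Nat.card V ∣ (Nat.card Z * ∑ ξ ∈ Yt, q ^ (2 * bY ξ)) * Nat.card V := by
      rw [hsumY, s.wt_eq d, mul_comm 2, pow_mul, ← hbθ θ hθ]
      exact hb2.trans (dvd_mul_right _ _)
    refine Nat.Coprime.dvd_of_dvd_mul_left ?_ (Nat.dvd_of_mul_dvd_mul_right Nat.card_pos h1)
    exact Nat.Coprime.pow_left _ (d.coprime.symm.coprime_dvd_left
      (hqV.trans (Subgroup.card_dvd_of_le s.V_core)))
  have hYirr : ∀ χ ∈ Yt, IsIrrCharacter T χ := fun χ hχ => by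
    obtain ⟨θ, hθ, rfl⟩ := Finset.mem_image.1 hχ
    exact hirr θ hθ
  have hconjY : ∀ χ ∈ Yt, conjFun χ ∈ Yt ∧ conjFun χ ≠ χ := by
    intro χ hχ
    obtain ⟨θ, hθ, rfl⟩ := Finset.mem_image.1 hχ
    refine ⟨Finset.mem_image.2 ⟨irrConj θ, ?_, ?_⟩, fun h => ?_⟩
    · obtain ⟨h1, h2⟩ := mem_redY.1 hθ
      exact mem_redY.2 ⟨fun x hx => congrArg conj (h1 x hx),
        fun hc => h2 fun x hx => (starRingEnd ℂ).injective (hc x hx)⟩
    · rw [TData.ind, TData.ind, conjFun_indFun']; rfl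
    · have h1 : C.ind θ = fun _ => 1 :=
        irrConj_eq_self_iff_one C.odd_T ⟨_, hirr θ hθ⟩ (Subtype.ext h)
      have h2 := hind1 θ
      rw [h1] at h2
      simp only at h2
      have h2' : (1 : ℕ) = Nat.card Z * deg (θ : ↥(H.subgroupOf T) → ℂ) := by exact_mod_cast h2
      have := Nat.eq_one_of_mul_eq_one_right h2'.symm
      have := C.one_w
      omega
  -- the isometry
  have hclassfun : ∀ (S : Set (T → ℂ)), (∀ χ ∈ S, IsCharacter T χ) →
      (∀ χ ∈ S, ∀ x : T, (x : G) ∉ H → χ x = 0) →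
      IsLinearIsometryOn (zspanOn S {1}ᶜ) (indFun T) ∧ ∀ α ∈ zspanOn S {1}ᶜ, indFun T α 1 = 0 := by
    intro S hS hsupp
    have hgen : ∀ α ∈ zspanOn S ({1}ᶜ : Set T), IsGeneralizedCharacter T α := fun α hα =>
      isGenChar_of_mem_zspan hS hα.1
    have hvan : ∀ α ∈ zspanOn S ({1}ᶜ : Set T), Supp T α := fun α hα =>
      supp_of_vanish C.M C.E d (isClassFunction_genChar (hgen α hα)) (hα.2 1 (by simp)) fun x hx =>
        Submodule.span_induction (p := fun f _ => f x = 0) (fun f hf => hsupp f hf x hx) rfl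
          (fun f g _ _ hf hg => by rw [Pi.add_apply, hf, hg, add_zero])
          (fun k f _ hf => by rw [Pi.smul_apply, hf, smul_zero]) hα.1
    exact ⟨⟨fun a _ b _ => indFun_add T a b, fun a _ k => by
        rw [← Int.cast_smul_eq_zsmul ℂ, indFun_smul, Int.cast_smul_eq_zsmul],
      fun a ha b hb => d.isTI.inner (hvan a ha) (isClassFunction_genChar (hgen b hb)) (hvan b hb),
      fun a ha => d.isTI.ind_gen (hgen a ha)⟩, fun a ha => by
        rw [indFun_one, ha.2 1 (by simp), mul_zero]⟩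
  have hsuppY : ∀ χ ∈ Yt, ∀ x : T, (x : G) ∉ H → χ x = 0 := fun χ hχ x hx => by
    obtain ⟨θ, -, rfl⟩ := Finset.mem_image.1 hχ
    exact C.ind_vanish θ hx
  obtain ⟨hiso, hone⟩ := hclassfun ↑Yt (fun χ hχ => irr_isCharacter (hYirr χ hχ)) hsuppY
  obtain ⟨θ₀, hθ₀⟩ := hne
  have hp2 : Nat.Coprime 2 q := Nat.coprime_two_left.2 hqodd
  obtain ⟨-, τ₁, hτ₁, hext⟩ := coherent_ppower_degrees hp2 Yt hYirr hconjY
    ⟨_, Finset.mem_image_of_mem (fun θ => C.ind θ) hθ₀⟩ (Nat.card_pos (α := Z)) bY hbY hdvdY (indFun T) hiso hone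
  -- the pair
  set ζ := C.ζ with hζdef
  set ζ' := conjFun C.ζ with hζ'def
  set σ : (T → ℂ) → G → ℂ := fun f => classInner f ζ • C.φ ζ + classInner f ζ' • C.φ ζ' with hσdef
  have hζi : IsIrrCharacter T ζ := linFam_irr C.M C.E d C.mem
  have hζ'i : IsIrrCharacter T ζ' := linFam_irr C.M C.E d C.conj_mem
  have hzz : classInner ζ ζ' = 0 := by rw [irr_orth hζi hζ'i, if_neg C.conj_ne.symm]
  have hzz' : classInner ζ' ζ = 0 := by rw [irr_orth hζ'i hζi, if_neg C.conj_ne]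
  have hco : ∀ f ∈ zspan ({ζ, ζ'} : Set (T → ℂ)), ∃ a b : ℤ, f = (a : ℂ) • ζ + (b : ℂ) • ζ' ∧
      classInner f ζ = a ∧ classInner f ζ' = b := by
    intro f hf
    obtain ⟨a, b, rfl⟩ := Submodule.mem_span_pair.1 hf
    refine ⟨a, b, by rw [Int.cast_smul_eq_zsmul, Int.cast_smul_eq_zsmul], ?_, ?_⟩ <;>
    · rw [← Int.cast_smul_eq_zsmul ℂ a, ← Int.cast_smul_eq_zsmul ℂ b, classInner_add_left,
        classInner_smul_left, classInner_smul_left]
      simp [irr_self hζi, irr_self hζ'i, hzz, hzz']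
  have hψ := C.fam.signed ζ C.mem
  have hψ' := C.fam.signed ζ' C.conj_mem
  have ho : classInner (C.φ ζ) (C.φ ζ') = 0 := C.fam.orth _ C.mem _ C.conj_mem C.conj_ne.symm
  have hσiso : IsLinearIsometryOn (zspan ({ζ, ζ'} : Set (T → ℂ))) σ := by
    refine ⟨fun a _ b _ => ?_, fun a _ k => ?_, fun a ha b hb => ?_, fun a ha => ?_⟩
    · simp only [hσdef, classInner_add_left, add_smul]; abel
    · simp only [hσdef, ← Int.cast_smul_eq_zsmul ℂ, classInner_smul_left, smul_add, smul_smul]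
    · obtain ⟨x, y, rfl, e1, e2⟩ := hco a ha
      obtain ⟨x', y', rfl, e1', e2'⟩ := hco b hb
      simp only [hσdef, e1, e2, e1', e2', classInner_add_left, classInner_add_right, classInner_smul_left,
        classInner_smul_right, hψ.self, hψ'.self, ho, irr_self hζi, irr_self hζ'i, hzz, hzz',
        show classInner (C.φ ζ') (C.φ ζ) = 0 by rw [← classInner_symm, ho, map_zero],
        mul_one, mul_zero, add_zero, zero_add]
    · obtain ⟨x, y, rfl, e1, e2⟩ := hco a ha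
      simp only [hσdef, e1, e2]
      exact gen_add (isGenChar_int_smul hψ.gen x) (isGenChar_int_smul hψ'.gen y)
  have hdeg : ζ 1 = ζ' 1 := by
    exact (linFam_deg C.M C.E d C.mem).trans (linFam_deg C.M C.E d C.conj_mem).symm
  have hσα : ∀ f ∈ zspanOn ({ζ, ζ'} : Set (T → ℂ)) {1}ᶜ, σ f = indFun T f := by
    intro f hf
    obtain ⟨x, y, rfl, e1, e2⟩ := hco f hf.1
    have h1 := hf.2 1 (by simp)
    simp only [Pi.add_apply, Pi.smul_apply, smul_eq_mul, ← hdeg, ← add_mul] at h1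
    have hy : (y : ℂ) = -(x : ℂ) := eq_neg_of_add_eq_zero_right
      ((mul_eq_zero.1 h1).resolve_right (irr_one_ne_zero hζi))
    simp only [hσdef]
    rw [e1, e2, hy,
      show (x : ℂ) • ζ + -(x : ℂ) • ζ' = (x : ℂ) • (ζ - ζ') by rw [smul_sub, neg_smul, sub_eq_add_neg],
      indFun_smul, C.fam.diff _ C.mem _ C.conj_mem, smul_sub, neg_smul, sub_eq_add_neg]
  have hdisj : Disjoint ({ζ, ζ'} : Set (T → ℂ)) ↑Yt := by
    rw [Set.disjoint_left]
    intro χ hχ hχY
    obtain ⟨θ, hθ, e'⟩ := Finset.mem_image.1 (Finset.mem_coe.1 hχY)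
    have hmem : χ ∈ linFam T H := by
      rcases hχ with rfl | rfl
      exacts [C.mem, C.conj_mem]
    have := C.ind_lin_inner (s.nonLin C hθ) hmem
    rw [e', irr_self (linFam_irr C.M C.E d hmem)] at this
    exact one_ne_zero this
  obtain ⟨hisoS, honeS⟩ := hclassfun (({ζ, ζ'} : Set (T → ℂ)) ∪ ↑Yt)
    (fun χ hχ => by
      rcases hχ with (rfl | rfl) | hχ
      exacts [irr_isCharacter hζi, irr_isCharacter hζ'i, irr_isCharacter (hYirr χ hχ)])
    (fun χ hχ x hx => by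
      rcases hχ with (rfl | rfl) | hχ
      exacts [linFam_vanish C.M C.E d C.mem hx, linFam_vanish C.M C.E d C.conj_mem hx, hsuppY χ hχ x hx])
  have horth := coherent_parts_orth (({ζ, ζ'} : Set (T → ℂ)) ∪ ↑Yt) {ζ, ζ'} ↑Yt (fun χ hχ => by
      rcases hχ with (rfl | rfl) | hχ
      exacts [hζi, hζ'i, hYirr χ hχ])
    Set.subset_union_left Set.subset_union_right hdisj ⟨ζ, by simp, ζ', by simp, C.conj_ne.symm⟩
    ⟨_, Finset.mem_image_of_mem (fun θ => C.ind θ) hθ₀, _,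
      (hconjY _ (Finset.mem_image_of_mem (fun θ => C.ind θ) hθ₀)).1,
      (hconjY _ (Finset.mem_image_of_mem (fun θ => C.ind θ) hθ₀)).2.symm⟩
    (indFun T) hisoS honeS σ τ₁ hσiso hσα hτ₁ hext
  have hσζ : σ ζ = C.φ ζ := by simp [hσdef, irr_self hζi, hzz]
  have o1 : ∀ ξ ∈ Yt, classInner (τ₁ ξ) (C.φ ζ) = 0 := fun ξ hξ => by
    rw [← classInner_symm, ← hσζ, horth ζ (by simp) ξ hξ, map_zero]
  have hrel : ∀ θ ∈ Y, (deg (θ₀ : ↥(H.subgroupOf T) → ℂ) : ℤ) * C.kk θ =
      (deg (θ : ↥(H.subgroupOf T) → ℂ) : ℤ) * C.kk θ₀ := by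
    intro θ hθ
    have hχ : C.ind θ ∈ Yt := Finset.mem_image_of_mem (fun θ => C.ind θ) hθ
    have hχ₀ : C.ind θ₀ ∈ Yt := Finset.mem_image_of_mem (fun θ => C.ind θ) hθ₀
    set a := (deg (θ₀ : ↥(H.subgroupOf T) → ℂ) : ℤ) with ha
    set b := (deg (θ : ↥(H.subgroupOf T) → ℂ) : ℤ) with hb
    have hm : (a : ℂ) • C.ind θ - (b : ℂ) • C.ind θ₀ ∈ zspanOn (↑Yt : Set (T → ℂ)) {1}ᶜ := by
      refine mem_zspanOn_punctured (Submodule.sub_mem _ (mem_zspan_smul _ (mem_zspan_of_mem hχ))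
        (mem_zspan_smul _ (mem_zspan_of_mem hχ₀))) ?_
      rw [Pi.sub_apply, Pi.smul_apply, Pi.smul_apply, hind1, hind1, ha, hb]
      simp only [smul_eq_mul, Int.cast_natCast]
      push_cast
      ring
    have h2 := hext _ hm
    rw [isometryOn_sub hτ₁ (mem_zspan_smul _ (mem_zspan_of_mem hχ)) (mem_zspan_smul _ (mem_zspan_of_mem hχ₀)),
      iso_smul hτ₁ (mem_zspan_of_mem hχ), iso_smul hτ₁ (mem_zspan_of_mem hχ₀)] at h2
    have e1 : (a : ℂ) • C.ind θ - (b : ℂ) • C.ind θ₀ = (a : ℂ) • C.g θ - (b : ℂ) • C.g θ₀ := by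
      funext t
      simp only [TData.g, Pi.sub_apply, Pi.smul_apply, smul_eq_mul, ha, hb, Int.cast_natCast]
      ring
    have h3 : classInner (indFun T ((a : ℂ) • C.g θ - (b : ℂ) • C.g θ₀)) (C.φ ζ) = 0 := by
      rw [← e1, ← h2, classInner_sub_left, classInner_smul_left, classInner_smul_left, o1 _ hχ, o1 _ hχ₀]
      simp
    rw [indFun_sub, indFun_smul, indFun_smul, classInner_sub_left, classInner_smul_left, classInner_smul_left,
      hζdef, C.kk_spec, C.kk_spec] at h3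
    have h4 : ((a * C.kk θ : ℤ) : ℂ) = ((b * C.kk θ₀ : ℤ) : ℂ) := by
      simp only [ha, hb, Int.cast_mul, Int.cast_natCast] at h3 ⊢
      linear_combination h3
    exact_mod_cast h4
  -- the conclusion
  set a := (deg (θ₀ : ↥(H.subgroupOf T) → ℂ) : ℤ) with ha
  have htot : a * C.tot Y = C.kk θ₀ * TData.wt Y := by
    simp only [TData.tot, TData.wt]
    push_cast
    rw [Finset.mul_sum, Finset.mul_sum]
    exact Finset.sum_congr rfl fun θ hθ => by rw [mul_left_comm, hrel θ hθ]; ring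
  obtain ⟨m, hm⟩ := hdvd
  have hw : (TData.wt Y : ℤ) * Nat.card V = (Nat.card R : ℤ) * ((Nat.card V - 1 : ℕ) : ℤ) := by
    exact_mod_cast s.wt_eq d
  have h5 : a * m = C.kk θ₀ * ((Nat.card V - 1 : ℕ) : ℤ) :=
    mul_left_cancel₀ (a := (Nat.card R : ℤ)) (Nat.cast_ne_zero.2 Nat.card_pos.ne') (by
      linear_combination -a * hm + (Nat.card V : ℤ) * htot + C.kk θ₀ * hw)
  have hcop : IsCoprime a ((Nat.card V - 1 : ℕ) : ℤ) := by
    refine Int.isCoprime_iff_nat_coprime.2 ?_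
    rw [ha, Int.natAbs_natCast, Int.natAbs_natCast, hbθ θ₀ hθ₀]
    refine ((d.prime.coprime_iff_not_dvd).2 fun h => d.prime.one_lt.ne' ?_).pow_left _
    have h6 := Nat.dvd_sub hqV h
    rw [Nat.sub_sub_self Nat.card_pos] at h6
    exact Nat.dvd_one.1 h6
  obtain ⟨κ, hκ⟩ := hcop.dvd_of_dvd_mul_right ⟨m, h5.symm⟩
  have ha0 : a ≠ 0 := by
    rw [ha]; exact_mod_cast (deg_pos θ₀.2).ne'
  exact ⟨κ, mul_left_cancel₀ ha0 (by rw [htot, hκ]; ring)⟩

end NilpParts

end Cfsg.Agent.OddFT
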