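import Cfsg.Agent.Lib.OddChar.FT.TailConcl
import Cfsg.Agent.Lib.OddChar.FT.Congr
import Cfsg.Agent.Lib.OddChar.FT.SplitKappa
import Cfsg.Agent.Lib.OddChar.KappaCaseSplit

/-!
A central subgroup `V` of a Sylow subgroup `R` of `H = R × J`: the congruence for the total coefficient of
the characters of `H / J` nontrivial on `V`.
-/

set_option autoImplicit false
set_option linter.unusedSectionVars false
set_option linter.unusedVariables false
set_option linter.style.haveILetI false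

open Cfsg Cfsg.Agent.Char Cfsg.Agent.OddChar
open scoped ComplexConjugate commutatorElement

namespace Cfsg.Agent.OddFT

universe u

variable {G : Type u} [Group G] [Fintype G] {T Z K H : Subgroup G}

/-- `H = R J` with a subgroup `V ≤ R` central in `H`. -/
structure TailRed (T H : Subgroup G) (r : ℕ) (R J V : Subgroup G) : Prop where
  prime : r.Prime
  pgroup : IsPGroup r R
  R_le : R ≤ H
  J_le : J ≤ H
  J_norm : T ≤ Subgroup.normalizer (J : Set G)
  V_norm : T ≤ Subgroup.normalizer (V : Set G)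
  coprime : (Nat.card R).Coprime (Nat.card J)
  card : Nat.card R * Nat.card J = Nat.card H
  mul : ∀ x ∈ H, ∃ a ∈ R, ∃ j ∈ J, x = a * j
  V_le : V ≤ R
  V_derived : V ≤ ⁅H, H⁆
  central : ∀ x ∈ H, ∀ v ∈ V, x * v = v * x
  V_ne : V ≠ ⊥

/-- The trace of left translation over a normal subgroup. -/
theorem sum_translate {A : Type u} [Group A] [Fintype A] (J : Subgroup A) [J.Normal] [Fintype J]
    {χ : A → ℂ} (hχ : IsIrrCharacter A χ) (g : A) :
    χ 1 * ∑ j : J, χ ((j : A) * g) = (∑ j : J, χ (j : A)) * χ g := by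
  obtain ⟨n, ρ, hirr, rfl⟩ := hχ
  set P : (Fin n → ℂ) →ₗ[ℂ] (Fin n → ℂ) := ∑ j : J, ρ (j : A) with hP
  have hcomm : ∀ k v, P (ρ k v) = ρ k (P v) := by
    intro k v
    simp only [hP, LinearMap.sum_apply, map_sum]
    let e : J ≃ J := ((MulAut.conjNormal k⁻¹ : MulAut J)).toEquiv
    refine Fintype.sum_equiv e _ _ fun j => ?_
    show ρ (j : A) (ρ k v) = ρ k (ρ ((MulAut.conjNormal k⁻¹ j : J) : A) v)
    rw [MulAut.conjNormal_apply, ← Module.End.mul_apply, ← map_mul, ← Module.End.mul_apply, ← map_mul]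
    congr 2
    group
  have key := trace_mul_of_comm ρ P hcomm g
  rw [hP, Finset.sum_mul, map_sum, map_sum] at key
  simpa only [← map_mul, Representation.character] using key

namespace TailRed

variable {r : ℕ} {R J V : Subgroup G} (s : TailRed T H r R J V)
include s

theorem V_core : V ≤ H := s.V_le.trans s.R_le

theorem R_inf_J : R ⊓ J = ⊥ := Subgroup.inf_eq_bot_of_coprime s.coprime

theorem V_inf_J : V ⊓ J = ⊥ := le_bot_iff.1 ((inf_le_inf_right J s.V_le).trans s.R_inf_J.le)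

theorem sup_le_H : V ⊔ J ≤ H := sup_le s.V_core s.J_le

theorem mem_sup (d : Tail T Z K H) {x : G} : x ∈ V ⊔ J ↔ ∃ v ∈ V, ∃ j ∈ J, x = v * j := by
  rw [← SetLike.mem_coe, Subgroup.coe_mul_of_left_le_normalizer_right _ _ ((s.V_core.trans d.H_le).trans s.J_norm)]
  exact ⟨fun ⟨v, hv, j, hj, e⟩ => ⟨v, hv, j, hj, e.symm⟩, fun ⟨v, hv, j, hj, e⟩ => ⟨v, hv, j, hj, e.symm⟩⟩

theorem card_sup (d : Tail T Z K H) : Nat.card ↥(V ⊔ J) = Nat.card V * Nat.card J := by
  have h := Solv.card_sup_mul_card_inf' J V ((s.V_core.trans d.H_le).trans s.J_norm)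
  rw [inf_comm, s.V_inf_J, Subgroup.card_bot, mul_one, sup_comm] at h
  rw [h, mul_comm]

theorem sup_norm : T ≤ Subgroup.normalizer ((V ⊔ J : Subgroup G) : Set G) := fun t ht =>
  Fusion.mem_normalizer_of_cj_le (by
    rw [Fusion.cj_sup, Fusion.cj_eq_self (s.V_norm ht), Fusion.cj_eq_self (s.J_norm ht)])

theorem comm_mem (d : Tail T Z K H) {a x : G} (ha : a ∈ H) (hx : x ∈ V ⊔ J) : ⁅a, x⁆ ∈ J := by
  obtain ⟨v, hv, j, hj, rfl⟩ := (s.mem_sup d).1 hx
  have e : a * v = v * a := s.central a ha v hv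
  rw [show ⁅a, v * j⁆ = v * (a * j * a⁻¹ * j⁻¹) * v⁻¹ by
    rw [commutatorElement_def, ← mul_assoc a, e]; group]
  exact Solv.conj_mem_of_mem_normalizer (s.J_norm (d.H_le (s.V_core hv))) (J.mul_mem
    (Solv.conj_mem_of_mem_normalizer (s.J_norm (d.H_le ha)) hj) (J.inv_mem hj))

end TailRed

/-- A subgroup of `G` inside `H`, as a subgroup of `H` inside `T`. -/
abbrev subH (T H X : Subgroup G) : Subgroup ↥(H.subgroupOf T) := (X.subgroupOf T).subgroupOf (H.subgroupOf T)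

theorem mem_subH {X : Subgroup G} {x : ↥(H.subgroupOf T)} : x ∈ subH T H X ↔ ((x : T) : G) ∈ X := Iff.rfl

theorem card_subH (d : Tail T Z K H) {X : Subgroup G} (hX : X ≤ H) : Nat.card ↥(subH T H X) = Nat.card X := by
  have h : X.subgroupOf T ≤ H.subgroupOf T := fun x hx => hX hx
  rw [Solv.card_subgroupOf h, Solv.card_subgroupOf (hX.trans d.H_le)]

theorem normal_subH (d : Tail T Z K H) {X : Subgroup G} (hX : T ≤ Subgroup.normalizer (X : Set G)) :
    (subH T H X).Normal :=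
  ⟨fun n hn g => (Subgroup.mem_normalizer_iff.1 (hX (g : T).2) _).1 hn⟩

variable [Fintype T] [Fintype ↥(H.subgroupOf T)] [(H.subgroupOf T).Normal]

/-- The kernel condition. -/
def TrivOn (X : Subgroup G) (θ : IrrCharacter ↥(H.subgroupOf T)) : Prop :=
  ∀ x : ↥(H.subgroupOf T), ((x : T) : G) ∈ X → (θ : ↥(H.subgroupOf T) → ℂ) x = (θ : ↥(H.subgroupOf T) → ℂ) 1

open Classical in
variable (T H) in
/-- The characters trivial on `J` and nontrivial on `V`. -/
noncomputable def redY (J V : Subgroup G) : Finset (IrrCharacter ↥(H.subgroupOf T)) :=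
  Finset.univ.filter fun θ => TrivOn J θ ∧ ¬ TrivOn V θ

theorem mem_redY {J V : Subgroup G} {θ : IrrCharacter ↥(H.subgroupOf T)} :
    θ ∈ redY T H J V ↔ TrivOn J θ ∧ ¬ TrivOn V θ := by
  simp [redY]

theorem trivOn_conj {X : Subgroup G} (hX : T ≤ Subgroup.normalizer (X : Set G)) (t : T)
    {θ : IrrCharacter ↥(H.subgroupOf T)} (h : TrivOn X θ) : TrivOn X (conjT t θ) := fun x hx => by
  rw [irrComp_apply, irrComp_apply, map_one]
  refine h _ ?_
  simpa [MulAut.conjNormal_apply] using (Subgroup.mem_normalizer_iff.1 (hX t.2) _).1 hx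

namespace TailRed

variable {r : ℕ} {R J V : Subgroup G} (s : TailRed T H r R J V)
include s

theorem redY_conj (t : T) {θ : IrrCharacter ↥(H.subgroupOf T)} (h : θ ∈ redY T H J V) :
    conjT t θ ∈ redY T H J V := by
  rw [mem_redY] at h ⊢
  refine ⟨trivOn_conj s.J_norm t h.1, fun hc => h.2 ?_⟩
  have := trivOn_conj s.V_norm t⁻¹ hc
  rwa [conjT_inv] at this

theorem derived_mem {x : ↥(H.subgroupOf T)} (d : Tail T Z K H) (hx : ((x : T) : G) ∈ ⁅H, H⁆) :
    x ∈ commutator ↥(H.subgroupOf T) := by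
  have hle : ⁅H, H⁆ ≤ ((commutator ↥(H.subgroupOf T)).map (H.subgroupOf T).subtype).map T.subtype := by
    rw [commutator_def, Subgroup.map_commutator, Subgroup.map_commutator]
    refine Subgroup.commutator_mono ?_ ?_ <;>
      exact fun y hy => ⟨⟨y, d.H_le hy⟩, ⟨⟨⟨y, d.H_le hy⟩, hy⟩, trivial, rfl⟩, rfl⟩
  obtain ⟨y, ⟨y', hy', rfl⟩, e⟩ := hle hx
  rwa [show x = y' from Subtype.ext (Subtype.ext e.symm)]

theorem trivOn_of_linear (d : Tail T Z K H) {θ : IrrCharacter ↥(H.subgroupOf T)}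
    (h : deg (θ : ↥(H.subgroupOf T) → ℂ) = 1) : TrivOn V θ := by
  intro x hx
  obtain ⟨l, rfl⟩ := eq_linIrr h
  have h1 := Abelianization.commutator_subset_ker l (s.derived_mem d (s.V_derived hx))
  rw [MonoidHom.mem_ker] at h1
  simp [linIrr, h1]

theorem nonLin (C : TData T Z K H) {θ : IrrCharacter ↥(H.subgroupOf T)} (h : θ ∈ redY T H J V) : C.NonLin θ :=
  Or.inl fun h1 => (mem_redY.1 h).2 (s.trivOn_of_linear C.tail h1)

theorem card_H (d : Tail T Z K H) : Nat.card ↥(H.subgroupOf T) = Nat.card R * Nat.card J := by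
  rw [Solv.card_subgroupOf d.H_le, s.card]

theorem index_J (d : Tail T Z K H) : (subH T H J).index = Nat.card R := by
  refine Nat.eq_of_mul_eq_mul_left (Nat.card_pos (α := J)) ?_
  conv_lhs => rw [← card_subH d s.J_le]
  rw [Subgroup.card_mul_index, s.card_H d, mul_comm]

theorem index_VJ (d : Tail T Z K H) : (subH T H (V ⊔ J)).index * Nat.card V = Nat.card R := by
  refine Nat.eq_of_mul_eq_mul_left (Nat.card_pos (α := J)) ?_
  rw [mul_comm (Nat.card J) (Nat.card R), ← s.card_H d, ← (subH T H (V ⊔ J)).card_mul_index,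
    card_subH d s.sup_le_H, s.card_sup d]
  ring

theorem trivOn_sup (d : Tail T Z K H) {θ : IrrCharacter ↥(H.subgroupOf T)} :
    TrivOn (V ⊔ J) θ ↔ TrivOn V θ ∧ TrivOn J θ := by
  refine ⟨fun h => ⟨fun x hx => h x (Subgroup.mem_sup_left hx), fun x hx => h x (Subgroup.mem_sup_right hx)⟩,
    fun h x hx => ?_⟩
  obtain ⟨v, hv, j, hj, e⟩ := (s.mem_sup d).1 hx
  obtain rfl : x = (⟨⟨v, d.H_le (s.V_core hv)⟩, s.V_core hv⟩ : ↥(H.subgroupOf T)) *
      ⟨⟨j, d.H_le (s.J_le hj)⟩, s.J_le hj⟩ := Subtype.ext (Subtype.ext e)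
  exact eq_one_of_kerC ((TwoDeg.kerC θ).mul_mem (TwoDeg.mem_kerC_of_eq _ (h.1 _ hv))
    (TwoDeg.mem_kerC_of_eq _ (h.2 _ hj)))

theorem deg_bound (d : Tail T Z K H) {θ : IrrCharacter ↥(H.subgroupOf T)} (hθ : TrivOn J θ) :
    deg (θ : ↥(H.subgroupOf T) → ℂ) ^ 2 * Nat.card V ≤ Nat.card R ∧
      ∃ b, deg (θ : ↥(H.subgroupOf T) → ℂ) = r ^ b ∧ deg (θ : ↥(H.subgroupOf T) → ℂ) ^ 2 * Nat.card V ∣ Nat.card R := by
  haveI := normal_subH d s.J_norm
  haveI := normal_subH d s.sup_norm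
  haveI := Fact.mk s.prime
  obtain ⟨k, hk⟩ := IsPGroup.iff_card.1 s.pgroup
  have hd : deg (θ : ↥(H.subgroupOf T) → ℂ) ∣ Nat.card R := s.index_J d ▸ deg_dvd_index_mod θ (subH T H J)
    hθ (subH T H J) le_rfl (fun a ha b hb => by
      rw [commutatorElement_def]
      exact mul_mem (mul_mem (mul_mem ha hb) (inv_mem ha)) (inv_mem hb))
  obtain ⟨b, -, hb⟩ := (Nat.dvd_prime_pow s.prime).1 (hk ▸ hd)
  have h := sq_deg_le_index_mod θ (subH T H J) (subH T H (V ⊔ J)) hθ
    fun a ha g => by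
      have h' := J.inv_mem (s.comm_mem d (show ((g : T) : G) ∈ H from g.2) ha)
      rw [commutatorElement_inv, commutatorElement_def] at h'
      exact h'
  refine ⟨by rw [← s.index_VJ d]; exact Nat.mul_le_mul_right _ h, b, hb, ?_⟩
  obtain ⟨e, -, he⟩ := (Nat.dvd_prime_pow s.prime).1
    (show (subH T H (V ⊔ J)).index ∣ r ^ k from ⟨Nat.card V, by rw [s.index_VJ d, hk]⟩)
  rw [← s.index_VJ d, mul_comm, mul_comm _ (Nat.card V), hb, ← pow_mul, he]
  refine Nat.mul_dvd_mul_left _ (pow_dvd_pow r ((Nat.pow_le_pow_iff_right s.prime.one_lt).1 ?_))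
  rw [pow_mul, ← hb, ← he]
  exact h

theorem wt_eq (d : Tail T Z K H) :
    TData.wt (redY T H J V) * Nat.card V = Nat.card R * (Nat.card V - 1) := by
  classical
  haveI := normal_subH d s.J_norm
  haveI := normal_subH d s.sup_norm
  obtain ⟨A, hA, hA2⟩ := sum_sq_kernel_contains (subH T H J)
  obtain ⟨B, hB, hB2⟩ := sum_sq_kernel_contains (subH T H (V ⊔ J))
  have hA' : ∀ θ, θ ∈ A ↔ TrivOn J θ := fun θ => hA θ
  have hB' : ∀ θ, θ ∈ B ↔ TrivOn (V ⊔ J) θ := fun θ => hB θ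
  have hBA : B ⊆ A := fun θ hθ => (hA' θ).2 ((s.trivOn_sup d).1 ((hB' θ).1 hθ)).2
  have hY : A \ B = redY T H J V := Finset.ext fun θ => by
    rw [Finset.mem_sdiff, hA', hB', mem_redY, s.trivOn_sup d]
    tauto
  have h := Finset.sum_sdiff hBA (f := fun θ : IrrCharacter ↥(H.subgroupOf T) =>
    deg (θ : ↥(H.subgroupOf T) → ℂ) ^ 2)
  rw [hA2, hB2, hY, s.index_J d] at h
  rw [Nat.mul_sub, mul_one]
  conv_rhs => lhs; rw [← h, add_mul, s.index_VJ d]
  rw [TData.wt]
  omega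

theorem wt_pos (d : Tail T Z K H) : 0 < TData.wt (redY T H J V) := by
  have h := s.wt_eq d
  have hV := (Subgroup.one_lt_card_iff_ne_bot V).2 s.V_ne
  have : 0 < Nat.card R * (Nat.card V - 1) := Nat.mul_pos Nat.card_pos (by omega)
  rw [← h] at this
  exact pos_of_mul_pos_left this (Nat.zero_le _)

open Classical in
/-- The congruence for the total coefficient. -/
theorem congr_tot (C : TData T Z K H)
    (hζ : ∀ x : ↥(H.subgroupOf T), ((x : T) : G) ∈ V ⊔ J → C.ζ (x : T) = C.ζ 1)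
    (hfix : ∀ g ∈ T, (∀ z ∈ V ⊔ J, ⁅g, z⁆ ∈ J) ∨ (∀ z ∈ V ⊔ J, ⁅g, z⁆ ∈ J → z ∈ J)) :
    (Nat.card R : ℤ) ∣ (Nat.card V : ℤ) * C.tot (redY T H J V) := by
  have d := C.tail
  set ψ := C.φ C.ζ with hψ
  haveI := normal_subH d s.J_norm
  haveI := normal_subH d s.sup_norm
  have hψc : IsClassFunction G ψ := isClassFunction_genChar (C.phi_gen C.mem)
  -- symmetry on `V J`
  have hsym : ∀ x ∈ V ⊔ J, ψ x⁻¹ = ψ x := by
    intro x hx
    by_cases hx1 : x = 1
    · rw [hx1, inv_one]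
    have hxH := s.sup_le_H hx
    have hxs : x ∈ sigmaSet T := ⟨d.H_le hxH, 1, by rw [pow_one, ← d.H_eq]; exact hxH, by rwa [pow_one]⟩
    have h0 : indFun T (C.ζ - conjFun C.ζ) x = 0 := by
      rw [show x = ((⟨x, d.H_le hxH⟩ : T) : G) from rfl, d.isTI.ind_apply (classFun_sub
        (isClassFunction_character (irr_isCharacter (linFam_irr C.M C.E C.tail C.mem)))
        (isClassFunction_character (irr_isCharacter (linFam_irr C.M C.E C.tail C.conj_mem))))
        (sub_supp C.M C.E C.tail C.mem C.conj_mem) hxs, Pi.sub_apply, conjFun,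
        hζ ⟨⟨x, d.H_le hxH⟩, hxH⟩ hx, linFam_deg C.M C.E C.tail C.mem, Complex.conj_natCast, sub_self]
    rw [C.fam.diff _ C.mem _ C.conj_mem, Pi.sub_apply, ← C.fam.conj_eq _ C.mem, cj_apply, sub_eq_zero] at h0
    rw [gen_conj_inv (show IsGeneralizedCharacter G ψ from C.phi_gen C.mem)]
    exact h0.symm
  have hreal : ∀ z ∈ V ⊔ J, z ∉ J → ∑ j : J, ψ (z⁻¹ * (j : G)) = ∑ j : J, ψ (z * (j : G)) := by
    intro z hz _
    refine Fintype.sum_equiv (Equiv.inv J) _ _ fun j => ?_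
    rw [← hsym _ (mul_mem (inv_mem hz) (Subgroup.mem_sup_right j.2)), mul_inv_rev, inv_inv,
      ← hψc ((j : G)⁻¹ * z) z]
    congr 1
    simp only [Equiv.inv_apply, InvMemClass.coe_inv]
    group
  -- the sum
  obtain ⟨a, ha⟩ : ∃ a : IrrCharacter ↥(H.subgroupOf T) → ℤ, a = fun θ =>
      C.kk θ + (deg (θ : ↥(H.subgroupOf T) → ℂ) : ℤ) * C.bb := ⟨_, rfl⟩
  have hS : ∀ X : Subgroup G, X ≤ H → ∀ [(subH T H X).Normal],
      ∑ g : G with g ∈ X, ψ g = ∑ θ : IrrCharacter ↥(H.subgroupOf T), (a θ : ℂ) *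
        ∑ h : ↥(H.subgroupOf T) with h ∈ subH T H X, (θ : ↥(H.subgroupOf T) → ℂ) h := by
    intro X hX _
    have e1 : ∑ g : G with g ∈ X, ψ g = ∑ h : ↥(H.subgroupOf T) with h ∈ subH T H X, ψ ((h : T) : G) := by
      symm
      refine Finset.sum_bij (s := Finset.univ.filter fun h : ↥(H.subgroupOf T) => h ∈ subH T H X)
        (fun h _ => ((h : T) : G)) (fun h hh => ?_) (fun h _ h' _ e => Subtype.ext (Subtype.ext e))
        (fun g hg => ?_) fun h _ => rfl
      · simpa [mem_subH] using hh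
      · have hgX := (Finset.mem_filter.1 hg).2
        exact ⟨⟨⟨g, d.H_le (hX hgX)⟩, hX hgX⟩, by simpa [mem_subH] using hgX, rfl⟩
    rw [e1, Finset.sum_congr rfl fun h _ => C.res_apply h, Finset.sum_comm]
    refine Finset.sum_congr rfl fun θ _ => ?_
    rw [ha, Finset.mul_sum]
    exact Finset.sum_congr rfl fun h _ => by push_cast; rfl
  have hterm : ∀ θ : IrrCharacter ↥(H.subgroupOf T),
      (Nat.card ↥(V ⊔ J) : ℂ) * ((a θ : ℂ) * ∑ h : ↥(H.subgroupOf T) with h ∈ subH T H J, (θ : ↥(H.subgroupOf T) → ℂ) h) -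
        (Nat.card J : ℂ) * ((a θ : ℂ) * ∑ h : ↥(H.subgroupOf T) with h ∈ subH T H (V ⊔ J), (θ : ↥(H.subgroupOf T) → ℂ) h) =
      if θ ∈ redY T H J V then (Nat.card ↥(V ⊔ J) : ℂ) * Nat.card J *
        ((a θ : ℂ) * deg (θ : ↥(H.subgroupOf T) → ℂ)) else 0 := by
    intro θ
    rw [sum_normal_subgroup (subH T H J) θ, sum_normal_subgroup (subH T H (V ⊔ J)) θ,
      card_subH d s.J_le, card_subH d s.sup_le_H, char_one_eq_deg (irr_isCharacter θ.2)]
    have i1 : (∀ x ∈ subH T H J, (θ : ↥(H.subgroupOf T) → ℂ) x = (deg (θ : ↥(H.subgroupOf T) → ℂ) : ℂ)) ↔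
        TrivOn J θ := by rw [← char_one_eq_deg (irr_isCharacter θ.2)]; rfl
    have i2 : (∀ x ∈ subH T H (V ⊔ J), (θ : ↥(H.subgroupOf T) → ℂ) x = (deg (θ : ↥(H.subgroupOf T) → ℂ) : ℂ)) ↔
        TrivOn V θ ∧ TrivOn J θ := by rw [← char_one_eq_deg (irr_isCharacter θ.2), ← s.trivOn_sup d]; rfl
    simp only [i1, i2, mem_redY]
    by_cases h1 : TrivOn J θ <;> by_cases h2 : TrivOn V θ <;> simp [h1, h2] <;> ring
  have hY : ∑ z : G with z ∈ V ⊔ J ∧ z ∉ J, ∑ j : J, (ψ (j : G) - ψ (z * (j : G))) =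
      (((Nat.card J : ℤ) * Nat.card J * Nat.card V * (C.tot (redY T H J V) +
        C.bb * TData.wt (redY T H J V)) : ℤ) : ℂ) := by
    have hsplit : ∀ f : G → ℂ, ∑ z : G with z ∈ V ⊔ J ∧ z ∉ J, f z =
        ∑ z : G with z ∈ V ⊔ J, f z - ∑ z : G with z ∈ J, f z := fun f => by
      rw [eq_sub_iff_add_eq, ← Finset.sum_filter_add_sum_filter_not (Finset.univ.filter fun z => z ∈ V ⊔ J)
        (fun z => z ∉ J), Finset.filter_filter, Finset.filter_filter]
      congr 1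
      refine Finset.sum_congr (Finset.ext fun z => ?_) fun _ _ => rfl
      simp only [Finset.mem_filter, Finset.mem_univ, true_and, not_not]
      exact ⟨fun h => ⟨Subgroup.mem_sup_right h, h⟩, fun h => h.2⟩
    have hJs : ∀ f : G → ℂ, ∑ j : J, f (j : G) = ∑ z : G with z ∈ J, f z := fun f =>
      (Finset.sum_subtype _ (fun z => by simp) f).symm
    have hcnt : ∀ X : Subgroup G, ∑ z : G with z ∈ X, (1 : ℂ) = Nat.card X := fun X => by
      rw [Finset.sum_const, nsmul_eq_mul, mul_one, Nat.card_eq_fintype_card, Fintype.card_subtype]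
    have hshift : ∀ j : J, ∑ z : G with z ∈ V ⊔ J ∧ z ∉ J, ψ (z * (j : G)) =
        ∑ z : G with z ∈ V ⊔ J ∧ z ∉ J, ψ z := fun j =>
      Finset.sum_equiv (Equiv.mulRight (j : G)) (fun z => by
        simp [Subgroup.mul_mem_cancel_right _ (Subgroup.mem_sup_right (S := V) j.2),
          Subgroup.mul_mem_cancel_right _ j.2]) fun z _ => rfl
    have e1 : ∑ z : G with z ∈ V ⊔ J ∧ z ∉ J, (1 : ℂ) = Nat.card ↥(V ⊔ J) - Nat.card J := by
      rw [hsplit, hcnt, hcnt]
    have e2 : ∑ j : J, (1 : ℂ) = Nat.card J := by simp [Nat.card_eq_fintype_card]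
    have e3 : ∀ (S : Finset G) (y : ℂ), ∑ _z ∈ S, y = (∑ _z ∈ S, (1 : ℂ)) * y := fun S y => by
      rw [Finset.sum_mul]; simp
    have e4 : ∀ y : ℂ, ∑ _j : J, y = (∑ _j : J, (1 : ℂ)) * y := fun y => by
      rw [Finset.sum_mul]; simp
    rw [Finset.sum_congr rfl fun z _ => Finset.sum_sub_distrib _ _, Finset.sum_sub_distrib,
      Finset.sum_comm (f := fun z (j : J) => ψ (z * (j : G))), Finset.sum_congr rfl fun j _ => hshift j,
      e3, e1, e4 (∑ z ∈ _, ψ z), e2, hsplit, hJs ψ]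
    rw [hS J s.J_le, hS (V ⊔ J) s.sup_le_H]
    have hmain := Finset.sum_congr (s₁ := (Finset.univ : Finset (IrrCharacter ↥(H.subgroupOf T)))) rfl
      fun θ _ => hterm θ
    rw [Finset.sum_sub_distrib, ← Finset.mul_sum, ← Finset.mul_sum, Finset.sum_ite_mem, Finset.univ_inter,
      ← Finset.mul_sum, s.card_sup d] at hmain
    have hsum : ∑ θ ∈ redY T H J V, (a θ : ℂ) * deg (θ : ↥(H.subgroupOf T) → ℂ) =
        ((C.tot (redY T H J V) + C.bb * TData.wt (redY T H J V) : ℤ) : ℂ) := by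
      simp only [TData.tot, TData.wt, ha]
      push_cast
      rw [Finset.mul_sum, ← Finset.sum_add_distrib]
      exact Finset.sum_congr rfl fun θ _ => by ring
    rw [hsum] at hmain
    rw [s.card_sup d]
    push_cast at hmain ⊢
    linear_combination hmain
  have hsig : IsIrrCharacter G ψ ∨ IsIrrCharacter G (-ψ) := C.fam.signed _ C.mem
  have hdvd := congr_pair d.odd hsig (T := T) (P := R) (Z0 := V ⊔ J) (J := J)
    (s.R_le.trans d.H_le) (s.sup_le_H.trans d.H_le) le_sup_right s.J_norm s.sup_norm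
    (fun g hg p hp hgp => by
      by_contra hp1
      exact hg (mem_of_conj_mem d.minSimple d.coatom d.kappa_ne (d.H_eq ▸ s.R_le hp) hp1
        (d.H_le (s.R_le hgp))))
    (fun p hp z hz => s.comm_mem d (s.R_le hp) hz) (fun y hy z hz => s.comm_mem d (s.sup_le_H hy) hz)
    hfix s.coprime
    (by
      have e : R.relIndex T = Nat.card Z * Nat.card J := by
        refine Nat.eq_of_mul_eq_mul_left (Nat.card_pos (α := R)) ?_
        rw [mul_left_comm, s.card, ← d.card_T, Subgroup.relIndex,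
          ← Solv.card_subgroupOf (s.R_le.trans d.H_le), Subgroup.card_mul_index]
      rw [e]
      exact Nat.Coprime.mul_right (d.coprime.symm.coprime_dvd_left (Subgroup.card_dvd_of_le s.R_le)) s.coprime)
    hreal hY
  -- remove `|J|²` and the regular part
  have hco : IsCoprime (Nat.card R : ℤ) ((Nat.card J : ℤ) * Nat.card J) := by
    rw [show (Nat.card J : ℤ) * Nat.card J = ((Nat.card J * Nat.card J : ℕ) : ℤ) by push_cast; ring]
    exact Int.isCoprime_iff_nat_coprime.2 (by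
      rw [Int.natAbs_natCast, Int.natAbs_natCast]; exact s.coprime.mul_right s.coprime)
  rw [mul_assoc ((Nat.card J : ℤ) * Nat.card J)] at hdvd
  have h1 := hco.dvd_of_dvd_mul_left hdvd
  have hw : (Nat.card V : ℤ) * TData.wt (redY T H J V) = (Nat.card R : ℤ) * ((Nat.card V - 1 : ℕ) : ℤ) := by
    rw [mul_comm]; exact_mod_cast s.wt_eq d
  rw [mul_add, mul_left_comm (Nat.card V : ℤ) C.bb, hw, ← mul_assoc C.bb, mul_comm C.bb, mul_assoc] at h1
  exact (dvd_add_left (dvd_mul_right _ _)).1 h1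

end TailRed

end Cfsg.Agent.OddFT
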