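import Cfsg.Agent.Lib.OddChar.FT.Defs
import Cfsg.Agent.Lib.OddLocal.KappaTypeData
import Cfsg.Agent.Lib.OddLocal.KappaFitting
import Cfsg.Agent.Lib.OddLocal.KappaDerived
import Cfsg.Agent.Lib.OddLocal.KappaCover
import Cfsg.Agent.Lib.Char.TypePLikeMu

/-!
A maximal subgroup `T = H ⋊ Z` without `U`: the group, and its characters on the middle of the grid.
-/

set_option autoImplicit false
set_option linter.unusedSectionVars false
set_option linter.unusedVariables false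
set_option linter.style.haveILetI false

open Cfsg Cfsg.Agent.Char Cfsg.Agent.OddChar
open scoped ComplexConjugate commutatorElement
open Cfsg.Agent.OddLocal

namespace Cfsg.Agent.OddFT

universe u

/-- Exponents prime to the modulus can be lifted. -/
theorem exists_coprime_modEq {q N m : ℕ} (hq : q ∣ N) (hN : N ≠ 0) (hm : m.Coprime q) :
    ∃ k : ℕ, k.Coprime N ∧ k ≡ m [MOD q] := by
  haveI : NeZero N := ⟨hN⟩
  obtain ⟨v, hv⟩ := ZMod.unitsMap_surjective hq (ZMod.unitOfCoprime m hm)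
  refine ⟨(v : ZMod N).val, ZMod.val_coe_unit_coprime v, ?_⟩
  rw [← ZMod.natCast_eq_natCast_iff, ZMod.natCast_val]
  exact congrArg Units.val hv

/-- Values of linear characters are inverse to their conjugates. -/
theorem conj_hom_apply {A : Type u} [Group A] [Finite A] (l : A →* ℂˣ) (a : A) :
    conj (l a : ℂ) = (l a : ℂ)⁻¹ := by
  refine (Complex.inv_eq_conj ?_).symm
  refine Complex.norm_eq_one_of_pow_eq_one (n := Nat.card A) ?_ Nat.card_pos.ne'
  rw [← Units.val_pow_eq_pow_val, ← map_pow, pow_card_eq_one', map_one, Units.val_one]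

/-- The hypotheses on `T`. -/
structure Tail {G : Type u} [Group G] (T Z K H : Subgroup G) : Prop where
  minSimple : IsMinSimpleOddOrder G
  coatom : IsCoatom T
  decomp : IsSigmaDecomposition T Z ⊥
  Z_ne : Z ≠ ⊥
  H_eq : H = sigmaCore T
  K_eq : K = H ⊓ Subgroup.centralizer (Z : Set G)

namespace Tail

variable {G : Type u} [Group G] [Fintype G] {T Z K H : Subgroup G} (d : Tail T Z K H)
include d

theorem Z_le : Z ≤ T := d.decomp.hall.1

theorem H_le : H ≤ T := d.H_eq ▸ Subgroup.map_subtype_le _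

theorem K_le_H : K ≤ H := d.K_eq ▸ inf_le_left

theorem K_le : K ≤ T := d.K_le_H.trans d.H_le

theorem H_norm : T ≤ Subgroup.normalizer (H : Set G) := d.H_eq ▸ Sig.le_normalizer_piCoreOf

theorem conj_mem {t h : G} (ht : t ∈ T) (hh : h ∈ H) : t * h * t⁻¹ ∈ H :=
  (Subgroup.mem_normalizer_iff.1 (d.H_norm ht) h).1 hh

theorem conj_mem' {t h : G} (ht : t ∈ T) (hh : h ∈ H) : t⁻¹ * h * t ∈ H := by
  simpa using d.conj_mem (T.inv_mem ht) hh

theorem compl : IsComplIn Z H T := by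
  have h := Decomp.compl d.minSimple d.coatom d.decomp
  rw [bot_sup_eq] at h
  rwa [d.H_eq]

theorem disjoint : Z ⊓ H = ⊥ := d.compl.2.2.1

theorem one_of_mem {z : G} (hz : z ∈ Z) (hh : z ∈ H) : z = 1 :=
  Subgroup.mem_bot.1 (d.disjoint ▸ ⟨hz, hh⟩ : z ∈ (⊥ : Subgroup G))

theorem mul {x : G} (hx : x ∈ T) : ∃ h ∈ H, ∃ z ∈ Z, x = h * z := by
  obtain ⟨z, hz, h, hh, rfl⟩ := d.compl.2.2.2 x hx
  exact ⟨z * h * z⁻¹, d.conj_mem (d.Z_le hz) hh, z, hz, by group⟩

theorem coprime : (Nat.card Z).Coprime (Nat.card H) := by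
  have hc : IsComplIn Z (sigmaCore T) T := d.H_eq ▸ d.compl
  rw [d.H_eq]
  exact Nat.coprime_of_dvd fun q hq h1 h2 =>
    Sig.compl_pi d.minSimple d.coatom hc hq h1 ((Sig.sigmaCore_hall d.minSimple d.coatom).1.2.1 q hq h2)

theorem card_T : Nat.card T = Nat.card Z * Nat.card H := by
  have hc : IsComplIn Z (sigmaCore T) T := d.H_eq ▸ d.compl
  rw [d.H_eq, (Sig.compl_card hc).2]

theorem index_H : (H.subgroupOf T).index = Nat.card Z := by
  have hc : IsComplIn Z (sigmaCore T) T := d.H_eq ▸ d.compl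
  rw [d.H_eq]
  exact (Sig.compl_card hc).1.symm

theorem prime : (Nat.card K).Prime := by
  rw [d.K_eq, d.H_eq]
  exact Kappa.star_prime d.minSimple d.coatom d.decomp d.Z_ne rfl

theorem K_ne : K ≠ ⊥ := fun h => by
  have := d.prime
  rw [h, Subgroup.card_bot] at this
  exact Nat.not_prime_one this

theorem kappa_ne : kappa T ≠ ∅ := by
  obtain ⟨p, hp, hd⟩ := Nat.exists_prime_and_dvd fun h => d.Z_ne (Subgroup.card_eq_one.1 h)
  exact fun h => absurd (d.decomp.hall.2.1 p hp hd) (by rw [h]; exact Set.notMem_empty p)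

theorem odd : Odd (Nat.card G) := d.minSimple.1

theorem three_le_card (A : Subgroup G) (hA : A ≠ ⊥) : 3 ≤ Nat.card A := by
  obtain ⟨j, hj⟩ := d.odd.of_dvd_nat (Subgroup.card_subgroup_dvd_card A)
  have h1 : Nat.card A ≠ 1 := fun h => hA (Subgroup.card_eq_one.1 h)
  omega

theorem comm {k z : G} (hk : k ∈ K) (hz : z ∈ Z) : k * z = z * k :=
  (Subgroup.mem_centralizer_iff.1 (d.K_eq ▸ hk : k ∈ H ⊓ Subgroup.centralizer (Z : Set G)).2 z hz).symm

theorem prime_action {z : G} (hz : z ∈ Z) (hz1 : z ≠ 1) : H ⊓ Subgroup.centralizer ({z} : Set G) = K := by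
  rw [d.K_eq, d.H_eq]
  exact Kappa.prime_action d.minSimple d.coatom d.decomp.hall hz hz1

theorem mem_K_of_comm {z h : G} (hz : z ∈ Z) (hz1 : z ≠ 1) (hh : h ∈ H) (e : z * h = h * z) : h ∈ K :=
  d.prime_action hz hz1 ▸ ⟨hh, Subgroup.mem_centralizer_singleton_iff.2 e.symm⟩

theorem K_le_derived : K ≤ ⁅H, H⁆ := by
  have h := Kappa.star_le_second d.minSimple d.coatom d.decomp d.Z_ne
  rw [Kappa.derived_eq d.minSimple d.coatom d.decomp d.Z_ne, bot_sup_eq] at h
  rw [d.K_eq, d.H_eq]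
  exact h

theorem sn : IsSelfNormalizingCyclic Z K := by
  rw [d.K_eq, d.H_eq]
  exact Kappa.selfNormalizing d.minSimple d.coatom d.decomp d.Z_ne

theorem hat_notMem {k z : G} (hk : k ∈ K) (hz : z ∈ Z) (hz1 : z ≠ 1) : k * z ∉ H := fun h =>
  hz1 (d.one_of_mem hz ((H.mul_mem_cancel_left (d.K_le_H hk)).1 h))

/-- `κ`-parts: an element of `T` whose order divides a power of `|Z|` is conjugate into `Z`. -/
theorem conj_into_Z {x : G} (hx : x ∈ T) (h : x ^ Nat.card Z = 1) :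
    ∃ t ∈ T, ∃ z ∈ Z, x = t * z * t⁻¹ := by
  obtain ⟨t, ht, hz⟩ := Kappa.mem_hall_conj d.minSimple d.coatom d.decomp.hall hx fun s hs hd =>
    d.decomp.hall.2.1 s hs (hd.trans (orderOf_dvd_of_pow_eq_one h))
  exact ⟨t, ht, _, hz, by group⟩

theorem pow_mem_H {x : G} (hx : x ∈ T) : x ^ Nat.card Z ∈ H := by
  haveI : (H.subgroupOf T).Normal := Subgroup.normal_subgroupOf_of_le_normalizer d.H_norm
  have h := Subgroup.pow_index_mem (H.subgroupOf T) (⟨x, hx⟩ : T)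
  rw [d.index_H] at h
  exact h

theorem mem_H_of_pow {x : G} (hx : x ∈ T) (h : x ^ Nat.card H = 1) : x ∈ H := by
  obtain ⟨j, hj⟩ := exists_pow_eq_self_of_coprime (x := x) (n := Nat.card Z)
    (d.coprime.coprime_dvd_right (orderOf_dvd_of_pow_eq_one h))
  rw [← hj]
  exact H.pow_mem (d.pow_mem_H hx) j

/-- Outside `H` the elements of `T` are conjugate into the hat. -/
theorem exists_hat {x : G} (hx : x ∈ T) (hxH : x ∉ H) :
    ∃ t ∈ T, ∃ k ∈ K, ∃ z ∈ Z, z ≠ 1 ∧ x = t * (k * z) * t⁻¹ := by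
  obtain ⟨e, he1, he2⟩ := Nat.chineseRemainder d.coprime 1 0
  have hT : x ^ Nat.card T = 1 := by
    simpa only [SubgroupClass.coe_pow, OneMemClass.coe_one] using
      congrArg Subtype.val (pow_card_eq_one' (x := (⟨x, hx⟩ : T)))
  have hNe : Nat.card T ∣ e * Nat.card Z := by
    rw [d.card_T, mul_comm e]
    exact mul_dvd_mul_left _ (Nat.modEq_zero_iff_dvd.1 he2)
  have ha : (x ^ e) ^ Nat.card Z = 1 := by
    rw [← pow_mul]
    obtain ⟨c, hc⟩ := hNe
    rw [hc, pow_mul, hT, one_pow]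
  obtain ⟨t, ht, z, hz, hxe⟩ := d.conj_into_Z (T.pow_mem hx e) ha
  -- the other part
  set b := (x ^ e)⁻¹ * x with hb
  have hcomm : Commute (x ^ e) x := (Commute.refl x).pow_left e
  have hbH : b ∈ H := by
    refine d.mem_H_of_pow (T.mul_mem (T.inv_mem (T.pow_mem hx e)) hx) ?_
    have h1 : b ^ Nat.card H = x ^ ((Nat.card T : ℤ) * 0 + (1 - (e : ℤ)) * Nat.card H) := by
      rw [hb, hcomm.inv_left.mul_pow, inv_pow, ← pow_mul, mul_zero, zero_add, sub_mul, one_mul, zpow_sub,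
        zpow_natCast, ← Nat.cast_mul, zpow_natCast]
      exact ((Commute.refl x).pow_pow _ _).inv_left.eq
    obtain ⟨c, hc⟩ : (Nat.card T : ℤ) ∣ (1 - (e : ℤ)) * Nat.card H := by
      rw [d.card_T, Nat.cast_mul]
      refine mul_dvd_mul_right ?_ _
      exact Nat.modEq_iff_dvd.1 he1
    rw [h1, mul_zero, zero_add, hc, zpow_mul, zpow_natCast, hT, one_zpow]
  have hz1 : z ≠ 1 := fun h1 => hxH (by
    have h2 : x ^ e = 1 := by rw [hxe, h1]; group
    simpa [hb, h2] using hbH)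
  refine ⟨t, ht, t⁻¹ * b * t, d.mem_K_of_comm hz hz1 (d.conj_mem' ht hbH) ?_, z, hz, hz1, ?_⟩
  · have hbe : b * x ^ e = x ^ e * b := by
      rw [hb, mul_assoc, ← hcomm.eq]
      group
    rw [hxe] at hbe
    calc z * (t⁻¹ * b * t) = t⁻¹ * ((t * z * t⁻¹) * b) * t := by group
      _ = t⁻¹ * (b * (t * z * t⁻¹)) * t := by rw [hbe]
      _ = t⁻¹ * b * t * z := by group
  · have e1 : t * (t⁻¹ * b * t * z) * t⁻¹ = b * (t * z * t⁻¹) := by group
    rw [e1, ← hxe, hb, mul_assoc, ← hcomm.eq]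
    group

/-- The nonidentity elements outside the TI set are conjugate into `Z`. -/
theorem exists_of_notMem {x : G} (hx : x ∈ T) (hx1 : x ≠ 1) (h : x ∉ sigmaSet T) :
    ∃ t ∈ T, ∃ z ∈ Z, z ≠ 1 ∧ x = t * z * t⁻¹ := by
  have hw : x ^ Nat.card Z = 1 := by
    by_contra hc
    exact h ⟨hx, _, d.H_eq ▸ d.pow_mem_H hx, hc⟩
  obtain ⟨t, ht, z, hz, e⟩ := d.conj_into_Z hx hw
  exact ⟨t, ht, z, hz, fun h1 => hx1 (by rw [e, h1]; group), e⟩

theorem isTI : IsTI T (sigmaSet T) := sigmaSet_ti d.minSimple d.coatom d.kappa_ne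

variable [Fintype T]

/-- A class function of `T` vanishing at `1` and on `Z#` lives on the TI set. -/
theorem supported {α : T → ℂ} (hα : IsClassFunction T α) (h1 : α 1 = 0)
    (hz : ∀ z : T, (z : G) ∈ Z → z ≠ 1 → α z = 0) : ∀ x : T, (x : G) ∉ sigmaSet T → α x = 0 := by
  intro x hx
  by_cases hx1 : x = 1
  · rw [hx1, h1]
  obtain ⟨t, ht, z, hzZ, hz1, e⟩ := d.exists_of_notMem x.2 (fun h => hx1 (Subtype.ext h)) hx
  have : x = (⟨t, ht⟩ : T) * ⟨z, d.Z_le hzZ⟩ * (⟨t, ht⟩ : T)⁻¹ := Subtype.ext e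
  rw [this, hα]
  exact hz _ hzZ fun h => hz1 (congrArg Subtype.val h)

theorem ctx : CycCtx (H.subgroupOf T) (Z.subgroupOf T) (K.subgroupOf T) := by
  haveI : (H.subgroupOf T).Normal := Subgroup.normal_subgroupOf_of_le_normalizer d.H_norm
  refine typeP_ctx ?_ ?_ ?_ ?_ ?_ fun x hx hx1 => ?_
  · rw [Subgroup.subgroupOf, Subgroup.subgroupOf, ← Subgroup.comap_inf, inf_comm, d.disjoint]
    exact Subgroup.bot_subgroupOf T
  · rw [eq_top_iff]
    intro x _
    obtain ⟨h, hh, z, hz, e⟩ := d.mul x.2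
    rw [show x = (⟨h, d.H_le hh⟩ : T) * ⟨z, d.Z_le hz⟩ from Subtype.ext e]
    exact Subgroup.mul_mem _ (Subgroup.mem_sup_left hh) (Subgroup.mem_sup_right hz)
  · rw [Ne, Subgroup.subgroupOf_eq_bot, disjoint_iff, inf_eq_left.2 d.Z_le]
    exact d.Z_ne
  · haveI := d.decomp.cyclic
    exact isCyclic_of_surjective (Subgroup.subgroupOfEquivOfLe d.Z_le).symm (MulEquiv.surjective _)
  · rw [Solv.card_subgroupOf d.Z_le]
    refine d.coprime.coprime_dvd_right (dvd_of_eq ?_)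
    refine Nat.eq_of_mul_eq_mul_left (Nat.card_pos (α := Z)) ?_
    rw [← Solv.card_subgroupOf d.Z_le, Subgroup.card_mul_index, d.card_T, Solv.card_subgroupOf d.Z_le]
  · ext y
    have hz : (x : G) ≠ 1 := fun h => hx1 (Subtype.ext h)
    simp only [Subgroup.mem_inf, Subgroup.mem_subgroupOf]
    rw [← d.prime_action (Subgroup.mem_subgroupOf.1 hx) hz, Subgroup.mem_inf,
      Subgroup.mem_centralizer_singleton_iff, Subgroup.mem_centralizer_singleton_iff]
    refine and_congr_right fun _ => ⟨fun h => congrArg Subtype.val h, fun h => Subtype.ext h⟩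

theorem cent_sub (x : T) (hx : x ∈ Z.subgroupOf T) (hx1 : x ≠ 1) :
    H.subgroupOf T ⊓ Subgroup.centralizer ({x} : Set T) = K.subgroupOf T := by
  ext y
  have hz : (x : G) ≠ 1 := fun h => hx1 (Subtype.ext h)
  simp only [Subgroup.mem_inf, Subgroup.mem_subgroupOf]
  rw [← d.prime_action (Subgroup.mem_subgroupOf.1 hx) hz, Subgroup.mem_inf,
    Subgroup.mem_centralizer_singleton_iff, Subgroup.mem_centralizer_singleton_iff]
  exact and_congr_right fun _ => ⟨fun h => congrArg Subtype.val h, fun h => Subtype.ext h⟩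

theorem K_cyclic : IsCyclic ↥(K.subgroupOf T) := by
  haveI : Fact (Nat.card K).Prime := ⟨d.prime⟩
  exact isCyclic_of_prime_card (Solv.card_subgroupOf d.K_le)

/-- The exponents prime to `|G|` are transitive on the nontrivial characters of `K`. -/
theorem exists_pow {i i' : ↥K →* ℂˣ} (hi : i ≠ 1) (hi' : i' ≠ 1) :
    ∃ m : ℕ, m.Coprime (Nat.card G) ∧ i' = i ^ m := by
  haveI : Fact (Nat.card K).Prime := ⟨d.prime⟩
  haveI := d.prime
  haveI : IsMulCommutative ↥K := by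
    haveI := isCyclic_of_prime_card (α := ↥K) rfl
    letI := IsCyclic.commGroup (α := ↥K)
    exact ⟨⟨mul_comm⟩⟩
  haveI : Finite (↥K →* ℂˣ) := Finite.of_fintype _
  have hc : Nat.card (↥K →* ℂˣ) = Nat.card K := by
    rw [card_hom_units, (_root_.commutator_eq_bot_iff _).2 inferInstance]
    exact Subgroup.index_bot
  haveI : Fact (Nat.card (↥K →* ℂˣ)).Prime := ⟨hc ▸ d.prime⟩
  obtain ⟨m, hm⟩ := (Subgroup.mem_zpowers_iff).1 (mem_zpowers_of_prime_card (h := hc) (g' := i') hi)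
  have hord : orderOf i = Nat.card K := orderOf_eq_prime (hom_pow_card i) hi
  obtain ⟨n, rfl⟩ : ∃ n : ℕ, i' = i ^ n := by
    have := mem_powers_iff_mem_zpowers (x := i) (y := i').2 ⟨m, hm⟩
    obtain ⟨n, hn⟩ := this
    exact ⟨n, hn.symm⟩
  have hn : n.Coprime (Nat.card K) := by
    rw [Nat.coprime_comm, d.prime.coprime_iff_not_dvd]
    rintro ⟨c, rfl⟩
    refine hi' (MonoidHom.ext fun x => ?_)
    rw [MonoidHom.pow_apply, pow_mul, ← map_pow, pow_card_eq_one', map_one, one_pow, MonoidHom.one_apply]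
  obtain ⟨k, hk, hkn⟩ := exists_coprime_modEq (Subgroup.card_subgroup_dvd_card K) Nat.card_pos.ne' hn
  exact ⟨k, hk, (pow_eq_pow_iff_modEq (x := i)).2 (hord.symm ▸ hkn.symm)⟩

end Tail

/-- The characters of `T` that do not vanish on the middle. -/
structure Mu {G : Type u} [Group G] [Fintype G] (T Z K : Subgroup G) [Fintype T] where
  mu : (↥K →* ℂˣ) → (↥Z →* ℂˣ) → (T → ℂ)
  sgn : (↥K →* ℂˣ) → ℤ
  irr : ∀ i j, IsIrrCharacter T (mu i j)
  sgn_cases : ∀ i, sgn i = 1 ∨ sgn i = -1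
  val : ∀ i j (k : K) (z : Z) (t : T), z ≠ 1 → (t : G) = k * z → mu i j t = sgn i * i k * j z
  vanish : ∀ χ, IsIrrCharacter T χ → (∀ i j, χ ≠ mu i j) →
    ∀ (k : K) (z : Z) (t : T), z ≠ 1 → (t : G) = k * z → χ t = 0
  cong : ∀ i j, ∃ n : ℤ, mu i j 1 - sgn i = n * (Nat.card Z : ℂ)

variable {G : Type u} [Group G] [Fintype G] {T Z K H : Subgroup G} [Fintype T]

theorem Tail.exists_mu (d : Tail T Z K H) : Nonempty (Mu T Z K) := by
  classical
  haveI : (H.subgroupOf T).Normal := Subgroup.normal_subgroupOf_of_le_normalizer d.H_norm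
  set W₁ := Z.subgroupOf T
  set W₂ := K.subgroupOf T
  have hW₁ : W₁ ≠ ⊥ := by
    rw [Ne, Subgroup.subgroupOf_eq_bot, disjoint_iff, inf_eq_left.2 d.Z_le]
    exact d.Z_ne
  have hsup : W₁ ⊔ W₂ ≤ (Z ⊔ K).subgroupOf T :=
    sup_le (fun x hx => Subgroup.mem_sup_left hx) fun x hx => Subgroup.mem_sup_right hx
  have hodd : Odd (Nat.card ↥(W₁ ⊔ W₂)) := d.odd.of_dvd_nat
    ((Subgroup.card_subgroup_dvd_card _).trans (Subgroup.card_subgroup_dvd_card T))
  obtain ⟨μ, δ, hμinj, hμirr, hδ, hagree, hval, hzero, hcong⟩ :=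
    exists_typeP_mu d.ctx hW₁ d.K_cyclic d.cent_sub hodd
  have hdisj : W₁ ⊓ W₂ = ⊥ := (Subgroup.eq_bot_iff_forall _).2 fun x hx =>
    Subtype.ext (d.one_of_mem hx.1 (d.K_le_H hx.2))
  have hcomm : ∀ a ∈ W₁, ∀ b ∈ W₂, a * b = b * a := fun a ha b hb => Subtype.ext (d.comm hb ha).symm
  let eZ : W₁ ≃* Z := Subgroup.subgroupOfEquivOfLe d.Z_le
  let eK : W₂ ≃* K := Subgroup.subgroupOfEquivOfLe d.K_le
  choose Ω hΩ₁ hΩ₂ using fun (i : ↥K →* ℂˣ) (j : ↥Z →* ℂˣ) =>
    ti_exists_hom hdisj hcomm (j.comp eZ.toMonoidHom) (i.comp eK.toMonoidHom)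
  have hδeq : ∀ i j, δ (Ω i j) = δ (Ω i 1) := fun i j => (hagree _ _ fun w hw => by
    rw [show w = Subgroup.inclusion le_sup_right (⟨w, hw⟩ : W₂) from rfl, hΩ₂, hΩ₂]).1
  let s : (↥K →* ℂˣ) → ℤ := fun i => if δ (Ω i 1) = 1 then 1 else -1
  have hs : ∀ i, (s i : ℂ) = δ (Ω i 1) := fun i => by
    rcases hδ (Ω i 1) with h | h <;> simp only [s, h]
    · simp
    · norm_num
  have hsplit : ∀ (k : K) (z : Z) (t : T), (t : G) = k * z → t =
      ((Subgroup.inclusion le_sup_left (eZ.symm z) * Subgroup.inclusion le_sup_right (eK.symm k) :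
        ↥(W₁ ⊔ W₂)) : T) := fun k z t ht => Subtype.ext (by rw [ht]; exact d.comm k.2 z.2)
  have hnot : ∀ (k : K) (z : Z), z ≠ 1 →
      ((Subgroup.inclusion le_sup_left (eZ.symm z) * Subgroup.inclusion le_sup_right (eK.symm k) :
        ↥(W₁ ⊔ W₂)) : T) ∉ W₂ := fun k z hz h => hz (Subtype.ext (d.one_of_mem z.2 (d.K_le_H
    ((K.mul_mem_cancel_right k.2).1 h))))
  refine ⟨⟨fun i j => μ (Ω i j), s, fun i j => hμirr _, fun i => ?_, fun i j k z t hz ht => ?_,
    fun χ hχ hne k z t hz ht => ?_, fun i j => ?_⟩⟩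
  · simp only [s]; split_ifs <;> simp
  · show μ (Ω i j) t = _
    rw [hsplit k z t ht, hval _ _ (hnot k z hz), hδeq, ← hs, map_mul, hΩ₁, hΩ₂]
    simp [mul_comm, mul_left_comm]
  · rw [hsplit k z t ht]
    refine hzero χ hχ (fun ω => ?_) _ (hnot k z hz)
    have : ω = Ω ((ω.comp (Subgroup.inclusion le_sup_right)).comp eK.symm.toMonoidHom)
        ((ω.comp (Subgroup.inclusion le_sup_left)).comp eZ.symm.toMonoidHom) := ti_hom_ext hcomm
      (fun w hw => by
        rw [show w = Subgroup.inclusion le_sup_left (⟨w, hw⟩ : W₁) from rfl, hΩ₁]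
        simp)
      (fun w hw => by
        rw [show w = Subgroup.inclusion le_sup_right (⟨w, hw⟩ : W₂) from rfl, hΩ₂]
        simp)
    rw [this]
    exact hne _ _
  · obtain ⟨n, hn⟩ := hcong (Ω i j)
    refine ⟨n, ?_⟩
    show μ (Ω i j) 1 - _ = _
    rw [hs, ← hδeq i j, hn, Solv.card_subgroupOf d.Z_le]

namespace Mu

variable (M : Mu T Z K) (d : Tail T Z K H)
include d

/-- An element of the middle as an element of `T`. -/
def hatT (d : Tail T Z K H) (k : K) (z : Z) : T :=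
  ⟨(k : G) * z, T.mul_mem (d.K_le k.2) (d.Z_le z.2)⟩

theorem sgn_ne (i : ↥K →* ℂˣ) : (M.sgn i : ℂ) ≠ 0 := by
  rcases M.sgn_cases i with h | h <;> rw [h] <;> norm_num

theorem exists_z : ∃ z : Z, z ≠ 1 ∧ z * z ≠ 1 := by
  haveI := Subgroup.nontrivial_iff_ne_bot Z |>.2 d.Z_ne
  obtain ⟨z, hz⟩ := exists_ne (1 : Z)
  refine ⟨z, hz, fun h => hz ?_⟩
  have hodd : (Nat.card Z).Coprime 2 :=
    (Nat.coprime_two_right.2 (d.odd.of_dvd_nat (Subgroup.card_subgroup_dvd_card Z)))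
  have h2 : orderOf z ∣ 2 := orderOf_dvd_of_pow_eq_one (by rw [pow_two]; exact h)
  exact orderOf_eq_one_iff.1 (Nat.eq_one_of_dvd_coprimes hodd (orderOf_dvd_natCard z) h2)

/-- An irreducible character with the values of a member on the middle is that member. -/
theorem ident {χ : T → ℂ} (hχ : IsIrrCharacter T χ) {s : ℤ} (hs : s = 1 ∨ s = -1) {i : ↥K →* ℂˣ}
    {j : ↥Z →* ℂˣ} (h : ∀ (k : K) (z : Z), z ≠ 1 → χ (hatT d k z) = s * i k * j z) :
    χ = M.mu i j ∧ s = M.sgn i := by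
  obtain ⟨z, hz, hzz⟩ := exists_z d
  have hs0 : (s : ℂ) ≠ 0 := by rcases hs with h | h <;> rw [h] <;> norm_num
  obtain ⟨i', j', rfl⟩ : ∃ i' j', χ = M.mu i' j' := by
    by_contra hc
    push Not at hc
    have h0 := M.vanish χ hχ hc 1 z (hatT d 1 z) hz rfl
    rw [h 1 z hz] at h0
    simp [hs0] at h0
  have e : ∀ (k : K) (z : Z), z ≠ 1 → (M.sgn i' : ℂ) * i' k * j' z = s * i k * j z := fun k z hz => by
    rw [← h k z hz, M.val i' j' k z (hatT d k z) hz rfl]
  have e0 : ∀ z : Z, z ≠ 1 → (M.sgn i' : ℂ) * j' z = s * j z := fun z hz => by simpa using e 1 z hz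
  have hj' : (j' z : ℂ) ≠ 0 := (j' z).ne_zero
  have hj : (j z : ℂ) ≠ 0 := (j z).ne_zero
  have hss : (M.sgn i' : ℂ) = s := by
    have e1 := e0 z hz
    have e2 := e0 (z * z) hzz
    rw [map_mul, map_mul, Units.val_mul, Units.val_mul] at e2
    have e3 : (s : ℂ) * j z * ((j' z : ℂ) - j z) = 0 := by linear_combination e2 - (j' z : ℂ) * e1
    have e4 : (j' z : ℂ) = j z := sub_eq_zero.1 ((mul_eq_zero.1 e3).resolve_left (mul_ne_zero hs0 hj))
    rw [e4] at e1
    exact mul_right_cancel₀ hj e1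
  have hjj : j' = j := MonoidHom.ext fun y => by
    by_cases hy : y = 1
    · rw [hy, map_one, map_one]
    · have := e0 y hy
      rw [hss] at this
      exact Units.ext (mul_left_cancel₀ hs0 this)
  have hii : i' = i := MonoidHom.ext fun k => Units.ext (by
    have := e k z hz
    rw [hss, hjj] at this
    exact mul_left_cancel₀ hs0 (mul_right_cancel₀ hj this))
  exact ⟨by rw [hii, hjj], by rw [← hii]; exact_mod_cast hss.symm⟩

theorem inj {i i' : ↥K →* ℂˣ} {j j' : ↥Z →* ℂˣ} (h : M.mu i j = M.mu i' j') : i = i' ∧ j = j' := by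
  obtain ⟨z, hz, hzz⟩ := exists_z d
  have e : ∀ (k : K) (z : Z), z ≠ 1 → (M.sgn i : ℂ) * i k * j z = M.sgn i' * i' k * j' z := fun k z hz => by
    rw [← M.val i j k z (hatT d k z) hz rfl, h, M.val i' j' k z (hatT d k z) hz rfl]
  have e1 := (e 1 z hz)
  have e2 := (e 1 (z * z) hzz)
  simp only [map_one, Units.val_one, mul_one, map_mul, Units.val_mul] at e1 e2
  have hj : (j z : ℂ) ≠ 0 := (j z).ne_zero
  have hj' : (j' z : ℂ) ≠ 0 := (j' z).ne_zero
  have e3 : (M.sgn i' : ℂ) * j' z * ((j z : ℂ) - j' z) = 0 := by linear_combination e2 - (j z : ℂ) * e1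
  have e4 : (j z : ℂ) = j' z :=
    sub_eq_zero.1 ((mul_eq_zero.1 e3).resolve_left (mul_ne_zero (M.sgn_ne d i') hj'))
  have hss : (M.sgn i : ℂ) = M.sgn i' := by rw [e4] at e1; exact mul_right_cancel₀ hj' e1
  have hjj : j = j' := MonoidHom.ext fun y => by
    by_cases hy : y = 1
    · rw [hy, map_one, map_one]
    · have := e 1 y hy
      simp only [map_one, Units.val_one, mul_one, hss] at this
      exact Units.ext (mul_left_cancel₀ (M.sgn_ne d i') this)
  refine ⟨MonoidHom.ext fun k => Units.ext ?_, hjj⟩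
  have := e k z hz
  rw [hss, hjj] at this
  exact mul_left_cancel₀ (M.sgn_ne d i') (mul_right_cancel₀ hj' this)

theorem exists_lin (j : ↥Z →* ℂˣ) : ∃ l : ↥T →* ℂˣ, (∀ t : T, (t : G) ∈ H → l t = 1) ∧
    ∀ (k : K) (z : Z), l (hatT d k z) = j z := by
  haveI : (H.subgroupOf T).Normal := Subgroup.normal_subgroupOf_of_le_normalizer d.H_norm
  let pr : ↥T →* ↥(Z.subgroupOf T) :=
    d.ctx.compl.QuotientMulEquiv.toMonoidHom.comp (QuotientGroup.mk' (H.subgroupOf T))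
  have hker : ∀ t : T, (t : G) ∈ H → pr t = 1 := fun t ht => by
    show d.ctx.compl.QuotientMulEquiv _ = 1
    rw [MulEquiv.map_eq_one_iff, QuotientGroup.mk'_apply, QuotientGroup.eq_one_iff]
    exact ht
  refine ⟨j.comp ((Subgroup.subgroupOfEquivOfLe d.Z_le).toMonoidHom.comp pr),
    fun t ht => by simp [hker t ht], fun k z => ?_⟩
  have e : hatT d k z = (⟨k, d.K_le k.2⟩ : T) * ⟨z, d.Z_le z.2⟩ := rfl
  have hpz : pr (⟨z, d.Z_le z.2⟩ : T) = (Subgroup.subgroupOfEquivOfLe d.Z_le).symm z := by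
    show d.ctx.compl.QuotientMulEquiv _ = _
    rw [← d.ctx.compl.QuotientMulEquiv.eq_symm_apply]
    rfl
  rw [e, MonoidHom.comp_apply, MonoidHom.comp_apply, map_mul pr, hker (⟨k, d.K_le k.2⟩ : T) (d.K_le_H k.2), hpz]
  simp

/-- The linear character of `T` belonging to `j`. -/
noncomputable def lin (d : Tail T Z K H) (j : ↥Z →* ℂˣ) : ↥T →* ℂˣ := Classical.choose (exists_lin d j)

theorem lin_H (j : ↥Z →* ℂˣ) {t : T} (ht : (t : G) ∈ H) : lin d j t = 1 :=
  (Classical.choose_spec (exists_lin d j)).1 t ht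

theorem lin_hat (j : ↥Z →* ℂˣ) (k : K) (z : Z) : lin d j (hatT d k z) = j z :=
  (Classical.choose_spec (exists_lin d j)).2 k z

theorem mu_one (j : ↥Z →* ℂˣ) : (fun t => (lin d j t : ℂ)) = M.mu 1 j ∧ M.sgn 1 = 1 := by
  obtain ⟨h1, h2⟩ := M.ident d (isIrrCharacter_linear (lin d j)) (Or.inl rfl) (i := 1) (j := j)
    fun k z _ => by simp [lin_hat]
  exact ⟨h1, h2.symm⟩

theorem mu_eq (i : ↥K →* ℂˣ) (j : ↥Z →* ℂˣ) (t : T) : M.mu i j t = lin d j t * M.mu i 1 t := by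
  have h : (fun t => (lin d j t : ℂ) * M.mu i 1 t) = M.mu i j :=
    (M.ident d (isIrr_linear_mul (M.irr i 1) (lin d j)) (M.sgn_cases i) (i := i) (j := j)
      fun k z hz => by
        show (lin d j _ : ℂ) * M.mu i 1 _ = _
        rw [lin_hat, M.val i 1 k z _ hz rfl, MonoidHom.one_apply, Units.val_one]
        ring).1
  exact (congrFun h t).symm

theorem res_eq (i : ↥K →* ℂˣ) (j : ↥Z →* ℂˣ) {t : T} (ht : (t : G) ∈ H) : M.mu i j t = M.mu i 1 t := by
  rw [M.mu_eq d, lin_H d j ht, Units.val_one, one_mul]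

theorem mu_one_one : M.mu 1 1 = fun _ => 1 :=
  ((M.ident d isIrrCharacter_one (Or.inl rfl) (i := 1) (j := 1) fun k z _ => by simp).1).symm

/-- The coprime powers permute the members. -/
theorem pow {m : ℕ} (hm : m.Coprime (Nat.card G)) (i : ↥K →* ℂˣ) (j : ↥Z →* ℂˣ) :
    (fun t => M.mu i j (t ^ m)) = M.mu (i ^ m) (j ^ m) ∧ M.sgn (i ^ m) = M.sgn i := by
  have hmT : m.Coprime (Nat.card T) := hm.coprime_dvd_right (Subgroup.card_subgroup_dvd_card T)
  obtain ⟨h1, h2⟩ := M.ident d (isIrrCharacter_pow (M.irr i j) hmT) (M.sgn_cases i) (i := i ^ m) (j := j ^ m)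
    fun k z hz => by
      have hzm : z ^ m ≠ 1 := fun h => hz (by
        refine orderOf_eq_one_iff.1 (Nat.eq_one_of_dvd_coprimes ?_ (orderOf_dvd_of_pow_eq_one h) (orderOf_dvd_natCard z))
        exact hm.coprime_dvd_right (Subgroup.card_subgroup_dvd_card Z))
      show M.mu i j _ = _
      rw [M.val i j (k ^ m) (z ^ m) _ hzm (by
        rw [SubgroupClass.coe_pow, SubgroupClass.coe_pow, SubgroupClass.coe_pow]
        exact (Commute.mul_pow (d.comm k.2 z.2) m))]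
      simp
  exact ⟨h1, h2.symm⟩

theorem conj_eq (i : ↥K →* ℂˣ) (j : ↥Z →* ℂˣ) :
    conjFun (M.mu i j) = M.mu i⁻¹ j⁻¹ ∧ M.sgn i⁻¹ = M.sgn i := by
  obtain ⟨h1, h2⟩ := M.ident d (irrConj ⟨M.mu i j, M.irr i j⟩).2 (M.sgn_cases i) (i := i⁻¹) (j := j⁻¹)
    fun k z hz => by
      show conj (M.mu i j _) = _
      rw [M.val i j k z _ hz rfl, map_mul, map_mul, map_intCast]
      simp [Units.val_inv_eq_inv_val, conj_hom_apply]
  exact ⟨h1, h2.symm⟩

theorem sgn_eq {i i' : ↥K →* ℂˣ} (hi : i ≠ 1) (hi' : i' ≠ 1) : M.sgn i' = M.sgn i := by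
  obtain ⟨m, hm, rfl⟩ := d.exists_pow hi hi'
  exact (M.pow d hm i 1).2

theorem deg_eq {i i' : ↥K →* ℂˣ} (hi : i ≠ 1) (hi' : i' ≠ 1) : M.mu i' 1 1 = M.mu i 1 1 := by
  obtain ⟨m, hm, rfl⟩ := d.exists_pow hi hi'
  have h := congrFun (M.pow d hm i 1).1 1
  rw [show (1 : ↥Z →* ℂˣ) ^ m = 1 from MonoidHom.ext fun _ => by simp] at h
  simp only [one_pow] at h
  exact h.symm

end Mu

end Cfsg.Agent.OddFT
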